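import Cfsg.Agent.Lib.helper23.ChevReeH
import Cfsg.Agent.S1036

set_option autoImplicit false
set_option maxRecDepth 100000

/-!
# The Bruhat decomposition and the order of the twisted group of type `G₂`

`G¹ = B¹ ∪ B¹ n U¹` with `B¹ = U¹ H¹`, the expressions being unique: the Bruhat decomposition of the ambient
Chevalley group is stable under the twisting automorphism, and the elements of `N` compatible with it lie in
`H ∪ n H`.
-/

namespace Cfsg.Agent.Lib.helper23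

open Cfsg Cfsg.Lie Cfsg.Agent.Lib.helper41 Cfsg.Agent.Lib.helper22

section Bruhat

variable {K : Type*} [Field K]

/-- The `N`-component of the Bruhat decomposition is unique modulo `H`. -/
theorem dc_unique_G2 {b₁ n b₂ b₁' n' b₂' : GL chevG2.Idx K} (hb₁ : b₁ ∈ chevG2.borelSubgroup K)
    (hn : n ∈ chevG2.monomialSubgroup K) (hb₂ : b₂ ∈ chevG2.borelSubgroup K)
    (hb₁' : b₁' ∈ chevG2.borelSubgroup K) (hn' : n' ∈ chevG2.monomialSubgroup K)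
    (hb₂' : b₂' ∈ chevG2.borelSubgroup K) (e : b₁ * n * b₂ = b₁' * n' * b₂') :
    n⁻¹ * n' ∈ chevG2.diagonalSubgroup K := by
  have I := bnInput_G2 K
  obtain ⟨hBG, hNG, hG⟩ := Cfsg.Agent.S1043.result (F := K) chevG2 (by simp)
  obtain ⟨P, hPB, hPN, -⟩ := chev_bnPair I hBG hNG hG.ge
  have hb1 : b₁'⁻¹ * b₁ ∈ chevG2.borelSubgroup K := mul_mem (inv_mem hb₁') hb₁
  have hb2 : b₂ * b₂'⁻¹ ∈ chevG2.borelSubgroup K := mul_mem hb₂ (inv_mem hb₂')
  have hmem : (⟨n', hNG hn'⟩ : ↥(chevG2.group K)) ∈ Cfsg.Agent.Lib.helper8.dc P ⟨n, hNG hn⟩ := by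
    rw [Cfsg.Agent.Lib.helper8.mem_dc_iff]
    refine ⟨⟨b₁'⁻¹ * b₁, hBG hb1⟩, ?_, ⟨b₂ * b₂'⁻¹, hBG hb2⟩, ?_, ?_⟩
    · rw [hPB, Subgroup.mem_subgroupOf]
      exact hb1
    · rw [hPB, Subgroup.mem_subgroupOf]
      exact hb2
    · apply Subtype.ext
      show n' = b₁'⁻¹ * b₁ * n * (b₂ * b₂'⁻¹)
      have e5 : b₁'⁻¹ * b₁ * n * (b₂ * b₂'⁻¹) = b₁'⁻¹ * (b₁ * n * b₂) * b₂'⁻¹ := by group
      rw [e5, e]
      group
  have hR := Cfsg.Agent.Lib.helper8.bruhat_unique P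
    (by rw [hPN, Subgroup.mem_subgroupOf]; exact hn')
    (by rw [hPN, Subgroup.mem_subgroupOf]; exact hn) hmem
  have h1 : n'⁻¹ * n ∈ chevG2.borelSubgroup K := by
    have h := hR.2.2
    rw [hPB, Subgroup.mem_subgroupOf] at h
    exact h
  have h2 : n⁻¹ * n' ∈ chevG2.borelSubgroup K ⊓ chevG2.monomialSubgroup K := by
    refine Subgroup.mem_inf.mpr ⟨?_, mul_mem (inv_mem hn) hn'⟩
    have e6 : n⁻¹ * n' = (n'⁻¹ * n)⁻¹ := by group
    rw [e6]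
    exact inv_mem h1
  rw [(Cfsg.Agent.S1040.result (F := K) chevG2 (by simp)).2] at h2
  exact h2

/-- Uniqueness of the expression `u h`. -/
theorem uh_unique {u u' h h' : GL chevG2.Idx K} (hu : u ∈ chevG2.posUnipotent K)
    (hu' : u' ∈ chevG2.posUnipotent K) (hh : h ∈ chevG2.diagonalSubgroup K)
    (hh' : h' ∈ chevG2.diagonalSubgroup K) (e : u * h = u' * h') : u = u' ∧ h = h' := by
  have h1 : u'⁻¹ * u = h' * h⁻¹ := by
    have : u = u' * h' * h⁻¹ := by rw [← e]; group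
    rw [this]
    group
  have h2 : u'⁻¹ * u ∈ chevG2.posUnipotent K ⊓ chevG2.diagonalSubgroup K :=
    Subgroup.mem_inf.mpr ⟨mul_mem (inv_mem hu') hu, h1 ▸ mul_mem hh' (inv_mem hh)⟩
  rw [(Cfsg.Agent.S1036.result (F := K) chevG2 (by simp)).2, Subgroup.mem_bot, inv_mul_eq_one] at h2
  subst h2
  exact ⟨rfl, mul_left_cancel e⟩

variable {e : ℕ} {n : GL chevG2.Idx K}

/-- Uniqueness of the expression `b n u`. -/
theorem ReeW0.unique (hn : ReeW0 e n) {b b' u u' : GL chevG2.Idx K} (hb : b ∈ chevG2.borelSubgroup K)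
    (hb' : b' ∈ chevG2.borelSubgroup K) (hu : u ∈ chevG2.posUnipotent K) (hu' : u' ∈ chevG2.posUnipotent K)
    (e : b * n * u = b' * n * u') : b = b' ∧ u = u' := by
  have h1 : n * (u * u'⁻¹) * n⁻¹ ∈ chevG2.negUnipotent K := hn.conj_pos _ (mul_mem hu (inv_mem hu'))
  have h2 : n * (u * u'⁻¹) * n⁻¹ = b⁻¹ * b' := by
    have e' : n * u = b⁻¹ * (b' * n * u') := by
      rw [← e]
      group
    calc n * (u * u'⁻¹) * n⁻¹ = (n * u) * u'⁻¹ * n⁻¹ := by group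
      _ = b⁻¹ * b' := by rw [e']; group
  have h3 : b⁻¹ * b' ∈ chevG2.borelSubgroup K ⊓ chevG2.negUnipotent K :=
    Subgroup.mem_inf.mpr ⟨mul_mem (inv_mem hb) hb', h2 ▸ h1⟩
  rw [(Cfsg.Agent.S1037.result (F := K) chevG2 (by simp)).1, Subgroup.mem_bot, inv_mul_eq_one] at h3
  subst h3
  exact ⟨rfl, mul_left_cancel e⟩

/-- `n ∉ B`. -/
theorem ReeW0.not_mem_borel (hn : ReeW0 e n) : n ∉ chevG2.borelSubgroup K := by
  intro hB
  have h2 : n ∈ chevG2.borelSubgroup K ⊓ chevG2.monomialSubgroup K := ⟨hB, hn.mono⟩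
  rw [(Cfsg.Agent.S1040.result (F := K) chevG2 (by simp)).2] at h2
  exact hn.not_mem h2

end Bruhat

section Fix

variable {K : Type*} [Field K] {e : ℕ} (R : ReeData K e) {n : GL chevG2.Idx K}

include R

/-- The fixed points of `σ` lie in `B ∪ B n U`. -/
theorem ReeData.fix_cases (hn : ReeW0 e n) {g : GL chevG2.Idx K} (hg : g ∈ R.fix) :
    g ∈ chevG2.borelSubgroup K ∨
      ∃ b ∈ chevG2.borelSubgroup K, ∃ u ∈ chevG2.posUnipotent K, g = b * n * u := by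
  have I := bnInput_G2 K
  obtain ⟨hBG, hNG, hG⟩ := Cfsg.Agent.S1043.result (F := K) chevG2 (by simp)
  obtain ⟨b₁, hb₁, n', hn', b₂, hb₂, rfl⟩ := bruhat I hG.ge hg.1
  have h1 := hg.2
  rw [R.sg_mul (mul_mem (hBG hb₁) (hNG hn')) (hBG hb₂), R.sg_mul (hBG hb₁) (hNG hn')] at h1
  have h2 := dc_unique_G2 hb₁ hn' hb₂ (R.sg_borel b₁ hb₁).2 (R.sg_mono n' hn').2 (R.sg_borel b₂ hb₂).2 h1.symm
  rcases hn.cases R hn' h2 with h3 | ⟨h, hh, rfl⟩
  · left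
    exact mul_mem (mul_mem hb₁ (Subgroup.mem_sup_right h3)) hb₂
  · right
    have hb3 : (h * b₂)⁻¹ ∈ chevG2.borelSubgroup K := inv_mem (mul_mem (Subgroup.mem_sup_right hh) hb₂)
    obtain ⟨u₀, hu₀, h₀, hh₀, e0⟩ := borel_decomp I hb3
    have hc : n * h₀⁻¹ * n⁻¹ ∈ chevG2.diagonalSubgroup K := conj_mem_diag I hn.mono (inv_mem hh₀)
    refine ⟨b₁ * (n * h₀⁻¹ * n⁻¹), mul_mem hb₁ (Subgroup.mem_sup_right hc), u₀⁻¹, inv_mem hu₀, ?_⟩
    have e1 : h * b₂ = h₀⁻¹ * u₀⁻¹ := by rw [← mul_inv_rev, ← e0, inv_inv]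
    calc b₁ * (n * h) * b₂ = b₁ * n * (h * b₂) := by group
      _ = b₁ * n * (h₀⁻¹ * u₀⁻¹) := by rw [e1]
      _ = b₁ * (n * h₀⁻¹ * n⁻¹) * n * u₀⁻¹ := by group

/-- The components of a fixed point `b n u` are fixed. -/
theorem ReeData.fix_parts (hn : ReeW0 e n) {b u : GL chevG2.Idx K} (hb : b ∈ chevG2.borelSubgroup K)
    (hu : u ∈ chevG2.posUnipotent K) (hg : b * n * u ∈ R.fix) : b ∈ R.fix ∧ u ∈ R.fix := by
  obtain ⟨hBG, hNG, hG⟩ := Cfsg.Agent.S1043.result (F := K) chevG2 (by simp)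
  have hbG := hBG hb
  have huG : u ∈ chevG2.group K := hBG (Subgroup.mem_sup_left hu)
  have hnG := hNG hn.mono
  have h1 := hg.2
  rw [R.sg_mul (mul_mem hbG hnG) huG, R.sg_mul hbG hnG, hn.fix R] at h1
  obtain ⟨e1, e2⟩ := hn.unique (R.sg_borel b hb).2 hb (R.sg_pos u hu).2 hu h1
  exact ⟨⟨hbG, e1⟩, ⟨huG, e2⟩⟩

/-- The components of a fixed point `u h` of `B` are fixed. -/
theorem ReeData.borel_fix {b : GL chevG2.Idx K} (hb : b ∈ chevG2.borelSubgroup K) (hfix : b ∈ R.fix) :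
    ∃ u ∈ chevG2.posUnipotent K, u ∈ R.fix ∧ ∃ h ∈ chevG2.diagonalSubgroup K, h ∈ R.fix ∧ b = u * h := by
  have I := bnInput_G2 K
  obtain ⟨hBG, hNG, hG⟩ := Cfsg.Agent.S1043.result (F := K) chevG2 (by simp)
  obtain ⟨u, hu, h, hh, rfl⟩ := borel_decomp I hb
  have huG : u ∈ chevG2.group K := hBG (Subgroup.mem_sup_left hu)
  have hhG : h ∈ chevG2.group K := hBG (Subgroup.mem_sup_right hh)
  have h1 := hfix.2
  rw [R.sg_mul huG hhG] at h1
  obtain ⟨e1, e2⟩ := uh_unique (R.sg_pos u hu).2 hu (R.sg_diag h hh).2 hh h1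
  exact ⟨u, hu, ⟨huG, e1⟩, h, hh, ⟨hhG, e2⟩, rfl⟩

/-- The elements of `B ∩ G¹` are the products `u h` with `u ∈ U ∩ G¹`, `h ∈ H ∩ G¹`. -/
theorem ReeData.borel_twisted {b : GL chevG2.Idx K} (hb : b ∈ chevG2.borelSubgroup K)
    (hbΓ : b ∈ twistedG2 K e) :
    ∃ u ∈ chevG2.posUnipotent K ⊓ twistedG2 K e, ∃ h ∈ chevG2.diagonalSubgroup K ⊓ twistedG2 K e,
      b = u * h := by
  obtain ⟨u, hu, hufix, h, hh, hhfix, rfl⟩ := R.borel_fix hb (R.twisted_le_fix hbΓ)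
  have huΓ : u ∈ chevG2.posUnipotent K ⊓ twistedG2 K e := (R.pos_inf_twisted u).mpr (R.fix_pos u hu hufix)
  refine ⟨u, huΓ, h, Subgroup.mem_inf.mpr ⟨hh, ?_⟩, rfl⟩
  have : h = u⁻¹ * (u * h) := by group
  rw [this]
  exact mul_mem (inv_mem (Subgroup.mem_inf.mp huΓ).2) hbΓ

/-- `G¹ = U¹ H¹ ∪ U¹ H¹ n U¹`. -/
theorem ReeData.twisted_cases (hn : ReeW0 e n) {g : GL chevG2.Idx K} (hg : g ∈ twistedG2 K e) :
    (∃ u ∈ chevG2.posUnipotent K ⊓ twistedG2 K e, ∃ h ∈ chevG2.diagonalSubgroup K ⊓ twistedG2 K e,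
      g = u * h) ∨
    (∃ u ∈ chevG2.posUnipotent K ⊓ twistedG2 K e, ∃ h ∈ chevG2.diagonalSubgroup K ⊓ twistedG2 K e,
      ∃ u' ∈ chevG2.posUnipotent K ⊓ twistedG2 K e, g = u * h * n * u') := by
  have hfix := R.twisted_le_fix hg
  rcases R.fix_cases hn hfix with hB | ⟨b, hb, u', hu', rfl⟩
  · left
    exact R.borel_twisted hB hg
  · right
    obtain ⟨hbfix, hu'fix⟩ := R.fix_parts hn hb hu' hfix
    have hu'Γ : u' ∈ chevG2.posUnipotent K ⊓ twistedG2 K e :=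
      (R.pos_inf_twisted u').mpr (R.fix_pos u' hu' hu'fix)
    have hbΓ : b ∈ twistedG2 K e := by
      have : b = (b * n * u') * u'⁻¹ * n⁻¹ := by group
      rw [this]
      exact mul_mem (mul_mem hg (inv_mem hu'Γ.2)) (inv_mem hn.tw)
    obtain ⟨u, hu, h, hh, rfl⟩ := R.borel_twisted hb hbΓ
    exact ⟨u, hu, h, hh, u', hu'Γ, rfl⟩

/-- `|G¹| = q³ (q - 1) (q³ + 1)`. -/
theorem ReeData.card_twisted [Fintype K] :
    Nat.card ↥(twistedG2 K e) = Fintype.card K ^ 3 * (Fintype.card K - 1) * (Fintype.card K ^ 3 + 1) := by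
  obtain ⟨n, hn⟩ := R.exists_w0
  have hUB : chevG2.posUnipotent K ≤ chevG2.borelSubgroup K := le_sup_left
  have hHB : chevG2.diagonalSubgroup K ≤ chevG2.borelSubgroup K := le_sup_right
  let f : (↥(chevG2.posUnipotent K ⊓ twistedG2 K e) × ↥(chevG2.diagonalSubgroup K ⊓ twistedG2 K e)) ⊕
      ((↥(chevG2.posUnipotent K ⊓ twistedG2 K e) × ↥(chevG2.diagonalSubgroup K ⊓ twistedG2 K e)) ×
        ↥(chevG2.posUnipotent K ⊓ twistedG2 K e)) → ↥(twistedG2 K e) := fun x =>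
    match x with
    | Sum.inl p => ⟨p.1.1 * p.2.1, mul_mem p.1.2.2 p.2.2.2⟩
    | Sum.inr p => ⟨p.1.1.1 * p.1.2.1 * n * p.2.1,
        mul_mem (mul_mem (mul_mem p.1.1.2.2 p.1.2.2.2) hn.tw) p.2.2.2⟩
  have hbij : Function.Bijective f := by
    constructor
    · rintro (⟨u, h⟩ | ⟨⟨u, h⟩, u₂⟩) (⟨u', h'⟩ | ⟨⟨u', h'⟩, u₂'⟩) hxy
      · have e1 : (u : GL chevG2.Idx K) * h = u' * h' := congrArg Subtype.val hxy
        obtain ⟨e2, e3⟩ := uh_unique u.2.1 u'.2.1 h.2.1 h'.2.1 e1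
        rw [Subtype.ext e2, Subtype.ext e3]
      · exfalso
        have e1 : (u : GL chevG2.Idx K) * h = u' * h' * n * u₂' := congrArg Subtype.val hxy
        apply hn.not_mem_borel
        have e2 : n = ((u' : GL chevG2.Idx K) * h')⁻¹ * (u * h) * (u₂' : GL chevG2.Idx K)⁻¹ := by
          rw [e1]
          group
        rw [e2]
        exact mul_mem (mul_mem (inv_mem (mul_mem (hUB u'.2.1) (hHB h'.2.1)))
          (mul_mem (hUB u.2.1) (hHB h.2.1))) (inv_mem (hUB u₂'.2.1))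
      · exfalso
        have e1 : (u : GL chevG2.Idx K) * h * n * u₂ = u' * h' := congrArg Subtype.val hxy
        apply hn.not_mem_borel
        have e2 : n = ((u : GL chevG2.Idx K) * h)⁻¹ * (u' * h') * (u₂ : GL chevG2.Idx K)⁻¹ := by
          rw [← e1]
          group
        rw [e2]
        exact mul_mem (mul_mem (inv_mem (mul_mem (hUB u.2.1) (hHB h.2.1)))
          (mul_mem (hUB u'.2.1) (hHB h'.2.1))) (inv_mem (hUB u₂.2.1))
      · have e1 : (u : GL chevG2.Idx K) * h * n * u₂ = u' * h' * n * u₂' := congrArg Subtype.val hxy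
        obtain ⟨e2, e3⟩ := hn.unique (mul_mem (hUB u.2.1) (hHB h.2.1)) (mul_mem (hUB u'.2.1) (hHB h'.2.1))
          u₂.2.1 u₂'.2.1 e1
        obtain ⟨e4, e5⟩ := uh_unique u.2.1 u'.2.1 h.2.1 h'.2.1 e2
        rw [Subtype.ext e3, Subtype.ext e4, Subtype.ext e5]
    · rintro ⟨g, hg⟩
      rcases R.twisted_cases hn hg with ⟨u, hu, h, hh, rfl⟩ | ⟨u, hu, h, hh, u', hu', rfl⟩
      · exact ⟨Sum.inl (⟨u, hu⟩, ⟨h, hh⟩), rfl⟩
      · exact ⟨Sum.inr ((⟨u, hu⟩, ⟨h, hh⟩), ⟨u', hu'⟩), rfl⟩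
  rw [← Nat.card_congr (Equiv.ofBijective f hbij), Nat.card_sum, Nat.card_prod, Nat.card_prod, Nat.card_prod,
    R.card_pos_inf_twisted, R.card_diag_inf_twisted]
  ring

end Fix

end Cfsg.Agent.Lib.helper23
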