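import Cfsg.Agent.Lib.helper23.ChevGraphAut
import Cfsg.Agent.Lib.helper41.ChevTabD4
import Cfsg.Agent.Lib.helper41.ChevTabE6

set_option autoImplicit false
set_option maxRecDepth 100000

/-! The signed permutations realising the graph automorphisms of `E₆` (order 2) and `D₄` (the two of order 3),
and their verification. -/

namespace Cfsg.Agent.Lib.helper23

open Cfsg.Lie Cfsg.Agent.Lib.helper41

def gaSgE6 : List ℕ :=
  [5, 1, 4, 3, 2, 0, 6, 7, 8, 11, 22, 9, 12, 23, 14, 25, 28, 17, 32, 36, 39, 41, 10, 13, 24, 15, 26, 29, 16,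
   27, 30, 31, 18, 33, 37, 40, 19, 34, 38, 20, 35, 21, 62, 48, 63, 45, 49, 64, 43, 46, 50, 65, 52, 53, 56,
   67, 54, 57, 68, 59, 70, 73, 42, 44, 47, 51, 66, 55, 58, 69, 60, 71, 74, 61, 72, 75, 76, 77]

def gaEpE6 : List ℤ :=
  [1, 1, 1, 1, 1, 1, 1, 1, 1, 1, -1, 1, 1, -1, 1, -1, -1, 1, -1, 1, -1, 1, -1, -1, 1, -1, 1, 1, -1, 1, 1, 1,
   -1, 1, -1, 1, 1, -1, 1, -1, 1, 1, 1, 1, -1, 1, -1, 1, 1, -1, 1, -1, 1, 1, 1, -1, 1, 1, -1, 1, -1, -1, 1,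
   -1, 1, -1, 1, -1, -1, 1, -1, 1, 1, -1, 1, 1, 1, 1]

def gaSgInvE6 : List ℕ :=
  [5, 1, 4, 3, 2, 0, 6, 7, 8, 11, 22, 9, 12, 23, 14, 25, 28, 17, 32, 36, 39, 41, 10, 13, 24, 15, 26, 29, 16,
   27, 30, 31, 18, 33, 37, 40, 19, 34, 38, 20, 35, 21, 62, 48, 63, 45, 49, 64, 43, 46, 50, 65, 52, 53, 56,
   67, 54, 57, 68, 59, 70, 73, 42, 44, 47, 51, 66, 55, 58, 69, 60, 71, 74, 61, 72, 75, 76, 77]

def gaEpInvE6 : List ℤ :=
  [1, 1, 1, 1, 1, 1, 1, 1, 1, 1, -1, 1, 1, -1, 1, -1, -1, 1, -1, 1, -1, 1, -1, -1, 1, -1, 1, 1, -1, 1, 1, 1,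
   -1, 1, -1, 1, 1, -1, 1, -1, 1, 1, 1, 1, -1, 1, -1, 1, 1, -1, 1, -1, 1, 1, 1, -1, 1, 1, -1, 1, -1, -1, 1,
   -1, 1, -1, 1, -1, -1, 1, -1, 1, 1, -1, 1, 1, 1, 1]

def gaSgD4a : List ℕ :=
  [2, 1, 3, 0, 4, 5, 10, 6, 11, 14, 7, 12, 8, 13, 15, 9, 22, 16, 18, 23, 19, 24, 17, 20, 25, 21, 26, 27]

def gaEpD4a : List ℤ :=
  [1, 1, 1, 1, 1, 1, -1, 1, -1, 1, -1, 1, -1, 1, 1, 1, 1, 1, 1, -1, 1, -1, 1, -1, 1, -1, 1, 1]

def gaSgInvD4a : List ℕ :=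
  [3, 1, 0, 2, 4, 5, 7, 10, 12, 15, 6, 8, 11, 13, 9, 14, 17, 22, 18, 20, 23, 25, 16, 19, 21, 24, 26, 27]

def gaEpInvD4a : List ℤ :=
  [1, 1, 1, 1, 1, 1, 1, -1, -1, 1, -1, -1, 1, 1, 1, 1, 1, 1, 1, 1, -1, -1, 1, -1, -1, 1, 1, 1]

def gaSgD4b : List ℕ :=
  [3, 1, 0, 2, 4, 5, 7, 10, 12, 15, 6, 8, 11, 13, 9, 14, 17, 22, 18, 20, 23, 25, 16, 19, 21, 24, 26, 27]

def gaEpD4b : List ℤ :=
  [1, 1, 1, 1, 1, 1, 1, -1, -1, 1, -1, -1, 1, 1, 1, 1, 1, 1, 1, 1, -1, -1, 1, -1, -1, 1, 1, 1]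

def gaSgInvD4b : List ℕ :=
  [2, 1, 3, 0, 4, 5, 10, 6, 11, 14, 7, 12, 8, 13, 15, 9, 22, 16, 18, 23, 19, 24, 17, 20, 25, 21, 26, 27]

def gaEpInvD4b : List ℤ :=
  [1, 1, 1, 1, 1, 1, -1, 1, -1, 1, -1, 1, -1, 1, 1, 1, 1, 1, 1, -1, 1, -1, 1, -1, 1, -1, 1, 1]

theorem gaInv1E6 : invCheck chevE6 gaSgE6 gaEpE6 gaSgInvE6 gaEpInvE6 = true := by decide +kernel

theorem gaInv2E6 : invCheck chevE6 gaSgInvE6 gaEpInvE6 gaSgE6 gaEpE6 = true := by decide +kernel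

theorem gaConj1E6 : graphCheck chevE6 TabE6.tab.col gaSgE6 gaEpE6 = true := by decide +kernel

theorem gaConj2E6 : graphCheck chevE6 TabE6.tab.col gaSgInvE6 gaEpInvE6 = true := by decide +kernel

theorem gaSimpleE6 : simpleMapOK chevE6 [5, 1, 4, 3, 2, 0] gaSgE6 gaEpE6 = true := by decide +kernel

theorem gaInv1D4a : invCheck chevD4 gaSgD4a gaEpD4a gaSgInvD4a gaEpInvD4a = true := by decide +kernel

theorem gaInv2D4a : invCheck chevD4 gaSgInvD4a gaEpInvD4a gaSgD4a gaEpD4a = true := by decide +kernel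

theorem gaConj1D4a : graphCheck chevD4 TabD4.tab.col gaSgD4a gaEpD4a = true := by decide +kernel

theorem gaConj2D4a : graphCheck chevD4 TabD4.tab.col gaSgInvD4a gaEpInvD4a = true := by decide +kernel

theorem gaSimpleD4a : simpleMapOK chevD4 [2, 1, 3, 0] gaSgD4a gaEpD4a = true := by decide +kernel

theorem gaInv1D4b : invCheck chevD4 gaSgD4b gaEpD4b gaSgInvD4b gaEpInvD4b = true := by decide +kernel

theorem gaInv2D4b : invCheck chevD4 gaSgInvD4b gaEpInvD4b gaSgD4b gaEpD4b = true := by decide +kernel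

theorem gaConj1D4b : graphCheck chevD4 TabD4.tab.col gaSgD4b gaEpD4b = true := by decide +kernel

theorem gaConj2D4b : graphCheck chevD4 TabD4.tab.col gaSgInvD4b gaEpInvD4b = true := by decide +kernel

theorem gaSimpleD4b : simpleMapOK chevD4 [3, 1, 0, 2] gaSgD4b gaEpD4b = true := by decide +kernel

/-- The statement of the graph automorphisms for a datum, a permutation of the nodes and verified tables. -/
theorem graph_aut_simple {F : Type*} [Field F] (D : ChevalleyDatum) (col : ℕ → ℕ → List (ℕ × ℤ × ℕ))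
    (hcol : ColValid D col) (perm : List ℕ) (sg : List ℕ) (ep : List ℤ) (sg' : List ℕ) (ep' : List ℤ)
    (h1 : invCheck D sg ep sg' ep' = true) (h2 : invCheck D sg' ep' sg ep = true)
    (h3 : graphCheck D col sg ep = true) (h4 : graphCheck D col sg' ep' = true)
    (h5 : simpleMapOK D perm sg ep = true) :
    ∃ α : ↥(D.group F) ≃* ↥(D.group F), ∀ (g : ↥(D.group F)) (i : ℕ) (t : F), i < D.rank →
      (((g : GL D.Idx F) : Matrix D.Idx D.Idx F) = D.x F (D.simple i) t →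
        ((α g : GL D.Idx F) : Matrix D.Idx D.Idx F) = D.x F (D.simple (perm.getD i 0)) t) ∧
      (((g : GL D.Idx F) : Matrix D.Idx D.Idx F) = D.x F (D.neg (D.simple i)) t →
        ((α g : GL D.Idx F) : Matrix D.Idx D.Idx F) = D.x F (D.neg (D.simple (perm.getD i 0))) t) := by
  obtain ⟨α, hα⟩ := graph_aut_exists (F := F) D col hcol sg ep sg' ep' h1 h2 h3 h4
  refine ⟨α, fun g i t hi => ?_⟩
  have hc := (allBelow_iff _ _).mp h5 i hi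
  simp only [Bool.and_eq_true, decide_eq_true_eq] at hc
  obtain ⟨⟨⟨⟨⟨hs, hn⟩, e1⟩, e2⟩, e3⟩, e4⟩ := hc
  constructor
  · intro hg
    rw [hα g _ t (Nat.blt_eq.mp hs) hg, Nat.eq_of_beq_eq_true e1, e2]
    simp
  · intro hg
    rw [hα g _ t (Nat.blt_eq.mp hn) hg, Nat.eq_of_beq_eq_true e3, e4]
    simp

end Cfsg.Agent.Lib.helper23
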