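import Cfsg.Agent.Lib.helper23.F4W

set_option autoImplicit false
set_option maxRecDepth 100000

/-!
# `(N ∩ ²F₄) / (H ∩ ²F₄)` is dihedral of order 16
-/

namespace Cfsg.Agent.Lib.helper23

open Cfsg Cfsg.Lie Cfsg.Agent.Lib.helper41 Cfsg.Agent.Lib.helper22

universe u

/-- A homomorphism from the dihedral group of order 16 given by the images of the generators. -/
theorem dihedral8_hom {G : Type*} [Group G] (P S : G) (h8 : P ^ 8 = 1) (hS : S * S = 1)
    (hPS : P * S = S * P ^ 7) :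
    ∃ ι : DihedralGroup 8 →* G, (∀ i : ZMod 8, ι (DihedralGroup.r i) = P ^ i.val) ∧
      (∀ i : ZMod 8, ι (DihedralGroup.sr i) = S * P ^ i.val) := by
  let f : DihedralGroup 8 → G := fun x =>
    match x with
    | DihedralGroup.r i => P ^ i.val
    | DihedralGroup.sr i => S * P ^ i.val
  have hmod : ∀ a b : ℕ, a % 8 = b % 8 → P ^ a = P ^ b := by
    intro a b h
    rw [pow_eq_pow_mod a h8, pow_eq_pow_mod b h8, h]
  have hcomm : ∀ k : ℕ, P ^ k * S = S * P ^ (7 * k) := by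
    intro k
    induction k with
    | zero => simp
    | succ k ih =>
      rw [pow_succ, mul_assoc, hPS, ← mul_assoc, ih, mul_assoc, ← pow_add]
      congr 2
  have d1 : ∀ i j : ZMod 8, (i + j).val % 8 = (i.val + j.val) % 8 := by decide
  have d2 : ∀ i j : ZMod 8, (j - i).val % 8 = (7 * i.val + j.val) % 8 := by decide
  have hmul : ∀ x y, f (x * y) = f x * f y := by
    rintro (i | i) (j | j)
    · show P ^ (i + j).val = P ^ i.val * P ^ j.val
      rw [← pow_add]
      exact hmod _ _ (d1 i j)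
    · show S * P ^ (j - i).val = P ^ i.val * (S * P ^ j.val)
      rw [← mul_assoc, hcomm, mul_assoc, ← pow_add]
      congr 1
      exact hmod _ _ (d2 i j)
    · show S * P ^ (i + j).val = S * P ^ i.val * P ^ j.val
      rw [mul_assoc, ← pow_add]
      congr 1
      exact hmod _ _ (d1 i j)
    · show P ^ (j - i).val = S * P ^ i.val * (S * P ^ j.val)
      rw [mul_assoc, ← mul_assoc (P ^ i.val), hcomm, mul_assoc, ← mul_assoc, hS, one_mul, ← pow_add]
      exact hmod _ _ (d2 i j)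
  exact ⟨MonoidHom.mk' f hmul, fun i => rfl, fun i => rfl⟩

/-- The product of the two generating involutions. -/
def f4cox (s : ℕ) : ℕ := f4pi1 (f4pi2 s)

theorem f4D16_spec_0 : ∀ s, s < 48 →
    f4cox^[0] s = (f4D16.getD 0 []).getD s 0 ∧ f4pi1 (f4cox^[0] s) = (f4D16.getD (8 + 0) []).getD s 0 := by
  decide +kernel

theorem f4D16_spec_1 : ∀ s, s < 48 →
    f4cox^[1] s = (f4D16.getD 1 []).getD s 0 ∧ f4pi1 (f4cox^[1] s) = (f4D16.getD (8 + 1) []).getD s 0 := by
  decide +kernel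

theorem f4D16_spec_2 : ∀ s, s < 48 →
    f4cox^[2] s = (f4D16.getD 2 []).getD s 0 ∧ f4pi1 (f4cox^[2] s) = (f4D16.getD (8 + 2) []).getD s 0 := by
  decide +kernel

theorem f4D16_spec_3 : ∀ s, s < 48 →
    f4cox^[3] s = (f4D16.getD 3 []).getD s 0 ∧ f4pi1 (f4cox^[3] s) = (f4D16.getD (8 + 3) []).getD s 0 := by
  decide +kernel

theorem f4D16_spec_4 : ∀ s, s < 48 →
    f4cox^[4] s = (f4D16.getD 4 []).getD s 0 ∧ f4pi1 (f4cox^[4] s) = (f4D16.getD (8 + 4) []).getD s 0 := by
  decide +kernel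

theorem f4D16_spec_5 : ∀ s, s < 48 →
    f4cox^[5] s = (f4D16.getD 5 []).getD s 0 ∧ f4pi1 (f4cox^[5] s) = (f4D16.getD (8 + 5) []).getD s 0 := by
  decide +kernel

theorem f4D16_spec_6 : ∀ s, s < 48 →
    f4cox^[6] s = (f4D16.getD 6 []).getD s 0 ∧ f4pi1 (f4cox^[6] s) = (f4D16.getD (8 + 6) []).getD s 0 := by
  decide +kernel

theorem f4D16_spec_7 : ∀ s, s < 48 →
    f4cox^[7] s = (f4D16.getD 7 []).getD s 0 ∧ f4pi1 (f4cox^[7] s) = (f4D16.getD (8 + 7) []).getD s 0 := by
  decide +kernel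

theorem f4D16_spec : ∀ k, k < 8 → ∀ s, s < 48 →
    f4cox^[k] s = (f4D16.getD k []).getD s 0 ∧ f4pi1 (f4cox^[k] s) = (f4D16.getD (8 + k) []).getD s 0 := by
  intro k hk
  interval_cases k
  · exact f4D16_spec_0
  · exact f4D16_spec_1
  · exact f4D16_spec_2
  · exact f4D16_spec_3
  · exact f4D16_spec_4
  · exact f4D16_spec_5
  · exact f4D16_spec_6
  · exact f4D16_spec_7

theorem f4cox_pow8 : ∀ s, s < 48 → f4cox^[8] s = s := by decide +kernel

theorem f4pi1_sq : ∀ s, s < 48 → f4pi1 (f4pi1 s) = s := by decide +kernel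

theorem f4cox_pi1 : ∀ s, s < 48 → f4cox (f4pi1 s) = f4pi1 (f4cox^[7] s) := by decide +kernel

theorem f4cox_orbit : ∀ k, k < 8 → f4cox^[k] 0 = 0 → k = 0 := by decide +kernel

theorem f4refl_ne : ∀ k, k < 8 → ¬ (f4pi1 (f4cox^[k] 0) = 0 ∧ f4pi1 (f4cox^[k] 1) = 1) := by decide +kernel

section Main

variable {K : Type u} [Field K] {e : ℕ} (R : F4Data K e)

include R

/-- The permutation of the roots induced by an element of `N ∩ ²F₄` commutes with `ρ`. -/
theorem F4Data.rootAct_comm {n : GL chevF4.Idx K} (hn : n ∈ twistedF4 K e) {π : ℕ → ℕ} {c : ℕ → K}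
    (hπ : RootAct chevF4 K (n : Matrix chevF4.Idx chevF4.Idx K) π c) :
    ∀ s, s < 48 → f4rho.getD (π s) 0 = π (f4rho.getD s 0) := by
  intro s hs
  have C := chevFacts_F4 K
  have hG := R.twisted_le_group hn
  have hfix := R.sg_fix hn
  have hπs : π s < 48 := (hπ s hs).1
  have hρs := f4rho_lt s hs
  have e1 : n * f4x s 1 * n⁻¹ = f4x (π s) (c s * 1) := Units.ext (rootAct_conj hπ hs (f4x_coe s 1))
  have e2 : n * f4x (f4rho.getD s 0) ((1 ^ e) ^ f4lam.getD s 1) * n⁻¹ =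
      f4x (π (f4rho.getD s 0)) (c (f4rho.getD s 0) * ((1 ^ e) ^ f4lam.getD s 1)) :=
    Units.ext (rootAct_conj hπ hρs (f4x_coe _ _))
  have e3 := congrArg R.sg e1
  rw [R.sg_mul (mul_mem hG (f4x_mem_group hs 1)) (inv_mem hG), R.sg_mul hG (f4x_mem_group hs 1),
    R.sg_inv hG, hfix, R.sg_x hs, R.sg_x hπs, e2] at e3
  have hc : c (f4rho.getD s 0) * ((1 ^ e) ^ f4lam.getD s 1) ≠ 0 := by
    rw [one_pow, one_pow, mul_one]
    exact rootAct_ne_zero' C.I hπ hρs
  exact (xGL_label_inj C.I ((hπ _ hρs).1) (f4rho_lt _ hπs) hc e3).symm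

/-- `(N ∩ ²F₄) / (H ∩ ²F₄)` is the dihedral group of order 16. -/
theorem F4Data.weyl_hom :
    ∃ φ : ↥(chevF4.monomialSubgroup K ⊓ twistedF4 K e) →* DihedralGroup 8, Function.Surjective φ ∧
      φ.ker = (chevF4.diagonalSubgroup K ⊓ twistedF4 K e).subgroupOf
        (chevF4.monomialSubgroup K ⊓ twistedF4 K e) := by
  classical
  have C := chevFacts_F4 K
  have T := R.T
  have := T.char2
  have he := T.e_ne_zero
  let ψ : ↥(chevF4.monomialSubgroup K ⊓ twistedF4 K e) →* Equiv.Perm (Fin chevF4.nroots) :=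
    (rootHom C).comp (Subgroup.inclusion inf_le_left)
  have hψ : ∀ (n : ↥(chevF4.monomialSubgroup K ⊓ twistedF4 K e)) {π : ℕ → ℕ} {c : ℕ → K},
      RootAct chevF4 K ((n : GL chevF4.Idx K) : Matrix chevF4.Idx chevF4.Idx K) π c →
      ∀ s : Fin chevF4.nroots, (ψ n s).val = π s.val := fun n π c h s =>
    rootHom_spec C (Subgroup.inclusion inf_le_left n) h s
  let n1 : ↥(chevF4.monomialSubgroup K ⊓ twistedF4 K e) := ⟨f4n1 K e, f4n1_mono e, f4n1_mem e⟩
  let n2 : ↥(chevF4.monomialSubgroup K ⊓ twistedF4 K e) := ⟨f4n2 K e, f4n2_mono he, f4n2_mem e⟩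
  obtain ⟨c1, hc1⟩ := f4n1_rootAct (K := K) e
  obtain ⟨c2, hc2⟩ := f4n2_rootAct (K := K) he
  have hS : ∀ s : Fin chevF4.nroots, (ψ n1 s).val = f4pi1 s.val := hψ n1 hc1
  have hP : ∀ s : Fin chevF4.nroots, (ψ (n1 * n2) s).val = f4cox s.val := by
    intro s
    rw [map_mul, Equiv.Perm.mul_apply, hψ n1 hc1, hψ n2 hc2]
    rfl
  have hPk : ∀ (k : ℕ) (s : Fin chevF4.nroots), ((ψ (n1 * n2) ^ k) s).val = f4cox^[k] s.val := by
    intro k
    induction k with
    | zero => intro s; rfl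
    | succ k ih =>
      intro s
      rw [pow_succ, Equiv.Perm.mul_apply, ih, hP, Function.iterate_succ_apply]
  have hSPk : ∀ (k : ℕ) (s : Fin chevF4.nroots),
      ((ψ n1 * ψ (n1 * n2) ^ k) s).val = f4pi1 (f4cox^[k] s.val) := by
    intro k s
    rw [Equiv.Perm.mul_apply, hS, hPk]
  -- the relations
  have h8 : ψ (n1 * n2) ^ 8 = 1 := by
    apply Equiv.ext
    intro s
    apply Fin.ext
    rw [hPk, f4cox_pow8 s.val s.isLt]
    rfl
  have hSS : ψ n1 * ψ n1 = 1 := by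
    apply Equiv.ext
    intro s
    apply Fin.ext
    rw [Equiv.Perm.mul_apply, hS, hS, f4pi1_sq s.val s.isLt]
    rfl
  have hPS : ψ (n1 * n2) * ψ n1 = ψ n1 * ψ (n1 * n2) ^ 7 := by
    apply Equiv.ext
    intro s
    apply Fin.ext
    rw [Equiv.Perm.mul_apply, hP, hS, hSPk, f4cox_pi1 s.val s.isLt]
  obtain ⟨ι, hιr, hιs⟩ := dihedral8_hom (ψ (n1 * n2)) (ψ n1) h8 hSS hPS
  have hinj : Function.Injective ι := by
    rw [injective_iff_map_eq_one]
    rintro (i | i) hx
    · rw [hιr] at hx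
      have h1 := congrArg (fun p : Equiv.Perm (Fin chevF4.nroots) => (p ⟨0, by decide⟩).val) hx
      simp only [hPk] at h1
      have h2 := f4cox_orbit i.val (ZMod.val_lt i) h1
      have h3 : i = 0 := (ZMod.val_eq_zero i).mp h2
      rw [h3]
      rfl
    · exfalso
      rw [hιs] at hx
      have h1 := congrArg (fun p : Equiv.Perm (Fin chevF4.nroots) => (p ⟨0, by decide⟩).val) hx
      have h2 := congrArg (fun p : Equiv.Perm (Fin chevF4.nroots) => (p ⟨1, by decide⟩).val) hx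
      simp only [hSPk] at h1 h2
      exact f4refl_ne i.val (ZMod.val_lt i) ⟨h1, h2⟩
  -- the image of `N ∩ ²F₄`
  have hrange : ∀ n : ↥(chevF4.monomialSubgroup K ⊓ twistedF4 K e), ψ n ∈ ι.range := by
    intro n
    obtain ⟨w, hw, c, hc⟩ := wordAct_of_mem_monomial C.I n.2.1
    obtain ⟨j, hj, hjs⟩ := f4W_comm w hw (R.rootAct_comm n.2.2 hc)
    by_cases hj8 : j < 8
    · refine ⟨DihedralGroup.r (j : ZMod 8), ?_⟩
      rw [hιr, ZMod.val_natCast_of_lt hj8]
      apply Equiv.ext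
      intro s
      apply Fin.ext
      rw [hPk, hψ n hc, hjs s.val s.isLt]
      exact (f4D16_spec j hj8 s.val s.isLt).1
    · obtain ⟨k, rfl⟩ : ∃ k, j = 8 + k := ⟨j - 8, by omega⟩
      have hk : k < 8 := by omega
      refine ⟨DihedralGroup.sr (k : ZMod 8), ?_⟩
      rw [hιs, ZMod.val_natCast_of_lt hk]
      apply Equiv.ext
      intro s
      apply Fin.ext
      rw [hSPk, hψ n hc, hjs s.val s.isLt]
      exact (f4D16_spec k hk s.val s.isLt).2
  refine ⟨(MonoidHom.ofInjective hinj).symm.toMonoidHom.comp (ψ.codRestrict _ hrange), ?_, ?_⟩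
  · intro x
    have hex : ∃ n : ↥(chevF4.monomialSubgroup K ⊓ twistedF4 K e), ψ n = ι x := by
      rcases x with i | i
      · exact ⟨(n1 * n2) ^ i.val, by rw [map_pow, hιr]⟩
      · exact ⟨n1 * (n1 * n2) ^ i.val, by rw [map_mul, map_pow, hιs]⟩
    obtain ⟨n, hn⟩ := hex
    refine ⟨n, ?_⟩
    show (MonoidHom.ofInjective hinj).symm _ = x
    rw [MulEquiv.symm_apply_eq]
    apply Subtype.ext
    rw [MonoidHom.ofInjective_apply]
    exact hn
  · ext n
    rw [MonoidHom.mem_ker, Subgroup.mem_subgroupOf]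
    constructor
    · intro h
      have h1 : (ψ.codRestrict _ hrange) n = 1 := by
        have h2 : (MonoidHom.ofInjective hinj).symm ((ψ.codRestrict _ hrange) n) = 1 := h
        rwa [MulEquiv.map_eq_one_iff] at h2
      have h3 : rootHom C (Subgroup.inclusion inf_le_left n) = 1 := congrArg Subtype.val h1
      exact ⟨(rootHom_eq_one_iff C _).mp h3, n.2.2⟩
    · intro h
      have h3 : rootHom C (Subgroup.inclusion inf_le_left n) = 1 :=
        (rootHom_eq_one_iff C _).mpr h.1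
      show (MonoidHom.ofInjective hinj).symm _ = 1
      rw [MulEquiv.map_eq_one_iff]
      exact Subtype.ext h3

end Main

end Cfsg.Agent.Lib.helper23
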