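import Cfsg.Agent.Lib.helper23.F4Cell
import Cfsg.Agent.Lib.helper23.F4Weyl

set_option autoImplicit false
set_option maxRecDepth 100000

/-!
# The order of `²F₄(q)`

The canonical form `g = u₁ h n_w u` of the fixed points of the twisting automorphism, and the count.
-/

namespace Cfsg.Agent.Lib.helper23

open Cfsg Cfsg.Lie Cfsg.Agent.Lib.helper41 Cfsg.Agent.Lib.helper22

universe u

section SigN

variable {K : Type u} [Field K] {e : ℕ}

/-- `n_r(t)` as an element of `GL`. -/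
def f4nR (r : ℕ) (t : K) : GL chevF4.Idx K := f4x r t * (f4x (chevF4.neg r) (-t⁻¹) * f4x r t)

theorem f4nR_coe (r : ℕ) (t : K) :
    ((f4nR r t : GL chevF4.Idx K) : Matrix chevF4.Idx chevF4.Idx K) = chevF4.nMat K r t := by
  unfold f4nR
  rw [nMat_eq_three, Units.val_mul, Units.val_mul, f4x_coe, f4x_coe]

theorem f4_hMat_eq (r : ℕ) (t : K) : chevF4.hMat K r t = chevF4.nMat K r t * chevF4.nMat K r (-1) := by
  unfold ChevalleyDatum.hMat ChevalleyDatum.hWord ChevalleyDatum.nMat ChevalleyDatum.wordMat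
  rw [List.map_append, List.prod_append]

theorem f4rho_neg' : ∀ s, s < 48 → f4rho.getD (chevF4.neg s) 0 = chevF4.neg (f4rho.getD s 0) := by
  decide +kernel

theorem f4lam_neg : ∀ s, s < 48 → f4lam.getD (chevF4.neg s) 1 = f4lam.getD s 1 := by decide +kernel

theorem f4_neg_lt' : ∀ s, s < 48 → chevF4.neg s < 48 := by decide +kernel

theorem f4nR_mem_group {r : ℕ} (hr : r < 48) (t : K) : f4nR r t ∈ chevF4.group K :=
  mul_mem (f4x_mem_group hr _) (mul_mem (f4x_mem_group (f4_neg_lt' r hr) _) (f4x_mem_group hr _))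

variable (R : F4Data K e)

include R

theorem F4Data.sg_nR {r : ℕ} (hr : r < 48) (t : K) :
    R.sg (f4nR r t) = f4nR (f4rho.getD r 0) ((t ^ e) ^ f4lam.getD r 1) := by
  have T := R.T
  have hn := f4_neg_lt' r hr
  unfold f4nR
  rw [R.sg_mul (f4x_mem_group hr _) (mul_mem (f4x_mem_group hn _) (f4x_mem_group hr _)),
    R.sg_mul (f4x_mem_group hn _) (f4x_mem_group hr _), R.sg_x hr, R.sg_x hn, f4rho_neg' r hr,
    f4lam_neg r hr]
  have e1 : ((-t⁻¹) ^ e) ^ f4lam.getD r 1 = -((t ^ e) ^ f4lam.getD r 1)⁻¹ := by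
    rw [T.neg_eq, T.neg_eq, inv_pow, inv_pow]
  rw [e1]

/-- The twisting automorphism maps `H` into `H`. -/
theorem F4Data.sg_diag {h : GL chevF4.Idx K} (hh : h ∈ chevF4.diagonalSubgroup K) :
    R.sg h ∈ chevF4.diagonalSubgroup K := by
  have T := R.T
  refine (R.sg_closure {g | ∃ (r : ℕ) (t : K), r < chevF4.nroots ∧ t ≠ 0 ∧
    (g : Matrix chevF4.Idx chevF4.Idx K) = chevF4.hMat K r t} (chevF4.diagonalSubgroup K) ?_ h hh).2
  rintro x ⟨r, t, hr, ht, hx⟩
  have hr' : r < 48 := hr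
  have hx' : x = f4nR r t * f4nR r (-1) :=
    Units.ext (by rw [hx, f4_hMat_eq, Units.val_mul, f4nR_coe, f4nR_coe])
  rw [hx']
  refine ⟨mul_mem (f4nR_mem_group hr' _) (f4nR_mem_group hr' _), ?_⟩
  rw [R.sg_mul (f4nR_mem_group hr' _) (f4nR_mem_group hr' _), R.sg_nR hr', R.sg_nR hr']
  have e1 : ((-1 : K) ^ e) ^ f4lam.getD r 1 = -1 := by rw [T.neg_eq, one_pow, one_pow]
  rw [e1]
  exact Subgroup.subset_closure ⟨f4rho.getD r 0, (t ^ e) ^ f4lam.getD r 1, f4rho_lt r hr',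
    pow_ne_zero _ (pow_ne_zero _ ht), by rw [f4_hMat_eq, Units.val_mul, f4nR_coe, f4nR_coe]⟩

/-- The twisting automorphism maps `N` into `N`. -/
theorem F4Data.sg_mono {n : GL chevF4.Idx K} (hn : n ∈ chevF4.monomialSubgroup K) :
    R.sg n ∈ chevF4.monomialSubgroup K := by
  have C := chevFacts_F4 K
  have hHN : chevF4.diagonalSubgroup K ≤ chevF4.monomialSubgroup K := le_sup_left
  have hHG : chevF4.diagonalSubgroup K ≤ chevF4.group K := le_sup_right.trans C.hBG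
  have key := R.sg_closure ({g : GL chevF4.Idx K | ∃ (r : ℕ) (t : K), r < chevF4.nroots ∧ t ≠ 0 ∧
    (g : Matrix chevF4.Idx chevF4.Idx K) = chevF4.hMat K r t} ∪
    {g : GL chevF4.Idx K | ∃ r : ℕ, r < chevF4.nroots ∧
      (g : Matrix chevF4.Idx chevF4.Idx K) = chevF4.nMat K r 1})
    (chevF4.monomialSubgroup K) (by
      rintro x (hx | ⟨r, hr, hx⟩)
      · have hxH : x ∈ chevF4.diagonalSubgroup K := Subgroup.subset_closure hx
        exact ⟨hHG hxH, hHN (R.sg_diag hxH)⟩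
      · have hr' : r < 48 := hr
        have hx' : x = f4nR r 1 := Units.ext (hx.trans (f4nR_coe r 1).symm)
        rw [hx']
        refine ⟨f4nR_mem_group hr' _, ?_⟩
        rw [R.sg_nR hr', one_pow, one_pow]
        have hmem : f4nR (f4rho.getD r 0) (1 : K) ∈ Subgroup.closure {g : GL chevF4.Idx K |
            ∃ r : ℕ, r < chevF4.nroots ∧ (g : Matrix chevF4.Idx chevF4.Idx K) = chevF4.nMat K r 1} :=
          Subgroup.subset_closure ⟨_, f4rho_lt r hr', f4nR_coe _ _⟩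
        exact Subgroup.mem_sup_right hmem)
  have e1 : chevF4.monomialSubgroup K = Subgroup.closure ({g : GL chevF4.Idx K | ∃ (r : ℕ) (t : K),
      r < chevF4.nroots ∧ t ≠ 0 ∧ (g : Matrix chevF4.Idx chevF4.Idx K) = chevF4.hMat K r t} ∪
      {g : GL chevF4.Idx K | ∃ r : ℕ, r < chevF4.nroots ∧
        (g : Matrix chevF4.Idx chevF4.Idx K) = chevF4.nMat K r 1}) := by
    rw [Subgroup.closure_union]
    rfl
  rw [e1] at hn
  exact (key n hn).2

/-- The twisting automorphism maps `U_n⁻` into `U_{σ n}⁻`. -/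
theorem F4Data.sg_negSet {n : GL chevF4.Idx K} (hn : n ∈ chevF4.monomialSubgroup K)
    {u : GL chevF4.Idx K} (hu : u ∈ Subgroup.closure (negSet chevF4 K n)) :
    R.sg u ∈ Subgroup.closure (negSet chevF4 K (R.sg n)) := by
  have C := chevFacts_F4 K
  have T := R.T
  have hnG := C.hNG hn
  refine (R.sg_closure (negSet chevF4 K n) _ ?_ u hu).2
  rintro x ⟨r, t, hr, hmap, hx⟩
  obtain ⟨hr1, hr2⟩ := (C.I.hU.pos_iff r).mp hr
  have hx' : x = f4x r t := Units.ext hx
  rw [hx']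
  refine ⟨f4x_mem_group hr2 t, ?_⟩
  rw [R.sg_x hr2]
  have hρ := f4rho_lt r hr2
  refine Subgroup.subset_closure ⟨f4rho.getD r 0, _,
    (C.I.hU.pos_iff _).mpr ⟨(f4rho_pos r hr2).mpr hr1, hρ⟩, ?_, f4x_coe _ _⟩
  rw [map_conj_le_iff]
  intro z hz
  obtain ⟨S⟩ := C.I.hSD' ⟨f4rho.getD r 0, hρ⟩
  obtain ⟨t', rfl⟩ := rootSubgroup_elt S hz
  rw [sl2Hom_sl2u_eq C.I.hSD' S]
  obtain ⟨t'', ht''⟩ : ∃ t'' : K, (t'' ^ e) ^ f4lam.getD r 1 = t' := by
    rcases f4lam_cases r hr2 with h | h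
    · exact ⟨t' ^ (2 * e), by rw [h, pow_one, T.pow_e_two_e]⟩
    · exact ⟨t' ^ e, by rw [h, ← pow_mul, mul_comm e 2, T.pow_two_e]⟩
  have ez : f4x (f4rho.getD r 0) t' = R.sg (f4x r t'') := by rw [R.sg_x hr2, ht'']
  show R.sg n * f4x (f4rho.getD r 0) t' * (R.sg n)⁻¹ ∈ chevF4.negUnipotent K
  rw [ez, ← R.sg_inv hnG, ← R.sg_mul hnG (f4x_mem_group hr2 _),
    ← R.sg_mul (mul_mem hnG (f4x_mem_group hr2 _)) (inv_mem hnG)]
  exact R.sg_neg ((map_conj_le_iff _ _ n).mp hmap _ (Subgroup.subset_closure ⟨t'', f4x_coe r t''⟩))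

/-- The canonical form of a fixed point of the twisting automorphism has fixed components. -/
theorem F4Data.canon3_fixed {g : GL chevF4.Idx K} (hg : g ∈ chevF4.group K) (hfix : R.sg g = g) :
    ∃ u₁ ∈ chevF4.posUnipotent K, ∃ n ∈ chevF4.monomialSubgroup K,
      ∃ u ∈ Subgroup.closure (negSet chevF4 K n),
        g = u₁ * n * u ∧ R.sg u₁ = u₁ ∧ R.sg n = n ∧ R.sg u = u := by
  have C := chevFacts_F4 K
  obtain ⟨u₁, hu₁, n, hn, u, hu, rfl⟩ := C.canon3_exists hg
  have hu₁G := f4_pos_le_group hu₁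
  have hnG := C.hNG hn
  have huG := f4_pos_le_group (negSet_le_pos n hu)
  have e1 : R.sg u₁ * R.sg n * R.sg u = u₁ * n * u := by
    rw [← R.sg_mul hu₁G hnG, ← R.sg_mul (mul_mem hu₁G hnG) huG, hfix]
  obtain ⟨e2, e3, e4⟩ := C.canon3_unique (R.sg_pos hu₁) hu₁ (R.sg_mono hn) hn (R.sg_negSet hn hu) hu e1
  exact ⟨u₁, hu₁, n, hn, u, hu, rfl, e2, e3, e4⟩

/-- The fixed points in `U` lie in `²F₄`. -/
theorem F4Data.pos_fix_mem {u : GL chevF4.Idx K} (hu : u ∈ chevF4.posUnipotent K) (hfix : R.sg u = u) :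
    u ∈ twistedF4 K e := by
  have T := R.T
  have := T.char2
  obtain ⟨-, h2⟩ := R.cell_word f4w0 f4w0_red
  obtain ⟨c, hact⟩ := f4wordN_rootAct (K := K) T.e_ne_zero f4w0
  exact h2 u ⟨hu, ⟨f4_pos_le_group hu, hfix⟩, f4_conj_pos_neg hact f4w0_pi u hu⟩

end SigN

section Words16

variable {K : Type u} [Field K] {e : ℕ}

/-- The 16 reduced words of the dihedral group of order 16. -/
def f4words : List (List ℕ) :=
  [[], [1], [2], [2, 1], [1, 2], [1, 2, 1], [2, 1, 2], [2, 1, 2, 1], [1, 2, 1, 2], [1, 2, 1, 2, 1],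
    [2, 1, 2, 1, 2], [2, 1, 2, 1, 2, 1], [1, 2, 1, 2, 1, 2], [1, 2, 1, 2, 1, 2, 1], [2, 1, 2, 1, 2, 1, 2],
    [2, 1, 2, 1, 2, 1, 2, 1]]

theorem f4words_red : ∀ w ∈ f4words, f4RedB w = true := by decide +kernel

theorem f4words_nodup : f4words.Nodup := by decide

theorem f4words_inj : ∀ w ∈ f4words, ∀ w' ∈ f4words,
    (∀ s, s < 48 → f4wordPi w s = f4wordPi w' s) → w = w' := by decide +kernel

theorem f4words_cover : ∀ j, j < 16 → ∃ w ∈ f4words, ∀ s, s < 48 →
    f4wordPi w s = (f4D16.getD j []).getD s 0 := by decide +kernel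

theorem f4words_sum (q : ℕ) :
    (f4words.map fun w => q ^ f4wordLen w).sum = (1 + q) * (1 + q ^ 2) * (1 + q ^ 3) * (1 + q ^ 6) := by
  simp only [f4words, List.map_cons, List.map_nil, List.sum_cons, List.sum_nil, f4wordLen, f4letLen]
  norm_num
  ring

/-- Distinct words represent distinct cosets of `H`. -/
theorem f4words_uniq [CharP K 2] {e : ℕ} (he : e ≠ 0) : ∀ w ∈ f4words, ∀ w' ∈ f4words,
    f4wordN K e w * (f4wordN K e w')⁻¹ ∈ chevF4.diagonalSubgroup K → w = w' := by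
  intro w hw w' hw' hmem
  have C := chevFacts_F4 K
  refine f4words_inj w hw w' hw' fun s hs => ?_
  obtain ⟨c, hc⟩ := f4wordN_rootAct (K := K) he w
  obtain ⟨c', hc'⟩ := f4wordN_rootAct (K := K) he w'
  have hN := f4wordN_mono (K := K) he w
  have hN' := f4wordN_mono (K := K) he w'
  have h1 := (rootHom_eq_one_iff C ⟨_, mul_mem hN (inv_mem hN')⟩).mpr hmem
  have e1 : (⟨f4wordN K e w * (f4wordN K e w')⁻¹, mul_mem hN (inv_mem hN')⟩ :
      ↥(chevF4.monomialSubgroup K)) = ⟨f4wordN K e w, hN⟩ * (⟨f4wordN K e w', hN'⟩ :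
      ↥(chevF4.monomialSubgroup K))⁻¹ := rfl
  rw [e1, map_mul, map_inv, mul_inv_eq_one] at h1
  have h2 := congrArg (fun p : Equiv.Perm (Fin chevF4.nroots) => (p ⟨s, hs⟩).val) h1
  rw [rootHom_spec C _ hc, rootHom_spec C _ hc'] at h2
  exact h2

/-- Each element of `N ∩ ²F₄` is represented by one of the words. -/
theorem F4Data.words_rep (R : F4Data K e) {n : GL chevF4.Idx K}
    (hn : n ∈ chevF4.monomialSubgroup K ⊓ twistedF4 K e) :
    ∃ w ∈ f4words, n * (f4wordN K e w)⁻¹ ∈ chevF4.diagonalSubgroup K := by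
  have C := chevFacts_F4 K
  have T := R.T
  have := T.char2
  have he := T.e_ne_zero
  obtain ⟨w, hw, c, hc⟩ := wordAct_of_mem_monomial C.I hn.1
  obtain ⟨j, hj, hjs⟩ := f4W_comm w hw (R.rootAct_comm hn.2 hc)
  obtain ⟨w', hw', hs'⟩ := f4words_cover j hj
  refine ⟨w', hw', ?_⟩
  obtain ⟨c', hc'⟩ := f4wordN_rootAct (K := K) he w'
  have hN' := f4wordN_mono (K := K) he w'
  refine (rootHom_eq_one_iff C ⟨n * (f4wordN K e w')⁻¹, mul_mem hn.1 (inv_mem hN')⟩).mp ?_
  have e1 : (⟨n * (f4wordN K e w')⁻¹, mul_mem hn.1 (inv_mem hN')⟩ :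
      ↥(chevF4.monomialSubgroup K)) = ⟨n, hn.1⟩ * (⟨f4wordN K e w', hN'⟩ :
      ↥(chevF4.monomialSubgroup K))⁻¹ := rfl
  rw [e1, map_mul, map_inv, mul_inv_eq_one]
  apply Equiv.ext
  intro s
  apply Fin.ext
  rw [rootHom_spec C ⟨n, hn.1⟩ hc s, rootHom_spec C ⟨_, hN'⟩ hc' s, hjs s.val s.isLt, hs' s.val s.isLt]

/-- The cell of a reduced word, as `U_w⁻ ∩ ²F₄`. -/
theorem F4Data.card_negSet (R : F4Data K e) {w : List ℕ} (hw : f4RedB w = true) :
    Nat.card ↥(Subgroup.closure (negSet chevF4 K (f4wordN K e w)) ⊓ twistedF4 K e) =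
      Nat.card K ^ f4wordLen w := by
  have C := chevFacts_F4 K
  have T := R.T
  have := T.char2
  obtain ⟨h1, h2⟩ := R.cell_word w hw
  rw [← h1]
  refine Nat.card_congr (Equiv.subtypeEquivRight fun u => ⟨?_, ?_⟩)
  · rintro ⟨hu, hΓ⟩
    exact ⟨negSet_le_pos _ hu, R.twisted_le_fix hΓ, conj_negSet_mem _ u hu⟩
  · intro hu
    exact ⟨C.mem_negSet_of_conj (f4wordN_mono T.e_ne_zero w) hu.1 hu.2.2, h2 u hu⟩

end Words16

section Count

variable {K : Type u} [Field K] {e : ℕ}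

/-- The order of `²F₄`: `|G¹| = |U¹| |H¹| Σ_w |U_w⁻ ∩ G¹|`. -/
theorem F4Data.card_formula [Finite K] (R : F4Data K e) :
    Nat.card ↥(twistedF4 K e) =
      Nat.card ↥(chevF4.posUnipotent K ⊓ twistedF4 K e) *
        Nat.card ↥(chevF4.diagonalSubgroup K ⊓ twistedF4 K e) *
        (f4words.map fun w => Nat.card ↥(Subgroup.closure (negSet chevF4 K (f4wordN K e w)) ⊓
          twistedF4 K e)).sum := by
  classical
  have C := chevFacts_F4 K
  have T := R.T
  have := T.char2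
  have he := T.e_ne_zero
  have : Finite (GL chevF4.Idx K) := inferInstance
  have hwm : ∀ w : List ℕ, f4wordN K e w ∈ chevF4.monomialSubgroup K ⊓ twistedF4 K e :=
    fun w => ⟨f4wordN_mono he w, f4wordN_mem e w⟩
  have hHN : chevF4.diagonalSubgroup K ≤ chevF4.monomialSubgroup K := le_sup_left
  let Ψ : ((↥(chevF4.posUnipotent K ⊓ twistedF4 K e) × ↥(chevF4.diagonalSubgroup K ⊓ twistedF4 K e)) ×
      (Σ i : Fin f4words.length, ↥(Subgroup.closure (negSet chevF4 K (f4wordN K e f4words[i.1])) ⊓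
        twistedF4 K e))) → ↥(twistedF4 K e) :=
    fun x => ⟨x.1.1.val * x.1.2.val * f4wordN K e f4words[x.2.1.1] * x.2.2.val,
      mul_mem (mul_mem (mul_mem x.1.1.2.2 x.1.2.2.2) (hwm _).2) x.2.2.2.2⟩
  have hΨ : Function.Bijective Ψ := by
    constructor
    · rintro ⟨⟨u₁, h⟩, ⟨i, u⟩⟩ ⟨⟨u₁', h'⟩, ⟨i', u'⟩⟩ heq
      have e1 : u₁.val * (h.val * f4wordN K e f4words[i.1]) * u.val =
          u₁'.val * (h'.val * f4wordN K e f4words[i'.1]) * u'.val := by
        have := congrArg Subtype.val heq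
        simpa [Ψ, mul_assoc] using this
      have hu : u.val ∈ Subgroup.closure (negSet chevF4 K (h.val * f4wordN K e f4words[i.1])) := by
        rw [negSet_diag_mul_eq C.I h.2.1]
        exact u.2.1
      have hu' : u'.val ∈ Subgroup.closure (negSet chevF4 K (h'.val * f4wordN K e f4words[i'.1])) := by
        rw [negSet_diag_mul_eq C.I h'.2.1]
        exact u'.2.1
      obtain ⟨e2, e3, e4⟩ := C.canon3_unique u₁.2.1 u₁'.2.1
        (mul_mem (hHN h.2.1) (hwm _).1) (mul_mem (hHN h'.2.1) (hwm _).1) hu hu' e1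
      have hww : f4words[i.1] = f4words[i'.1] := by
        refine f4words_uniq (K := K) he _ (List.getElem_mem i.2) _ (List.getElem_mem i'.2) ?_
        have : f4wordN K e f4words[i.1] * (f4wordN K e f4words[i'.1])⁻¹ = h.val⁻¹ * h'.val := by
          have e3' : f4wordN K e f4words[i.1] = h.val⁻¹ * (h'.val * f4wordN K e f4words[i'.1]) := by
            rw [← e3]; group
          rw [e3']; group
        rw [this]
        exact mul_mem (inv_mem h.2.1) h'.2.1
      have hii : i = i' := Fin.ext ((List.Nodup.getElem_inj_iff f4words_nodup).mp hww)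
      subst hii
      have hh : h.val = h'.val := mul_right_cancel e3
      have h1 : u₁ = u₁' := Subtype.ext e2
      have h2 : h = h' := Subtype.ext hh
      have h3 : u = u' := Subtype.ext e4
      rw [h1, h2, h3]
    · intro g
      obtain ⟨u₁, hu₁, n, hn, u, hu, e1, f1, f2, f3⟩ :=
        R.canon3_fixed (R.twisted_le_group g.2) (R.sg_fix g.2)
      have hu₁G := R.pos_fix_mem hu₁ f1
      have huG := R.pos_fix_mem (negSet_le_pos n hu) f3
      have hnG : n ∈ twistedF4 K e := by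
        have : n = u₁⁻¹ * g.val * u⁻¹ := by rw [e1]; group
        rw [this]
        exact mul_mem (mul_mem (inv_mem hu₁G) g.2) (inv_mem huG)
      obtain ⟨w, hw1, hh⟩ := R.words_rep ⟨hn, hnG⟩
      obtain ⟨i, hi, hiw⟩ := List.mem_iff_getElem.mp hw1
      have hhG : n * (f4wordN K e w)⁻¹ ∈ twistedF4 K e := mul_mem hnG (inv_mem (hwm w).2)
      have hu' : u ∈ Subgroup.closure (negSet chevF4 K (f4wordN K e f4words[i])) := by
        have : n = (n * (f4wordN K e w)⁻¹) * f4wordN K e w := by group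
        rw [this, negSet_diag_mul_eq C.I hh] at hu
        rw [hiw]
        exact hu
      refine ⟨((⟨u₁, hu₁, hu₁G⟩, ⟨n * (f4wordN K e w)⁻¹, hh, hhG⟩),
        ⟨⟨i, hi⟩, ⟨u, hu', huG⟩⟩), Subtype.ext ?_⟩
      show u₁ * (n * (f4wordN K e w)⁻¹) * f4wordN K e f4words[i] * u = g.val
      rw [hiw, e1]
      group
  rw [← Nat.card_congr (Equiv.ofBijective Ψ hΨ), Nat.card_prod, Nat.card_prod, Nat.card_sigma,
    Fin.sum_univ_fun_getElem f4words
      (fun w => Nat.card ↥(Subgroup.closure (negSet chevF4 K (f4wordN K e w)) ⊓ twistedF4 K e))]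

/-- `|²F₄(q)| = q¹² (q - 1)² (1 + q)(1 + q²)(1 + q³)(1 + q⁶)`. -/
theorem F4Data.card_group [Fintype K] (R : F4Data K e) :
    Nat.card ↥(twistedF4 K e) = Fintype.card K ^ 12 * (Fintype.card K - 1) ^ 2 *
      ((1 + Fintype.card K) * (1 + Fintype.card K ^ 2) * (1 + Fintype.card K ^ 3) *
        (1 + Fintype.card K ^ 6)) := by
  rw [R.card_formula, R.card_pos, R.card_diag, Nat.card_eq_fintype_card]
  congr 1
  rw [← f4words_sum]
  congr 1
  refine List.map_congr_left fun w hw => ?_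
  rw [R.card_negSet (f4words_red w hw), Nat.card_eq_fintype_card]

end Count

end Cfsg.Agent.Lib.helper23
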