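import Cfsg.Agent.Lib.helper23.F4Isog

set_option autoImplicit false

/-!
# Existence of the twisting automorphism of `F₄(K)` for `|K| = 2^(2m+1)`
-/

namespace Cfsg.Agent.Lib.helper23

open Cfsg Cfsg.Lie Cfsg.Agent.Lib.helper41 Cfsg.Agent.Lib.helper22

universe u

theorem exists_f4Data {K : Type u} [Field K] [Fintype K] {m : ℕ}
    (hK : Fintype.card K = 2 ^ (2 * m + 1)) : Nonempty (F4Data K (2 ^ m)) := by
  have T := twoPow_of_card hK
  have := T.char2
  have hperf : ∀ x : K, ∃ y : K, y ^ 2 = x := fun x => ⟨(x ^ 2 ^ m) ^ 2 ^ m, T.hφ x⟩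
  obtain ⟨α, hα⟩ := F4I.isog_aut_F4 hperf
  let ψ₀ : K →+* K :=
    { toFun := fun x => x ^ 2 ^ m
      map_one' := one_pow _
      map_mul' := fun x y => mul_pow x y _
      map_zero' := zero_pow (by positivity)
      map_add' := T.hadd }
  have hinj : Function.Injective ψ₀ := ψ₀.injective
  let ψ : K ≃+* K := RingEquiv.ofBijective ψ₀ ⟨hinj, Finite.surjective_of_injective hinj⟩
  have hψ : ∀ x : K, ψ x = x ^ 2 ^ m := fun x => rfl
  refine ⟨⟨T, (groupEquivOfRingEquiv chevF4 ψ).trans α, ?_⟩⟩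
  intro g s t hs hg
  have h1 := F4I.groupEquiv_x chevF4 ψ g s hs t hg
  rw [hψ] at h1
  exact hα _ s _ hs h1

end Cfsg.Agent.Lib.helper23
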