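import Cfsg.Agent.Lib.helper23.ChevReeT

set_option autoImplicit false
set_option maxRecDepth 100000

/-! # The Sylow 3-subgroups of the twisted group of type `G₂` intersect trivially -/

namespace Cfsg.Agent.Lib.helper23

open Cfsg Cfsg.Lie Cfsg.Agent.Lib.helper41 Cfsg.Agent.Lib.helper22

section Syl

variable {K : Type*} [Field K] {e : ℕ} (R : ReeData K e) {n : GL chevG2.Idx K}

theorem borel_normalizes_pos (K : Type*) [Field K] :
    chevG2.borelSubgroup K ≤ Subgroup.normalizer (chevG2.posUnipotent K : Set (GL chevG2.Idx K)) :=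
  borel_le_normalizer_pos (Cfsg.Agent.S1036.result (F := K) chevG2 (by simp)).1

include R

/-- An element of `G¹` outside `B` conjugates no non-identity element of `U` into `U`. -/
theorem ReeData.conj_pos_trivial (hn : ReeW0 e n) {g x : GL chevG2.Idx K} (hg : g ∈ twistedG2 K e)
    (hgB : g ∉ chevG2.borelSubgroup K) (hx : x ∈ chevG2.posUnipotent K)
    (hgx : g * x * g⁻¹ ∈ chevG2.posUnipotent K) : x = 1 := by
  have hBU := borel_normalizes_pos K
  rcases R.fix_cases hn (R.twisted_le_fix hg) with hB | ⟨b, hb, u', hu', rfl⟩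
  · exact absurd hB hgB
  · have hy : u' * x * u'⁻¹ ∈ chevG2.posUnipotent K := mul_mem (mul_mem hu' hx) (inv_mem hu')
    have h1 : n * (u' * x * u'⁻¹) * n⁻¹ ∈ chevG2.negUnipotent K := hn.conj_pos _ hy
    have h2 : n * (u' * x * u'⁻¹) * n⁻¹ ∈ chevG2.posUnipotent K := by
      have e1 : n * (u' * x * u'⁻¹) * n⁻¹ = b⁻¹ * (b * n * u' * x * (b * n * u')⁻¹) * b⁻¹⁻¹ := by group
      rw [e1]
      exact (Subgroup.mem_normalizer_iff.mp (hBU (inv_mem hb)) _).mp hgx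
    have h3 : n * (u' * x * u'⁻¹) * n⁻¹ ∈ chevG2.borelSubgroup K ⊓ chevG2.negUnipotent K :=
      Subgroup.mem_inf.mpr ⟨Subgroup.mem_sup_left h2, h1⟩
    rw [(Cfsg.Agent.S1037.result (F := K) chevG2 (by simp)).1, Subgroup.mem_bot] at h3
    have e2 : x = u'⁻¹ * n⁻¹ * (n * (u' * x * u'⁻¹) * n⁻¹) * n * u' := by group
    rw [e2, h3]
    group

theorem ReeData.card_pos_sub [Fintype K] :
    Nat.card ↥((chevG2.posUnipotent K ⊓ twistedG2 K e).subgroupOf (twistedG2 K e)) = Fintype.card K ^ 3 := by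
  rw [Nat.card_congr (Subgroup.subgroupOfEquivOfLe inf_le_right).toEquiv, R.card_pos_inf_twisted]

/-- `U¹` as a Sylow 3-subgroup of `G¹`. -/
theorem ReeData.exists_sylow [Fintype K] {m : ℕ} (hK : Fintype.card K = 3 ^ (2 * m + 1)) :
    ∃ S₀ : Sylow 3 ↥(twistedG2 K e), ∀ x : ↥(twistedG2 K e),
      x ∈ S₀ ↔ (x : GL chevG2.Idx K) ∈ chevG2.posUnipotent K := by
  have hcard : Nat.card ↥((chevG2.posUnipotent K ⊓ twistedG2 K e).subgroupOf (twistedG2 K e)) =
      3 ^ ((2 * m + 1) * 3) := by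
    rw [R.card_pos_sub, hK, ← pow_mul]
  have hp : IsPGroup 3 ↥((chevG2.posUnipotent K ⊓ twistedG2 K e).subgroupOf (twistedG2 K e)) :=
    IsPGroup.of_card hcard
  have hidx : ¬ 3 ∣ ((chevG2.posUnipotent K ⊓ twistedG2 K e).subgroupOf (twistedG2 K e)).index := by
    have h1 := Subgroup.card_mul_index ((chevG2.posUnipotent K ⊓ twistedG2 K e).subgroupOf (twistedG2 K e))
    rw [R.card_pos_sub, R.card_twisted, hK] at h1
    have hq3 : 0 < (3 ^ (2 * m + 1)) ^ 3 := by positivity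
    have h2 : ((chevG2.posUnipotent K ⊓ twistedG2 K e).subgroupOf (twistedG2 K e)).index =
        (3 ^ (2 * m + 1) - 1) * ((3 ^ (2 * m + 1)) ^ 3 + 1) := by
      apply Nat.eq_of_mul_eq_mul_left hq3
      rw [h1]
      ring
    rw [h2]
    intro hdvd
    have hk : 0 < 3 ^ (2 * m) := by positivity
    rcases (Nat.Prime.dvd_mul Nat.prime_three).mp hdvd with h3 | h3
    · have e1 : 3 ^ (2 * m + 1) = 3 * 3 ^ (2 * m) := by ring
      rw [e1] at h3
      omega
    · have e1 : (3 ^ (2 * m + 1)) ^ 3 = 3 * (9 * (3 ^ (2 * m)) ^ 3) := by ring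
      rw [e1] at h3
      omega
  refine ⟨hp.toSylow hidx, fun x => ?_⟩
  rw [IsPGroup.mem_toSylow, Subgroup.mem_subgroupOf]
  exact ⟨fun h => (Subgroup.mem_inf.mp h).1, fun h => Subgroup.mem_inf.mpr ⟨h, x.2⟩⟩

/-- Distinct Sylow 3-subgroups of `G¹` intersect trivially. -/
theorem ReeData.sylow_ti [Fintype K] {m : ℕ} (hK : Fintype.card K = 3 ^ (2 * m + 1))
    (P Q : Sylow 3 ↥(twistedG2 K e)) (hPQ : P ≠ Q) :
    (P : Subgroup ↥(twistedG2 K e)) ⊓ (Q : Subgroup ↥(twistedG2 K e)) = ⊥ := by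
  obtain ⟨n, hn⟩ := R.exists_w0
  obtain ⟨S₀, hS₀⟩ := R.exists_sylow hK
  have hBU := borel_normalizes_pos K
  obtain ⟨g, rfl⟩ := MulAction.exists_smul_eq ↥(twistedG2 K e) S₀ P
  obtain ⟨g', rfl⟩ := MulAction.exists_smul_eq ↥(twistedG2 K e) S₀ Q
  have hmem : ∀ (g x : ↥(twistedG2 K e)), x ∈ ((g • S₀ : Sylow 3 ↥(twistedG2 K e)) : Subgroup ↥(twistedG2 K e)) ↔
      g⁻¹ * x * g ∈ S₀ := by
    intro g x
    rw [Sylow.coe_subgroup_smul, Subgroup.mem_pointwise_smul_iff_inv_smul_mem, MulAut.smul_def,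
      MulAut.conj_inv_apply]
    rfl
  ext x
  rw [Subgroup.mem_inf, Subgroup.mem_bot, hmem, hmem, hS₀, hS₀]
  constructor
  · rintro ⟨h1, h2⟩
    by_cases hk : ((g'⁻¹ * g : ↥(twistedG2 K e)) : GL chevG2.Idx K) ∈ chevG2.borelSubgroup K
    · exfalso
      apply hPQ
      have h3 : (g'⁻¹ * g) • S₀ = S₀ := by
        rw [Sylow.smul_eq_iff_mem_normalizer]
        refine Subgroup.mem_set_normalizer_iff.mpr fun y => ?_
        show y ∈ S₀ ↔ (g'⁻¹ * g) * y * (g'⁻¹ * g)⁻¹ ∈ S₀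
        rw [hS₀, hS₀]
        exact Subgroup.mem_normalizer_iff.mp (hBU hk) _
      calc g • S₀ = g' • ((g'⁻¹ * g) • S₀) := by rw [← mul_smul, mul_inv_cancel_left]
        _ = g' • S₀ := by rw [h3]
    · have h4 := R.conj_pos_trivial hn (g'⁻¹ * g).2 hk h1 (by
        have e1 : ((g'⁻¹ * g : ↥(twistedG2 K e)) : GL chevG2.Idx K) * ((g⁻¹ * x * g : ↥(twistedG2 K e)) : GL chevG2.Idx K) *
            ((g'⁻¹ * g : ↥(twistedG2 K e)) : GL chevG2.Idx K)⁻¹ = ((g'⁻¹ * x * g' : ↥(twistedG2 K e)) : GL chevG2.Idx K) := by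
          push_cast
          group
        rw [e1]
        exact h2)
      have h5 : g⁻¹ * x * g = 1 := Subtype.ext h4
      have e2 : x = g * (g⁻¹ * x * g) * g⁻¹ := by group
      rw [e2, h5]
      group
  · rintro rfl
    have e1 : ((g⁻¹ * 1 * g : ↥(twistedG2 K e)) : GL chevG2.Idx K) = 1 := by
      have : g⁻¹ * 1 * g = 1 := by group
      rw [this]
      rfl
    have e2 : ((g'⁻¹ * 1 * g' : ↥(twistedG2 K e)) : GL chevG2.Idx K) = 1 := by
      have : g'⁻¹ * 1 * g' = 1 := by group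
      rw [this]
      rfl
    rw [e1, e2]
    exact ⟨one_mem _, one_mem _⟩

end Syl

end Cfsg.Agent.Lib.helper23
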