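import Cfsg.Agent.Lib.helper23.CoxCount
import Cfsg.Prelude.Def_ChevStructure

set_option autoImplicit false
set_option maxRecDepth 100000

/-!
Coset-table certificates (generated by a coset enumeration over the chain of standard parabolic
subgroups) for the Coxeter groups of types B₂, G₂, D₄, F₄, E₆, E₇, E₈, and their verification.
-/

namespace Cfsg.Agent.Lib.helper23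

def mTB2 : List (List ℕ) := [[1, 4], [4, 1]]
def cTB2 : List (List ℤ) := [[2, -1], [-2, 2]]
def certB2_1 : LevelCert where
  words := [[], [0]]
  tab := [[1], [0]]
  rank := [[0], [0]]
  just := [[0], [0]]
def certB2_2 : LevelCert where
  words := [[], [1], [1, 0], [1, 0, 1]]
  tab := [[0, 1], [2, 0], [1, 3], [3, 2]]
  rank := [[0, 0], [0, 0], [0, 0], [1, 0]]
  just := [[0, 0], [0, 0], [0, 0], [2, 0]]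
def coxCertsB2 : List LevelCert := [certB2_1, certB2_2]

set_option backward.isDefEq.respectTransparency false in
theorem hMB2 : ∀ i i' : Fin 2, (CoxeterMatrix.B 2) i i' = tget mTB2 i i' := by decide

theorem hCB2 : cartanOk 2 mTB2 cTB2 = true := by decide

theorem validB2 : ∀ j < 2, levelCheck 2 mTB2 cTB2 (j + 1) (certAt coxCertsB2 j) = true := by
  decide +kernel

theorem cardB2 : Nat.card (CoxeterMatrix.B 2).Group = cardProd coxCertsB2 2 :=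
  coxeter_card (CoxeterMatrix.B 2) mTB2 cTB2 hMB2 hCB2 coxCertsB2 validB2

theorem orderB2 : orderOf ((List.finRange 2).map (CoxeterMatrix.B 2).simple).prod = 4 :=
  coxeter_orderOf (CoxeterMatrix.B 2) mTB2 cTB2 hMB2 hCB2 coxCertsB2 validB2 4 (by decide)
    (by decide +kernel) (by decide +kernel)

def mTG2 : List (List ℕ) := [[1, 6], [6, 1]]
def cTG2 : List (List ℤ) := [[2, -1], [-3, 2]]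
def certG2_1 : LevelCert where
  words := [[], [0]]
  tab := [[1], [0]]
  rank := [[0], [0]]
  just := [[0], [0]]
def certG2_2 : LevelCert where
  words := [[], [1], [1, 0], [1, 0, 1], [1, 0, 1, 0], [1, 0, 1, 0, 1]]
  tab := [[0, 1], [2, 0], [1, 3], [4, 2], [3, 5], [5, 4]]
  rank := [[0, 0], [0, 0], [0, 0], [0, 0], [0, 0], [1, 0]]
  just := [[0, 0], [0, 0], [0, 0], [0, 0], [0, 0], [2, 0]]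
def coxCertsG2 : List LevelCert := [certG2_1, certG2_2]

set_option backward.isDefEq.respectTransparency false in
theorem hMG2 : ∀ i i' : Fin 2, (CoxeterMatrix.G₂) i i' = tget mTG2 i i' := by decide

theorem hCG2 : cartanOk 2 mTG2 cTG2 = true := by decide

theorem validG2 : ∀ j < 2, levelCheck 2 mTG2 cTG2 (j + 1) (certAt coxCertsG2 j) = true := by
  decide +kernel

theorem cardG2 : Nat.card (CoxeterMatrix.G₂).Group = cardProd coxCertsG2 2 :=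
  coxeter_card (CoxeterMatrix.G₂) mTG2 cTG2 hMG2 hCG2 coxCertsG2 validG2

theorem orderG2 : orderOf ((List.finRange 2).map (CoxeterMatrix.G₂).simple).prod = 6 :=
  coxeter_orderOf (CoxeterMatrix.G₂) mTG2 cTG2 hMG2 hCG2 coxCertsG2 validG2 6 (by decide)
    (by decide +kernel) (by decide +kernel)

def mTD4 : List (List ℕ) := [[1, 3, 2, 2], [3, 1, 3, 3], [2, 3, 1, 2], [2, 3, 2, 1]]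
def cTD4 : List (List ℤ) := [[2, -1, 0, 0], [-1, 2, -1, -1], [0, -1, 2, 0], [0, -1, 0, 2]]
def certD4_1 : LevelCert where
  words := [[], [0]]
  tab := [[1], [0]]
  rank := [[0], [0]]
  just := [[0], [0]]
def certD4_2 : LevelCert where
  words := [[], [1], [1, 0]]
  tab := [[0, 1], [2, 0], [1, 2]]
  rank := [[0, 0], [0, 0], [0, 1]]
  just := [[0, 0], [0, 0], [0, 1]]
def certD4_3 : LevelCert where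
  words := [[], [2], [2, 1], [2, 1, 0]]
  tab := [[0, 0, 1], [1, 2, 0], [3, 1, 2], [2, 3, 3]]
  rank := [[0, 0, 0], [1, 0, 0], [0, 0, 1], [0, 2, 2]]
  just := [[0, 0, 0], [3, 0, 0], [0, 0, 2], [0, 1, 1]]
def certD4_4 : LevelCert where
  words := [[], [3], [3, 1], [3, 1, 0], [3, 1, 2], [3, 1, 0, 2], [3, 1, 0, 2, 1], [3, 1, 0, 2, 1, 3]]
  tab := [[0, 0, 0, 1], [1, 2, 1, 0], [3, 1, 4, 2], [2, 3, 5, 3], [5, 4, 2, 4], [4, 6, 3, 5], [6, 5, 6, 7], [7, 7, 7, 6]]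
  rank := [[0, 0, 0, 0], [1, 0, 1, 0], [0, 0, 0, 1], [0, 2, 0, 2], [1, 2, 0, 2], [1, 0, 0, 3], [3, 0, 3, 0], [4, 4, 4, 0]]
  just := [[0, 0, 0, 0], [4, 0, 4, 0], [0, 0, 0, 2], [0, 1, 0, 1], [3, 3, 0, 3], [3, 0, 0, 1], [2, 0, 2, 0], [4, 4, 4, 0]]
def coxCertsD4 : List LevelCert := [certD4_1, certD4_2, certD4_3, certD4_4]

set_option backward.isDefEq.respectTransparency false in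
theorem hMD4 : ∀ i i' : Fin 4, (Cfsg.Lie.coxeterD4) i i' = tget mTD4 i i' := by decide

theorem hCD4 : cartanOk 4 mTD4 cTD4 = true := by decide

theorem validD4 : ∀ j < 4, levelCheck 4 mTD4 cTD4 (j + 1) (certAt coxCertsD4 j) = true := by
  decide +kernel

theorem cardD4 : Nat.card (Cfsg.Lie.coxeterD4).Group = cardProd coxCertsD4 4 :=
  coxeter_card (Cfsg.Lie.coxeterD4) mTD4 cTD4 hMD4 hCD4 coxCertsD4 validD4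

theorem orderD4 : orderOf ((List.finRange 4).map (Cfsg.Lie.coxeterD4).simple).prod = 6 :=
  coxeter_orderOf (Cfsg.Lie.coxeterD4) mTD4 cTD4 hMD4 hCD4 coxCertsD4 validD4 6 (by decide)
    (by decide +kernel) (by decide +kernel)

def mTF4 : List (List ℕ) := [[1, 3, 2, 2], [3, 1, 4, 2], [2, 4, 1, 3], [2, 2, 3, 1]]
def cTF4 : List (List ℤ) := [[2, -1, 0, 0], [-1, 2, -1, 0], [0, -2, 2, -1], [0, 0, -1, 2]]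
def certF4_1 : LevelCert where
  words := [[], [0]]
  tab := [[1], [0]]
  rank := [[0], [0]]
  just := [[0], [0]]
def certF4_2 : LevelCert where
  words := [[], [1], [1, 0]]
  tab := [[0, 1], [2, 0], [1, 2]]
  rank := [[0, 0], [0, 0], [0, 1]]
  just := [[0, 0], [0, 0], [0, 1]]
def certF4_3 : LevelCert where
  words := [[], [2], [2, 1], [2, 1, 0], [2, 1, 2], [2, 1, 0, 2], [2, 1, 0, 2, 1], [2, 1, 0, 2, 1, 2]]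
  tab := [[0, 0, 1], [1, 2, 0], [3, 1, 4], [2, 3, 5], [5, 4, 2], [4, 6, 3], [6, 5, 7], [7, 7, 6]]
  rank := [[0, 0, 0], [1, 0, 0], [0, 0, 0], [0, 2, 0], [1, 1, 0], [1, 0, 0], [2, 0, 0], [3, 3, 0]]
  just := [[0, 0, 0], [3, 0, 0], [0, 0, 0], [0, 1, 0], [3, 3, 0], [3, 0, 0], [2, 0, 0], [3, 3, 0]]
def certF4_4 : LevelCert where
  words := [[], [3], [3, 2], [3, 2, 1], [3, 2, 1, 0], [3, 2, 1, 2], [3, 2, 1, 0, 2], [3, 2, 1, 2, 3], [3, 2, 1, 0, 2, 1], [3, 2, 1, 0, 2, 3], [3, 2, 1, 0, 2, 1, 2], [3, 2, 1, 0, 2, 1, 3], [3, 2, 1, 0, 2, 1, 2, 3], [3, 2, 1, 0, 2, 1, 3, 2], [3, 2, 1, 0, 2, 1, 2, 3, 2], [3, 2, 1, 0, 2, 1, 3, 2, 1], [3, 2, 1, 0, 2, 1, 2, 3, 2, 1], [3, 2, 1, 0, 2, 1, 3, 2, 1, 0], [3, 2, 1, 0, 2, 1, 2, 3, 2, 1, 0], [3, 2, 1, 0, 2, 1,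 2, 3, 2, 1, 2], [3, 2, 1, 0, 2, 1, 2, 3, 2, 1, 0, 2], [3, 2, 1, 0, 2, 1, 2, 3, 2, 1, 0, 2, 1], [3, 2, 1, 0, 2, 1, 2, 3, 2, 1, 0, 2, 1, 2], [3, 2, 1, 0, 2, 1, 2, 3, 2, 1, 0, 2, 1, 2, 3]]
  tab := [[0, 0, 0, 1], [1, 1, 2, 0], [2, 3, 1, 2], [4, 2, 5, 3], [3, 4, 6, 4], [6, 5, 3, 7], [5, 8, 4, 9], [9, 7, 7, 5], [8, 6, 10, 11], [7, 11, 9, 6], [10, 10, 8, 12], [11, 9, 13, 8], [12, 12, 14, 10], [13, 15, 11, 14], [14, 16, 12, 13], [17, 13, 15, 16], [18, 14, 19, 15], [15, 17, 17, 18], [16, 18, 20, 17], [20, 19, 16, 19], [19, 21, 18, 20], [21, 20, 22, 21], [22, 22, 21, 23], [23, 23, 23, 22]]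
  rank := [[0, 0, 0, 0], [1, 1, 0, 0], [2, 0, 0, 1], [0, 0, 0, 2], [0, 3, 0, 3], [1, 2, 0, 0], [1, 0, 0, 0], [2, 3, 3, 0], [3, 0, 0, 0], [2, 1, 4, 0], [4, 4, 0, 0], [4, 1, 0, 0], [5, 5, 0, 0], [5, 0, 0, 1], [6, 0, 0, 1], [0, 0, 5, 2], [0, 0, 0, 2], [0, 6, 6, 3], [0, 7, 0, 3], [1, 6, 0, 6], [1, 0, 0, 7], [7, 0, 0, 8], [8, 8, 0, 0], [9, 9, 9, 0]]
  just := [[0, 0, 0, 0], [4, 4, 0, 0], [3, 0, 0, 3], [0, 0, 0, 2], [0, 1, 0, 1], [3, 3, 0, 0], [3, 0, 0, 0], [4, 4, 4, 0], [2, 0, 0, 0], [4, 4, 1, 0], [3, 3, 0, 0], [4, 4, 0, 0], [4, 4, 0, 0], [3, 0, 0, 3], [3, 0, 0, 3], [0, 0, 2, 2], [0, 0, 0, 2], [0, 1, 1, 1], [0, 1, 0, 1], [3, 3, 0, 3], [3, 0, 0, 1], [2, 0, 0, 2], [3, 3, 0, 0], [4, 4, 4, 0]]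
def coxCertsF4 : List LevelCert := [certF4_1, certF4_2, certF4_3, certF4_4]

set_option backward.isDefEq.respectTransparency false in
theorem hMF4 : ∀ i i' : Fin 4, (CoxeterMatrix.F₄) i i' = tget mTF4 i i' := by decide

theorem hCF4 : cartanOk 4 mTF4 cTF4 = true := by decide

theorem validF4 : ∀ j < 4, levelCheck 4 mTF4 cTF4 (j + 1) (certAt coxCertsF4 j) = true := by
  decide +kernel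

theorem cardF4 : Nat.card (CoxeterMatrix.F₄).Group = cardProd coxCertsF4 4 :=
  coxeter_card (CoxeterMatrix.F₄) mTF4 cTF4 hMF4 hCF4 coxCertsF4 validF4

theorem orderF4 : orderOf ((List.finRange 4).map (CoxeterMatrix.F₄).simple).prod = 12 :=
  coxeter_orderOf (CoxeterMatrix.F₄) mTF4 cTF4 hMF4 hCF4 coxCertsF4 validF4 12 (by decide)
    (by decide +kernel) (by decide +kernel)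

def mTE6 : List (List ℕ) := [[1, 2, 3, 2, 2, 2], [2, 1, 2, 3, 2, 2], [3, 2, 1, 3, 2, 2], [2, 3, 3, 1, 3, 2], [2, 2, 2, 3, 1, 3], [2, 2, 2, 2, 3, 1]]
def cTE6 : List (List ℤ) := [[2, 0, -1, 0, 0, 0], [0, 2, 0, -1, 0, 0], [-1, 0, 2, -1, 0, 0], [0, -1, -1, 2, -1, 0], [0, 0, 0, -1, 2, -1], [0, 0, 0, 0, -1, 2]]
def certE6_1 : LevelCert where
  words := [[], [0]]
  tab := [[1], [0]]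
  rank := [[0], [0]]
  just := [[0], [0]]
def certE6_2 : LevelCert where
  words := [[], [1]]
  tab := [[0, 1], [1, 0]]
  rank := [[0, 0], [1, 0]]
  just := [[0, 0], [2, 0]]
def certE6_3 : LevelCert where
  words := [[], [2], [2, 0]]
  tab := [[0, 0, 1], [2, 1, 0], [1, 2, 2]]
  rank := [[0, 0, 0], [0, 1, 0], [0, 2, 1]]
  just := [[0, 0, 0], [0, 3, 0], [0, 1, 1]]
def certE6_4 : LevelCert where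
  words := [[], [3], [3, 1], [3, 2], [3, 1, 2], [3, 2, 0], [3, 1, 2, 0], [3, 1, 2, 3], [3, 1, 2, 0, 3], [3, 1, 2, 0, 3, 2]]
  tab := [[0, 0, 0, 1], [1, 2, 3, 0], [2, 1, 4, 2], [5, 4, 1, 3], [6, 3, 2, 7], [3, 6, 5, 5], [4, 5, 6, 8], [8, 7, 7, 4], [7, 8, 9, 6], [9, 9, 8, 9]]
  rank := [[0, 0, 0, 0], [1, 0, 0, 0], [2, 0, 0, 1], [0, 1, 0, 1], [0, 1, 0, 0], [0, 2, 2, 2], [0, 2, 3, 0], [1, 2, 2, 0], [1, 3, 0, 0], [3, 4, 0, 4]]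
  just := [[0, 0, 0, 0], [4, 0, 0, 0], [2, 0, 0, 2], [0, 3, 0, 3], [0, 3, 0, 0], [0, 1, 1, 1], [0, 1, 1, 0], [4, 4, 4, 0], [4, 1, 0, 0], [3, 3, 0, 3]]
def certE6_5 : LevelCert where
  words := [[], [4], [4, 3], [4, 3, 1], [4, 3, 2], [4, 3, 1, 2], [4, 3, 2, 0], [4, 3, 1, 2, 0], [4, 3, 1, 2, 3], [4, 3, 1, 2, 0, 3], [4, 3, 1, 2, 3, 4], [4, 3, 1, 2, 0, 3, 2], [4, 3, 1, 2, 0, 3, 4], [4, 3, 1, 2, 0, 3, 2, 4], [4, 3, 1, 2, 0, 3, 2, 4, 3], [4, 3, 1, 2, 0, 3, 2, 4, 3, 1]]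
  tab := [[0, 0, 0, 0, 1], [1, 1, 1, 2, 0], [2, 3, 4, 1, 2], [3, 2, 5, 3, 3], [6, 5, 2, 4, 4], [7, 4, 3, 8, 5], [4, 7, 6, 6, 6], [5, 6, 7, 9, 7], [9, 8, 8, 5, 10], [8, 9, 11, 7, 12], [12, 10, 10, 10, 8], [11, 11, 9, 11, 13], [10, 12, 13, 12, 9], [13, 13, 12, 14, 11], [14, 15, 14, 13, 14], [15, 14, 15, 15, 15]]
  rank := [[0, 0, 0, 0, 0], [1, 1, 1, 0, 0], [2, 0, 0, 0, 1], [3, 0, 0, 2, 2], [0, 1, 0, 2, 2], [0, 1, 0, 0, 3], [0, 2, 3, 3, 3], [0, 2, 4, 0, 4], [1, 3, 3, 0, 0], [1, 4, 0, 0, 0], [2, 4, 4, 4, 0], [4, 5, 0, 5, 0], [2, 5, 1, 5, 0], [5, 6, 1, 0, 0], [6, 0, 6, 0, 6], [7, 0, 7, 7, 7]]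
  just := [[0, 0, 0, 0, 0], [5, 5, 5, 0, 0], [4, 0, 0, 0, 4], [2, 0, 0, 2, 2], [0, 3, 0, 3, 3], [0, 3, 0, 0, 2], [0, 1, 1, 1, 1], [0, 1, 1, 0, 1], [4, 4, 4, 0, 0], [4, 1, 0, 0, 0], [5, 5, 5, 5, 0], [3, 3, 0, 3, 0], [5, 1, 5, 1, 0], [5, 5, 5, 0, 0], [4, 0, 4, 0, 4], [2, 0, 2, 2, 2]]
def certE6_6 : LevelCert where
  words := [[], [5], [5, 4], [5, 4, 3], [5, 4, 3, 1], [5, 4, 3, 2], [5, 4, 3, 1, 2], [5, 4, 3, 2, 0], [5, 4, 3, 1, 2, 0], [5, 4, 3, 1, 2, 3], [5, 4, 3, 1, 2, 0, 3], [5, 4, 3, 1, 2, 3, 4], [5, 4, 3, 1, 2, 0, 3, 2], [5, 4, 3, 1, 2, 0, 3, 4], [5, 4, 3, 1, 2, 3, 4, 5], [5, 4, 3, 1, 2, 0, 3, 2, 4], [5, 4, 3, 1, 2, 0, 3, 4, 5], [5, 4, 3, 1, 2, 0, 3, 2, 4, 3], [5, 4, 3, 1, 2, 0, 3, 2, 4, 5], [5, 4, 3, 1, 2, 0, 3, 2, 4, 3, 1], [5,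 4, 3, 1, 2, 0, 3, 2, 4, 3, 5], [5, 4, 3, 1, 2, 0, 3, 2, 4, 3, 1, 5], [5, 4, 3, 1, 2, 0, 3, 2, 4, 3, 5, 4], [5, 4, 3, 1, 2, 0, 3, 2, 4, 3, 1, 5, 4], [5, 4, 3, 1, 2, 0, 3, 2, 4, 3, 1, 5, 4, 3], [5, 4, 3, 1, 2, 0, 3, 2, 4, 3, 1, 5, 4, 3, 2], [5, 4, 3, 1, 2, 0, 3, 2, 4, 3, 1, 5, 4, 3, 2, 0]]
  tab := [[0, 0, 0, 0, 0, 1], [1, 1, 1, 1, 2, 0], [2, 2, 2, 3, 1, 2], [3, 4, 5, 2, 3, 3], [4, 3, 6, 4, 4, 4], [7, 6, 3, 5, 5, 5], [8, 5, 4, 9, 6, 6], [5, 8, 7, 7, 7, 7], [6, 7, 8, 10, 8, 8], [10, 9, 9, 6, 11, 9], [9, 10, 12, 8, 13, 10], [13, 11, 11, 11, 9, 14], [12, 12, 10, 12, 15, 12], [11, 13, 15, 13, 10, 16], [16, 14, 14, 14, 14, 11], [15, 15, 13, 17, 12, 18], [14, 16, 18, 16, 16, 13], [17, 19, 17, 15, 17, 20], [18, 18, 16, 20, 18, 15], [19, 17,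 19, 19, 19, 21], [20, 21, 20, 18, 22, 17], [21, 20, 21, 21, 23, 19], [22, 23, 22, 22, 20, 22], [23, 22, 23, 24, 21, 23], [24, 24, 25, 23, 24, 24], [26, 25, 24, 25, 25, 25], [25, 26, 26, 26, 26, 26]]
  rank := [[0, 0, 0, 0, 0, 0], [1, 1, 1, 1, 0, 0], [2, 2, 2, 0, 0, 1], [3, 0, 0, 0, 2, 2], [4, 0, 0, 3, 3, 3], [0, 1, 0, 3, 3, 3], [0, 1, 0, 0, 4, 4], [0, 2, 4, 4, 4, 4], [0, 2, 5, 0, 5, 5], [1, 4, 4, 0, 0, 5], [1, 5, 0, 0, 0, 6], [2, 5, 5, 5, 0, 0], [5, 6, 0, 6, 0, 7], [2, 6, 1, 6, 0, 0], [3, 6, 6, 6, 6, 0], [6, 7, 1, 0, 0, 0], [3, 7, 2, 7, 7, 0], [7, 0, 7, 0, 7, 0], [7, 8, 2, 1, 8, 0], [8, 0, 8, 8, 8, 0], [8, 1, 8, 1, 0, 0], [9, 1, 9, 9, 0, 0], [9, 2, 9, 9, 0, 8], [10, 2, 10, 0, 0, 9], [11, 10, 0, 0, 10, 10], [0, 11, 0, 11, 11, 11], [0,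 12, 12, 12, 12, 12]]
  just := [[0, 0, 0, 0, 0, 0], [6, 6, 6, 6, 0, 0], [5, 5, 5, 0, 0, 5], [4, 0, 0, 0, 4, 4], [2, 0, 0, 2, 2, 2], [0, 3, 0, 3, 3, 3], [0, 3, 0, 0, 2, 2], [0, 1, 1, 1, 1, 1], [0, 1, 1, 0, 1, 1], [4, 4, 4, 0, 0, 4], [4, 1, 0, 0, 0, 1], [5, 5, 5, 5, 0, 0], [3, 3, 0, 3, 0, 3], [5, 1, 5, 1, 0, 0], [6, 6, 6, 6, 6, 0], [5, 5, 5, 0, 0, 0], [6, 1, 6, 1, 1, 0], [4, 0, 4, 0, 4, 0], [6, 6, 6, 6, 3, 0], [2, 0, 2, 2, 2, 0], [6, 6, 6, 6, 0, 0], [6, 6, 2, 2, 0, 0], [5, 5, 5, 5, 0, 5], [5, 5, 2, 0, 0, 2], [4, 4, 0, 0, 4, 4], [0, 3, 0, 3, 3, 3], [0, 1, 1, 1, 1, 1]]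
def coxCertsE6 : List LevelCert := [certE6_1, certE6_2, certE6_3, certE6_4, certE6_5, certE6_6]

set_option backward.isDefEq.respectTransparency false in
theorem hME6 : ∀ i i' : Fin 6, (CoxeterMatrix.E₆) i i' = tget mTE6 i i' := by decide

theorem hCE6 : cartanOk 6 mTE6 cTE6 = true := by decide

theorem validE6_0 : levelCheck 6 mTE6 cTE6 1 (certAt coxCertsE6 0) = true := by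
  decide +kernel

theorem validE6_1 : levelCheck 6 mTE6 cTE6 2 (certAt coxCertsE6 1) = true := by
  decide +kernel

theorem validE6_2 : levelCheck 6 mTE6 cTE6 3 (certAt coxCertsE6 2) = true := by
  decide +kernel

theorem validE6_3 : levelCheck 6 mTE6 cTE6 4 (certAt coxCertsE6 3) = true := by
  decide +kernel

theorem validE6_4 : levelCheck 6 mTE6 cTE6 5 (certAt coxCertsE6 4) = true := by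
  decide +kernel

theorem validE6_5 : levelCheck 6 mTE6 cTE6 6 (certAt coxCertsE6 5) = true := by
  decide +kernel

theorem validE6 : ∀ j < 6, levelCheck 6 mTE6 cTE6 (j + 1) (certAt coxCertsE6 j) = true := by
  intro j hj
  interval_cases j
  · exact validE6_0
  · exact validE6_1
  · exact validE6_2
  · exact validE6_3
  · exact validE6_4
  · exact validE6_5

theorem cardE6 : Nat.card (CoxeterMatrix.E₆).Group = cardProd coxCertsE6 6 :=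
  coxeter_card (CoxeterMatrix.E₆) mTE6 cTE6 hME6 hCE6 coxCertsE6 validE6

theorem orderE6 : orderOf ((List.finRange 6).map (CoxeterMatrix.E₆).simple).prod = 12 :=
  coxeter_orderOf (CoxeterMatrix.E₆) mTE6 cTE6 hME6 hCE6 coxCertsE6 validE6 12 (by decide)
    (by decide +kernel) (by decide +kernel)

def mTE7 : List (List ℕ) := [[1, 2, 3, 2, 2, 2, 2], [2, 1, 2, 3, 2, 2, 2], [3, 2, 1, 3, 2, 2, 2], [2, 3, 3, 1, 3, 2, 2], [2, 2, 2, 3, 1, 3, 2], [2, 2, 2, 2, 3, 1, 3], [2, 2, 2, 2, 2, 3, 1]]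
def cTE7 : List (List ℤ) := [[2, 0, -1, 0, 0, 0, 0], [0, 2, 0, -1, 0, 0, 0], [-1, 0, 2, -1, 0, 0, 0], [0, -1, -1, 2, -1, 0, 0], [0, 0, 0, -1, 2, -1, 0], [0, 0, 0, 0, -1, 2, -1], [0, 0, 0, 0, 0, -1, 2]]
def certE7_1 : LevelCert where
  words := [[], [0]]
  tab := [[1], [0]]
  rank := [[0], [0]]
  just := [[0], [0]]
def certE7_2 : LevelCert where
  words := [[], [1]]
  tab := [[0, 1], [1, 0]]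
  rank := [[0, 0], [1, 0]]
  just := [[0, 0], [2, 0]]
def certE7_3 : LevelCert where
  words := [[], [2], [2, 0]]
  tab := [[0, 0, 1], [2, 1, 0], [1, 2, 2]]
  rank := [[0, 0, 0], [0, 1, 0], [0, 2, 1]]
  just := [[0, 0, 0], [0, 3, 0], [0, 1, 1]]
def certE7_4 : LevelCert where
  words := [[], [3], [3, 1], [3, 2], [3, 1, 2], [3, 2, 0], [3, 1, 2, 0], [3, 1, 2, 3], [3, 1, 2, 0, 3], [3, 1, 2, 0, 3, 2]]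
  tab := [[0, 0, 0, 1], [1, 2, 3, 0], [2, 1, 4, 2], [5, 4, 1, 3], [6, 3, 2, 7], [3, 6, 5, 5], [4, 5, 6, 8], [8, 7, 7, 4], [7, 8, 9, 6], [9, 9, 8, 9]]
  rank := [[0, 0, 0, 0], [1, 0, 0, 0], [2, 0, 0, 1], [0, 1, 0, 1], [0, 1, 0, 0], [0, 2, 2, 2], [0, 2, 3, 0], [1, 2, 2, 0], [1, 3, 0, 0], [3, 4, 0, 4]]
  just := [[0, 0, 0, 0], [4, 0, 0, 0], [2, 0, 0, 2], [0, 3, 0, 3], [0, 3, 0, 0], [0, 1, 1, 1], [0, 1, 1, 0], [4, 4, 4, 0], [4, 1, 0, 0], [3, 3, 0, 3]]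
def certE7_5 : LevelCert where
  words := [[], [4], [4, 3], [4, 3, 1], [4, 3, 2], [4, 3, 1, 2], [4, 3, 2, 0], [4, 3, 1, 2, 0], [4, 3, 1, 2, 3], [4, 3, 1, 2, 0, 3], [4, 3, 1, 2, 3, 4], [4, 3, 1, 2, 0, 3, 2], [4, 3, 1, 2, 0, 3, 4], [4, 3, 1, 2, 0, 3, 2, 4], [4, 3, 1, 2, 0, 3, 2, 4, 3], [4, 3, 1, 2, 0, 3, 2, 4, 3, 1]]
  tab := [[0, 0, 0, 0, 1], [1, 1, 1, 2, 0], [2, 3, 4, 1, 2], [3, 2, 5, 3, 3], [6, 5, 2, 4, 4], [7, 4, 3, 8, 5], [4, 7, 6, 6, 6], [5, 6, 7, 9, 7], [9, 8, 8, 5, 10], [8, 9, 11, 7, 12], [12, 10, 10, 10, 8], [11, 11, 9, 11, 13], [10, 12, 13, 12, 9], [13, 13, 12, 14, 11], [14, 15, 14, 13, 14], [15, 14, 15, 15, 15]]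
  rank := [[0, 0, 0, 0, 0], [1, 1, 1, 0, 0], [2, 0, 0, 0, 1], [3, 0, 0, 2, 2], [0, 1, 0, 2, 2], [0, 1, 0, 0, 3], [0, 2, 3, 3, 3], [0, 2, 4, 0, 4], [1, 3, 3, 0, 0], [1, 4, 0, 0, 0], [2, 4, 4, 4, 0], [4, 5, 0, 5, 0], [2, 5, 1, 5, 0], [5, 6, 1, 0, 0], [6, 0, 6, 0, 6], [7, 0, 7, 7, 7]]
  just := [[0, 0, 0, 0, 0], [5, 5, 5, 0, 0], [4, 0, 0, 0, 4], [2, 0, 0, 2, 2], [0, 3, 0, 3, 3], [0, 3, 0, 0, 2], [0, 1, 1, 1, 1], [0, 1, 1, 0, 1], [4, 4, 4, 0, 0], [4, 1, 0, 0, 0], [5, 5, 5, 5, 0], [3, 3, 0, 3, 0], [5, 1, 5, 1, 0], [5, 5, 5, 0, 0], [4, 0, 4, 0, 4], [2, 0, 2, 2, 2]]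
def certE7_6 : LevelCert where
  words := [[], [5], [5, 4], [5, 4, 3], [5, 4, 3, 1], [5, 4, 3, 2], [5, 4, 3, 1, 2], [5, 4, 3, 2, 0], [5, 4, 3, 1, 2, 0], [5, 4, 3, 1, 2, 3], [5, 4, 3, 1, 2, 0, 3], [5, 4, 3, 1, 2, 3, 4], [5, 4, 3, 1, 2, 0, 3, 2], [5, 4, 3, 1, 2, 0, 3, 4], [5, 4, 3, 1, 2, 3, 4, 5], [5, 4, 3, 1, 2, 0, 3, 2, 4], [5, 4, 3, 1, 2, 0, 3, 4, 5], [5, 4, 3, 1, 2, 0, 3, 2, 4, 3], [5, 4, 3, 1, 2, 0, 3, 2, 4, 5], [5, 4, 3, 1, 2, 0, 3, 2, 4, 3, 1], [5, 4, 3, 1, 2, 0, 3, 2, 4, 3, 5], [5, 4, 3, 1, 2, 0, 3, 2, 4, 3, 1, 5], [5, 4, 3, 1, 2, 0, 3, 2, 4, 3, 5, 4], [5, 4, 3, 1, 2, 0, 3, 2, 4, 3, 1, 5, 4], [5, 4, 3, 1, 2, 0, 3, 2, 4, 3, 1, 5, 4, 3], [5, 4, 3, 1, 2, 0, 3, 2, 4, 3, 1, 5, 4, 3, 2], [5, 4, 3, 1, 2, 0, 3, 2, 4, 3, 1, 5, 4, 3, 2,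 0]]
  tab := [[0, 0, 0, 0, 0, 1], [1, 1, 1, 1, 2, 0], [2, 2, 2, 3, 1, 2], [3, 4, 5, 2, 3, 3], [4, 3, 6, 4, 4, 4], [7, 6, 3, 5, 5, 5], [8, 5, 4, 9, 6, 6], [5, 8, 7, 7, 7, 7], [6, 7, 8, 10, 8, 8], [10, 9, 9, 6, 11, 9], [9, 10, 12, 8, 13, 10], [13, 11, 11, 11, 9, 14], [12, 12, 10, 12, 15, 12], [11, 13, 15, 13, 10, 16], [16, 14, 14, 14, 14, 11], [15, 15, 13, 17, 12, 18], [14, 16, 18, 16, 16, 13], [17, 19, 17, 15, 17, 20], [18, 18, 16, 20, 18, 15], [19, 17, 19, 19, 19, 21], [20, 21, 20, 18, 22, 17], [21, 20, 21, 21, 23, 19], [22, 23, 22, 22, 20, 22], [23, 22, 23, 24, 21, 23], [24, 24, 25, 23, 24, 24], [26, 25, 24, 25, 25, 25], [25, 26, 26, 26, 26, 26]]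
  rank := [[0, 0, 0, 0, 0, 0], [1, 1, 1, 1, 0, 0], [2, 2, 2, 0, 0, 1], [3, 0, 0, 0, 2, 2], [4, 0, 0, 3, 3, 3], [0, 1, 0, 3, 3, 3], [0, 1, 0, 0, 4, 4], [0, 2, 4, 4, 4, 4], [0, 2, 5, 0, 5, 5], [1, 4, 4, 0, 0, 5], [1, 5, 0, 0, 0, 6], [2, 5, 5, 5, 0, 0], [5, 6, 0, 6, 0, 7], [2, 6, 1, 6, 0, 0], [3, 6, 6, 6, 6, 0], [6, 7, 1, 0, 0, 0], [3, 7, 2, 7, 7, 0], [7, 0, 7, 0, 7, 0], [7, 8, 2, 1, 8, 0], [8, 0, 8, 8, 8, 0], [8, 1, 8, 1, 0, 0], [9, 1, 9, 9, 0, 0], [9, 2, 9, 9, 0, 8], [10, 2, 10, 0, 0, 9], [11, 10, 0, 0, 10, 10], [0, 11, 0, 11, 11, 11], [0, 12, 12, 12, 12, 12]]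
  just := [[0, 0, 0, 0, 0, 0], [6, 6, 6, 6, 0, 0], [5, 5, 5, 0, 0, 5], [4, 0, 0, 0, 4, 4], [2, 0, 0, 2, 2, 2], [0, 3, 0, 3, 3, 3], [0, 3, 0, 0, 2, 2], [0, 1, 1, 1, 1, 1], [0, 1, 1, 0, 1, 1], [4, 4, 4, 0, 0, 4], [4, 1, 0, 0, 0, 1], [5, 5, 5, 5, 0, 0], [3, 3, 0, 3, 0, 3], [5, 1, 5, 1, 0, 0], [6, 6, 6, 6, 6, 0], [5, 5, 5, 0, 0, 0], [6, 1, 6, 1, 1, 0], [4, 0, 4, 0, 4, 0], [6, 6, 6, 6, 3, 0], [2, 0, 2, 2, 2, 0], [6, 6, 6, 6, 0, 0], [6, 6, 2, 2, 0, 0], [5, 5, 5, 5, 0, 5], [5, 5, 2, 0, 0, 2], [4, 4, 0, 0, 4, 4], [0, 3, 0, 3, 3, 3], [0, 1, 1, 1, 1, 1]]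
def certE7_7 : LevelCert where
  words := [[], [6], [6, 5], [6, 5, 4], [6, 5, 4, 3], [6, 5, 4, 3, 1], [6, 5, 4, 3, 2], [6, 5, 4, 3, 1, 2], [6, 5, 4, 3, 2, 0], [6, 5, 4, 3, 1, 2, 0], [6, 5, 4, 3, 1, 2, 3], [6, 5, 4, 3, 1, 2, 0, 3], [6, 5, 4, 3, 1, 2, 3, 4], [6, 5, 4, 3, 1, 2, 0, 3, 2], [6, 5, 4, 3, 1, 2, 0, 3, 4], [6, 5, 4, 3, 1, 2, 3, 4, 5], [6, 5, 4, 3, 1, 2, 0, 3, 2, 4], [6, 5, 4, 3, 1, 2, 0, 3, 4, 5], [6, 5, 4, 3, 1, 2, 3, 4, 5, 6], [6, 5, 4, 3, 1, 2, 0, 3, 2, 4, 3], [6, 5, 4, 3, 1, 2, 0, 3, 2, 4, 5], [6, 5, 4, 3, 1, 2, 0, 3, 4, 5, 6], [6, 5, 4, 3, 1, 2, 0, 3, 2, 4, 3, 1], [6, 5, 4, 3, 1, 2, 0, 3, 2, 4, 3, 5], [6, 5, 4, 3, 1, 2, 0, 3, 2, 4, 5, 6], [6, 5, 4, 3, 1, 2, 0, 3, 2, 4, 3, 1, 5], [6, 5, 4, 3, 1, 2, 0, 3, 2, 4, 3, 5, 4],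 [6, 5, 4, 3, 1, 2, 0, 3, 2, 4, 3, 5, 6], [6, 5, 4, 3, 1, 2, 0, 3, 2, 4, 3, 1, 5, 4], [6, 5, 4, 3, 1, 2, 0, 3, 2, 4, 3, 1, 5, 6], [6, 5, 4, 3, 1, 2, 0, 3, 2, 4, 3, 5, 4, 6], [6, 5, 4, 3, 1, 2, 0, 3, 2, 4, 3, 1, 5, 4, 3], [6, 5, 4, 3, 1, 2, 0, 3, 2, 4, 3, 1, 5, 4, 6], [6, 5, 4, 3, 1, 2, 0, 3, 2, 4, 3, 5, 4, 6, 5], [6, 5, 4, 3, 1, 2, 0, 3, 2, 4, 3, 1, 5, 4, 3, 2], [6, 5, 4, 3, 1, 2, 0, 3, 2, 4, 3, 1, 5, 4, 3, 6], [6, 5, 4, 3, 1, 2, 0, 3, 2, 4, 3, 1, 5, 4, 6, 5], [6, 5, 4, 3, 1, 2, 0, 3, 2, 4, 3, 1, 5, 4, 3, 2, 0], [6, 5, 4, 3, 1, 2, 0, 3, 2, 4, 3, 1, 5, 4, 3, 2, 6], [6, 5, 4, 3, 1, 2, 0, 3, 2, 4, 3, 1, 5, 4, 3, 6, 5], [6, 5, 4, 3, 1, 2, 0, 3, 2, 4, 3, 1, 5, 4, 3, 2, 0, 6], [6, 5, 4, 3, 1, 2, 0, 3, 2, 4, 3, 1, 5, 4, 3, 2, 6, 5], [6, 5,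 4, 3, 1, 2, 0, 3, 2, 4, 3, 1, 5, 4, 3, 6, 5, 4], [6, 5, 4, 3, 1, 2, 0, 3, 2, 4, 3, 1, 5, 4, 3, 2, 0, 6, 5], [6, 5, 4, 3, 1, 2, 0, 3, 2, 4, 3, 1, 5, 4, 3, 2, 6, 5, 4], [6, 5, 4, 3, 1, 2, 0, 3, 2, 4, 3, 1, 5, 4, 3, 2, 0, 6, 5, 4], [6, 5, 4, 3, 1, 2, 0, 3, 2, 4, 3, 1, 5, 4, 3, 2, 6, 5, 4, 3], [6, 5, 4, 3, 1, 2, 0, 3, 2, 4, 3, 1, 5, 4, 3, 2, 0, 6, 5, 4, 3], [6, 5, 4, 3, 1, 2, 0, 3, 2, 4, 3, 1, 5, 4, 3, 2, 6, 5, 4, 3, 1], [6, 5, 4, 3, 1, 2, 0, 3, 2, 4, 3, 1, 5, 4, 3, 2, 0, 6, 5, 4, 3, 1], [6, 5, 4, 3, 1, 2, 0, 3, 2, 4, 3, 1, 5, 4, 3, 2, 0, 6, 5, 4, 3, 2], [6, 5, 4, 3, 1, 2, 0, 3, 2, 4, 3, 1, 5, 4, 3, 2, 0, 6, 5, 4, 3, 1, 2], [6, 5, 4, 3, 1, 2, 0, 3, 2, 4, 3, 1, 5, 4, 3, 2, 0, 6, 5, 4, 3, 1, 2, 3], [6, 5, 4, 3, 1, 2, 0, 3, 2, 4, 3, 1, 5,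 4, 3, 2, 0, 6, 5, 4, 3, 1, 2, 3, 4], [6, 5, 4, 3, 1, 2, 0, 3, 2, 4, 3, 1, 5, 4, 3, 2, 0, 6, 5, 4, 3, 1, 2, 3, 4, 5], [6, 5, 4, 3, 1, 2, 0, 3, 2, 4, 3, 1, 5, 4, 3, 2, 0, 6, 5, 4, 3, 1, 2, 3, 4, 5, 6]]
  tab := [[0, 0, 0, 0, 0, 0, 1], [1, 1, 1, 1, 1, 2, 0], [2, 2, 2, 2, 3, 1, 2], [3, 3, 3, 4, 2, 3, 3], [4, 5, 6, 3, 4, 4, 4], [5, 4, 7, 5, 5, 5, 5], [8, 7, 4, 6, 6, 6, 6], [9, 6, 5, 10, 7, 7, 7], [6, 9, 8, 8, 8, 8, 8], [7, 8, 9, 11, 9, 9, 9], [11, 10, 10, 7, 12, 10, 10], [10, 11, 13, 9, 14, 11, 11], [14, 12, 12, 12, 10, 15, 12], [13, 13, 11, 13, 16, 13, 13], [12, 14, 16, 14, 11, 17, 14], [17, 15, 15, 15, 15, 12, 18], [16, 16, 14, 19, 13, 20, 16], [15, 17, 20, 17, 17, 14, 21], [21, 18, 18, 18, 18, 18, 15], [19, 22, 19, 16, 19, 23, 19], [20,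 20, 17, 23, 20, 16, 24], [18, 21, 24, 21, 21, 21, 17], [22, 19, 22, 22, 22, 25, 22], [23, 25, 23, 20, 26, 19, 27], [24, 24, 21, 27, 24, 24, 20], [25, 23, 25, 25, 28, 22, 29], [26, 28, 26, 26, 23, 26, 30], [27, 29, 27, 24, 30, 27, 23], [28, 26, 28, 31, 25, 28, 32], [29, 27, 29, 29, 32, 29, 25], [30, 32, 30, 30, 27, 33, 26], [31, 31, 34, 28, 31, 31, 35], [32, 30, 32, 35, 29, 36, 28], [33, 36, 33, 33, 33, 30, 33], [37, 34, 31, 34, 34, 34, 38], [35, 35, 38, 32, 35, 39, 31], [36, 33, 36, 39, 36, 32, 36], [34, 37, 37, 37, 37, 37, 40], [40, 38, 35, 38, 38, 41, 34], [39, 39, 41, 36, 42, 35, 39], [38, 40, 40, 40, 40, 43, 37], [43, 41, 39, 41, 44, 38, 41], [42, 42, 44, 42, 39, 42, 42], [41, 43, 43, 43, 45, 40, 43], [45, 44, 42, 46, 41, 44, 44],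 [44, 45, 45, 47, 43, 45, 45], [47, 48, 46, 44, 46, 46, 46], [46, 49, 50, 45, 47, 47, 47], [49, 46, 48, 48, 48, 48, 48], [48, 47, 51, 49, 49, 49, 49], [50, 51, 47, 50, 50, 50, 50], [51, 50, 49, 52, 51, 51, 51], [52, 52, 52, 51, 53, 52, 52], [53, 53, 53, 53, 52, 54, 53], [54, 54, 54, 54, 54, 53, 55], [55, 55, 55, 55, 55, 55, 54]]
  rank := [[0, 0, 0, 0, 0, 0, 0], [1, 1, 1, 1, 1, 0, 0], [2, 2, 2, 2, 0, 0, 1], [3, 3, 3, 0, 0, 2, 2], [4, 0, 0, 0, 3, 3, 3], [5, 0, 0, 4, 4, 4, 4], [0, 1, 0, 4, 4, 4, 4], [0, 1, 0, 0, 5, 5, 5], [0, 2, 5, 5, 5, 5, 5], [0, 2, 6, 0, 6, 6, 6], [1, 5, 5, 0, 0, 6, 6], [1, 6, 0, 0, 0, 7, 7], [2, 6, 6, 6, 0, 0, 7], [6, 7, 0, 7, 0, 8, 8], [2, 7, 1, 7, 0, 0, 8], [3, 7, 7, 7, 7, 0, 0], [7, 8, 1, 0, 0, 0, 9], [3, 8, 2,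 8, 8, 0, 0], [4, 8, 8, 8, 8, 8, 0], [8, 0, 8, 0, 8, 0, 10], [8, 9, 2, 1, 9, 0, 0], [4, 9, 3, 9, 9, 9, 0], [9, 0, 9, 9, 9, 0, 11], [9, 1, 9, 1, 0, 0, 0], [9, 10, 3, 2, 10, 10, 0], [10, 1, 10, 10, 0, 0, 0], [10, 2, 10, 10, 0, 9, 0], [10, 2, 10, 2, 1, 11, 0], [11, 2, 11, 0, 0, 10, 0], [11, 2, 11, 11, 1, 12, 0], [11, 3, 11, 11, 1, 0, 0], [12, 11, 0, 0, 11, 11, 0], [12, 3, 12, 1, 1, 0, 0], [12, 4, 12, 12, 12, 0, 10], [0, 12, 0, 12, 12, 12, 0], [13, 12, 1, 1, 12, 0, 0], [13, 4, 13, 2, 13, 0, 11], [0, 13, 13, 13, 13, 13, 0], [1, 13, 1, 13, 13, 0, 0], [14, 13, 2, 2, 0, 0, 12], [1, 14, 14, 14, 14, 0, 0], [2, 14, 2, 14, 0, 0, 13], [15, 14, 3, 14, 0, 13, 13], [2, 15, 15, 15, 0, 0, 14], [3, 15, 3, 0, 0, 14, 14], [3, 16, 16, 0, 0, 15, 15], [4,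 0, 15, 0, 15, 15, 15], [4, 0, 0, 0, 16, 16, 16], [5, 0, 16, 16, 16, 16, 16], [5, 0, 0, 17, 17, 17, 17], [16, 1, 0, 17, 17, 17, 17], [17, 1, 0, 0, 18, 18, 18], [18, 18, 18, 0, 0, 19, 19], [19, 19, 19, 19, 0, 0, 20], [20, 20, 20, 20, 20, 0, 0], [21, 21, 21, 21, 21, 21, 0]]
  just := [[0, 0, 0, 0, 0, 0, 0], [7, 7, 7, 7, 7, 0, 0], [6, 6, 6, 6, 0, 0, 6], [5, 5, 5, 0, 0, 5, 5], [4, 0, 0, 0, 4, 4, 4], [2, 0, 0, 2, 2, 2, 2], [0, 3, 0, 3, 3, 3, 3], [0, 3, 0, 0, 2, 2, 2], [0, 1, 1, 1, 1, 1, 1], [0, 1, 1, 0, 1, 1, 1], [4, 4, 4, 0, 0, 4, 4], [4, 1, 0, 0, 0, 1, 1], [5, 5, 5, 5, 0, 0, 5], [3, 3, 0, 3, 0, 3, 3], [5, 1, 5, 1, 0, 0, 1], [6, 6, 6, 6, 6, 0, 0], [5, 5, 5, 0, 0, 0, 3], [6, 1, 6, 1, 1, 0, 0], [7, 7, 7, 7, 7, 7, 0], [4, 0, 4, 0, 4, 0, 4],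 [6, 6, 6, 6, 3, 0, 0], [7, 1, 7, 1, 1, 1, 0], [2, 0, 2, 2, 2, 0, 2], [6, 6, 6, 6, 0, 0, 0], [7, 7, 7, 7, 3, 3, 0], [6, 6, 2, 2, 0, 0, 0], [5, 5, 5, 5, 0, 5, 0], [7, 7, 7, 7, 7, 4, 0], [5, 5, 2, 0, 0, 2, 0], [7, 7, 2, 2, 7, 2, 0], [7, 7, 7, 7, 7, 0, 0], [4, 4, 0, 0, 4, 4, 0], [7, 7, 2, 7, 7, 0, 0], [6, 6, 6, 6, 6, 0, 6], [0, 3, 0, 3, 3, 3, 0], [7, 7, 7, 7, 4, 0, 0], [6, 6, 2, 6, 2, 0, 2], [0, 1, 1, 1, 1, 1, 0], [7, 7, 7, 3, 3, 0, 0], [6, 6, 6, 6, 0, 0, 4], [7, 1, 1, 1, 1, 0, 0], [6, 6, 6, 3, 0, 0, 3], [5, 5, 5, 5, 0, 5, 5], [6, 1, 1, 1, 0, 0, 1], [5, 5, 5, 0, 0, 3, 3], [5, 1, 1, 0, 0, 1, 1], [4, 0, 4, 0, 4, 4, 4], [4, 0, 0, 0, 1, 1, 1], [2, 0, 2, 2, 2, 2, 2], [2, 0, 0, 1, 1, 1, 1], [3, 3, 0, 3, 3, 3, 3], [3, 3, 0, 0, 2, 2, 2], [4, 4,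 4, 0, 0, 4, 4], [5, 5, 5, 5, 0, 0, 5], [6, 6, 6, 6, 6, 0, 0], [7, 7, 7, 7, 7, 7, 0]]
def coxCertsE7 : List LevelCert := [certE7_1, certE7_2, certE7_3, certE7_4, certE7_5, certE7_6, certE7_7]

set_option backward.isDefEq.respectTransparency false in
theorem hME7 : ∀ i i' : Fin 7, (CoxeterMatrix.E₇) i i' = tget mTE7 i i' := by decide

theorem hCE7 : cartanOk 7 mTE7 cTE7 = true := by decide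

theorem validE7_0 : levelCheck 7 mTE7 cTE7 1 (certAt coxCertsE7 0) = true := by
  decide +kernel

theorem validE7_1 : levelCheck 7 mTE7 cTE7 2 (certAt coxCertsE7 1) = true := by
  decide +kernel

theorem validE7_2 : levelCheck 7 mTE7 cTE7 3 (certAt coxCertsE7 2) = true := by
  decide +kernel

theorem validE7_3 : levelCheck 7 mTE7 cTE7 4 (certAt coxCertsE7 3) = true := by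
  decide +kernel

theorem validE7_4 : levelCheck 7 mTE7 cTE7 5 (certAt coxCertsE7 4) = true := by
  decide +kernel

theorem validE7_5 : levelCheck 7 mTE7 cTE7 6 (certAt coxCertsE7 5) = true := by
  decide +kernel

theorem validE7_6 : levelCheck 7 mTE7 cTE7 7 (certAt coxCertsE7 6) = true := by
  decide +kernel

theorem validE7 : ∀ j < 7, levelCheck 7 mTE7 cTE7 (j + 1) (certAt coxCertsE7 j) = true := by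
  intro j hj
  interval_cases j
  · exact validE7_0
  · exact validE7_1
  · exact validE7_2
  · exact validE7_3
  · exact validE7_4
  · exact validE7_5
  · exact validE7_6

theorem cardE7 : Nat.card (CoxeterMatrix.E₇).Group = cardProd coxCertsE7 7 :=
  coxeter_card (CoxeterMatrix.E₇) mTE7 cTE7 hME7 hCE7 coxCertsE7 validE7

theorem orderE7 : orderOf ((List.finRange 7).map (CoxeterMatrix.E₇).simple).prod = 18 :=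
  coxeter_orderOf (CoxeterMatrix.E₇) mTE7 cTE7 hME7 hCE7 coxCertsE7 validE7 18 (by decide)
    (by decide +kernel) (by decide +kernel)

def mTE8 : List (List ℕ) := [[1, 2, 3, 2, 2, 2, 2, 2], [2, 1, 2, 3, 2, 2, 2, 2], [3, 2, 1, 3, 2, 2, 2, 2], [2, 3, 3, 1, 3, 2, 2, 2], [2, 2, 2, 3, 1, 3, 2, 2], [2, 2, 2, 2, 3, 1, 3, 2], [2, 2, 2, 2, 2, 3, 1, 3], [2, 2, 2, 2, 2, 2, 3, 1]]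
def cTE8 : List (List ℤ) := [[2, 0, -1, 0, 0, 0, 0, 0], [0, 2, 0, -1, 0, 0, 0, 0], [-1, 0, 2, -1, 0, 0, 0, 0], [0, -1, -1, 2, -1, 0, 0, 0], [0, 0, 0, -1, 2, -1, 0, 0], [0, 0, 0, 0, -1, 2, -1, 0], [0, 0, 0, 0, 0, -1, 2, -1], [0, 0, 0, 0, 0, 0, -1, 2]]
def certE8_1 : LevelCert where
  words := [[], [0]]
  tab := [[1], [0]]
  rank := [[0], [0]]
  just := [[0], [0]]
def certE8_2 : LevelCert where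
  words := [[], [1]]
  tab := [[0, 1], [1, 0]]
  rank := [[0, 0], [1, 0]]
  just := [[0, 0], [2, 0]]
def certE8_3 : LevelCert where
  words := [[], [2], [2, 0]]
  tab := [[0, 0, 1], [2, 1, 0], [1, 2, 2]]
  rank := [[0, 0, 0], [0, 1, 0], [0, 2, 1]]
  just := [[0, 0, 0], [0, 3, 0], [0, 1, 1]]
def certE8_4 : LevelCert where
  words := [[], [3], [3, 1], [3, 2], [3, 1, 2], [3, 2, 0], [3, 1, 2, 0], [3, 1, 2, 3], [3, 1, 2, 0, 3], [3, 1, 2, 0, 3, 2]]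
  tab := [[0, 0, 0, 1], [1, 2, 3, 0], [2, 1, 4, 2], [5, 4, 1, 3], [6, 3, 2, 7], [3, 6, 5, 5], [4, 5, 6, 8], [8, 7, 7, 4], [7, 8, 9, 6], [9, 9, 8, 9]]
  rank := [[0, 0, 0, 0], [1, 0, 0, 0], [2, 0, 0, 1], [0, 1, 0, 1], [0, 1, 0, 0], [0, 2, 2, 2], [0, 2, 3, 0], [1, 2, 2, 0], [1, 3, 0, 0], [3, 4, 0, 4]]
  just := [[0, 0, 0, 0], [4, 0, 0, 0], [2, 0, 0, 2], [0, 3, 0, 3], [0, 3, 0, 0], [0, 1, 1, 1], [0, 1, 1, 0], [4, 4, 4, 0], [4, 1, 0, 0], [3, 3, 0, 3]]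
def certE8_5 : LevelCert where
  words := [[], [4], [4, 3], [4, 3, 1], [4, 3, 2], [4, 3, 1, 2], [4, 3, 2, 0], [4, 3, 1, 2, 0], [4, 3, 1, 2, 3], [4, 3, 1, 2, 0, 3], [4, 3, 1, 2, 3, 4], [4, 3, 1, 2, 0, 3, 2], [4, 3, 1, 2, 0, 3, 4], [4, 3, 1, 2, 0, 3, 2, 4], [4, 3, 1, 2, 0, 3, 2, 4, 3], [4, 3, 1, 2, 0, 3, 2, 4, 3, 1]]
  tab := [[0, 0, 0, 0, 1], [1, 1, 1, 2, 0], [2, 3, 4, 1, 2], [3, 2, 5, 3, 3], [6, 5, 2, 4, 4], [7, 4, 3, 8, 5], [4, 7, 6, 6, 6], [5, 6, 7, 9, 7], [9, 8, 8, 5, 10], [8, 9, 11, 7, 12], [12, 10, 10, 10, 8], [11, 11, 9, 11, 13], [10, 12, 13, 12, 9], [13, 13, 12, 14, 11], [14, 15, 14, 13, 14], [15, 14, 15, 15, 15]]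
  rank := [[0, 0, 0, 0, 0], [1, 1, 1, 0, 0], [2, 0, 0, 0, 1], [3, 0, 0, 2, 2], [0, 1, 0, 2, 2], [0, 1, 0, 0, 3], [0, 2, 3, 3, 3], [0, 2, 4, 0, 4], [1, 3, 3, 0, 0], [1, 4, 0, 0, 0], [2, 4, 4, 4, 0], [4, 5, 0, 5, 0], [2, 5, 1, 5, 0], [5, 6, 1, 0, 0], [6, 0, 6, 0, 6], [7, 0, 7, 7, 7]]
  just := [[0, 0, 0, 0, 0], [5, 5, 5, 0, 0], [4, 0, 0, 0, 4], [2, 0, 0, 2, 2], [0, 3, 0, 3, 3], [0, 3, 0, 0, 2], [0, 1, 1, 1, 1], [0, 1, 1, 0, 1], [4, 4, 4, 0, 0], [4, 1, 0, 0, 0], [5, 5, 5, 5, 0], [3, 3, 0, 3, 0], [5, 1, 5, 1, 0], [5, 5, 5, 0, 0], [4, 0, 4, 0, 4], [2, 0, 2, 2, 2]]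
def certE8_6 : LevelCert where
  words := [[], [5], [5, 4], [5, 4, 3], [5, 4, 3, 1], [5, 4, 3, 2], [5, 4, 3, 1, 2], [5, 4, 3, 2, 0], [5, 4, 3, 1, 2, 0], [5, 4, 3, 1, 2, 3], [5, 4, 3, 1, 2, 0, 3], [5, 4, 3, 1, 2, 3, 4], [5, 4, 3, 1, 2, 0, 3, 2], [5, 4, 3, 1, 2, 0, 3, 4], [5, 4, 3, 1, 2, 3, 4, 5], [5, 4, 3, 1, 2, 0, 3, 2, 4], [5, 4, 3, 1, 2, 0, 3, 4, 5], [5, 4, 3, 1, 2, 0, 3, 2, 4, 3], [5, 4, 3, 1, 2, 0, 3, 2, 4, 5], [5, 4, 3, 1, 2, 0, 3, 2, 4, 3, 1], [5, 4, 3, 1, 2, 0, 3, 2, 4, 3, 5], [5, 4, 3, 1, 2, 0, 3, 2, 4, 3, 1, 5], [5, 4, 3, 1, 2, 0, 3, 2, 4, 3, 5, 4], [5, 4, 3, 1, 2, 0, 3, 2, 4, 3, 1, 5, 4], [5, 4, 3, 1, 2, 0, 3, 2, 4, 3, 1, 5, 4, 3], [5, 4, 3, 1, 2, 0, 3, 2, 4, 3, 1, 5, 4, 3, 2], [5, 4, 3, 1, 2, 0, 3, 2, 4, 3, 1, 5, 4, 3, 2,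 0]]
  tab := [[0, 0, 0, 0, 0, 1], [1, 1, 1, 1, 2, 0], [2, 2, 2, 3, 1, 2], [3, 4, 5, 2, 3, 3], [4, 3, 6, 4, 4, 4], [7, 6, 3, 5, 5, 5], [8, 5, 4, 9, 6, 6], [5, 8, 7, 7, 7, 7], [6, 7, 8, 10, 8, 8], [10, 9, 9, 6, 11, 9], [9, 10, 12, 8, 13, 10], [13, 11, 11, 11, 9, 14], [12, 12, 10, 12, 15, 12], [11, 13, 15, 13, 10, 16], [16, 14, 14, 14, 14, 11], [15, 15, 13, 17, 12, 18], [14, 16, 18, 16, 16, 13], [17, 19, 17, 15, 17, 20], [18, 18, 16, 20, 18, 15], [19, 17, 19, 19, 19, 21], [20, 21, 20, 18, 22, 17], [21, 20, 21, 21, 23, 19], [22, 23, 22, 22, 20, 22], [23, 22, 23, 24, 21, 23], [24, 24, 25, 23, 24, 24], [26, 25, 24, 25, 25, 25], [25, 26, 26, 26, 26, 26]]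
  rank := [[0, 0, 0, 0, 0, 0], [1, 1, 1, 1, 0, 0], [2, 2, 2, 0, 0, 1], [3, 0, 0, 0, 2, 2], [4, 0, 0, 3, 3, 3], [0, 1, 0, 3, 3, 3], [0, 1, 0, 0, 4, 4], [0, 2, 4, 4, 4, 4], [0, 2, 5, 0, 5, 5], [1, 4, 4, 0, 0, 5], [1, 5, 0, 0, 0, 6], [2, 5, 5, 5, 0, 0], [5, 6, 0, 6, 0, 7], [2, 6, 1, 6, 0, 0], [3, 6, 6, 6, 6, 0], [6, 7, 1, 0, 0, 0], [3, 7, 2, 7, 7, 0], [7, 0, 7, 0, 7, 0], [7, 8, 2, 1, 8, 0], [8, 0, 8, 8, 8, 0], [8, 1, 8, 1, 0, 0], [9, 1, 9, 9, 0, 0], [9, 2, 9, 9, 0, 8], [10, 2, 10, 0, 0, 9], [11, 10, 0, 0, 10, 10], [0, 11, 0, 11, 11, 11], [0, 12, 12, 12, 12, 12]]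
  just := [[0, 0, 0, 0, 0, 0], [6, 6, 6, 6, 0, 0], [5, 5, 5, 0, 0, 5], [4, 0, 0, 0, 4, 4], [2, 0, 0, 2, 2, 2], [0, 3, 0, 3, 3, 3], [0, 3, 0, 0, 2, 2], [0, 1, 1, 1, 1, 1], [0, 1, 1, 0, 1, 1], [4, 4, 4, 0, 0, 4], [4, 1, 0, 0, 0, 1], [5, 5, 5, 5, 0, 0], [3, 3, 0, 3, 0, 3], [5, 1, 5, 1, 0, 0], [6, 6, 6, 6, 6, 0], [5, 5, 5, 0, 0, 0], [6, 1, 6, 1, 1, 0], [4, 0, 4, 0, 4, 0], [6, 6, 6, 6, 3, 0], [2, 0, 2, 2, 2, 0], [6, 6, 6, 6, 0, 0], [6, 6, 2, 2, 0, 0], [5, 5, 5, 5, 0, 5], [5, 5, 2, 0, 0, 2], [4, 4, 0, 0, 4, 4], [0, 3, 0, 3, 3, 3], [0, 1, 1, 1, 1, 1]]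
def certE8_7 : LevelCert where
  words := [[], [6], [6, 5], [6, 5, 4], [6, 5, 4, 3], [6, 5, 4, 3, 1], [6, 5, 4, 3, 2], [6, 5, 4, 3, 1, 2], [6, 5, 4, 3, 2, 0], [6, 5, 4, 3, 1, 2, 0], [6, 5, 4, 3, 1, 2, 3], [6, 5, 4, 3, 1, 2, 0, 3], [6, 5, 4, 3, 1, 2, 3, 4], [6, 5, 4, 3, 1, 2, 0, 3, 2], [6, 5, 4, 3, 1, 2, 0, 3, 4], [6, 5, 4, 3, 1, 2, 3, 4, 5], [6, 5, 4, 3, 1, 2, 0, 3, 2, 4], [6, 5, 4, 3, 1, 2, 0, 3, 4, 5], [6, 5, 4, 3, 1, 2, 3, 4, 5, 6], [6, 5, 4, 3, 1, 2, 0, 3, 2, 4, 3], [6, 5, 4, 3, 1, 2, 0, 3, 2, 4, 5], [6, 5, 4, 3, 1, 2, 0, 3, 4, 5, 6], [6, 5, 4, 3, 1, 2, 0, 3, 2, 4, 3, 1], [6, 5, 4, 3, 1, 2, 0, 3, 2, 4, 3, 5], [6, 5, 4, 3, 1, 2, 0, 3, 2, 4, 5, 6], [6, 5, 4, 3, 1, 2, 0, 3, 2, 4, 3, 1, 5], [6, 5, 4, 3, 1, 2, 0, 3, 2, 4, 3, 5, 4],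 [6, 5, 4, 3, 1, 2, 0, 3, 2, 4, 3, 5, 6], [6, 5, 4, 3, 1, 2, 0, 3, 2, 4, 3, 1, 5, 4], [6, 5, 4, 3, 1, 2, 0, 3, 2, 4, 3, 1, 5, 6], [6, 5, 4, 3, 1, 2, 0, 3, 2, 4, 3, 5, 4, 6], [6, 5, 4, 3, 1, 2, 0, 3, 2, 4, 3, 1, 5, 4, 3], [6, 5, 4, 3, 1, 2, 0, 3, 2, 4, 3, 1, 5, 4, 6], [6, 5, 4, 3, 1, 2, 0, 3, 2, 4, 3, 5, 4, 6, 5], [6, 5, 4, 3, 1, 2, 0, 3, 2, 4, 3, 1, 5, 4, 3, 2], [6, 5, 4, 3, 1, 2, 0, 3, 2, 4, 3, 1, 5, 4, 3, 6], [6, 5, 4, 3, 1, 2, 0, 3, 2, 4, 3, 1, 5, 4, 6, 5], [6, 5, 4, 3, 1, 2, 0, 3, 2, 4, 3, 1, 5, 4, 3, 2, 0], [6, 5, 4, 3, 1, 2, 0, 3, 2, 4, 3, 1, 5, 4, 3, 2, 6], [6, 5, 4, 3, 1, 2, 0, 3, 2, 4, 3, 1, 5, 4, 3, 6, 5], [6, 5, 4, 3, 1, 2, 0, 3, 2, 4, 3, 1, 5, 4, 3, 2, 0, 6], [6, 5, 4, 3, 1, 2, 0, 3, 2, 4, 3, 1, 5, 4, 3, 2, 6, 5], [6, 5,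 4, 3, 1, 2, 0, 3, 2, 4, 3, 1, 5, 4, 3, 6, 5, 4], [6, 5, 4, 3, 1, 2, 0, 3, 2, 4, 3, 1, 5, 4, 3, 2, 0, 6, 5], [6, 5, 4, 3, 1, 2, 0, 3, 2, 4, 3, 1, 5, 4, 3, 2, 6, 5, 4], [6, 5, 4, 3, 1, 2, 0, 3, 2, 4, 3, 1, 5, 4, 3, 2, 0, 6, 5, 4], [6, 5, 4, 3, 1, 2, 0, 3, 2, 4, 3, 1, 5, 4, 3, 2, 6, 5, 4, 3], [6, 5, 4, 3, 1, 2, 0, 3, 2, 4, 3, 1, 5, 4, 3, 2, 0, 6, 5, 4, 3], [6, 5, 4, 3, 1, 2, 0, 3, 2, 4, 3, 1, 5, 4, 3, 2, 6, 5, 4, 3, 1], [6, 5, 4, 3, 1, 2, 0, 3, 2, 4, 3, 1, 5, 4, 3, 2, 0, 6, 5, 4, 3, 1], [6, 5, 4, 3, 1, 2, 0, 3, 2, 4, 3, 1, 5, 4, 3, 2, 0, 6, 5, 4, 3, 2], [6, 5, 4, 3, 1, 2, 0, 3, 2, 4, 3, 1, 5, 4, 3, 2, 0, 6, 5, 4, 3, 1, 2], [6, 5, 4, 3, 1, 2, 0, 3, 2, 4, 3, 1, 5, 4, 3, 2, 0, 6, 5, 4, 3, 1, 2, 3], [6, 5, 4, 3, 1, 2, 0, 3, 2, 4, 3, 1, 5,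 4, 3, 2, 0, 6, 5, 4, 3, 1, 2, 3, 4], [6, 5, 4, 3, 1, 2, 0, 3, 2, 4, 3, 1, 5, 4, 3, 2, 0, 6, 5, 4, 3, 1, 2, 3, 4, 5], [6, 5, 4, 3, 1, 2, 0, 3, 2, 4, 3, 1, 5, 4, 3, 2, 0, 6, 5, 4, 3, 1, 2, 3, 4, 5, 6]]
  tab := [[0, 0, 0, 0, 0, 0, 1], [1, 1, 1, 1, 1, 2, 0], [2, 2, 2, 2, 3, 1, 2], [3, 3, 3, 4, 2, 3, 3], [4, 5, 6, 3, 4, 4, 4], [5, 4, 7, 5, 5, 5, 5], [8, 7, 4, 6, 6, 6, 6], [9, 6, 5, 10, 7, 7, 7], [6, 9, 8, 8, 8, 8, 8], [7, 8, 9, 11, 9, 9, 9], [11, 10, 10, 7, 12, 10, 10], [10, 11, 13, 9, 14, 11, 11], [14, 12, 12, 12, 10, 15, 12], [13, 13, 11, 13, 16, 13, 13], [12, 14, 16, 14, 11, 17, 14], [17, 15, 15, 15, 15, 12, 18], [16, 16, 14, 19, 13, 20, 16], [15, 17, 20, 17, 17, 14, 21], [21, 18, 18, 18, 18, 18, 15], [19, 22, 19, 16, 19, 23, 19], [20,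 20, 17, 23, 20, 16, 24], [18, 21, 24, 21, 21, 21, 17], [22, 19, 22, 22, 22, 25, 22], [23, 25, 23, 20, 26, 19, 27], [24, 24, 21, 27, 24, 24, 20], [25, 23, 25, 25, 28, 22, 29], [26, 28, 26, 26, 23, 26, 30], [27, 29, 27, 24, 30, 27, 23], [28, 26, 28, 31, 25, 28, 32], [29, 27, 29, 29, 32, 29, 25], [30, 32, 30, 30, 27, 33, 26], [31, 31, 34, 28, 31, 31, 35], [32, 30, 32, 35, 29, 36, 28], [33, 36, 33, 33, 33, 30, 33], [37, 34, 31, 34, 34, 34, 38], [35, 35, 38, 32, 35, 39, 31], [36, 33, 36, 39, 36, 32, 36], [34, 37, 37, 37, 37, 37, 40], [40, 38, 35, 38, 38, 41, 34], [39, 39, 41, 36, 42, 35, 39], [38, 40, 40, 40, 40, 43, 37], [43, 41, 39, 41, 44, 38, 41], [42, 42, 44, 42, 39, 42, 42], [41, 43, 43, 43, 45, 40, 43], [45, 44, 42, 46, 41, 44, 44],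 [44, 45, 45, 47, 43, 45, 45], [47, 48, 46, 44, 46, 46, 46], [46, 49, 50, 45, 47, 47, 47], [49, 46, 48, 48, 48, 48, 48], [48, 47, 51, 49, 49, 49, 49], [50, 51, 47, 50, 50, 50, 50], [51, 50, 49, 52, 51, 51, 51], [52, 52, 52, 51, 53, 52, 52], [53, 53, 53, 53, 52, 54, 53], [54, 54, 54, 54, 54, 53, 55], [55, 55, 55, 55, 55, 55, 54]]
  rank := [[0, 0, 0, 0, 0, 0, 0], [1, 1, 1, 1, 1, 0, 0], [2, 2, 2, 2, 0, 0, 1], [3, 3, 3, 0, 0, 2, 2], [4, 0, 0, 0, 3, 3, 3], [5, 0, 0, 4, 4, 4, 4], [0, 1, 0, 4, 4, 4, 4], [0, 1, 0, 0, 5, 5, 5], [0, 2, 5, 5, 5, 5, 5], [0, 2, 6, 0, 6, 6, 6], [1, 5, 5, 0, 0, 6, 6], [1, 6, 0, 0, 0, 7, 7], [2, 6, 6, 6, 0, 0, 7], [6, 7, 0, 7, 0, 8, 8], [2, 7, 1, 7, 0, 0, 8], [3, 7, 7, 7, 7, 0, 0], [7, 8, 1, 0, 0, 0, 9], [3, 8, 2,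 8, 8, 0, 0], [4, 8, 8, 8, 8, 8, 0], [8, 0, 8, 0, 8, 0, 10], [8, 9, 2, 1, 9, 0, 0], [4, 9, 3, 9, 9, 9, 0], [9, 0, 9, 9, 9, 0, 11], [9, 1, 9, 1, 0, 0, 0], [9, 10, 3, 2, 10, 10, 0], [10, 1, 10, 10, 0, 0, 0], [10, 2, 10, 10, 0, 9, 0], [10, 2, 10, 2, 1, 11, 0], [11, 2, 11, 0, 0, 10, 0], [11, 2, 11, 11, 1, 12, 0], [11, 3, 11, 11, 1, 0, 0], [12, 11, 0, 0, 11, 11, 0], [12, 3, 12, 1, 1, 0, 0], [12, 4, 12, 12, 12, 0, 10], [0, 12, 0, 12, 12, 12, 0], [13, 12, 1, 1, 12, 0, 0], [13, 4, 13, 2, 13, 0, 11], [0, 13, 13, 13, 13, 13, 0], [1, 13, 1, 13, 13, 0, 0], [14, 13, 2, 2, 0, 0, 12], [1, 14, 14, 14, 14, 0, 0], [2, 14, 2, 14, 0, 0, 13], [15, 14, 3, 14, 0, 13, 13], [2, 15, 15, 15, 0, 0, 14], [3, 15, 3, 0, 0, 14, 14], [3, 16, 16, 0, 0, 15, 15], [4,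 0, 15, 0, 15, 15, 15], [4, 0, 0, 0, 16, 16, 16], [5, 0, 16, 16, 16, 16, 16], [5, 0, 0, 17, 17, 17, 17], [16, 1, 0, 17, 17, 17, 17], [17, 1, 0, 0, 18, 18, 18], [18, 18, 18, 0, 0, 19, 19], [19, 19, 19, 19, 0, 0, 20], [20, 20, 20, 20, 20, 0, 0], [21, 21, 21, 21, 21, 21, 0]]
  just := [[0, 0, 0, 0, 0, 0, 0], [7, 7, 7, 7, 7, 0, 0], [6, 6, 6, 6, 0, 0, 6], [5, 5, 5, 0, 0, 5, 5], [4, 0, 0, 0, 4, 4, 4], [2, 0, 0, 2, 2, 2, 2], [0, 3, 0, 3, 3, 3, 3], [0, 3, 0, 0, 2, 2, 2], [0, 1, 1, 1, 1, 1, 1], [0, 1, 1, 0, 1, 1, 1], [4, 4, 4, 0, 0, 4, 4], [4, 1, 0, 0, 0, 1, 1], [5, 5, 5, 5, 0, 0, 5], [3, 3, 0, 3, 0, 3, 3], [5, 1, 5, 1, 0, 0, 1], [6, 6, 6, 6, 6, 0, 0], [5, 5, 5, 0, 0, 0, 3], [6, 1, 6, 1, 1, 0, 0], [7, 7, 7, 7, 7, 7, 0], [4, 0, 4, 0, 4, 0, 4],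 [6, 6, 6, 6, 3, 0, 0], [7, 1, 7, 1, 1, 1, 0], [2, 0, 2, 2, 2, 0, 2], [6, 6, 6, 6, 0, 0, 0], [7, 7, 7, 7, 3, 3, 0], [6, 6, 2, 2, 0, 0, 0], [5, 5, 5, 5, 0, 5, 0], [7, 7, 7, 7, 7, 4, 0], [5, 5, 2, 0, 0, 2, 0], [7, 7, 2, 2, 7, 2, 0], [7, 7, 7, 7, 7, 0, 0], [4, 4, 0, 0, 4, 4, 0], [7, 7, 2, 7, 7, 0, 0], [6, 6, 6, 6, 6, 0, 6], [0, 3, 0, 3, 3, 3, 0], [7, 7, 7, 7, 4, 0, 0], [6, 6, 2, 6, 2, 0, 2], [0, 1, 1, 1, 1, 1, 0], [7, 7, 7, 3, 3, 0, 0], [6, 6, 6, 6, 0, 0, 4], [7, 1, 1, 1, 1, 0, 0], [6, 6, 6, 3, 0, 0, 3], [5, 5, 5, 5, 0, 5, 5], [6, 1, 1, 1, 0, 0, 1], [5, 5, 5, 0, 0, 3, 3], [5, 1, 1, 0, 0, 1, 1], [4, 0, 4, 0, 4, 4, 4], [4, 0, 0, 0, 1, 1, 1], [2, 0, 2, 2, 2, 2, 2], [2, 0, 0, 1, 1, 1, 1], [3, 3, 0, 3, 3, 3, 3], [3, 3, 0, 0, 2, 2, 2], [4, 4,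 4, 0, 0, 4, 4], [5, 5, 5, 5, 0, 0, 5], [6, 6, 6, 6, 6, 0, 0], [7, 7, 7, 7, 7, 7, 0]]
def certE8_8 : LevelCert where
  words := [[], [7], [7, 6], [7, 6, 5], [7, 6, 5, 4], [7, 6, 5, 4, 3], [7, 6, 5, 4, 3, 1], [7, 6, 5, 4, 3, 2], [7, 6, 5, 4, 3, 1, 2], [7, 6, 5, 4, 3, 2, 0], [7, 6, 5, 4, 3, 1, 2, 0], [7, 6, 5, 4, 3, 1, 2, 3], [7, 6, 5, 4, 3, 1, 2, 0, 3], [7, 6, 5, 4, 3, 1, 2, 3, 4], [7, 6, 5, 4, 3, 1, 2, 0, 3, 2], [7, 6, 5, 4, 3, 1, 2, 0, 3, 4], [7, 6, 5, 4, 3, 1, 2, 3, 4, 5], [7, 6, 5, 4, 3, 1, 2, 0, 3, 2, 4], [7, 6, 5, 4, 3, 1, 2, 0, 3, 4, 5], [7, 6, 5, 4, 3, 1, 2, 3, 4, 5, 6], [7, 6, 5, 4, 3, 1, 2, 0, 3, 2, 4, 3], [7, 6, 5, 4, 3, 1, 2, 0, 3, 2, 4, 5], [7, 6, 5, 4, 3, 1, 2, 0, 3, 4, 5, 6], [7, 6, 5, 4, 3, 1, 2, 3, 4, 5, 6, 7], [7, 6,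 5, 4, 3, 1, 2, 0, 3, 2, 4, 3, 1], [7, 6, 5, 4, 3, 1, 2, 0, 3, 2, 4, 3, 5], [7, 6, 5, 4, 3, 1, 2, 0, 3, 2, 4, 5, 6], [7, 6, 5, 4, 3, 1, 2, 0, 3, 4, 5, 6, 7], [7, 6, 5, 4, 3, 1, 2, 0, 3, 2, 4, 3, 1, 5], [7, 6, 5, 4, 3, 1, 2, 0, 3, 2, 4, 3, 5, 4], [7, 6, 5, 4, 3, 1, 2, 0, 3, 2, 4, 3, 5, 6], [7, 6, 5, 4, 3, 1, 2, 0, 3, 2, 4, 5, 6, 7], [7, 6, 5, 4, 3, 1, 2, 0, 3, 2, 4, 3, 1, 5, 4], [7, 6, 5, 4, 3, 1, 2, 0, 3, 2, 4, 3, 1, 5, 6], [7, 6, 5, 4, 3, 1, 2, 0, 3, 2, 4, 3, 5, 4, 6], [7, 6, 5, 4, 3, 1, 2, 0, 3, 2, 4, 3, 5, 6, 7], [7, 6, 5, 4, 3, 1, 2, 0, 3, 2, 4, 3, 1, 5, 4, 3], [7, 6, 5, 4, 3, 1, 2, 0, 3, 2, 4, 3, 1, 5, 4, 6], [7, 6, 5, 4, 3, 1, 2, 0, 3, 2, 4, 3, 1, 5, 6, 7], [7, 6, 5, 4, 3, 1, 2, 0, 3, 2, 4, 3, 5, 4, 6, 5], [7, 6, 5, 4, 3, 1, 2,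 0, 3, 2, 4, 3, 5, 4, 6, 7], [7, 6, 5, 4, 3, 1, 2, 0, 3, 2, 4, 3, 1, 5, 4, 3, 2], [7, 6, 5, 4, 3, 1, 2, 0, 3, 2, 4, 3, 1, 5, 4, 3, 6], [7, 6, 5, 4, 3, 1, 2, 0, 3, 2, 4, 3, 1, 5, 4, 6, 5], [7, 6, 5, 4, 3, 1, 2, 0, 3, 2, 4, 3, 1, 5, 4, 6, 7], [7, 6, 5, 4, 3, 1, 2, 0, 3, 2, 4, 3, 5, 4, 6, 5, 7], [7, 6, 5, 4, 3, 1, 2, 0, 3, 2, 4, 3, 1, 5, 4, 3, 2, 0], [7, 6, 5, 4, 3, 1, 2, 0, 3, 2, 4, 3, 1, 5, 4, 3, 2, 6], [7, 6, 5, 4, 3, 1, 2, 0, 3, 2, 4, 3, 1, 5, 4, 3, 6, 5], [7, 6, 5, 4, 3, 1, 2, 0, 3, 2, 4, 3, 1, 5, 4, 3, 6, 7], [7, 6, 5, 4, 3, 1, 2, 0, 3, 2, 4, 3, 1, 5, 4, 6, 5, 7], [7, 6, 5, 4, 3, 1, 2, 0, 3, 2, 4, 3, 5, 4, 6, 5, 7, 6], [7, 6, 5, 4, 3, 1, 2, 0, 3, 2, 4, 3, 1, 5, 4, 3, 2, 0, 6], [7, 6, 5, 4, 3, 1, 2, 0, 3, 2, 4, 3, 1, 5, 4, 3, 2, 6,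 5], [7, 6, 5, 4, 3, 1, 2, 0, 3, 2, 4, 3, 1, 5, 4, 3, 2, 6, 7], [7, 6, 5, 4, 3, 1, 2, 0, 3, 2, 4, 3, 1, 5, 4, 3, 6, 5, 4], [7, 6, 5, 4, 3, 1, 2, 0, 3, 2, 4, 3, 1, 5, 4, 3, 6, 5, 7], [7, 6, 5, 4, 3, 1, 2, 0, 3, 2, 4, 3, 1, 5, 4, 6, 5, 7, 6], [7, 6, 5, 4, 3, 1, 2, 0, 3, 2, 4, 3, 1, 5, 4, 3, 2, 0, 6, 5], [7, 6, 5, 4, 3, 1, 2, 0, 3, 2, 4, 3, 1, 5, 4, 3, 2, 0, 6, 7], [7, 6, 5, 4, 3, 1, 2, 0, 3, 2, 4, 3, 1, 5, 4, 3, 2, 6, 5, 4], [7, 6, 5, 4, 3, 1, 2, 0, 3, 2, 4, 3, 1, 5, 4, 3, 2, 6, 5, 7], [7, 6, 5, 4, 3, 1, 2, 0, 3, 2, 4, 3, 1, 5, 4, 3, 6, 5, 4, 7], [7, 6, 5, 4, 3, 1, 2, 0, 3, 2, 4, 3, 1, 5, 4, 3, 6, 5, 7, 6], [7, 6, 5, 4, 3, 1, 2, 0, 3, 2, 4, 3, 1, 5, 4, 3, 2, 0, 6, 5, 4], [7, 6, 5, 4, 3, 1, 2, 0, 3, 2, 4, 3, 1, 5, 4, 3, 2, 0, 6, 5, 7],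 [7, 6, 5, 4, 3, 1, 2, 0, 3, 2, 4, 3, 1, 5, 4, 3, 2, 6, 5, 4, 3], [7, 6, 5, 4, 3, 1, 2, 0, 3, 2, 4, 3, 1, 5, 4, 3, 2, 6, 5, 4, 7], [7, 6, 5, 4, 3, 1, 2, 0, 3, 2, 4, 3, 1, 5, 4, 3, 2, 6, 5, 7, 6], [7, 6, 5, 4, 3, 1, 2, 0, 3, 2, 4, 3, 1, 5, 4, 3, 6, 5, 4, 7, 6], [7, 6, 5, 4, 3, 1, 2, 0, 3, 2, 4, 3, 1, 5, 4, 3, 2, 0, 6, 5, 4, 3], [7, 6, 5, 4, 3, 1, 2, 0, 3, 2, 4, 3, 1, 5, 4, 3, 2, 0, 6, 5, 4, 7], [7, 6, 5, 4, 3, 1, 2, 0, 3, 2, 4, 3, 1, 5, 4, 3, 2, 0, 6, 5, 7, 6], [7, 6, 5, 4, 3, 1, 2, 0, 3, 2, 4, 3, 1, 5, 4, 3, 2, 6, 5, 4, 3, 1], [7, 6, 5, 4, 3, 1, 2, 0, 3, 2, 4, 3, 1, 5, 4, 3, 2, 6, 5, 4, 3, 7], [7, 6, 5, 4, 3, 1, 2, 0, 3, 2, 4, 3, 1, 5, 4, 3, 2, 6, 5, 4, 7, 6], [7, 6, 5, 4, 3, 1, 2, 0, 3, 2, 4, 3, 1, 5, 4, 3, 6, 5, 4, 7, 6, 5], [7, 6,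 5, 4, 3, 1, 2, 0, 3, 2, 4, 3, 1, 5, 4, 3, 2, 0, 6, 5, 4, 3, 1], [7, 6, 5, 4, 3, 1, 2, 0, 3, 2, 4, 3, 1, 5, 4, 3, 2, 0, 6, 5, 4, 3, 2], [7, 6, 5, 4, 3, 1, 2, 0, 3, 2, 4, 3, 1, 5, 4, 3, 2, 0, 6, 5, 4, 3, 7], [7, 6, 5, 4, 3, 1, 2, 0, 3, 2, 4, 3, 1, 5, 4, 3, 2, 0, 6, 5, 4, 7, 6], [7, 6, 5, 4, 3, 1, 2, 0, 3, 2, 4, 3, 1, 5, 4, 3, 2, 6, 5, 4, 3, 1, 7], [7, 6, 5, 4, 3, 1, 2, 0, 3, 2, 4, 3, 1, 5, 4, 3, 2, 6, 5, 4, 3, 7, 6], [7, 6, 5, 4, 3, 1, 2, 0, 3, 2, 4, 3, 1, 5, 4, 3, 2, 6, 5, 4, 7, 6, 5], [7, 6, 5, 4, 3, 1, 2, 0, 3, 2, 4, 3, 1, 5, 4, 3, 2, 0, 6, 5, 4, 3, 1, 2], [7, 6, 5, 4, 3, 1, 2, 0, 3, 2, 4, 3, 1, 5, 4, 3, 2, 0, 6, 5, 4, 3, 1, 7], [7, 6, 5, 4, 3, 1, 2, 0, 3, 2, 4, 3, 1, 5, 4, 3, 2, 0, 6, 5, 4, 3, 2, 7], [7, 6, 5, 4, 3, 1, 2, 0, 3, 2,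 4, 3, 1, 5, 4, 3, 2, 0, 6, 5, 4, 3, 7, 6], [7, 6, 5, 4, 3, 1, 2, 0, 3, 2, 4, 3, 1, 5, 4, 3, 2, 0, 6, 5, 4, 7, 6, 5], [7, 6, 5, 4, 3, 1, 2, 0, 3, 2, 4, 3, 1, 5, 4, 3, 2, 6, 5, 4, 3, 1, 7, 6], [7, 6, 5, 4, 3, 1, 2, 0, 3, 2, 4, 3, 1, 5, 4, 3, 2, 6, 5, 4, 3, 7, 6, 5], [7, 6, 5, 4, 3, 1, 2, 0, 3, 2, 4, 3, 1, 5, 4, 3, 2, 0, 6, 5, 4, 3, 1, 2, 3], [7, 6, 5, 4, 3, 1, 2, 0, 3, 2, 4, 3, 1, 5, 4, 3, 2, 0, 6, 5, 4, 3, 1, 2, 7], [7, 6, 5, 4, 3, 1, 2, 0, 3, 2, 4, 3, 1, 5, 4, 3, 2, 0, 6, 5, 4, 3, 1, 7, 6], [7, 6, 5, 4, 3, 1, 2, 0, 3, 2, 4, 3, 1, 5, 4, 3, 2, 0, 6, 5, 4, 3, 2, 7, 6], [7, 6, 5, 4, 3, 1, 2, 0, 3, 2, 4, 3, 1, 5, 4, 3, 2, 0, 6, 5, 4, 3, 7, 6, 5], [7, 6, 5, 4, 3, 1, 2, 0, 3, 2, 4, 3, 1, 5, 4, 3, 2, 6, 5, 4, 3, 1, 7, 6, 5], [7, 6, 5, 4, 3,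 1, 2, 0, 3, 2, 4, 3, 1, 5, 4, 3, 2, 6, 5, 4, 3, 7, 6, 5, 4], [7, 6, 5, 4, 3, 1, 2, 0, 3, 2, 4, 3, 1, 5, 4, 3, 2, 0, 6, 5, 4, 3, 1, 2, 3, 4], [7, 6, 5, 4, 3, 1, 2, 0, 3, 2, 4, 3, 1, 5, 4, 3, 2, 0, 6, 5, 4, 3, 1, 2, 3, 7], [7, 6, 5, 4, 3, 1, 2, 0, 3, 2, 4, 3, 1, 5, 4, 3, 2, 0, 6, 5, 4, 3, 1, 2, 7, 6], [7, 6, 5, 4, 3, 1, 2, 0, 3, 2, 4, 3, 1, 5, 4, 3, 2, 0, 6, 5, 4, 3, 1, 7, 6, 5], [7, 6, 5, 4, 3, 1, 2, 0, 3, 2, 4, 3, 1, 5, 4, 3, 2, 0, 6, 5, 4, 3, 2, 7, 6, 5], [7, 6, 5, 4, 3, 1, 2, 0, 3, 2, 4, 3, 1, 5, 4, 3, 2, 0, 6, 5, 4, 3, 7, 6, 5, 4], [7, 6, 5, 4, 3, 1, 2, 0, 3, 2, 4, 3, 1, 5, 4, 3, 2, 6, 5, 4, 3, 1, 7, 6, 5, 4], [7, 6, 5, 4, 3, 1, 2, 0, 3, 2, 4, 3, 1, 5, 4, 3, 2, 0, 6, 5, 4, 3, 1, 2, 3, 4, 5], [7, 6, 5, 4, 3, 1, 2, 0, 3, 2, 4, 3,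 1, 5, 4, 3, 2, 0, 6, 5, 4, 3, 1, 2, 3, 4, 7], [7, 6, 5, 4, 3, 1, 2, 0, 3, 2, 4, 3, 1, 5, 4, 3, 2, 0, 6, 5, 4, 3, 1, 2, 3, 7, 6], [7, 6, 5, 4, 3, 1, 2, 0, 3, 2, 4, 3, 1, 5, 4, 3, 2, 0, 6, 5, 4, 3, 1, 2, 7, 6, 5], [7, 6, 5, 4, 3, 1, 2, 0, 3, 2, 4, 3, 1, 5, 4, 3, 2, 0, 6, 5, 4, 3, 1, 7, 6, 5, 4], [7, 6, 5, 4, 3, 1, 2, 0, 3, 2, 4, 3, 1, 5, 4, 3, 2, 0, 6, 5, 4, 3, 2, 7, 6, 5, 4], [7, 6, 5, 4, 3, 1, 2, 0, 3, 2, 4, 3, 1, 5, 4, 3, 2, 6, 5, 4, 3, 1, 7, 6, 5, 4, 3], [7, 6, 5, 4, 3, 1, 2, 0, 3, 2, 4, 3, 1, 5, 4, 3, 2, 0, 6, 5, 4, 3, 1, 2, 3, 4, 5, 6], [7, 6, 5, 4, 3, 1, 2, 0, 3, 2, 4, 3, 1, 5, 4, 3, 2, 0, 6, 5, 4, 3, 1, 2, 3, 4, 5, 7], [7, 6, 5, 4, 3, 1, 2, 0, 3, 2, 4, 3, 1, 5, 4, 3, 2, 0, 6, 5, 4, 3, 1, 2, 3, 4, 7, 6], [7, 6, 5, 4, 3, 1, 2,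 0, 3, 2, 4, 3, 1, 5, 4, 3, 2, 0, 6, 5, 4, 3, 1, 2, 3, 7, 6, 5], [7, 6, 5, 4, 3, 1, 2, 0, 3, 2, 4, 3, 1, 5, 4, 3, 2, 0, 6, 5, 4, 3, 1, 2, 7, 6, 5, 4], [7, 6, 5, 4, 3, 1, 2, 0, 3, 2, 4, 3, 1, 5, 4, 3, 2, 0, 6, 5, 4, 3, 1, 7, 6, 5, 4, 3], [7, 6, 5, 4, 3, 1, 2, 0, 3, 2, 4, 3, 1, 5, 4, 3, 2, 0, 6, 5, 4, 3, 2, 7, 6, 5, 4, 3], [7, 6, 5, 4, 3, 1, 2, 0, 3, 2, 4, 3, 1, 5, 4, 3, 2, 6, 5, 4, 3, 1, 7, 6, 5, 4, 3, 2], [7, 6, 5, 4, 3, 1, 2, 0, 3, 2, 4, 3, 1, 5, 4, 3, 2, 0, 6, 5, 4, 3, 1, 2, 3, 4, 5, 6, 7], [7, 6, 5, 4, 3, 1, 2, 0, 3, 2, 4, 3, 1, 5, 4, 3, 2, 0, 6, 5, 4, 3, 1, 2, 3, 4, 5, 7, 6], [7, 6, 5, 4, 3, 1, 2, 0, 3, 2, 4, 3, 1, 5, 4, 3, 2, 0, 6, 5, 4, 3, 1, 2, 3, 4, 7, 6, 5], [7, 6, 5, 4, 3, 1, 2, 0, 3, 2, 4, 3, 1, 5, 4, 3, 2, 0, 6, 5, 4, 3,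 1, 2, 3, 7, 6, 5, 4], [7, 6, 5, 4, 3, 1, 2, 0, 3, 2, 4, 3, 1, 5, 4, 3, 2, 0, 6, 5, 4, 3, 1, 2, 7, 6, 5, 4, 3], [7, 6, 5, 4, 3, 1, 2, 0, 3, 2, 4, 3, 1, 5, 4, 3, 2, 0, 6, 5, 4, 3, 1, 7, 6, 5, 4, 3, 2], [7, 6, 5, 4, 3, 1, 2, 0, 3, 2, 4, 3, 1, 5, 4, 3, 2, 0, 6, 5, 4, 3, 2, 7, 6, 5, 4, 3, 1], [7, 6, 5, 4, 3, 1, 2, 0, 3, 2, 4, 3, 1, 5, 4, 3, 2, 6, 5, 4, 3, 1, 7, 6, 5, 4, 3, 2, 0], [7, 6, 5, 4, 3, 1, 2, 0, 3, 2, 4, 3, 1, 5, 4, 3, 2, 0, 6, 5, 4, 3, 1, 2, 3, 4, 5, 6, 7, 6], [7, 6, 5, 4, 3, 1, 2, 0, 3, 2, 4, 3, 1, 5, 4, 3, 2, 0, 6, 5, 4, 3, 1, 2, 3, 4, 5, 7, 6, 5], [7, 6, 5, 4, 3, 1, 2, 0, 3, 2, 4, 3, 1, 5, 4, 3, 2, 0, 6, 5, 4, 3, 1, 2, 3, 4, 7, 6, 5, 4], [7, 6, 5, 4, 3, 1, 2, 0, 3, 2, 4, 3, 1, 5, 4, 3, 2, 0, 6, 5, 4, 3, 1, 2, 3, 7, 6, 5, 4,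 3], [7, 6, 5, 4, 3, 1, 2, 0, 3, 2, 4, 3, 1, 5, 4, 3, 2, 0, 6, 5, 4, 3, 1, 2, 7, 6, 5, 4, 3, 1], [7, 6, 5, 4, 3, 1, 2, 0, 3, 2, 4, 3, 1, 5, 4, 3, 2, 0, 6, 5, 4, 3, 1, 2, 7, 6, 5, 4, 3, 2], [7, 6, 5, 4, 3, 1, 2, 0, 3, 2, 4, 3, 1, 5, 4, 3, 2, 0, 6, 5, 4, 3, 1, 7, 6, 5, 4, 3, 2, 0], [7, 6, 5, 4, 3, 1, 2, 0, 3, 2, 4, 3, 1, 5, 4, 3, 2, 0, 6, 5, 4, 3, 1, 2, 3, 4, 5, 6, 7, 6, 5], [7, 6, 5, 4, 3, 1, 2, 0, 3, 2, 4, 3, 1, 5, 4, 3, 2, 0, 6, 5, 4, 3, 1, 2, 3, 4, 5, 7, 6, 5, 4], [7, 6, 5, 4, 3, 1, 2, 0, 3, 2, 4, 3, 1, 5, 4, 3, 2, 0, 6, 5, 4, 3, 1, 2, 3, 4, 7, 6, 5, 4, 3], [7, 6, 5, 4, 3, 1, 2, 0, 3, 2, 4, 3, 1, 5, 4, 3, 2, 0, 6, 5, 4, 3, 1, 2, 3, 7, 6, 5, 4, 3, 1], [7, 6, 5, 4, 3, 1, 2, 0, 3, 2, 4, 3, 1, 5, 4, 3, 2, 0, 6, 5, 4, 3, 1, 2, 3, 7, 6,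 5, 4, 3, 2], [7, 6, 5, 4, 3, 1, 2, 0, 3, 2, 4, 3, 1, 5, 4, 3, 2, 0, 6, 5, 4, 3, 1, 2, 7, 6, 5, 4, 3, 1, 2], [7, 6, 5, 4, 3, 1, 2, 0, 3, 2, 4, 3, 1, 5, 4, 3, 2, 0, 6, 5, 4, 3, 1, 2, 7, 6, 5, 4, 3, 2, 0], [7, 6, 5, 4, 3, 1, 2, 0, 3, 2, 4, 3, 1, 5, 4, 3, 2, 0, 6, 5, 4, 3, 1, 2, 3, 4, 5, 6, 7, 6, 5, 4], [7, 6, 5, 4, 3, 1, 2, 0, 3, 2, 4, 3, 1, 5, 4, 3, 2, 0, 6, 5, 4, 3, 1, 2, 3, 4, 5, 7, 6, 5, 4, 3], [7, 6, 5, 4, 3, 1, 2, 0, 3, 2, 4, 3, 1, 5, 4, 3, 2, 0, 6, 5, 4, 3, 1, 2, 3, 4, 7, 6, 5, 4, 3, 1], [7, 6, 5, 4, 3, 1, 2, 0, 3, 2, 4, 3, 1, 5, 4, 3, 2, 0, 6, 5, 4, 3, 1, 2, 3, 4, 7, 6, 5, 4, 3, 2], [7, 6, 5, 4, 3, 1, 2, 0, 3, 2, 4, 3, 1, 5, 4, 3, 2, 0, 6, 5, 4, 3, 1, 2, 3, 7, 6, 5, 4, 3, 1, 2], [7, 6, 5, 4, 3, 1, 2, 0, 3, 2, 4, 3, 1, 5, 4, 3,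 2, 0, 6, 5, 4, 3, 1, 2, 3, 7, 6, 5, 4, 3, 2, 0], [7, 6, 5, 4, 3, 1, 2, 0, 3, 2, 4, 3, 1, 5, 4, 3, 2, 0, 6, 5, 4, 3, 1, 2, 7, 6, 5, 4, 3, 1, 2, 0], [7, 6, 5, 4, 3, 1, 2, 0, 3, 2, 4, 3, 1, 5, 4, 3, 2, 0, 6, 5, 4, 3, 1, 2, 3, 4, 5, 6, 7, 6, 5, 4, 3], [7, 6, 5, 4, 3, 1, 2, 0, 3, 2, 4, 3, 1, 5, 4, 3, 2, 0, 6, 5, 4, 3, 1, 2, 3, 4, 5, 7, 6, 5, 4, 3, 1], [7, 6, 5, 4, 3, 1, 2, 0, 3, 2, 4, 3, 1, 5, 4, 3, 2, 0, 6, 5, 4, 3, 1, 2, 3, 4, 5, 7, 6, 5, 4, 3, 2], [7, 6, 5, 4, 3, 1, 2, 0, 3, 2, 4, 3, 1, 5, 4, 3, 2, 0, 6, 5, 4, 3, 1, 2, 3, 4, 7, 6, 5, 4, 3, 1, 2], [7, 6, 5, 4, 3, 1, 2, 0, 3, 2, 4, 3, 1, 5, 4, 3, 2, 0, 6, 5, 4, 3, 1, 2, 3, 4, 7, 6, 5, 4, 3, 2, 0], [7, 6, 5, 4, 3, 1, 2, 0, 3, 2, 4, 3, 1, 5, 4, 3, 2, 0, 6, 5, 4, 3, 1, 2, 3, 7, 6, 5, 4, 3,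 1, 2, 0], [7, 6, 5, 4, 3, 1, 2, 0, 3, 2, 4, 3, 1, 5, 4, 3, 2, 0, 6, 5, 4, 3, 1, 2, 3, 7, 6, 5, 4, 3, 1, 2, 3], [7, 6, 5, 4, 3, 1, 2, 0, 3, 2, 4, 3, 1, 5, 4, 3, 2, 0, 6, 5, 4, 3, 1, 2, 3, 4, 5, 6, 7, 6, 5, 4, 3, 1], [7, 6, 5, 4, 3, 1, 2, 0, 3, 2, 4, 3, 1, 5, 4, 3, 2, 0, 6, 5, 4, 3, 1, 2, 3, 4, 5, 6, 7, 6, 5, 4, 3, 2], [7, 6, 5, 4, 3, 1, 2, 0, 3, 2, 4, 3, 1, 5, 4, 3, 2, 0, 6, 5, 4, 3, 1, 2, 3, 4, 5, 7, 6, 5, 4, 3, 1, 2], [7, 6, 5, 4, 3, 1, 2, 0, 3, 2, 4, 3, 1, 5, 4, 3, 2, 0, 6, 5, 4, 3, 1, 2, 3, 4, 5, 7, 6, 5, 4, 3, 2, 0], [7, 6, 5, 4, 3, 1, 2, 0, 3, 2, 4, 3, 1, 5, 4, 3, 2, 0, 6, 5, 4, 3, 1, 2, 3, 4, 7, 6, 5, 4, 3, 1, 2, 0], [7, 6, 5, 4, 3, 1, 2, 0, 3, 2, 4, 3, 1, 5, 4, 3, 2, 0, 6, 5, 4, 3, 1, 2, 3, 4, 7, 6, 5, 4, 3, 1, 2, 3], [7, 6,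 5, 4, 3, 1, 2, 0, 3, 2, 4, 3, 1, 5, 4, 3, 2, 0, 6, 5, 4, 3, 1, 2, 3, 7, 6, 5, 4, 3, 1, 2, 0, 3], [7, 6, 5, 4, 3, 1, 2, 0, 3, 2, 4, 3, 1, 5, 4, 3, 2, 0, 6, 5, 4, 3, 1, 2, 3, 4, 5, 6, 7, 6, 5, 4, 3, 1, 2], [7, 6, 5, 4, 3, 1, 2, 0, 3, 2, 4, 3, 1, 5, 4, 3, 2, 0, 6, 5, 4, 3, 1, 2, 3, 4, 5, 6, 7, 6, 5, 4, 3, 2, 0], [7, 6, 5, 4, 3, 1, 2, 0, 3, 2, 4, 3, 1, 5, 4, 3, 2, 0, 6, 5, 4, 3, 1, 2, 3, 4, 5, 7, 6, 5, 4, 3, 1, 2, 0], [7, 6, 5, 4, 3, 1, 2, 0, 3, 2, 4, 3, 1, 5, 4, 3, 2, 0, 6, 5, 4, 3, 1, 2, 3, 4, 5, 7, 6, 5, 4, 3, 1, 2, 3], [7, 6, 5, 4, 3, 1, 2, 0, 3, 2, 4, 3, 1, 5, 4, 3, 2, 0, 6, 5, 4, 3, 1, 2, 3, 4, 7, 6, 5, 4, 3, 1, 2, 0, 3], [7, 6, 5, 4, 3, 1, 2, 0, 3, 2, 4, 3, 1, 5, 4, 3, 2, 0, 6, 5, 4, 3, 1, 2, 3, 4, 7, 6, 5, 4, 3, 1, 2, 3, 4], [7,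 6, 5, 4, 3, 1, 2, 0, 3, 2, 4, 3, 1, 5, 4, 3, 2, 0, 6, 5, 4, 3, 1, 2, 3, 7, 6, 5, 4, 3, 1, 2, 0, 3, 2], [7, 6, 5, 4, 3, 1, 2, 0, 3, 2, 4, 3, 1, 5, 4, 3, 2, 0, 6, 5, 4, 3, 1, 2, 3, 4, 5, 6, 7, 6, 5, 4, 3, 1, 2, 0], [7, 6, 5, 4, 3, 1, 2, 0, 3, 2, 4, 3, 1, 5, 4, 3, 2, 0, 6, 5, 4, 3, 1, 2, 3, 4, 5, 6, 7, 6, 5, 4, 3, 1, 2, 3], [7, 6, 5, 4, 3, 1, 2, 0, 3, 2, 4, 3, 1, 5, 4, 3, 2, 0, 6, 5, 4, 3, 1, 2, 3, 4, 5, 7, 6, 5, 4, 3, 1, 2, 0, 3], [7, 6, 5, 4, 3, 1, 2, 0, 3, 2, 4, 3, 1, 5, 4, 3, 2, 0, 6, 5, 4, 3, 1, 2, 3, 4, 5, 7, 6, 5, 4, 3, 1, 2, 3, 4], [7, 6, 5, 4, 3, 1, 2, 0, 3, 2, 4, 3, 1, 5, 4, 3, 2, 0, 6, 5, 4, 3, 1, 2, 3, 4, 7, 6, 5, 4, 3, 1, 2, 0, 3, 2], [7, 6, 5, 4, 3, 1, 2, 0, 3, 2, 4, 3, 1, 5, 4, 3, 2, 0, 6, 5, 4, 3, 1, 2, 3, 4, 7, 6, 5,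 4, 3, 1, 2, 0, 3, 4], [7, 6, 5, 4, 3, 1, 2, 0, 3, 2, 4, 3, 1, 5, 4, 3, 2, 0, 6, 5, 4, 3, 1, 2, 3, 4, 5, 6, 7, 6, 5, 4, 3, 1, 2, 0, 3], [7, 6, 5, 4, 3, 1, 2, 0, 3, 2, 4, 3, 1, 5, 4, 3, 2, 0, 6, 5, 4, 3, 1, 2, 3, 4, 5, 6, 7, 6, 5, 4, 3, 1, 2, 3, 4], [7, 6, 5, 4, 3, 1, 2, 0, 3, 2, 4, 3, 1, 5, 4, 3, 2, 0, 6, 5, 4, 3, 1, 2, 3, 4, 5, 7, 6, 5, 4, 3, 1, 2, 0, 3, 2], [7, 6, 5, 4, 3, 1, 2, 0, 3, 2, 4, 3, 1, 5, 4, 3, 2, 0, 6, 5, 4, 3, 1, 2, 3, 4, 5, 7, 6, 5, 4, 3, 1, 2, 0, 3, 4], [7, 6, 5, 4, 3, 1, 2, 0, 3, 2, 4, 3, 1, 5, 4, 3, 2, 0, 6, 5, 4, 3, 1, 2, 3, 4, 5, 7, 6, 5, 4, 3, 1, 2, 3, 4, 5], [7, 6, 5, 4, 3, 1, 2, 0, 3, 2, 4, 3, 1, 5, 4, 3, 2, 0, 6, 5, 4, 3, 1, 2, 3, 4, 7, 6, 5, 4, 3, 1, 2, 0, 3, 2, 4], [7, 6, 5, 4, 3, 1, 2, 0, 3, 2, 4, 3, 1, 5,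 4, 3, 2, 0, 6, 5, 4, 3, 1, 2, 3, 4, 5, 6, 7, 6, 5, 4, 3, 1, 2, 0, 3, 2], [7, 6, 5, 4, 3, 1, 2, 0, 3, 2, 4, 3, 1, 5, 4, 3, 2, 0, 6, 5, 4, 3, 1, 2, 3, 4, 5, 6, 7, 6, 5, 4, 3, 1, 2, 0, 3, 4], [7, 6, 5, 4, 3, 1, 2, 0, 3, 2, 4, 3, 1, 5, 4, 3, 2, 0, 6, 5, 4, 3, 1, 2, 3, 4, 5, 6, 7, 6, 5, 4, 3, 1, 2, 3, 4, 5], [7, 6, 5, 4, 3, 1, 2, 0, 3, 2, 4, 3, 1, 5, 4, 3, 2, 0, 6, 5, 4, 3, 1, 2, 3, 4, 5, 7, 6, 5, 4, 3, 1, 2, 0, 3, 2, 4], [7, 6, 5, 4, 3, 1, 2, 0, 3, 2, 4, 3, 1, 5, 4, 3, 2, 0, 6, 5, 4, 3, 1, 2, 3, 4, 5, 7, 6, 5, 4, 3, 1, 2, 0, 3, 4, 5], [7, 6, 5, 4, 3, 1, 2, 0, 3, 2, 4, 3, 1, 5, 4, 3, 2, 0, 6, 5, 4, 3, 1, 2, 3, 4, 7, 6, 5, 4, 3, 1, 2, 0, 3, 2, 4, 3], [7, 6, 5, 4, 3, 1, 2, 0, 3, 2, 4, 3, 1, 5, 4, 3, 2, 0, 6, 5, 4, 3, 1, 2, 3, 4, 5, 6, 7,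 6, 5, 4, 3, 1, 2, 0, 3, 2, 4], [7, 6, 5, 4, 3, 1, 2, 0, 3, 2, 4, 3, 1, 5, 4, 3, 2, 0, 6, 5, 4, 3, 1, 2, 3, 4, 5, 6, 7, 6, 5, 4, 3, 1, 2, 0, 3, 4, 5], [7, 6, 5, 4, 3, 1, 2, 0, 3, 2, 4, 3, 1, 5, 4, 3, 2, 0, 6, 5, 4, 3, 1, 2, 3, 4, 5, 6, 7, 6, 5, 4, 3, 1, 2, 3, 4, 5, 6], [7, 6, 5, 4, 3, 1, 2, 0, 3, 2, 4, 3, 1, 5, 4, 3, 2, 0, 6, 5, 4, 3, 1, 2, 3, 4, 5, 7, 6, 5, 4, 3, 1, 2, 0, 3, 2, 4, 3], [7, 6, 5, 4, 3, 1, 2, 0, 3, 2, 4, 3, 1, 5, 4, 3, 2, 0, 6, 5, 4, 3, 1, 2, 3, 4, 5, 7, 6, 5, 4, 3, 1, 2, 0, 3, 2, 4, 5], [7, 6, 5, 4, 3, 1, 2, 0, 3, 2, 4, 3, 1, 5, 4, 3, 2, 0, 6, 5, 4, 3, 1, 2, 3, 4, 7, 6, 5, 4, 3, 1, 2, 0, 3, 2, 4, 3, 1], [7, 6, 5, 4, 3, 1, 2, 0, 3, 2, 4, 3, 1, 5, 4, 3, 2, 0, 6, 5, 4, 3, 1, 2, 3, 4, 5, 6, 7, 6, 5, 4, 3, 1, 2, 0, 3, 2,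 4, 3], [7, 6, 5, 4, 3, 1, 2, 0, 3, 2, 4, 3, 1, 5, 4, 3, 2, 0, 6, 5, 4, 3, 1, 2, 3, 4, 5, 6, 7, 6, 5, 4, 3, 1, 2, 0, 3, 2, 4, 5], [7, 6, 5, 4, 3, 1, 2, 0, 3, 2, 4, 3, 1, 5, 4, 3, 2, 0, 6, 5, 4, 3, 1, 2, 3, 4, 5, 6, 7, 6, 5, 4, 3, 1, 2, 0, 3, 4, 5, 6], [7, 6, 5, 4, 3, 1, 2, 0, 3, 2, 4, 3, 1, 5, 4, 3, 2, 0, 6, 5, 4, 3, 1, 2, 3, 4, 5, 7, 6, 5, 4, 3, 1, 2, 0, 3, 2, 4, 3, 1], [7, 6, 5, 4, 3, 1, 2, 0, 3, 2, 4, 3, 1, 5, 4, 3, 2, 0, 6, 5, 4, 3, 1, 2, 3, 4, 5, 7, 6, 5, 4, 3, 1, 2, 0, 3, 2, 4, 3, 5], [7, 6, 5, 4, 3, 1, 2, 0, 3, 2, 4, 3, 1, 5, 4, 3, 2, 0, 6, 5, 4, 3, 1, 2, 3, 4, 5, 6, 7, 6, 5, 4, 3, 1, 2, 0, 3, 2, 4, 3, 1], [7, 6, 5, 4, 3, 1, 2, 0, 3, 2, 4, 3, 1, 5, 4, 3, 2, 0, 6, 5, 4, 3, 1, 2, 3, 4, 5, 6, 7, 6, 5, 4, 3, 1, 2, 0, 3, 2, 4, 3,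 5], [7, 6, 5, 4, 3, 1, 2, 0, 3, 2, 4, 3, 1, 5, 4, 3, 2, 0, 6, 5, 4, 3, 1, 2, 3, 4, 5, 6, 7, 6, 5, 4, 3, 1, 2, 0, 3, 2, 4, 5, 6], [7, 6, 5, 4, 3, 1, 2, 0, 3, 2, 4, 3, 1, 5, 4, 3, 2, 0, 6, 5, 4, 3, 1, 2, 3, 4, 5, 7, 6, 5, 4, 3, 1, 2, 0, 3, 2, 4, 3, 1, 5], [7, 6, 5, 4, 3, 1, 2, 0, 3, 2, 4, 3, 1, 5, 4, 3, 2, 0, 6, 5, 4, 3, 1, 2, 3, 4, 5, 7, 6, 5, 4, 3, 1, 2, 0, 3, 2, 4, 3, 5, 4], [7, 6, 5, 4, 3, 1, 2, 0, 3, 2, 4, 3, 1, 5, 4, 3, 2, 0, 6, 5, 4, 3, 1, 2, 3, 4, 5, 6, 7, 6, 5, 4, 3, 1, 2, 0, 3, 2, 4, 3, 1, 5], [7, 6, 5, 4, 3, 1, 2, 0, 3, 2, 4, 3, 1, 5, 4, 3, 2, 0, 6, 5, 4, 3, 1, 2, 3, 4, 5, 6, 7, 6, 5, 4, 3, 1, 2, 0, 3, 2, 4, 3, 5, 4], [7, 6, 5, 4, 3, 1, 2, 0, 3, 2, 4, 3, 1, 5, 4, 3, 2, 0, 6, 5, 4, 3, 1, 2, 3, 4, 5, 6, 7, 6, 5, 4, 3, 1, 2,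 0, 3, 2, 4, 3, 5, 6], [7, 6, 5, 4, 3, 1, 2, 0, 3, 2, 4, 3, 1, 5, 4, 3, 2, 0, 6, 5, 4, 3, 1, 2, 3, 4, 5, 7, 6, 5, 4, 3, 1, 2, 0, 3, 2, 4, 3, 1, 5, 4], [7, 6, 5, 4, 3, 1, 2, 0, 3, 2, 4, 3, 1, 5, 4, 3, 2, 0, 6, 5, 4, 3, 1, 2, 3, 4, 5, 6, 7, 6, 5, 4, 3, 1, 2, 0, 3, 2, 4, 3, 1, 5, 4], [7, 6, 5, 4, 3, 1, 2, 0, 3, 2, 4, 3, 1, 5, 4, 3, 2, 0, 6, 5, 4, 3, 1, 2, 3, 4, 5, 6, 7, 6, 5, 4, 3, 1, 2, 0, 3, 2, 4, 3, 1, 5, 6], [7, 6, 5, 4, 3, 1, 2, 0, 3, 2, 4, 3, 1, 5, 4, 3, 2, 0, 6, 5, 4, 3, 1, 2, 3, 4, 5, 6, 7, 6, 5, 4, 3, 1, 2, 0, 3, 2, 4, 3, 5, 4, 6], [7, 6, 5, 4, 3, 1, 2, 0, 3, 2, 4, 3, 1, 5, 4, 3, 2, 0, 6, 5, 4, 3, 1, 2, 3, 4, 5, 7, 6, 5, 4, 3, 1, 2, 0, 3, 2, 4, 3, 1, 5, 4, 3], [7, 6, 5, 4, 3, 1, 2, 0, 3, 2, 4, 3, 1, 5, 4, 3, 2, 0, 6, 5, 4, 3,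 1, 2, 3, 4, 5, 6, 7, 6, 5, 4, 3, 1, 2, 0, 3, 2, 4, 3, 1, 5, 4, 3], [7, 6, 5, 4, 3, 1, 2, 0, 3, 2, 4, 3, 1, 5, 4, 3, 2, 0, 6, 5, 4, 3, 1, 2, 3, 4, 5, 6, 7, 6, 5, 4, 3, 1, 2, 0, 3, 2, 4, 3, 1, 5, 4, 6], [7, 6, 5, 4, 3, 1, 2, 0, 3, 2, 4, 3, 1, 5, 4, 3, 2, 0, 6, 5, 4, 3, 1, 2, 3, 4, 5, 6, 7, 6, 5, 4, 3, 1, 2, 0, 3, 2, 4, 3, 5, 4, 6, 5], [7, 6, 5, 4, 3, 1, 2, 0, 3, 2, 4, 3, 1, 5, 4, 3, 2, 0, 6, 5, 4, 3, 1, 2, 3, 4, 5, 7, 6, 5, 4, 3, 1, 2, 0, 3, 2, 4, 3, 1, 5, 4, 3, 2], [7, 6, 5, 4, 3, 1, 2, 0, 3, 2, 4, 3, 1, 5, 4, 3, 2, 0, 6, 5, 4, 3, 1, 2, 3, 4, 5, 6, 7, 6, 5, 4, 3, 1, 2, 0, 3, 2, 4, 3, 1, 5, 4, 3, 2], [7, 6, 5, 4, 3, 1, 2, 0, 3, 2, 4, 3, 1, 5, 4, 3, 2, 0, 6, 5, 4, 3, 1, 2, 3, 4, 5, 6, 7, 6, 5, 4, 3, 1, 2, 0, 3, 2, 4, 3, 1, 5, 4, 3, 6],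 [7, 6, 5, 4, 3, 1, 2, 0, 3, 2, 4, 3, 1, 5, 4, 3, 2, 0, 6, 5, 4, 3, 1, 2, 3, 4, 5, 6, 7, 6, 5, 4, 3, 1, 2, 0, 3, 2, 4, 3, 1, 5, 4, 6, 5], [7, 6, 5, 4, 3, 1, 2, 0, 3, 2, 4, 3, 1, 5, 4, 3, 2, 0, 6, 5, 4, 3, 1, 2, 3, 4, 5, 7, 6, 5, 4, 3, 1, 2, 0, 3, 2, 4, 3, 1, 5, 4, 3, 2, 0], [7, 6, 5, 4, 3, 1, 2, 0, 3, 2, 4, 3, 1, 5, 4, 3, 2, 0, 6, 5, 4, 3, 1, 2, 3, 4, 5, 6, 7, 6, 5, 4, 3, 1, 2, 0, 3, 2, 4, 3, 1, 5, 4, 3, 2, 0], [7, 6, 5, 4, 3, 1, 2, 0, 3, 2, 4, 3, 1, 5, 4, 3, 2, 0, 6, 5, 4, 3, 1, 2, 3, 4, 5, 6, 7, 6, 5, 4, 3, 1, 2, 0, 3, 2, 4, 3, 1, 5, 4, 3, 2, 6], [7, 6, 5, 4, 3, 1, 2, 0, 3, 2, 4, 3, 1, 5, 4, 3, 2, 0, 6, 5, 4, 3, 1, 2, 3, 4, 5, 6, 7, 6, 5, 4, 3, 1, 2, 0, 3, 2, 4, 3, 1, 5, 4, 3, 6, 5], [7, 6, 5, 4, 3, 1, 2, 0, 3, 2, 4, 3, 1, 5, 4, 3,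 2, 0, 6, 5, 4, 3, 1, 2, 3, 4, 5, 6, 7, 6, 5, 4, 3, 1, 2, 0, 3, 2, 4, 3, 1, 5, 4, 3, 2, 0, 6], [7, 6, 5, 4, 3, 1, 2, 0, 3, 2, 4, 3, 1, 5, 4, 3, 2, 0, 6, 5, 4, 3, 1, 2, 3, 4, 5, 6, 7, 6, 5, 4, 3, 1, 2, 0, 3, 2, 4, 3, 1, 5, 4, 3, 2, 6, 5], [7, 6, 5, 4, 3, 1, 2, 0, 3, 2, 4, 3, 1, 5, 4, 3, 2, 0, 6, 5, 4, 3, 1, 2, 3, 4, 5, 6, 7, 6, 5, 4, 3, 1, 2, 0, 3, 2, 4, 3, 1, 5, 4, 3, 6, 5, 4], [7, 6, 5, 4, 3, 1, 2, 0, 3, 2, 4, 3, 1, 5, 4, 3, 2, 0, 6, 5, 4, 3, 1, 2, 3, 4, 5, 6, 7, 6, 5, 4, 3, 1, 2, 0, 3, 2, 4, 3, 1, 5, 4, 3, 2, 0, 6, 5], [7, 6, 5, 4, 3, 1, 2, 0, 3, 2, 4, 3, 1, 5, 4, 3, 2, 0, 6, 5, 4, 3, 1, 2, 3, 4, 5, 6, 7, 6, 5, 4, 3, 1, 2, 0, 3, 2, 4, 3, 1, 5, 4, 3, 2, 6, 5, 4], [7, 6, 5, 4, 3, 1, 2, 0, 3, 2, 4, 3, 1, 5, 4, 3, 2, 0, 6, 5, 4, 3, 1,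 2, 3, 4, 5, 6, 7, 6, 5, 4, 3, 1, 2, 0, 3, 2, 4, 3, 1, 5, 4, 3, 2, 0, 6, 5, 4], [7, 6, 5, 4, 3, 1, 2, 0, 3, 2, 4, 3, 1, 5, 4, 3, 2, 0, 6, 5, 4, 3, 1, 2, 3, 4, 5, 6, 7, 6, 5, 4, 3, 1, 2, 0, 3, 2, 4, 3, 1, 5, 4, 3, 2, 6, 5, 4, 3], [7, 6, 5, 4, 3, 1, 2, 0, 3, 2, 4, 3, 1, 5, 4, 3, 2, 0, 6, 5, 4, 3, 1, 2, 3, 4, 5, 6, 7, 6, 5, 4, 3, 1, 2, 0, 3, 2, 4, 3, 1, 5, 4, 3, 2, 0, 6, 5, 4, 3], [7, 6, 5, 4, 3, 1, 2, 0, 3, 2, 4, 3, 1, 5, 4, 3, 2, 0, 6, 5, 4, 3, 1, 2, 3, 4, 5, 6, 7, 6, 5, 4, 3, 1, 2, 0, 3, 2, 4, 3, 1, 5, 4, 3, 2, 6, 5, 4, 3, 1], [7, 6, 5, 4, 3, 1, 2, 0, 3, 2, 4, 3, 1, 5, 4, 3, 2, 0, 6, 5, 4, 3, 1, 2, 3, 4, 5, 6, 7, 6, 5, 4, 3, 1, 2, 0, 3, 2, 4, 3, 1, 5, 4, 3, 2, 0, 6, 5, 4, 3, 1], [7, 6, 5, 4, 3, 1, 2, 0, 3, 2, 4, 3, 1, 5, 4, 3, 2, 0,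 6, 5, 4, 3, 1, 2, 3, 4, 5, 6, 7, 6, 5, 4, 3, 1, 2, 0, 3, 2, 4, 3, 1, 5, 4, 3, 2, 0, 6, 5, 4, 3, 2], [7, 6, 5, 4, 3, 1, 2, 0, 3, 2, 4, 3, 1, 5, 4, 3, 2, 0, 6, 5, 4, 3, 1, 2, 3, 4, 5, 6, 7, 6, 5, 4, 3, 1, 2, 0, 3, 2, 4, 3, 1, 5, 4, 3, 2, 0, 6, 5, 4, 3, 1, 2], [7, 6, 5, 4, 3, 1, 2, 0, 3, 2, 4, 3, 1, 5, 4, 3, 2, 0, 6, 5, 4, 3, 1, 2, 3, 4, 5, 6, 7, 6, 5, 4, 3, 1, 2, 0, 3, 2, 4, 3, 1, 5, 4, 3, 2, 0, 6, 5, 4, 3, 1, 2, 3], [7, 6, 5, 4, 3, 1, 2, 0, 3, 2, 4, 3, 1, 5, 4, 3, 2, 0, 6, 5, 4, 3, 1, 2, 3, 4, 5, 6, 7, 6, 5, 4, 3, 1, 2, 0, 3, 2, 4, 3, 1, 5, 4, 3, 2, 0, 6, 5, 4, 3, 1, 2, 3, 4], [7, 6, 5, 4, 3, 1, 2, 0, 3, 2, 4, 3, 1, 5, 4, 3, 2, 0, 6, 5, 4, 3, 1, 2, 3, 4, 5, 6, 7, 6, 5, 4, 3, 1, 2, 0, 3, 2, 4, 3, 1, 5, 4, 3, 2, 0, 6, 5, 4, 3, 1, 2, 3,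 4, 5], [7, 6, 5, 4, 3, 1, 2, 0, 3, 2, 4, 3, 1, 5, 4, 3, 2, 0, 6, 5, 4, 3, 1, 2, 3, 4, 5, 6, 7, 6, 5, 4, 3, 1, 2, 0, 3, 2, 4, 3, 1, 5, 4, 3, 2, 0, 6, 5, 4, 3, 1, 2, 3, 4, 5, 6], [7, 6, 5, 4, 3, 1, 2, 0, 3, 2, 4, 3, 1, 5, 4, 3, 2, 0, 6, 5, 4, 3, 1, 2, 3, 4, 5, 6, 7, 6, 5, 4, 3, 1, 2, 0, 3, 2, 4, 3, 1, 5, 4, 3, 2, 0, 6, 5, 4, 3, 1, 2, 3, 4, 5, 6, 7]]
  tab := [[0, 0, 0, 0, 0, 0, 0, 1], [1, 1, 1, 1, 1, 1, 2, 0], [2, 2, 2, 2, 2, 3, 1, 2], [3, 3, 3, 3, 4, 2, 3, 3], [4, 4, 4, 5, 3, 4, 4, 4], [5, 6, 7, 4, 5, 5, 5, 5], [6, 5, 8, 6, 6, 6, 6, 6], [9, 8, 5, 7, 7, 7, 7, 7], [10, 7, 6, 11, 8, 8, 8, 8], [7, 10, 9, 9, 9, 9, 9, 9], [8, 9, 10, 12, 10, 10, 10, 10], [12, 11, 11, 8, 13, 11, 11, 11], [11, 12, 14, 10, 15, 12, 12, 12], [15, 13, 13, 13, 11,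 16, 13, 13], [14, 14, 12, 14, 17, 14, 14, 14], [13, 15, 17, 15, 12, 18, 15, 15], [18, 16, 16, 16, 16, 13, 19, 16], [17, 17, 15, 20, 14, 21, 17, 17], [16, 18, 21, 18, 18, 15, 22, 18], [22, 19, 19, 19, 19, 19, 16, 23], [20, 24, 20, 17, 20, 25, 20, 20], [21, 21, 18, 25, 21, 17, 26, 21], [19, 22, 26, 22, 22, 22, 18, 27], [27, 23, 23, 23, 23, 23, 23, 19], [24, 20, 24, 24, 24, 28, 24, 24], [25, 28, 25, 21, 29, 20, 30, 25], [26, 26, 22, 30, 26, 26, 21, 31], [23, 27, 31, 27, 27, 27, 27, 22], [28, 25, 28, 28, 32, 24, 33, 28], [29, 32, 29, 29, 25, 29, 34, 29], [30, 33, 30, 26, 34, 30, 25, 35], [31, 31, 27, 35, 31, 31, 31, 26], [32, 29, 32, 36, 28, 32, 37, 32], [33, 30, 33, 33, 37, 33, 28, 38], [34, 37, 34, 34, 30, 39, 29, 40], [35, 38, 35, 31,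 40, 35, 35, 30], [36, 36, 41, 32, 36, 36, 42, 36], [37, 34, 37, 42, 33, 43, 32, 44], [38, 35, 38, 38, 44, 38, 38, 33], [39, 43, 39, 39, 39, 34, 39, 45], [40, 44, 40, 40, 35, 45, 40, 34], [46, 41, 36, 41, 41, 41, 47, 41], [42, 42, 47, 37, 42, 48, 36, 49], [43, 39, 43, 48, 43, 37, 43, 50], [44, 40, 44, 49, 38, 50, 44, 37], [45, 50, 45, 45, 45, 40, 51, 39], [41, 46, 46, 46, 46, 46, 52, 46], [52, 47, 42, 47, 47, 53, 41, 54], [48, 48, 53, 43, 55, 42, 48, 56], [49, 49, 54, 44, 49, 56, 49, 42], [50, 45, 50, 56, 50, 44, 57, 43], [51, 57, 51, 51, 51, 51, 45, 51], [47, 52, 52, 52, 52, 58, 46, 59], [58, 53, 48, 53, 60, 47, 53, 61], [59, 54, 49, 54, 54, 61, 54, 47], [55, 55, 60, 55, 48, 55, 55, 62], [56, 56, 61, 50, 62, 49, 63, 48], [57, 51, 57,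 63, 57, 57, 50, 57], [53, 58, 58, 58, 64, 52, 58, 65], [54, 59, 59, 59, 59, 65, 59, 52], [64, 60, 55, 66, 53, 60, 60, 67], [65, 61, 56, 61, 67, 54, 68, 53], [62, 62, 67, 62, 56, 62, 69, 55], [63, 63, 68, 57, 69, 63, 56, 63], [60, 64, 64, 70, 58, 64, 64, 71], [61, 65, 65, 65, 71, 59, 72, 58], [70, 73, 66, 60, 66, 66, 66, 74], [71, 67, 62, 74, 61, 67, 75, 60], [72, 68, 63, 68, 75, 68, 61, 68], [69, 69, 75, 69, 63, 76, 62, 69], [66, 77, 78, 64, 70, 70, 70, 79], [67, 71, 71, 79, 65, 71, 80, 64], [68, 72, 72, 72, 80, 72, 65, 72], [77, 66, 73, 73, 73, 73, 73, 81], [79, 81, 74, 67, 74, 74, 82, 66], [80, 75, 69, 82, 68, 83, 67, 75], [76, 76, 83, 76, 76, 69, 76, 76], [73, 70, 84, 77, 77, 77, 77, 85], [78, 84, 70, 78, 78, 78, 78, 86], [74, 85,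 86, 71, 79, 79, 87, 70], [75, 80, 80, 87, 72, 88, 71, 80], [85, 74, 81, 81, 81, 81, 89, 73], [87, 89, 82, 75, 82, 90, 74, 82], [88, 83, 76, 90, 83, 75, 83, 83], [84, 78, 77, 91, 84, 84, 84, 92], [81, 79, 92, 85, 85, 85, 93, 77], [86, 92, 79, 86, 86, 86, 94, 78], [82, 93, 94, 80, 87, 95, 79, 87], [83, 88, 88, 95, 88, 80, 88, 88], [93, 82, 89, 89, 89, 96, 81, 89], [95, 96, 90, 83, 97, 82, 90, 90], [91, 91, 91, 84, 98, 91, 91, 99], [92, 86, 85, 99, 92, 92, 100, 84], [89, 87, 100, 93, 93, 101, 85, 93], [94, 100, 87, 94, 94, 102, 86, 94], [90, 101, 102, 88, 103, 87, 95, 95], [101, 90, 96, 96, 104, 89, 96, 96], [103, 104, 97, 97, 90, 97, 97, 97], [98, 98, 98, 98, 91, 105, 98, 106], [99, 99, 99, 92, 106, 99, 107, 91], [100, 94, 93, 107, 100,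 108, 92, 100], [96, 95, 108, 101, 109, 93, 101, 101], [102, 108, 95, 102, 110, 94, 102, 102], [97, 109, 110, 103, 95, 103, 103, 103], [109, 97, 104, 111, 96, 104, 104, 104], [105, 105, 105, 105, 105, 98, 112, 113], [106, 106, 106, 106, 99, 113, 114, 98], [107, 107, 107, 100, 114, 115, 99, 107], [108, 102, 101, 115, 116, 100, 108, 108], [104, 103, 116, 117, 101, 109, 109, 109], [110, 116, 103, 118, 102, 110, 110, 110], [117, 111, 119, 104, 111, 111, 111, 111], [112, 112, 112, 112, 112, 112, 105, 120], [113, 113, 113, 113, 113, 106, 121, 105], [114, 114, 114, 114, 107, 122, 106, 114], [115, 115, 115, 108, 123, 107, 115, 115], [116, 110, 109, 124, 108, 116, 116, 116], [111, 117, 125, 109, 117, 117, 117, 117], [118, 126, 118, 110, 118,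 118, 118, 118], [127, 119, 111, 119, 119, 119, 119, 119], [120, 120, 120, 120, 120, 120, 128, 112], [121, 121, 121, 121, 121, 129, 113, 128], [122, 122, 122, 122, 130, 114, 129, 122], [123, 123, 123, 131, 115, 130, 123, 123], [124, 132, 133, 116, 131, 124, 124, 124], [134, 125, 117, 133, 125, 125, 125, 125], [126, 118, 126, 132, 126, 126, 126, 126], [119, 127, 134, 127, 127, 127, 127, 127], [128, 128, 128, 128, 128, 135, 120, 121], [129, 129, 129, 129, 136, 121, 122, 135], [130, 130, 130, 137, 122, 123, 136, 130], [131, 138, 139, 123, 124, 137, 131, 131], [132, 124, 140, 126, 138, 132, 132, 132], [141, 140, 124, 125, 139, 133, 133, 133], [125, 134, 127, 141, 134, 134, 134, 134], [135, 135, 135, 135, 142, 128, 135, 129], [136, 136,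 136, 143, 129, 136, 130, 142], [137, 144, 145, 130, 137, 131, 143, 137], [138, 131, 146, 138, 132, 144, 138, 138], [147, 146, 131, 139, 133, 145, 139, 139], [148, 133, 132, 140, 146, 140, 140, 140], [133, 148, 141, 134, 147, 141, 141, 141], [142, 142, 142, 149, 135, 142, 142, 136], [143, 150, 151, 136, 143, 143, 137, 149], [144, 137, 152, 144, 144, 138, 150, 144], [153, 152, 137, 145, 145, 139, 151, 145], [154, 139, 138, 155, 140, 152, 146, 146], [139, 154, 147, 147, 141, 153, 147, 147], [140, 141, 148, 148, 154, 148, 148, 148], [149, 156, 157, 142, 149, 149, 149, 143], [150, 143, 158, 150, 150, 150, 144, 156], [159, 158, 143, 151, 151, 151, 145, 157], [160, 145, 144, 161, 152, 146, 158, 152], [145, 160, 153, 153, 153, 147, 159, 153],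 [146, 147, 154, 162, 148, 160, 154, 154], [162, 155, 155, 146, 155, 161, 155, 155], [156, 149, 163, 156, 156, 156, 156, 150], [164, 163, 149, 157, 157, 157, 157, 151], [165, 151, 150, 166, 158, 158, 152, 163], [151, 165, 159, 159, 159, 159, 153, 164], [152, 153, 160, 167, 160, 154, 165, 160], [167, 161, 161, 152, 168, 155, 166, 161], [155, 162, 169, 154, 162, 167, 162, 162], [170, 157, 156, 171, 163, 163, 163, 158], [157, 170, 164, 164, 164, 164, 164, 159], [158, 159, 165, 172, 165, 165, 160, 170], [172, 166, 166, 158, 173, 166, 161, 171], [161, 167, 174, 160, 175, 162, 172, 167], [175, 168, 168, 168, 161, 168, 173, 168], [169, 169, 162, 169, 169, 174, 169, 169], [163, 164, 170, 176, 170, 170, 170, 165], [176, 171, 171, 163, 177, 171,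 171, 166], [166, 172, 178, 165, 179, 172, 167, 176], [179, 173, 173, 173, 166, 180, 168, 177], [174, 174, 167, 174, 181, 169, 178, 174], [168, 175, 181, 175, 167, 175, 179, 175], [171, 176, 182, 170, 183, 176, 176, 172], [183, 177, 177, 177, 171, 184, 177, 173], [178, 178, 172, 178, 185, 178, 174, 182], [173, 179, 185, 179, 172, 186, 175, 183], [186, 180, 180, 180, 180, 173, 180, 184], [181, 181, 175, 187, 174, 181, 185, 181], [182, 182, 176, 182, 188, 182, 182, 178], [177, 183, 188, 183, 176, 189, 183, 179], [189, 184, 184, 184, 184, 177, 190, 180], [185, 185, 179, 191, 178, 192, 181, 188], [180, 186, 192, 186, 186, 179, 186, 189], [187, 193, 187, 181, 187, 187, 191, 187], [188, 188, 183, 194, 182, 195, 188, 185], [184, 189, 195,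 189, 189, 183, 196, 186], [196, 190, 190, 190, 190, 190, 184, 190], [191, 197, 191, 185, 191, 198, 187, 194], [192, 192, 186, 198, 192, 185, 192, 195], [193, 187, 193, 193, 193, 193, 197, 193], [194, 199, 194, 188, 194, 200, 194, 191], [195, 195, 189, 200, 195, 188, 201, 192], [190, 196, 201, 196, 196, 196, 189, 196], [197, 191, 197, 197, 197, 202, 193, 199], [198, 202, 198, 192, 203, 191, 198, 200], [199, 194, 199, 199, 199, 204, 199, 197], [200, 204, 200, 195, 205, 194, 206, 198], [201, 201, 196, 206, 201, 201, 195, 201], [202, 198, 202, 202, 207, 197, 202, 204], [203, 207, 203, 203, 198, 203, 203, 205], [204, 200, 204, 204, 208, 199, 209, 202], [205, 208, 205, 205, 200, 205, 210, 203], [206, 209, 206, 201, 210, 206, 200, 206], [207,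 203, 207, 211, 202, 207, 207, 208], [208, 205, 208, 212, 204, 208, 213, 207], [209, 206, 209, 209, 213, 209, 204, 209], [210, 213, 210, 210, 206, 214, 205, 210], [211, 211, 215, 207, 211, 211, 211, 212], [212, 212, 216, 208, 212, 212, 217, 211], [213, 210, 213, 217, 209, 218, 208, 213], [214, 218, 214, 214, 214, 210, 214, 214], [219, 215, 211, 215, 215, 215, 215, 216], [220, 216, 212, 216, 216, 216, 221, 215], [217, 217, 221, 213, 217, 222, 212, 217], [218, 214, 218, 222, 218, 213, 218, 218], [215, 219, 219, 219, 219, 219, 219, 220], [216, 220, 220, 220, 220, 220, 223, 219], [223, 221, 217, 221, 221, 224, 216, 221], [222, 222, 224, 218, 225, 217, 222, 222], [221, 223, 223, 223, 223, 226, 220, 223], [226, 224, 222, 224, 227, 221, 224,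 224], [225, 225, 227, 225, 222, 225, 225, 225], [224, 226, 226, 226, 228, 223, 226, 226], [228, 227, 225, 229, 224, 227, 227, 227], [227, 228, 228, 230, 226, 228, 228, 228], [230, 231, 229, 227, 229, 229, 229, 229], [229, 232, 233, 228, 230, 230, 230, 230], [232, 229, 231, 231, 231, 231, 231, 231], [231, 230, 234, 232, 232, 232, 232, 232], [233, 234, 230, 233, 233, 233, 233, 233], [234, 233, 232, 235, 234, 234, 234, 234], [235, 235, 235, 234, 236, 235, 235, 235], [236, 236, 236, 236, 235, 237, 236, 236], [237, 237, 237, 237, 237, 236, 238, 237], [238, 238, 238, 238, 238, 238, 237, 239], [239, 239, 239, 239, 239, 239, 239, 238]]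
  rank := [[0, 0, 0, 0, 0, 0, 0, 0], [1, 1, 1, 1, 1, 1, 0, 0], [2, 2, 2, 2, 2, 0, 0, 1], [3, 3, 3, 3, 0, 0, 2, 2], [4, 4, 4, 0, 0, 3, 3, 3], [5, 0, 0, 0, 4, 4, 4, 4], [6, 0, 0, 5, 5, 5, 5, 5], [0, 1, 0, 5, 5, 5, 5, 5], [0, 1, 0, 0, 6, 6, 6, 6], [0, 2, 6, 6, 6, 6, 6, 6], [0, 2, 7, 0, 7, 7, 7, 7], [1, 6, 6, 0, 0, 7, 7, 7], [1, 7, 0, 0, 0, 8, 8, 8], [2, 7, 7, 7, 0, 0, 8, 8], [7, 8, 0, 8, 0, 9, 9, 9], [2, 8, 1, 8, 0, 0, 9, 9], [3, 8, 8, 8, 8, 0, 0, 9], [8, 9, 1, 0, 0, 0, 10, 10], [3, 9, 2, 9, 9, 0, 0, 10], [4, 9, 9, 9, 9, 9, 0, 0], [9, 0, 9, 0, 9, 0, 11, 11], [9, 10, 2, 1, 10, 0, 0, 11], [4, 10, 3, 10, 10, 10, 0, 0], [5, 10, 10, 10, 10, 10, 10, 0], [10, 0, 10, 10, 10, 0, 12, 12], [10, 1, 10, 1, 0, 0, 0, 12], [10, 11, 3, 2, 11, 11, 0, 0],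 [5, 11, 4, 11, 11, 11, 11, 0], [11, 1, 11, 11, 0, 0, 0, 13], [11, 2, 11, 11, 0, 10, 0, 13], [11, 2, 11, 2, 1, 12, 0, 0], [11, 12, 4, 3, 12, 12, 12, 0], [12, 2, 12, 0, 0, 11, 0, 14], [12, 2, 12, 12, 1, 13, 0, 0], [12, 3, 12, 12, 1, 0, 0, 0], [12, 3, 12, 3, 2, 13, 13, 0], [13, 12, 0, 0, 12, 12, 0, 15], [13, 3, 13, 1, 1, 0, 0, 0], [13, 3, 13, 13, 2, 14, 14, 0], [13, 4, 13, 13, 13, 0, 11, 0], [13, 4, 13, 13, 2, 1, 14, 0], [0, 13, 0, 13, 13, 13, 0, 16], [14, 13, 1, 1, 13, 0, 0, 0], [14, 4, 14, 2, 14, 0, 12, 0], [14, 4, 14, 2, 2, 1, 15, 0], [14, 5, 14, 14, 14, 1, 0, 0], [0, 14, 14, 14, 14, 14, 0, 17], [1, 14, 1, 14, 14, 0, 0, 0], [15, 14, 2, 2, 0, 0, 13, 0], [15, 14, 2, 2, 14, 1, 16, 0], [15, 5, 15, 3, 15, 1, 0, 0], [15, 6, 15, 15, 15, 15,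 0, 12], [1, 15, 15, 15, 15, 0, 0, 0], [2, 15, 2, 15, 0, 0, 14, 0], [2, 15, 2, 15, 15, 1, 17, 0], [16, 15, 3, 15, 0, 14, 14, 0], [16, 15, 3, 3, 1, 1, 0, 0], [16, 6, 16, 4, 16, 16, 0, 13], [2, 16, 16, 16, 0, 0, 15, 0], [2, 16, 16, 16, 16, 1, 18, 0], [3, 16, 3, 0, 0, 15, 15, 0], [3, 16, 3, 16, 1, 1, 0, 0], [17, 16, 4, 16, 1, 15, 0, 0], [17, 16, 4, 4, 2, 17, 0, 14], [3, 17, 17, 0, 0, 16, 16, 0], [3, 17, 17, 17, 1, 1, 0, 0], [4, 0, 16, 0, 16, 16, 16, 0], [4, 17, 4, 1, 1, 16, 0, 0], [4, 17, 4, 17, 2, 18, 0, 15], [18, 17, 5, 17, 2, 0, 0, 15], [4, 0, 0, 0, 17, 17, 17, 0], [4, 18, 18, 1, 1, 17, 0, 0], [4, 18, 18, 18, 2, 19, 0, 16], [5, 0, 17, 17, 17, 17, 17, 0], [5, 1, 17, 1, 17, 17, 0, 0], [5, 18, 5, 2, 2, 0, 0, 16], [19, 18, 6, 18, 18, 0,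 16, 16], [5, 0, 0, 18, 18, 18, 18, 0], [17, 1, 0, 18, 18, 18, 18, 0], [5, 1, 1, 1, 18, 18, 0, 0], [5, 19, 19, 2, 2, 0, 0, 17], [6, 1, 18, 18, 18, 18, 0, 0], [6, 2, 18, 2, 18, 0, 0, 17], [6, 19, 6, 3, 19, 0, 17, 17], [18, 1, 0, 0, 19, 19, 19, 0], [6, 1, 1, 19, 19, 19, 0, 0], [18, 2, 1, 19, 19, 19, 0, 0], [6, 2, 2, 2, 19, 0, 0, 18], [6, 20, 20, 3, 20, 0, 18, 18], [7, 2, 19, 19, 19, 0, 0, 18], [7, 3, 19, 3, 0, 0, 18, 18], [19, 19, 19, 0, 0, 20, 20, 0], [19, 2, 1, 1, 20, 20, 0, 0], [7, 2, 2, 20, 20, 0, 0, 19], [19, 3, 2, 20, 20, 0, 0, 19], [7, 3, 3, 3, 0, 0, 19, 19], [8, 3, 20, 20, 0, 0, 19, 19], [8, 4, 20, 20, 0, 19, 19, 19], [20, 20, 20, 20, 0, 0, 21, 0], [20, 20, 20, 1, 1, 21, 0, 0], [20, 3, 2, 2, 21, 0, 0, 20], [8, 3, 3, 21, 0, 0,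 20, 20], [20, 4, 3, 21, 0, 0, 20, 20], [8, 4, 4, 21, 0, 20, 20, 20], [9, 4, 21, 0, 0, 20, 20, 20], [21, 21, 21, 21, 21, 0, 0, 0], [21, 21, 21, 21, 1, 1, 0, 0], [21, 21, 21, 2, 2, 0, 0, 21], [21, 4, 3, 3, 0, 0, 21, 21], [9, 4, 4, 0, 0, 21, 21, 21], [21, 5, 4, 0, 0, 21, 21, 21], [10, 21, 0, 0, 21, 21, 21, 21], [22, 22, 22, 22, 22, 22, 0, 0], [22, 22, 22, 22, 22, 1, 0, 0], [22, 22, 22, 22, 2, 0, 0, 22], [22, 22, 22, 3, 0, 0, 22, 22], [22, 5, 4, 0, 0, 22, 22, 22], [10, 22, 0, 0, 22, 22, 22, 22], [22, 0, 22, 0, 22, 22, 22, 22], [0, 22, 0, 22, 22, 22, 22, 22], [23, 23, 23, 23, 23, 23, 0, 0], [23, 23, 23, 23, 23, 0, 0, 1], [23, 23, 23, 23, 0, 0, 2, 23], [23, 23, 23, 0, 0, 3, 23, 23], [23, 0, 0, 0, 4, 23, 23, 23], [0, 23, 0, 5, 23, 23, 23,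 23], [23, 0, 23, 6, 23, 23, 23, 23], [0, 23, 11, 23, 23, 23, 23, 23], [24, 24, 24, 24, 24, 0, 0, 1], [24, 24, 24, 24, 0, 0, 2, 2], [24, 24, 24, 0, 0, 3, 3, 24], [24, 0, 0, 0, 4, 4, 24, 24], [24, 0, 0, 6, 5, 24, 24, 24], [0, 1, 0, 5, 5, 24, 24, 24], [0, 24, 11, 6, 24, 24, 24, 24], [25, 25, 25, 25, 0, 0, 24, 2], [25, 25, 25, 0, 0, 24, 3, 3], [25, 0, 0, 0, 24, 4, 4, 25], [25, 0, 0, 24, 5, 5, 25, 25], [0, 1, 0, 24, 5, 5, 25, 25], [0, 1, 0, 24, 6, 25, 25, 25], [0, 2, 24, 6, 6, 25, 25, 25], [26, 26, 26, 0, 0, 25, 25, 3], [26, 0, 0, 0, 25, 25, 4, 4], [26, 0, 0, 25, 25, 5, 5, 26], [0, 1, 0, 25, 25, 5, 5, 26], [0, 1, 0, 0, 6, 6, 26, 26], [0, 2, 25, 25, 6, 6, 26, 26], [0, 2, 25, 25, 7, 26, 26, 26], [27, 0, 0, 0, 26, 26, 26, 4], [27, 0, 0, 26,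 26, 26, 5, 5], [0, 1, 0, 26, 26, 26, 5, 5], [0, 1, 0, 0, 26, 6, 6, 27], [0, 2, 26, 26, 26, 6, 6, 27], [0, 2, 26, 0, 7, 7, 27, 27], [1, 25, 25, 0, 25, 7, 27, 27], [28, 0, 0, 27, 27, 27, 27, 5], [0, 1, 0, 27, 27, 27, 27, 5], [0, 1, 0, 0, 27, 27, 6, 6], [0, 2, 27, 27, 27, 27, 6, 6], [0, 2, 27, 0, 27, 7, 7, 28], [1, 26, 26, 0, 0, 7, 7, 28], [1, 26, 0, 0, 26, 8, 28, 28], [0, 1, 0, 0, 28, 28, 28, 6], [0, 2, 28, 28, 28, 28, 28, 6], [0, 2, 28, 0, 28, 28, 7, 7], [1, 27, 27, 0, 0, 28, 7, 7], [1, 27, 0, 0, 0, 8, 8, 29], [2, 27, 27, 27, 0, 26, 8, 29], [26, 27, 0, 27, 27, 9, 29, 29], [0, 2, 29, 0, 29, 29, 29, 7], [1, 28, 28, 0, 0, 29, 29, 7], [1, 28, 0, 0, 0, 29, 8, 8], [2, 28, 28, 28, 0, 0, 8, 8], [27, 28, 0, 28, 0, 9, 9, 30], [2, 28, 1, 28, 0,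 27, 9, 30], [1, 29, 0, 0, 0, 30, 30, 8], [2, 29, 29, 29, 0, 0, 30, 8], [28, 29, 0, 29, 0, 30, 9, 9], [2, 29, 1, 29, 0, 0, 9, 9], [3, 29, 29, 29, 29, 0, 27, 9], [28, 29, 1, 0, 0, 28, 10, 31], [29, 30, 0, 30, 0, 31, 31, 9], [2, 30, 1, 30, 0, 0, 31, 9], [3, 30, 30, 30, 30, 0, 0, 9], [29, 30, 1, 0, 0, 0, 10, 10], [3, 30, 2, 30, 30, 0, 28, 10], [29, 0, 29, 0, 29, 29, 11, 32], [30, 31, 1, 0, 0, 0, 32, 10], [3, 31, 2, 31, 31, 0, 0, 10], [4, 31, 31, 31, 31, 31, 0, 28], [30, 0, 30, 0, 30, 0, 11, 11], [30, 31, 2, 1, 31, 0, 29, 11], [30, 0, 30, 30, 30, 30, 12, 33], [31, 0, 31, 0, 31, 0, 33, 11], [31, 32, 2, 1, 32, 0, 0, 11], [4, 32, 3, 32, 32, 32, 0, 29], [31, 0, 31, 31, 31, 0, 12, 12], [31, 1, 31, 1, 0, 0, 30, 12], [32, 0, 32, 32, 32, 0, 34,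 12], [32, 1, 32, 1, 0, 0, 0, 12], [32, 33, 3, 2, 33, 33, 0, 30], [32, 1, 32, 32, 0, 0, 31, 13], [32, 2, 32, 32, 0, 31, 31, 13], [33, 1, 33, 33, 0, 0, 0, 13], [33, 2, 33, 33, 0, 32, 0, 13], [33, 2, 33, 2, 1, 34, 0, 31], [33, 2, 33, 0, 0, 32, 32, 14], [34, 2, 34, 0, 0, 33, 0, 14], [34, 2, 34, 34, 1, 35, 0, 32], [34, 3, 34, 34, 1, 0, 0, 32], [34, 33, 0, 0, 33, 33, 33, 15], [35, 34, 0, 0, 34, 34, 0, 15], [35, 3, 35, 1, 1, 0, 0, 33], [35, 4, 35, 35, 35, 0, 33, 33], [0, 34, 0, 34, 34, 34, 34, 16], [0, 35, 0, 35, 35, 35, 0, 16], [36, 35, 1, 1, 35, 0, 0, 34], [36, 4, 36, 2, 36, 0, 34, 34], [0, 35, 35, 35, 35, 35, 35, 17], [0, 36, 36, 36, 36, 36, 0, 17], [1, 36, 1, 36, 36, 0, 0, 35], [37, 36, 2, 2, 0, 0, 35, 35], [1, 37, 37, 37, 37, 0, 0, 36],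 [2, 37, 2, 37, 0, 0, 36, 36], [38, 37, 3, 37, 0, 36, 36, 36], [2, 38, 38, 38, 0, 0, 37, 37], [3, 38, 3, 0, 0, 37, 37, 37], [3, 39, 39, 0, 0, 38, 38, 38], [4, 0, 38, 0, 38, 38, 38, 38], [4, 0, 0, 0, 39, 39, 39, 39], [5, 0, 39, 39, 39, 39, 39, 39], [5, 0, 0, 40, 40, 40, 40, 40], [39, 1, 0, 40, 40, 40, 40, 40], [40, 1, 0, 0, 41, 41, 41, 41], [41, 41, 41, 0, 0, 42, 42, 42], [42, 42, 42, 42, 0, 0, 43, 43], [43, 43, 43, 43, 43, 0, 0, 44], [44, 44, 44, 44, 44, 44, 0, 0], [45, 45, 45, 45, 45, 45, 45, 0]]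
  just := [[0, 0, 0, 0, 0, 0, 0, 0], [8, 8, 8, 8, 8, 8, 0, 0], [7, 7, 7, 7, 7, 0, 0, 7], [6, 6, 6, 6, 0, 0, 6, 6], [5, 5, 5, 0, 0, 5, 5, 5], [4, 0, 0, 0, 4, 4, 4, 4], [2, 0, 0, 2, 2, 2, 2, 2], [0, 3, 0, 3, 3, 3, 3, 3], [0, 3, 0, 0, 2, 2, 2, 2], [0, 1, 1, 1, 1, 1, 1, 1], [0, 1, 1, 0, 1, 1, 1, 1], [4, 4, 4, 0, 0, 4, 4, 4], [4, 1, 0, 0, 0, 1, 1, 1], [5, 5, 5, 5, 0, 0, 5, 5], [3, 3, 0, 3, 0, 3, 3, 3], [5, 1, 5, 1, 0, 0, 1, 1], [6, 6, 6, 6, 6, 0, 0, 6], [5, 5, 5, 0, 0, 0, 3, 3], [6, 1, 6, 1, 1, 0, 0, 1], [7, 7, 7, 7, 7, 7, 0, 0], [4, 0, 4, 0, 4, 0, 4, 4], [6, 6, 6, 6, 3, 0, 0, 3], [7, 1, 7, 1, 1, 1, 0, 0], [8, 8, 8, 8, 8, 8, 8, 0], [2, 0, 2, 2, 2, 0, 2, 2], [6, 6, 6, 6, 0, 0, 0, 4], [7, 7, 7, 7, 3, 3, 0, 0], [8, 1, 8, 1, 1, 1, 1, 0], [6,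 6, 2, 2, 0, 0, 0, 2], [5, 5, 5, 5, 0, 5, 0, 5], [7, 7, 7, 7, 7, 4, 0, 0], [8, 8, 8, 8, 3, 3, 3, 0], [5, 5, 2, 0, 0, 2, 0, 2], [7, 7, 2, 2, 7, 2, 0, 0], [7, 7, 7, 7, 7, 0, 0, 0], [8, 8, 8, 8, 8, 4, 4, 0], [4, 4, 0, 0, 4, 4, 0, 4], [7, 7, 2, 7, 7, 0, 0, 0], [8, 8, 2, 2, 8, 2, 2, 0], [6, 6, 6, 6, 6, 0, 6, 0], [8, 8, 8, 8, 8, 8, 5, 0], [0, 3, 0, 3, 3, 3, 0, 3], [7, 7, 7, 7, 4, 0, 0, 0], [6, 6, 2, 6, 2, 0, 2, 0], [8, 8, 2, 8, 8, 8, 2, 0], [8, 8, 8, 8, 8, 8, 0, 0], [0, 1, 1, 1, 1, 1, 0, 1], [7, 7, 7, 3, 3, 0, 0, 0], [6, 6, 6, 6, 0, 0, 4, 0], [8, 8, 8, 8, 4, 8, 4, 0], [8, 8, 2, 8, 2, 8, 0, 0], [7, 7, 7, 7, 7, 7, 0, 7], [7, 1, 1, 1, 1, 0, 0, 0], [6, 6, 6, 3, 0, 0, 3, 0], [8, 8, 8, 3, 3, 8, 3, 0], [5, 5, 5, 5, 0, 5, 5, 0], [8, 8, 8, 8, 8, 8,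 0, 0], [7, 7, 2, 7, 2, 2, 0, 2], [6, 1, 1, 1, 0, 0, 1, 0], [8, 1, 1, 1, 1, 8, 1, 0], [5, 5, 5, 0, 0, 3, 3, 0], [8, 8, 8, 3, 8, 8, 0, 0], [8, 8, 8, 8, 8, 5, 0, 0], [7, 7, 7, 7, 7, 4, 0, 4], [5, 1, 1, 0, 0, 1, 1, 0], [8, 1, 1, 1, 8, 8, 0, 0], [4, 0, 4, 0, 4, 4, 4, 0], [8, 8, 8, 8, 8, 3, 0, 0], [7, 7, 7, 3, 7, 3, 0, 3], [7, 7, 7, 7, 7, 0, 0, 5], [4, 0, 0, 0, 1, 1, 1, 0], [8, 1, 1, 8, 8, 1, 0, 0], [7, 1, 1, 1, 7, 1, 0, 1], [2, 0, 2, 2, 2, 2, 2, 0], [8, 8, 8, 8, 4, 4, 0, 0], [7, 7, 7, 7, 7, 0, 0, 3], [6, 6, 6, 6, 6, 0, 6, 6], [2, 0, 0, 1, 1, 1, 1, 0], [3, 3, 0, 3, 3, 3, 3, 0], [8, 8, 8, 8, 1, 1, 0, 0], [7, 1, 1, 7, 7, 0, 0, 1], [8, 8, 2, 2, 2, 2, 0, 0], [7, 7, 7, 7, 4, 0, 0, 4], [6, 6, 6, 6, 3, 0, 3, 3], [3, 3, 0, 0, 2, 2, 2, 0], [8, 8,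 8, 1, 1, 1, 0, 0], [8, 8, 8, 3, 3, 3, 0, 0], [7, 7, 7, 7, 1, 0, 0, 1], [6, 1, 1, 6, 1, 0, 1, 1], [7, 7, 2, 2, 2, 0, 0, 2], [6, 6, 6, 6, 0, 0, 4, 4], [4, 4, 4, 0, 0, 4, 4, 0], [8, 8, 8, 8, 2, 2, 0, 0], [7, 7, 7, 1, 1, 0, 0, 1], [7, 7, 7, 3, 3, 0, 0, 3], [6, 6, 6, 6, 0, 0, 1, 1], [6, 6, 2, 2, 0, 0, 2, 2], [5, 5, 5, 5, 0, 5, 5, 5], [5, 5, 5, 5, 0, 0, 5, 0], [8, 8, 8, 8, 8, 4, 0, 0], [7, 7, 7, 7, 2, 0, 0, 2], [6, 6, 6, 1, 0, 0, 1, 1], [6, 6, 6, 3, 0, 0, 3, 3], [5, 5, 5, 1, 0, 1, 1, 1], [5, 5, 2, 0, 0, 2, 2, 2], [6, 6, 6, 6, 6, 0, 0, 0], [8, 8, 8, 8, 8, 8, 0, 0], [7, 7, 7, 7, 7, 0, 0, 4], [6, 6, 6, 6, 0, 0, 2, 2], [5, 5, 5, 0, 0, 1, 1, 1], [5, 5, 5, 0, 0, 3, 3, 3], [4, 4, 0, 0, 4, 4, 4, 4], [7, 7, 7, 7, 7, 7, 0, 0], [8, 8, 8, 8, 8, 8, 0,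 0], [7, 7, 7, 7, 7, 0, 0, 5], [6, 6, 6, 6, 0, 0, 4, 4], [5, 5, 5, 0, 0, 2, 2, 2], [4, 1, 0, 0, 1, 1, 1, 1], [4, 0, 4, 0, 4, 4, 4, 4], [0, 3, 0, 3, 3, 3, 3, 3], [8, 8, 8, 8, 8, 8, 0, 0], [7, 7, 7, 7, 7, 0, 0, 7], [6, 6, 6, 6, 0, 0, 6, 6], [5, 5, 5, 0, 0, 5, 5, 5], [4, 0, 0, 0, 4, 4, 4, 4], [0, 3, 0, 3, 3, 3, 3, 3], [2, 0, 2, 2, 2, 2, 2, 2], [0, 1, 1, 1, 1, 1, 1, 1], [7, 7, 7, 7, 7, 0, 0, 7], [6, 6, 6, 6, 0, 0, 6, 6], [5, 5, 5, 0, 0, 5, 5, 5], [4, 0, 0, 0, 4, 4, 4, 4], [2, 0, 0, 2, 2, 2, 2, 2], [0, 3, 0, 3, 3, 3, 3, 3], [0, 1, 1, 1, 1, 1, 1, 1], [6, 6, 6, 6, 0, 0, 6, 6], [5, 5, 5, 0, 0, 5, 5, 5], [4, 0, 0, 0, 4, 4, 4, 4], [2, 0, 0, 2, 2, 2, 2, 2], [0, 3, 0, 3, 3, 3, 3, 3], [0, 3, 0, 2, 2, 2, 2, 2], [0, 1, 1, 1, 1, 1, 1, 1], [5, 5, 5,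 0, 0, 5, 5, 5], [4, 0, 0, 0, 4, 4, 4, 4], [2, 0, 0, 2, 2, 2, 2, 2], [0, 3, 0, 3, 3, 3, 3, 3], [0, 3, 0, 0, 2, 2, 2, 2], [0, 1, 1, 1, 1, 1, 1, 1], [0, 1, 1, 1, 1, 1, 1, 1], [4, 0, 0, 0, 4, 4, 4, 4], [2, 0, 0, 2, 2, 2, 2, 2], [0, 3, 0, 3, 3, 3, 3, 3], [0, 3, 0, 0, 2, 2, 2, 2], [0, 1, 1, 1, 1, 1, 1, 1], [0, 1, 1, 0, 1, 1, 1, 1], [4, 4, 4, 0, 4, 4, 4, 4], [2, 0, 0, 2, 2, 2, 2, 2], [0, 3, 0, 3, 3, 3, 3, 3], [0, 3, 0, 0, 2, 2, 2, 2], [0, 1, 1, 1, 1, 1, 1, 1], [0, 1, 1, 0, 1, 1, 1, 1], [4, 4, 4, 0, 0, 4, 4, 4], [4, 1, 0, 0, 1, 1, 1, 1], [0, 3, 0, 0, 2, 2, 2, 2], [0, 1, 1, 1, 1, 1, 1, 1], [0, 1, 1, 0, 1, 1, 1, 1], [4, 4, 4, 0, 0, 4, 4, 4], [4, 1, 0, 0, 0, 1, 1, 1], [5, 5, 5, 5, 0, 5, 5, 5], [3, 3, 0, 3, 3, 3, 3, 3], [0, 1, 1, 0, 1, 1, 1, 1],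 [4, 4, 4, 0, 0, 4, 4, 4], [4, 1, 0, 0, 0, 1, 1, 1], [5, 5, 5, 5, 0, 0, 5, 5], [3, 3, 0, 3, 0, 3, 3, 3], [5, 1, 5, 1, 0, 1, 1, 1], [4, 1, 0, 0, 0, 1, 1, 1], [5, 5, 5, 5, 0, 0, 5, 5], [3, 3, 0, 3, 0, 3, 3, 3], [5, 1, 5, 1, 0, 0, 1, 1], [6, 6, 6, 6, 6, 0, 6, 6], [5, 5, 5, 0, 0, 3, 3, 3], [3, 3, 0, 3, 0, 3, 3, 3], [5, 1, 5, 1, 0, 0, 1, 1], [6, 6, 6, 6, 6, 0, 0, 6], [5, 5, 5, 0, 0, 0, 3, 3], [6, 1, 6, 1, 1, 0, 1, 1], [4, 0, 4, 0, 4, 4, 4, 4], [5, 5, 5, 0, 0, 0, 3, 3], [6, 1, 6, 1, 1, 0, 0, 1], [7, 7, 7, 7, 7, 7, 0, 7], [4, 0, 4, 0, 4, 0, 4, 4], [6, 6, 6, 6, 3, 0, 3, 3], [2, 0, 2, 2, 2, 2, 2, 2], [4, 0, 4, 0, 4, 0, 4, 4], [6, 6, 6, 6, 3, 0, 0, 3], [7, 1, 7, 1, 1, 1, 0, 1], [2, 0, 2, 2, 2, 0, 2, 2], [6, 6, 6, 6, 0, 0, 4, 4], [2, 0, 2, 2,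 2, 0, 2, 2], [6, 6, 6, 6, 0, 0, 0, 4], [7, 7, 7, 7, 3, 3, 0, 3], [6, 6, 2, 2, 0, 0, 2, 2], [5, 5, 5, 5, 0, 5, 5, 5], [6, 6, 2, 2, 0, 0, 0, 2], [5, 5, 5, 5, 0, 5, 0, 5], [7, 7, 7, 7, 7, 4, 0, 4], [5, 5, 2, 0, 0, 2, 2, 2], [5, 5, 2, 0, 0, 2, 0, 2], [7, 7, 2, 2, 7, 2, 0, 2], [7, 7, 7, 7, 7, 0, 0, 5], [4, 4, 0, 0, 4, 4, 4, 4], [4, 4, 0, 0, 4, 4, 0, 4], [7, 7, 2, 7, 7, 0, 0, 2], [6, 6, 6, 6, 6, 0, 6, 6], [0, 3, 0, 3, 3, 3, 3, 3], [0, 3, 0, 3, 3, 3, 0, 3], [7, 7, 7, 7, 4, 0, 0, 4], [6, 6, 2, 6, 2, 0, 2, 2], [0, 1, 1, 1, 1, 1, 1, 1], [0, 1, 1, 1, 1, 1, 0, 1], [7, 7, 7, 3, 3, 0, 0, 3], [6, 6, 6, 6, 0, 0, 4, 4], [7, 1, 1, 1, 1, 0, 0, 1], [6, 6, 6, 3, 0, 0, 3, 3], [5, 5, 5, 5, 0, 5, 5, 5], [6, 1, 1, 1, 0, 0, 1, 1], [5, 5, 5, 0, 0, 3, 3, 3],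 [5, 1, 1, 0, 0, 1, 1, 1], [4, 0, 4, 0, 4, 4, 4, 4], [4, 0, 0, 0, 1, 1, 1, 1], [2, 0, 2, 2, 2, 2, 2, 2], [2, 0, 0, 1, 1, 1, 1, 1], [3, 3, 0, 3, 3, 3, 3, 3], [3, 3, 0, 0, 2, 2, 2, 2], [4, 4, 4, 0, 0, 4, 4, 4], [5, 5, 5, 5, 0, 0, 5, 5], [6, 6, 6, 6, 6, 0, 0, 6], [7, 7, 7, 7, 7, 7, 0, 0], [8, 8, 8, 8, 8, 8, 8, 0]]
def coxCertsE8 : List LevelCert := [certE8_1, certE8_2, certE8_3, certE8_4, certE8_5, certE8_6, certE8_7, certE8_8]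

set_option backward.isDefEq.respectTransparency false in
theorem hME8 : ∀ i i' : Fin 8, (CoxeterMatrix.E₈) i i' = tget mTE8 i i' := by decide

theorem hCE8 : cartanOk 8 mTE8 cTE8 = true := by decide

theorem validE8_0 : levelCheck 8 mTE8 cTE8 1 (certAt coxCertsE8 0) = true := by
  decide +kernel

theorem validE8_1 : levelCheck 8 mTE8 cTE8 2 (certAt coxCertsE8 1) = true := by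
  decide +kernel

theorem validE8_2 : levelCheck 8 mTE8 cTE8 3 (certAt coxCertsE8 2) = true := by
  decide +kernel

theorem validE8_3 : levelCheck 8 mTE8 cTE8 4 (certAt coxCertsE8 3) = true := by
  decide +kernel

theorem validE8_4 : levelCheck 8 mTE8 cTE8 5 (certAt coxCertsE8 4) = true := by
  decide +kernel

theorem validE8_5 : levelCheck 8 mTE8 cTE8 6 (certAt coxCertsE8 5) = true := by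
  decide +kernel

theorem validE8_6 : levelCheck 8 mTE8 cTE8 7 (certAt coxCertsE8 6) = true := by
  decide +kernel

/-- Chunk of the edge check of `levelCheck`. -/
def levelCheckB (mT : List (List ℕ)) (j : ℕ) (c : LevelCert) (a b : ℕ) : Bool :=
  (List.range' a b).all (fun x => (List.range j).all (fun i => checkEdge mT j c x i))

/-- Chunk of the injectivity check of `levelCheck`. -/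
def levelCheckC (n : ℕ) (cT : List (List ℤ)) (j : ℕ) (c : LevelCert) (a b : ℕ) : Bool :=
  (List.range' a b).all (fun x => (List.range x).all (fun y =>
    decide (applyW cT n (c.words.getD x []).reverse (unitL n (j - 1)) ≠
      applyW cT n (c.words.getD y []).reverse (unitL n (j - 1)))))

theorem chunk_cover_cox (n step : ℕ) (hstep : 0 < step) (s : ℕ) (hs : s < n) :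
    ∃ p ∈ (List.range ((n + step - 1) / step)).map (fun k => (k * step, step)), p.1 ≤ s ∧ s < p.1 + p.2 := by
  refine ⟨(s / step * step, step), ?_, Nat.div_mul_le_self s step, ?_⟩
  · rw [List.mem_map]
    refine ⟨s / step, List.mem_range.mpr ?_, rfl⟩
    rw [Nat.div_lt_iff_lt_mul hstep]
    have h1 : n ≤ (n + step - 1) / step * step := by
      have := Nat.div_add_mod (n + step - 1) step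
      have h2 := Nat.mod_lt (n + step - 1) hstep
      have h3 : step * ((n + step - 1) / step) = (n + step - 1) / step * step := Nat.mul_comm _ _
      omega
    omega
  · have := Nat.div_add_mod s step
    have h2 := Nat.mod_lt s hstep
    have h3 : step * (s / step) = s / step * step := Nat.mul_comm _ _
    show s < s / step * step + step
    omega

theorem levelCheck_of_chunks (n : ℕ) (mT : List (List ℕ)) (cT : List (List ℤ)) (j : ℕ) (c : LevelCert)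
    (LB LC : List (ℕ × ℕ))
    (h1 : decide (c.words.getD 0 [1] = []) = true)
    (h2 : c.words.all (fun w => w.all (fun a => decide (a < j))) = true)
    (hB : ∀ p ∈ LB, levelCheckB mT j c p.1 p.2 = true)
    (hBcov : ∀ x, x < c.words.length → ∃ p ∈ LB, p.1 ≤ x ∧ x < p.1 + p.2)
    (hC : ∀ p ∈ LC, levelCheckC n cT j c p.1 p.2 = true)
    (hCcov : ∀ x, x < c.words.length → ∃ p ∈ LC, p.1 ≤ x ∧ x < p.1 + p.2) :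
    levelCheck n mT cT j c = true := by
  unfold levelCheck
  rw [Bool.and_eq_true, Bool.and_eq_true, Bool.and_eq_true]
  refine ⟨⟨⟨h1, h2⟩, ?_⟩, ?_⟩
  · rw [List.all_eq_true]
    intro x hx
    obtain ⟨p, hp, hp1, hp2⟩ := hBcov x (List.mem_range.mp hx)
    have h := hB p hp
    unfold levelCheckB at h
    rw [List.all_eq_true] at h
    exact h x (List.mem_range'_1.mpr ⟨hp1, hp2⟩)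
  · rw [decide_eq_true_eq, List.nodup_iff_getElem?_ne_getElem?]
    intro i k hik hk
    rw [List.length_map] at hk
    obtain ⟨p, hp, hp1, hp2⟩ := hCcov k hk
    have h := hC p hp
    unfold levelCheckC at h
    rw [List.all_eq_true] at h
    have h3 := h k (List.mem_range'_1.mpr ⟨hp1, hp2⟩)
    rw [List.all_eq_true] at h3
    have h4 := of_decide_eq_true (h3 i (List.mem_range.mpr hik))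
    rw [List.getElem?_map, List.getElem?_map, List.getElem?_eq_getElem (by omega),
      List.getElem?_eq_getElem hk]
    simp only [Option.map_some, ne_eq, Option.some.injEq]
    rw [← List.getD_eq_getElem (d := []), ← List.getD_eq_getElem (d := [])]
    exact fun e => h4 e.symm

theorem validE8_7_B0 : levelCheckB mTE8 8 (certAt coxCertsE8 7) 0 60 = true := by
  decide +kernel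

theorem validE8_7_B1 : levelCheckB mTE8 8 (certAt coxCertsE8 7) 60 60 = true := by
  decide +kernel

theorem validE8_7_B2 : levelCheckB mTE8 8 (certAt coxCertsE8 7) 120 60 = true := by
  decide +kernel

theorem validE8_7_B3 : levelCheckB mTE8 8 (certAt coxCertsE8 7) 180 60 = true := by
  decide +kernel

theorem validE8_7_C0 : levelCheckC 8 cTE8 8 (certAt coxCertsE8 7) 0 30 = true := by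
  decide +kernel

theorem validE8_7_C1 : levelCheckC 8 cTE8 8 (certAt coxCertsE8 7) 30 30 = true := by
  decide +kernel

theorem validE8_7_C2 : levelCheckC 8 cTE8 8 (certAt coxCertsE8 7) 60 30 = true := by
  decide +kernel

theorem validE8_7_C3 : levelCheckC 8 cTE8 8 (certAt coxCertsE8 7) 90 30 = true := by
  decide +kernel

theorem validE8_7_C4 : levelCheckC 8 cTE8 8 (certAt coxCertsE8 7) 120 30 = true := by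
  decide +kernel

theorem validE8_7_C5 : levelCheckC 8 cTE8 8 (certAt coxCertsE8 7) 150 30 = true := by
  decide +kernel

theorem validE8_7_C6 : levelCheckC 8 cTE8 8 (certAt coxCertsE8 7) 180 30 = true := by
  decide +kernel

theorem validE8_7_C7 : levelCheckC 8 cTE8 8 (certAt coxCertsE8 7) 210 30 = true := by
  decide +kernel

theorem validE8_7 : levelCheck 8 mTE8 cTE8 8 (certAt coxCertsE8 7) = true := by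
  have hlen : (certAt coxCertsE8 7).words.length = 240 := by decide +kernel
  apply levelCheck_of_chunks 8 mTE8 cTE8 8 (certAt coxCertsE8 7)
    ((List.range 4).map (fun k => (k * 60, 60))) ((List.range 8).map (fun k => (k * 30, 30)))
  · decide +kernel
  · decide +kernel
  · intro p hp
    have hp' : p ∈ [(0, 60), (60, 60), (120, 60), (180, 60)] := hp
    simp only [List.mem_cons, List.not_mem_nil, or_false] at hp'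
    rcases hp' with rfl | rfl | rfl | rfl
    · exact validE8_7_B0
    · exact validE8_7_B1
    · exact validE8_7_B2
    · exact validE8_7_B3
  · intro x hx
    rw [hlen] at hx
    exact chunk_cover_cox 240 60 (by norm_num) x hx
  · intro p hp
    have hp' : p ∈ [(0, 30), (30, 30), (60, 30), (90, 30), (120, 30), (150, 30), (180, 30), (210, 30)] := hp
    simp only [List.mem_cons, List.not_mem_nil, or_false] at hp'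
    rcases hp' with rfl | rfl | rfl | rfl | rfl | rfl | rfl | rfl
    · exact validE8_7_C0
    · exact validE8_7_C1
    · exact validE8_7_C2
    · exact validE8_7_C3
    · exact validE8_7_C4
    · exact validE8_7_C5
    · exact validE8_7_C6
    · exact validE8_7_C7
  · intro x hx
    rw [hlen] at hx
    exact chunk_cover_cox 240 30 (by norm_num) x hx

theorem validE8 : ∀ j < 8, levelCheck 8 mTE8 cTE8 (j + 1) (certAt coxCertsE8 j) = true := by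
  intro j hj
  interval_cases j
  · exact validE8_0
  · exact validE8_1
  · exact validE8_2
  · exact validE8_3
  · exact validE8_4
  · exact validE8_5
  · exact validE8_6
  · exact validE8_7

theorem cardE8 : Nat.card (CoxeterMatrix.E₈).Group = cardProd coxCertsE8 8 :=
  coxeter_card (CoxeterMatrix.E₈) mTE8 cTE8 hME8 hCE8 coxCertsE8 validE8

theorem orderE8 : orderOf ((List.finRange 8).map (CoxeterMatrix.E₈).simple).prod = 30 :=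
  coxeter_orderOf (CoxeterMatrix.E₈) mTE8 cTE8 hME8 hCE8 coxCertsE8 validE8 30 (by decide)
    (by decide +kernel) (by decide +kernel)

end Cfsg.Agent.Lib.helper23
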