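import Cfsg.Agent.Lib.helper8.BNPairParabolic

set_option autoImplicit false

/-!
# Fixed points on the building of a (B, N)-pair of rank 2

For an element `a` of `B` fixing no chamber of the top cell, the fixed chambers and the fixed panels of the two
types satisfy `V₁ + V₂ = E + 1`.  An element of prime order commuting with `a`, no conjugate of which lies in a
proper parabolic subgroup, acts freely on the three sets of fixed objects: this is impossible.
-/

namespace Cfsg.Agent.Lib.helper23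

open Cfsg.Agent.Lib.helper8 DoubleCoset

section Euler

variable {G : Type*} [Group G] (P : Cfsg.BNPair G)

/-- The chamber `g B` is the chamber of its `s`-panel nearest to `B`. -/
def GoodAt (s g : G) : Prop := ∃ n ∈ P.N, g⁻¹ ∈ dc P n ∧ Ps P s n

theorem GoodAt.mul_right {s g b : G} (h : GoodAt P s g) (hb : b ∈ P.B) : GoodAt P s (g * b) := by
  obtain ⟨n, hn, hdc, hp⟩ := h
  refine ⟨n, hn, ?_, hp⟩
  rw [mul_inv_rev]
  exact dc_mul_left P hdc (P.B.inv_mem hb)

theorem GoodAt.mul_left {s g a : G} (h : GoodAt P s g) (ha : a ∈ P.B) : GoodAt P s (a * g) := by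
  obtain ⟨n, hn, hdc, hp⟩ := h
  refine ⟨n, hn, ?_, hp⟩
  rw [mul_inv_rev]
  exact dc_mul_right P hdc (P.B.inv_mem ha)

theorem goodAt_one (s : G) : GoodAt P s 1 :=
  ⟨1, P.N.one_mem, by rw [inv_one]; exact mem_dc_self P 1, Ps_one P⟩

theorem exists_goodAt {s : G} (hs : s ∈ P.S) (g : G) :
    ∃ p ∈ P.parabolic {s}, GoodAt P s (g * p) := by
  obtain ⟨n, hn, hdc⟩ := bruhat_exists P g⁻¹
  by_cases hp : Ps P s n
  · exact ⟨1, one_mem _, by rw [mul_one]; exact ⟨n, hn, hdc, hp⟩⟩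
  · obtain ⟨x, hx, y, hy, e⟩ := (mem_dc_iff P).1 hdc
    have hsn : s * n ∈ P.N := P.N.mul_mem (P.subset hs) hn
    have h1 : Ps P s (s * n) := by
      rw [Ps_iff P hs hsn, len_congr P (R_ss_mul P hs hn)]
      exact len_lt_of_not_Ps P hs hn hp
    refine ⟨x * s⁻¹, ?_, s * n, hsn, ?_, h1⟩
    · exact mul_mem (B_le_parabolic P _ hx) (inv_mem (subset_parabolic P _ (Set.mem_singleton s)))
    · have e2 : (g * (x * s⁻¹))⁻¹ = 1 * (s * n) * y := by
        rw [mul_inv_rev, e]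
        group
      rw [e2]
      exact (mem_dc_iff P).2 ⟨1, P.B.one_mem, y, hy, rfl⟩

theorem goodAt_unique {s g p : G} (hs : s ∈ P.S) (hg : GoodAt P s g) (hp : p ∈ P.parabolic {s})
    (hgp : GoodAt P s (g * p)) : p ∈ P.B := by
  rcases (mem_parabolic_singleton P hs p).1 hp with h | h
  · exact h
  · exfalso
    obtain ⟨n, hn, hdc, hps⟩ := hg
    obtain ⟨n', hn', hdc', hps'⟩ := hgp
    obtain ⟨x, hx, y, hy, rfl⟩ := (mem_dc_iff P).1 h
    obtain ⟨u, hu, v, hv, e⟩ := (mem_dc_iff P).1 hdc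
    have hsn : s * n ∈ P.N := P.N.mul_mem (P.subset hs) hn
    have hb : (s * s)⁻¹ * x⁻¹ * u ∈ P.B :=
      mul_mem (mul_mem (inv_mem (P.sq_mem s hs)) (inv_mem hx)) hu
    have h1 := hps _ hb
    have e2 : (g * (x * s * y))⁻¹ = y⁻¹ * (s * ((s * s)⁻¹ * x⁻¹ * u) * n) * v := by
      rw [mul_inv_rev, e]
      group
    rw [e2] at hdc'
    have h2 : y⁻¹ * (s * ((s * s)⁻¹ * x⁻¹ * u) * n) * v ∈ dc P (s * n) :=
      dc_mul_right P (dc_mul_left P h1 (inv_mem hy)) hv
    have h3 : dc P n' = dc P (s * n) := by rw [← dc_eq_of_mem P hdc', dc_eq_of_mem P h2]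
    have h4 : R P n' (s * n) := ⟨hn', hsn, (dc_eq_iff P hn' hsn).1 h3⟩
    exact not_Ps_both P hs hn hps (Ps_congr P hs h4 hps')

theorem goodAt_both {s₁ s₂ g : G} (hS : ∀ t ∈ P.S, t = s₁ ∨ t = s₂) (hs₂ : s₂ ∈ P.S)
    (h1 : GoodAt P s₁ g) (h2 : GoodAt P s₂ g) : g ∈ P.B := by
  obtain ⟨n, hn, hdc, hp1⟩ := h1
  obtain ⟨n', hn', hdc', hp2⟩ := h2
  have h3 : dc P n' = dc P n := by rw [← dc_eq_of_mem P hdc', dc_eq_of_mem P hdc]
  have h4 : R P n' n := ⟨hn', hn, (dc_eq_iff P hn' hn).1 h3⟩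
  have hp2' : Ps P s₂ n := Ps_congr P hs₂ h4 hp2
  have hlen : len P n = 0 := by
    by_contra h0
    obtain ⟨L, hL, hR, hlen⟩ := exists_reduced P hn
    cases L with
    | nil => exact h0 hlen.symm
    | cons t L' =>
      have ht : t ∈ P.S := hL t List.mem_cons_self
      have hL' : ∀ x ∈ L', x ∈ P.S := fun x hx => hL x (List.mem_cons_of_mem _ hx)
      have hpt : Ps P t n := by
        rcases hS t ht with rfl | rfl
        · exact hp1
        · exact hp2'
      have h5 := len_lt_of_Ps P ht hn hpt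
      rw [List.prod_cons] at hR
      have h6 : R P (t * (t * L'.prod)) (t * n) := hR.mul_left P (P.subset ht)
      have hL'N : L'.prod ∈ P.N := word_prod_mem_N P (le_refl _) hL'
      have h7 : R P (t * (t * L'.prod)) L'.prod := R_ss_mul P ht hL'N
      have h8 : len P (t * n) = len P L'.prod := by rw [← len_congr P h6, len_congr P h7]
      have h9 := len_le P hL' (R.refl P hL'N)
      rw [List.length_cons] at hlen
      omega
  have hnB : n ∈ P.B := (len_eq_zero_iff P hn).1 hlen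
  have h5 : g⁻¹ ∈ P.B := (mem_dc_of_mem_B P hnB).1 hdc
  simpa using inv_mem h5

end Euler

section Count

variable {G : Type*} [Group G] [Finite G]

/-- An element of prime order `r` commuting with `a`, no conjugate of which lies in `M`, acts freely on the
fixed points of `a` on `G ⧸ M`. -/
theorem ncard_fixed_dvd (M : Subgroup G) {a b : G} (hab : Commute a b) {r : ℕ} [hr : Fact r.Prime]
    (hb : b ^ r = 1) (hM : ∀ g : G, g⁻¹ * b * g ∉ M) :
    r ∣ Set.ncard {y : G ⧸ M | a • y = y} := by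
  classical
  have hZ : IsPGroup r ↥(Subgroup.zpowers b) := by
    rintro ⟨c, hc⟩
    refine ⟨1, ?_⟩
    obtain ⟨i, rfl⟩ := Subgroup.mem_zpowers_iff.mp hc
    apply Subtype.ext
    show (b ^ i) ^ r ^ 1 = 1
    rw [pow_one, ← zpow_natCast, ← zpow_mul, mul_comm, zpow_mul, zpow_natCast, hb, one_zpow]
  let S : SubMulAction ↥(Subgroup.zpowers b) (G ⧸ M) :=
    { carrier := {y | a • y = y}
      smul_mem' := by
        rintro ⟨c, hc⟩ y hy
        have hy' : a • y = y := hy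
        obtain ⟨i, rfl⟩ := Subgroup.mem_zpowers_iff.mp hc
        show a • ((b ^ i) • y) = (b ^ i) • y
        rw [smul_smul, (hab.zpow_right i).eq, ← smul_smul, hy'] }
  have h1 := hZ.card_modEq_card_fixedPoints (↥S)
  have h2 : IsEmpty ↥(MulAction.fixedPoints ↥(Subgroup.zpowers b) ↥S) := by
    constructor
    rintro ⟨⟨y, hy⟩, hfix⟩
    obtain ⟨g, rfl⟩ := QuotientGroup.mk_surjective y
    have h3 := hfix ⟨b, Subgroup.mem_zpowers b⟩
    have h4 : b • (g : G ⧸ M) = (g : G ⧸ M) := congrArg Subtype.val h3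
    have h5 : ((b * g : G) : G ⧸ M) = (g : G ⧸ M) := h4
    have h6 := QuotientGroup.eq.mp h5
    apply hM g
    have e : g⁻¹ * b * g = ((b * g)⁻¹ * g)⁻¹ := by group
    rw [e]
    exact inv_mem h6
  have h8 : Nat.card ↥(MulAction.fixedPoints ↥(Subgroup.zpowers b) ↥S) = 0 := Nat.card_of_isEmpty
  rw [h8] at h1
  have h7 : r ∣ Nat.card ↥S := (Nat.modEq_zero_iff_dvd).mp h1
  rw [← Nat.card_coe_set_eq]
  exact h7

variable (P : Cfsg.BNPair G)

/-- The fixed panels of type `s` correspond to the fixed chambers nearest to `B` in their panel. -/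
theorem ncard_fixed_panel {s : G} (hs : s ∈ P.S) {a : G} (ha : a ∈ P.B) :
    Set.ncard {y : G ⧸ P.parabolic {s} | a • y = y} =
      Set.ncard {x : G ⧸ P.B | a • x = x ∧ ∃ g : G, (g : G ⧸ P.B) = x ∧ GoodAt P s g} := by
  have hle : P.B ≤ P.parabolic {s} := B_le_parabolic P _
  have hinj : Set.InjOn (Subgroup.quotientMapOfLE hle)
      {x : G ⧸ P.B | a • x = x ∧ ∃ g : G, (g : G ⧸ P.B) = x ∧ GoodAt P s g} := by
    rintro x ⟨-, g, rfl, hg⟩ x' ⟨-, g', rfl, hg'⟩ heq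
    rw [Subgroup.quotientMapOfLE_apply_mk, Subgroup.quotientMapOfLE_apply_mk] at heq
    have h1 := QuotientGroup.eq.mp heq
    have e : g' = g * (g⁻¹ * g') := by group
    rw [e] at hg'
    exact QuotientGroup.eq.mpr (goodAt_unique P hs hg h1 hg')
  rw [← hinj.ncard_image]
  congr 1
  apply Set.Subset.antisymm
  · intro y hy
    obtain ⟨g, rfl⟩ := QuotientGroup.mk_surjective y
    have hy' : ((a * g : G) : G ⧸ P.parabolic {s}) = (g : G ⧸ P.parabolic {s}) := hy
    obtain ⟨p, hp, hgp⟩ := exists_goodAt P hs g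
    refine ⟨((g * p : G) : G ⧸ P.B), ⟨?_, g * p, rfl, hgp⟩, ?_⟩
    · show ((a * (g * p) : G) : G ⧸ P.B) = ((g * p : G) : G ⧸ P.B)
      have h1 := QuotientGroup.eq.mp hy'
      have h2 : (g * p)⁻¹ * (a * (g * p)) ∈ P.parabolic {s} := by
        have e : (g * p)⁻¹ * (a * (g * p)) = p⁻¹ * ((a * g)⁻¹ * g)⁻¹ * p := by group
        rw [e]
        exact mul_mem (mul_mem (inv_mem hp) (inv_mem h1)) hp
      have h3 : GoodAt P s (g * p * ((g * p)⁻¹ * (a * (g * p)))) := by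
        have e : g * p * ((g * p)⁻¹ * (a * (g * p))) = a * (g * p) := by group
        rw [e]
        exact hgp.mul_left P ha
      have h4 := goodAt_unique P hs hgp h2 h3
      exact (QuotientGroup.eq.mpr h4).symm
    · rw [Subgroup.quotientMapOfLE_apply_mk]
      apply QuotientGroup.eq.mpr
      have e : (g * p)⁻¹ * g = p⁻¹ := by group
      rw [e]
      exact inv_mem hp
  · rintro y ⟨x, ⟨hx, g, rfl, hg⟩, rfl⟩
    rw [Subgroup.quotientMapOfLE_apply_mk]
    have hx' : ((a * g : G) : G ⧸ P.B) = (g : G ⧸ P.B) := hx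
    show ((a * g : G) : G ⧸ P.parabolic {s}) = (g : G ⧸ P.parabolic {s})
    exact QuotientGroup.eq.mpr (hle (QuotientGroup.eq.mp hx'))

/-- `V₁ + V₂ = E + 1` for the fixed points of an element of `B` fixing no chamber of the top cell. -/
theorem euler_fixed {s₁ s₂ : G} (hS : ∀ t ∈ P.S, t = s₁ ∨ t = s₂) (hs₁ : s₁ ∈ P.S) (hs₂ : s₂ ∈ P.S)
    {a : G} (ha : a ∈ P.B)
    (htop : ∀ g : G, g⁻¹ * a * g ∈ P.B → ∀ n ∈ P.N, g⁻¹ ∈ dc P n → Ps P s₁ n ∨ Ps P s₂ n) :
    Set.ncard {y : G ⧸ P.parabolic {s₁} | a • y = y} + Set.ncard {y : G ⧸ P.parabolic {s₂} | a • y = y} =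
      Set.ncard {x : G ⧸ P.B | a • x = x} + 1 := by
  rw [ncard_fixed_panel P hs₁ ha, ncard_fixed_panel P hs₂ ha, ← Set.ncard_union_add_ncard_inter]
  have h1 : {x : G ⧸ P.B | a • x = x ∧ ∃ g : G, (g : G ⧸ P.B) = x ∧ GoodAt P s₁ g} ∪
      {x : G ⧸ P.B | a • x = x ∧ ∃ g : G, (g : G ⧸ P.B) = x ∧ GoodAt P s₂ g} =
      {x : G ⧸ P.B | a • x = x} := by
    apply Set.Subset.antisymm
    · rintro x (⟨hx, -⟩ | ⟨hx, -⟩)
      · exact hx
      · exact hx
    · intro x hx
      obtain ⟨g, rfl⟩ := QuotientGroup.mk_surjective x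
      have hx' : ((a * g : G) : G ⧸ P.B) = (g : G ⧸ P.B) := hx
      have h2 := QuotientGroup.eq.mp hx'
      have h3 : g⁻¹ * a * g ∈ P.B := by
        have e : g⁻¹ * a * g = ((a * g)⁻¹ * g)⁻¹ := by group
        rw [e]
        exact inv_mem h2
      obtain ⟨n, hn, hdc⟩ := bruhat_exists P g⁻¹
      rcases htop g h3 n hn hdc with hp | hp
      · exact Or.inl ⟨hx, g, rfl, n, hn, hdc, hp⟩
      · exact Or.inr ⟨hx, g, rfl, n, hn, hdc, hp⟩
  have h2 : {x : G ⧸ P.B | a • x = x ∧ ∃ g : G, (g : G ⧸ P.B) = x ∧ GoodAt P s₁ g} ∩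
      {x : G ⧸ P.B | a • x = x ∧ ∃ g : G, (g : G ⧸ P.B) = x ∧ GoodAt P s₂ g} =
      {((1 : G) : G ⧸ P.B)} := by
    apply Set.Subset.antisymm
    · rintro x ⟨⟨-, g, rfl, hg⟩, ⟨-, g', heq, hg'⟩⟩
      have h3 := QuotientGroup.eq.mp heq
      have h4 : GoodAt P s₂ g := by
        have e : g = g' * (g'⁻¹ * g) := by group
        rw [e]
        exact hg'.mul_right P h3
      have h5 := goodAt_both P hS hs₂ hg h4
      show (g : G ⧸ P.B) = ((1 : G) : G ⧸ P.B)
      apply QuotientGroup.eq.mpr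
      rw [mul_one]
      exact inv_mem h5
    · rintro x rfl
      have h3 : a • ((1 : G) : G ⧸ P.B) = ((1 : G) : G ⧸ P.B) := by
        show ((a * 1 : G) : G ⧸ P.B) = ((1 : G) : G ⧸ P.B)
        apply QuotientGroup.eq.mpr
        rw [mul_one, mul_one]
        exact inv_mem ha
      exact ⟨⟨h3, 1, rfl, goodAt_one P s₁⟩, ⟨h3, 1, rfl, goodAt_one P s₂⟩⟩
  rw [h1, h2, Set.ncard_singleton]

/-- In a (B, N)-pair of rank 2, an element of prime order no conjugate of which lies in a proper parabolic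
subgroup does not commute with an element of `B` fixing no chamber of the top cell. -/
theorem bn_rank2_no_commute {s₁ s₂ : G} (hS : ∀ t ∈ P.S, t = s₁ ∨ t = s₂) (hs₁ : s₁ ∈ P.S)
    (hs₂ : s₂ ∈ P.S) {a b : G} (ha : a ∈ P.B) (hab : Commute a b) {r : ℕ} [hr : Fact r.Prime]
    (hb : b ^ r = 1) (h1 : ∀ g : G, g⁻¹ * b * g ∉ P.parabolic {s₁})
    (h2 : ∀ g : G, g⁻¹ * b * g ∉ P.parabolic {s₂})
    (htop : ∀ g : G, g⁻¹ * a * g ∈ P.B → ∀ n ∈ P.N, g⁻¹ ∈ dc P n → Ps P s₁ n ∨ Ps P s₂ n) : False := by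
  have h0 : ∀ g : G, g⁻¹ * b * g ∉ P.B := fun g hg => h1 g (B_le_parabolic P _ hg)
  have d0 := ncard_fixed_dvd P.B hab hb h0
  have d1 := ncard_fixed_dvd (P.parabolic {s₁}) hab hb h1
  have d2 := ncard_fixed_dvd (P.parabolic {s₂}) hab hb h2
  have e := euler_fixed P hS hs₁ hs₂ ha htop
  have d3 : r ∣ Set.ncard {x : G ⧸ P.B | a • x = x} + 1 := by
    rw [← e]
    exact dvd_add d1 d2
  have d4 : r ∣ 1 := (Nat.dvd_add_right d0).mp d3
  exact hr.out.one_lt.ne' (Nat.dvd_one.mp d4)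

end Count

end Cfsg.Agent.Lib.helper23
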