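import Cfsg.Agent.Lib.helper23.ChevSimpleFinal
import Cfsg.Agent.Lib.helper8.BNPairParabolic

set_option autoImplicit false

/-! A normal subgroup of a group with an irreducible (B, N)-pair whose `B` has trivial core is trivial or
supplements `B`; the case of the Chevalley groups. -/

namespace Cfsg.Agent.Lib.helper23

open Cfsg Cfsg.Lie Cfsg.Agent.Lib.helper22

theorem bn_normal_dichotomy {G : Type*} [Group G] (P : Cfsg.BNPair G) (hirr : P.Irreducible)
    (hcore : P.B.normalCore = ⊥) (K : Subgroup G) [hK : K.Normal] : K = ⊥ ∨ K ⊔ P.B = ⊤ := by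
  by_cases hKbot : K = ⊥
  · exact Or.inl hKbot
  right
  have hB : P.B ≤ K ⊔ P.B := le_sup_right
  have hpar := Cfsg.Agent.Lib.helper8.eq_parabolic_of_le P hB
  have hdich : P.S ∩ ((K ⊔ P.B : Subgroup G) : Set G) = ∅ ∨ P.S ⊆ ((K ⊔ P.B : Subgroup G) : Set G) := by
    by_contra hd
    rw [not_or] at hd
    obtain ⟨hne, hns⟩ := hd
    have hne' : (P.S ∩ ((K ⊔ P.B : Subgroup G) : Set G)).Nonempty := Set.nonempty_iff_ne_empty.mpr hne
    have hns' : (P.S \ (P.S ∩ ((K ⊔ P.B : Subgroup G) : Set G))).Nonempty := by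
      obtain ⟨x, hx, hx'⟩ := Set.not_subset.1 hns
      exact ⟨x, hx, fun h => hx' h.2⟩
    obtain ⟨s, hs, s', hs', hnot⟩ := hirr _ Set.inter_subset_left hne' hns'
    apply hnot
    exact Cfsg.Agent.Lib.helper8.comm_of_normal P K hs.1 hs'.1 hs.2 (fun h => hs'.2 ⟨hs'.1, h⟩)
  rcases hdich with h | h
  · exfalso
    rw [h, Cfsg.Agent.Lib.helper8.parabolic_empty] at hpar
    have hKB : K ≤ P.B := by
      have h1 : K ≤ K ⊔ P.B := le_sup_left
      rwa [hpar] at h1
    have h2 : K ≤ P.B.normalCore := Subgroup.normal_le_normalCore.2 hKB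
    rw [hcore] at h2
    exact hKbot (le_bot_iff.1 h2)
  · have e : P.S ∩ ((K ⊔ P.B : Subgroup G) : Set G) = P.S := Set.inter_eq_left.2 h
    rw [e, Cfsg.Agent.Lib.helper8.parabolic_S] at hpar
    exact hpar

/-- A normal subgroup of a Chevalley group (of one of the seven tabulated data) is trivial or supplements `B`. -/
theorem chev_normal_dichotomy {F : Type*} [Field F] (D : ChevalleyDatum)
    (hD : D ∈ [chevG2, chevB2, chevD4, chevF4, chevE6, chevE7, chevE8])
    (K : Subgroup ↥(D.group F)) [K.Normal] :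
    K = ⊥ ∨ K ⊔ (D.borelSubgroup F).subgroupOf (D.group F) = ⊤ := by
  obtain ⟨w, hw⟩ := irrOK_all D hD
  obtain ⟨P, hB, -, hS⟩ := chev_bn_all (F := F) D hD
  have hirr := bn_irreducible (fun r => (exists_stringData D hD r).elim fun S _ => ⟨S⟩) w hw
    (fun i hi s hs => chev_conj_all D hD i hi s hs)
    (Cfsg.Agent.S1036.result D hD).1
    (Cfsg.Agent.S1037.result D hD).1
    (fun r hr t h => (Cfsg.Agent.S1024.result D hD r hr t).mp h) P hB hS
  have h := bn_normal_dichotomy P hirr (by rw [hB]; exact Cfsg.Agent.S1051.result D hD) K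
  rwa [hB] at h

end Cfsg.Agent.Lib.helper23
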