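import Cfsg.Agent.Lib.helper23.ChevMap
import Cfsg.Agent.Lib.helper23.ChevNormal
import Cfsg.Prelude.Def_ChevB2

set_option autoImplicit false

/-!
# `B₂(2) ≅ S₆`

The Chevalley group of type `B₂` over the field with two elements permutes six explicit covectors of the adjoint
module; the permutation representation is onto `S₆` (the images of the root elements generate) and faithful (its
kernel is a normal subgroup that does not supplement the solvable subgroup `B`).
-/

namespace Cfsg.Agent.Lib.helper23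

open Cfsg Cfsg.Lie Cfsg.Agent.Lib.helper22

section PermRep

variable {ι K : Type*} [Fintype ι] [DecidableEq ι] [Field K] {m : ℕ}

/-- The subgroup of the matrices permuting the covectors `Λ k` (acting on the right). -/
def covStab (Λ : Fin m → ι → K) : Subgroup (GL ι K) where
  carrier := {g | (∀ k, ∃ k', Matrix.vecMul (Λ k) (g : Matrix ι ι K) = Λ k') ∧
    (∀ k, ∃ k', Matrix.vecMul (Λ k) ((g⁻¹ : GL ι K) : Matrix ι ι K) = Λ k')}
  mul_mem' := by
    rintro g h ⟨g1, g2⟩ ⟨h1, h2⟩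
    refine ⟨fun k => ?_, fun k => ?_⟩
    · obtain ⟨k', e⟩ := g1 k
      obtain ⟨k'', e'⟩ := h1 k'
      exact ⟨k'', by rw [Units.val_mul, ← Matrix.vecMul_vecMul, e, e']⟩
    · obtain ⟨k', e⟩ := h2 k
      obtain ⟨k'', e'⟩ := g2 k'
      exact ⟨k'', by rw [mul_inv_rev, Units.val_mul, ← Matrix.vecMul_vecMul, e, e']⟩
  one_mem' := ⟨fun k => ⟨k, by simp⟩, fun k => ⟨k, by simp⟩⟩
  inv_mem' := by
    rintro g ⟨g1, g2⟩
    exact ⟨g2, by rwa [inv_inv]⟩

theorem mem_covStab (Λ : Fin m → ι → K) (g : GL ι K) : g ∈ covStab Λ ↔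
    (∀ k, ∃ k', Matrix.vecMul (Λ k) (g : Matrix ι ι K) = Λ k') ∧
    (∀ k, ∃ k', Matrix.vecMul (Λ k) ((g⁻¹ : GL ι K) : Matrix ι ι K) = Λ k') := Iff.rfl

theorem vecMul_mul_inv (v : ι → K) (g : GL ι K) :
    Matrix.vecMul (Matrix.vecMul v (g : Matrix ι ι K)) ((g⁻¹ : GL ι K) : Matrix ι ι K) = v := by
  rw [Matrix.vecMul_vecMul, ← Units.val_mul, mul_inv_cancel, Units.val_one, Matrix.vecMul_one]

theorem vecMul_inv_mul (v : ι → K) (g : GL ι K) :
    Matrix.vecMul (Matrix.vecMul v ((g⁻¹ : GL ι K) : Matrix ι ι K)) (g : Matrix ι ι K) = v := by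
  rw [Matrix.vecMul_vecMul, ← Units.val_mul, inv_mul_cancel, Units.val_one, Matrix.vecMul_one]

variable {Λ : Fin m → ι → K} (hΛ : Function.Injective Λ)

/-- The permutation of the covectors induced by `g`: `Λ k · g⁻¹ = Λ (π k)`. -/
noncomputable def covPerm (g : covStab Λ) : Equiv.Perm (Fin m) where
  toFun k := Classical.choose (((mem_covStab Λ g).mp g.2).2 k)
  invFun k := Classical.choose (((mem_covStab Λ g).mp g.2).1 k)
  left_inv k := by
    apply hΛ
    rw [← Classical.choose_spec (((mem_covStab Λ g).mp g.2).1 _),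
      ← Classical.choose_spec (((mem_covStab Λ g).mp g.2).2 k), vecMul_inv_mul]
  right_inv k := by
    apply hΛ
    rw [← Classical.choose_spec (((mem_covStab Λ g).mp g.2).2 _),
      ← Classical.choose_spec (((mem_covStab Λ g).mp g.2).1 k), vecMul_mul_inv]

theorem covPerm_spec (g : covStab Λ) (k : Fin m) :
    Matrix.vecMul (Λ k) (((g : GL ι K)⁻¹ : GL ι K) : Matrix ι ι K) = Λ (covPerm hΛ g k) :=
  Classical.choose_spec (((mem_covStab Λ g).mp g.2).2 k)

/-- The permutation representation on the covectors. -/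
noncomputable def covHom : covStab Λ →* Equiv.Perm (Fin m) :=
  MonoidHom.mk' (covPerm hΛ) (by
    intro g h
    refine Equiv.ext fun k => hΛ ?_
    have e1 := covPerm_spec hΛ (g * h) k
    have e2 := covPerm_spec hΛ h k
    have e3 := covPerm_spec hΛ g (covPerm hΛ h k)
    rw [Equiv.Perm.mul_apply, ← e1, ← e3, ← e2, Matrix.vecMul_vecMul, ← Units.val_mul, Subgroup.coe_mul,
      mul_inv_rev])

theorem mem_covStab_of_perm (g : GL ι K) (π : Equiv.Perm (Fin m))
    (h : ∀ k, Matrix.vecMul (Λ k) (g : Matrix ι ι K) = Λ (π k)) : g ∈ covStab Λ := by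
  refine ⟨fun k => ⟨π k, h k⟩, fun k => ⟨π.symm k, ?_⟩⟩
  have h1 := h (π.symm k)
  rw [Equiv.apply_symm_apply] at h1
  rw [← h1, vecMul_mul_inv]

theorem covHom_of_perm (g : covStab Λ) (π : Equiv.Perm (Fin m))
    (h : ∀ k, Matrix.vecMul (Λ k) ((g : GL ι K) : Matrix ι ι K) = Λ (π k)) : covHom hΛ g = π⁻¹ := by
  rw [eq_inv_iff_mul_eq_one]
  refine Equiv.ext fun k => hΛ ?_
  show Λ (covPerm hΛ g (π k)) = Λ k
  have e := covPerm_spec hΛ g (π k)
  rw [← e, ← h k, vecMul_mul_inv]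

end PermRep

/-! ### The six covectors -/

def b2LamTab : List (List ℕ) :=
  [[0, 1, 0, 0, 0, 1, 1, 0, 0, 0], [0, 1, 0, 0, 0, 1, 1, 0, 0, 1], [0, 1, 1, 0, 0, 0, 0, 0, 0, 1],
   [0, 1, 1, 0, 0, 0, 1, 0, 0, 1], [0, 1, 1, 0, 0, 1, 0, 0, 0, 1], [0, 1, 1, 0, 0, 1, 1, 0, 0, 0]]

def b2IdxNum : chevB2.Idx → ℕ
  | Sum.inl i => i.val
  | Sum.inr s => 2 + s.val

/-- The six covectors permuted by `B₂(2)`. -/
def b2Lam (k : Fin 6) : chevB2.Idx → ZMod 2 :=
  fun x => (((b2LamTab.getD k.val []).getD (b2IdxNum x) 0 : ℕ) : ZMod 2)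

/-- The permutations of the six covectors induced by the root elements `x_r(1)`. -/
def b2Pi : Fin 8 → Equiv.Perm (Fin 6) :=
  ![Equiv.swap 0 1, Equiv.swap 0 1 * Equiv.swap 2 3 * Equiv.swap 4 5,
    Equiv.swap 0 1 * Equiv.swap 2 4 * Equiv.swap 3 5, Equiv.swap 2 3, Equiv.swap 2 4,
    Equiv.swap 0 5 * Equiv.swap 1 4 * Equiv.swap 2 3, Equiv.swap 0 5 * Equiv.swap 1 3 * Equiv.swap 2 4,
    Equiv.swap 0 5]

set_option maxRecDepth 100000 in
theorem b2Lam_injective : Function.Injective b2Lam := by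
  have h : ∀ a b : Fin 6, b2Lam a = b2Lam b → a = b := by decide +kernel
  exact fun a b hab => h a b hab

set_option maxRecDepth 100000 in
theorem b2Lam_check : ∀ (r : Fin chevB2.nroots) (t : ZMod 2) (k : Fin 6),
    Matrix.vecMul (b2Lam k) (chevB2.xMat (ZMod 2) r t) = b2Lam ((if t = 0 then 1 else b2Pi r) k) := by
  decide +kernel

set_option maxRecDepth 100000 in
theorem b2_xMat_sq : ∀ r : Fin chevB2.nroots,
    chevB2.xMat (ZMod 2) r 1 * chevB2.xMat (ZMod 2) r 1 = 1 := by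
  decide +kernel

/-- Words in the `b2Pi r` for the adjacent transpositions. -/
def b2Word : Fin 5 → List (Fin 8) :=
  ![[0], [3, 2, 7, 2, 3], [3], [3, 4, 3], [3, 1, 0]]

set_option maxRecDepth 100000 in
theorem b2Word_check : ∀ i : Fin 5, ((b2Word i).map b2Pi).prod = Equiv.swap i.castSucc i.succ := by
  decide +kernel

theorem b2_group_le : chevB2.group (ZMod 2) ≤ covStab b2Lam := by
  unfold ChevalleyDatum.group
  rw [Subgroup.closure_le]
  rintro g ⟨r, t, hg⟩
  exact mem_covStab_of_perm g (if t = 0 then 1 else b2Pi r) (fun k => by rw [hg]; exact b2Lam_check r t k)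

/-- The permutation representation of `B₂(2)` on the six covectors. -/
noncomputable def b2Hom : ↥(chevB2.group (ZMod 2)) →* Equiv.Perm (Fin 6) :=
  (covHom b2Lam_injective).comp (Subgroup.inclusion b2_group_le)

theorem b2Pi_mem_range (r : Fin chevB2.nroots) : b2Pi r ∈ b2Hom.range := by
  have hu := b2_xMat_sq r
  let g : GL chevB2.Idx (ZMod 2) := ⟨chevB2.xMat (ZMod 2) r 1, chevB2.xMat (ZMod 2) r 1, hu, hu⟩
  have hg : g ∈ chevB2.group (ZMod 2) := Subgroup.subset_closure ⟨r, 1, rfl⟩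
  have h1 : b2Hom ⟨g, hg⟩ = (b2Pi r)⁻¹ := by
    show covHom b2Lam_injective (Subgroup.inclusion b2_group_le ⟨g, hg⟩) = _
    refine covHom_of_perm b2Lam_injective (Subgroup.inclusion b2_group_le ⟨g, hg⟩) (b2Pi r) (fun k => ?_)
    have h2 := b2Lam_check r 1 k
    rw [if_neg one_ne_zero] at h2
    exact h2
  have h3 : (b2Pi r)⁻¹ ∈ b2Hom.range := ⟨⟨g, hg⟩, h1⟩
  have h4 := inv_mem h3
  rwa [inv_inv] at h4

theorem b2Hom_surjective : Function.Surjective b2Hom := by
  rw [← MonoidHom.range_eq_top, eq_top_iff]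
  have h1 : Submonoid.closure (Set.range fun i : Fin 5 => Equiv.swap i.castSucc i.succ) ≤
      b2Hom.range.toSubmonoid := by
    rw [Submonoid.closure_le]
    rintro _ ⟨i, rfl⟩
    show Equiv.swap i.castSucc i.succ ∈ b2Hom.range
    rw [← b2Word_check i]
    apply Subgroup.list_prod_mem
    intro x hx
    rw [List.mem_map] at hx
    obtain ⟨r, -, rfl⟩ := hx
    exact b2Pi_mem_range r
  rw [Equiv.Perm.mclosure_swap_castSucc_succ] at h1
  intro x _
  exact h1 (Submonoid.mem_top x)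

theorem b2Hom_injective : Function.Injective b2Hom := by
  rw [← MonoidHom.ker_eq_bot_iff]
  rcases chev_normal_dichotomy (F := ZMod 2) chevB2 (by simp) b2Hom.ker with h | h
  · exact h
  · exfalso
    -- `B` maps onto `S₆`, which is not solvable
    have hsurj : Function.Surjective
        (b2Hom.comp ((chevB2.borelSubgroup (ZMod 2)).subgroupOf (chevB2.group (ZMod 2))).subtype) := by
      intro σ
      obtain ⟨g, rfl⟩ := b2Hom_surjective σ
      have hg : g ∈ ((b2Hom.ker ⊔ (chevB2.borelSubgroup (ZMod 2)).subgroupOf (chevB2.group (ZMod 2)) :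
          Subgroup ↥(chevB2.group (ZMod 2))) : Set ↥(chevB2.group (ZMod 2))) := by
        rw [h]
        trivial
      rw [Subgroup.normal_mul] at hg
      obtain ⟨k, hk, b, hb, rfl⟩ := Set.mem_mul.1 hg
      refine ⟨⟨b, hb⟩, ?_⟩
      simp only [MonoidHom.coe_comp, Function.comp_apply, Subgroup.coe_subtype]
      rw [map_mul, MonoidHom.mem_ker.mp hk, one_mul]
    have hBG := (Cfsg.Agent.S1043.result (F := ZMod 2) chevB2 (by simp)).1
    have hsolvB : Group.IsSolvable
        ↥((chevB2.borelSubgroup (ZMod 2)).subgroupOf (chevB2.group (ZMod 2))) := by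
      have hsolv := Cfsg.Agent.S1050.result (F := ZMod 2) chevB2 (by simp)
      exact Group.isSolvable_of_isSolvable_injective (f := (Subgroup.subgroupOfEquivOfLe hBG).toMonoidHom)
        (Subgroup.subgroupOfEquivOfLe hBG).injective
    have hS6 : Group.IsSolvable (Equiv.Perm (Fin 6)) := Group.isSolvable_of_surjective hsurj
    exact Equiv.Perm.not_isSolvable (Fin 6)
      (by rw [Cardinal.mk_fin]; exact_mod_cast (by norm_num : (5 : ℕ) ≤ 6)) hS6

/-- `B₂(2) ≅ S₆` over `ZMod 2`. -/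
noncomputable def b2EquivS6 : ↥(chevB2.group (ZMod 2)) ≃* Equiv.Perm (Fin 6) :=
  MulEquiv.ofBijective b2Hom ⟨b2Hom_injective, b2Hom_surjective⟩

/-- `B₂(2) ≅ S₆` over every field with two elements. -/
theorem b2_equiv_s6 {F : Type*} [Field F] [Fintype F] (hF : Fintype.card F = 2) :
    Nonempty (↥(chevB2.group F) ≃* Equiv.Perm (Fin 6)) := by
  have : Fact (Nat.Prime 2) := ⟨Nat.prime_two⟩
  have e : ZMod 2 ≃+* F := ZMod.ringEquivOfPrime F Nat.prime_two hF
  exact ⟨(groupEquivOfRingEquiv chevB2 e.symm).trans b2EquivS6⟩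

end Cfsg.Agent.Lib.helper23
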