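import Mathlib

set_option autoImplicit false

/-! Splitting a table check over `List.range n` into chunks (to bound the memory of each kernel evaluation). -/

namespace Cfsg.Agent.Lib.helper23

/-- The chunks `[k * step, k * step + step)`, `k < ⌈n / step⌉`, cover `[0, n)`. -/
theorem range_chunk_cover (n step : ℕ) (hstep : 0 < step) (s : ℕ) (hs : s < n) :
    ∃ p ∈ (List.range ((n + step - 1) / step)).map (fun k => (k * step, step)), p.1 ≤ s ∧ s < p.1 + p.2 := by
  refine ⟨(s / step * step, step), ?_, Nat.div_mul_le_self s step, ?_⟩
  · rw [List.mem_map]
    refine ⟨s / step, List.mem_range.mpr ?_, rfl⟩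
    rw [Nat.div_lt_iff_lt_mul hstep]
    have h1 : n ≤ (n + step - 1) / step * step := by
      have := Nat.div_add_mod (n + step - 1) step
      have h2 := Nat.mod_lt (n + step - 1) hstep
      have h3 : step * ((n + step - 1) / step) = (n + step - 1) / step * step := Nat.mul_comm _ _
      omega
    omega
  · have := Nat.div_add_mod s step
    have h2 := Nat.mod_lt s hstep
    have h3 : step * (s / step) = s / step * step := Nat.mul_comm _ _
    show s < s / step * step + step
    omega

/-- A check over `List.range n` follows from the checks of the chunks of a covering list. -/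
theorem range_all_of_chunks (f : ℕ → Bool) (n : ℕ) (L : List (ℕ × ℕ))
    (hL : ∀ p ∈ L, (List.range' p.1 p.2).all f = true)
    (hcov : ∀ s, s < n → ∃ p ∈ L, p.1 ≤ s ∧ s < p.1 + p.2) : (List.range n).all f = true := by
  rw [List.all_eq_true]
  intro s hs
  obtain ⟨p, hp, h1, h2⟩ := hcov s (List.mem_range.mp hs)
  have h := hL p hp
  rw [List.all_eq_true] at h
  exact h s (List.mem_range'_1.mpr ⟨h1, h2⟩)

/-- Four chunks. -/
theorem range_all_of_four (f : ℕ → Bool) (n step : ℕ) (hstep : 0 < step) (hn : (n + step - 1) / step = 4)
    (h0 : (List.range' 0 step).all f = true) (h1 : (List.range' step step).all f = true)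
    (h2 : (List.range' (2 * step) step).all f = true) (h3 : (List.range' (3 * step) step).all f = true) :
    (List.range n).all f = true := by
  apply range_all_of_chunks f n ((List.range ((n + step - 1) / step)).map (fun k => (k * step, step)))
  · intro p hp
    rw [hn] at hp
    have hp' : p ∈ [(0 * step, step), (1 * step, step), (2 * step, step), (3 * step, step)] := hp
    simp only [List.mem_cons, List.not_mem_nil, or_false] at hp'
    rcases hp' with rfl | rfl | rfl | rfl
    · simpa using h0
    · simpa using h1
    · exact h2
    · exact h3
  · exact range_chunk_cover n step hstep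

end Cfsg.Agent.Lib.helper23
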