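import Cfsg.Agent.Lib.helper41.ChevReflG2
import Cfsg.Agent.Lib.helper41.ChevReflB2
import Cfsg.Agent.Lib.helper41.ChevReflD4
import Cfsg.Agent.Lib.helper41.ChevReflF4
import Cfsg.Agent.Lib.helper41.ChevReflE6
import Cfsg.Agent.Lib.helper41.ChevReflE7
import Cfsg.Agent.Lib.helper41.ChevReflE8

/-! The conjugation rule `n_{p_i} x_s(t) n_{p_i}⁻¹ = x_{w_i s}(η t)` for all seven exceptional data
(a uniform wrapper around helper41's per-type theorems `TabX.refl`). -/

set_option autoImplicit false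

namespace Cfsg.Agent.Lib.helper23

open Cfsg.Lie

theorem chev_conj_all {F : Type*} [Field F] (D : ChevalleyDatum)
    (hD : D ∈ [chevG2, chevB2, chevD4, chevF4, chevE6, chevE7, chevE8])
    (i : ℕ) (hi : i < D.rank) (s : ℕ) (hs : s < D.nroots) :
    ∃ η : ℤ, (η = 1 ∨ η = -1) ∧ ∀ t : F,
      D.nMat F (D.simple i) 1 * D.x F s t =
        D.x F (D.reflectRoot i s) ((η : F) * t) * D.nMat F (D.simple i) 1 := by
  simp only [List.mem_cons, List.not_mem_nil, or_false] at hD
  rcases hD with rfl | rfl | rfl | rfl | rfl | rfl | rfl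
  · exact Cfsg.Agent.Lib.helper41.TabG2.refl i s hi hs
  · exact Cfsg.Agent.Lib.helper41.TabB2.refl i s hi hs
  · exact Cfsg.Agent.Lib.helper41.TabD4.refl i s hi hs
  · exact Cfsg.Agent.Lib.helper41.TabF4.refl i s hi hs
  · exact Cfsg.Agent.Lib.helper41.TabE6.refl i s hi hs
  · exact Cfsg.Agent.Lib.helper41.TabE7.refl i s hi hs
  · exact Cfsg.Agent.Lib.helper41.TabE8.refl i s hi hs

end Cfsg.Agent.Lib.helper23
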