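import Cfsg.Agent.Lib.helper22.ChevN

set_option autoImplicit false

/-!
The normal core of `B = UH` in the Chevalley group is trivial: it lies in `B ∩ n₀ B n₀⁻¹ = B ∩ VH = H`, and an
element of `H` all of whose commutators with root elements lie in `H` centralises every root element.
-/

namespace Cfsg.Agent.Lib.helper23

open Cfsg.Lie Cfsg.Agent.Lib.helper22

theorem normalCore_borel_eq_bot {F : Type*} [Field F] (D : ChevalleyDatum)
    (hSD : ∀ r : Fin D.nroots, ∃ S : StringData D r, S.CartanCompat)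
    (hS : SimpleCorootOK D)
    (h36 : D.posUnipotent F ⊓ D.diagonalSubgroup F = ⊥)
    (h37a : D.borelSubgroup F ⊓ D.negUnipotent F = ⊥)
    (h37b : D.borelSubgroup F ⊓ (D.negUnipotent F ⊔ D.diagonalSubgroup F) = D.diagonalSubgroup F)
    (h24 : ∀ r < D.nroots, ∀ t : F, D.x F r t = 1 → t = 0)
    (hpn : ∀ r < D.nroots, D.IsPosRoot r ∨ D.IsNegRoot r)
    (h53 : ∃ n ∈ D.monomialSubgroup F,
      (D.posUnipotent F).map (MulAut.conj n).toMonoidHom = D.negUnipotent F) :
    ((D.borelSubgroup F).subgroupOf (D.group F)).normalCore = ⊥ := by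
  have hSD' : ∀ r : Fin D.nroots, Nonempty (StringData D r) := fun r => (hSD r).elim fun S _ => ⟨S⟩
  have hNG : D.monomialSubgroup F ≤ D.group F := monomialSubgroup_le_group hSD'
  have hHT : D.diagonalSubgroup F = torus D F := diagonalSubgroup_eq_torus hS hSD'
  obtain ⟨n, hnN, hn⟩ := h53
  have hnG : n ∈ D.group F := hNG hnN
  have hnT := monomialSubgroup_le_normalizer_torus (F := F) hS hSD hnN
  have hKB : ∀ k : ↥(D.group F), k ∈ ((D.borelSubgroup F).subgroupOf (D.group F)).normalCore →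
      (k : GL D.Idx F) ∈ D.borelSubgroup F := by
    intro k hk
    exact Subgroup.mem_subgroupOf.mp (Subgroup.normalCore_le _ hk)
  have hKn : ∀ (g k : ↥(D.group F)), k ∈ ((D.borelSubgroup F).subgroupOf (D.group F)).normalCore →
      g * k * g⁻¹ ∈ ((D.borelSubgroup F).subgroupOf (D.group F)).normalCore := by
    intro g k hk
    exact (Subgroup.normalCore_normal _).conj_mem k hk g
  -- the core lies in `H`
  have hKH : ∀ k : ↥(D.group F), k ∈ ((D.borelSubgroup F).subgroupOf (D.group F)).normalCore →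
      (k : GL D.Idx F) ∈ D.diagonalSubgroup F := by
    intro k hk
    have h1 := hKB k hk
    have h2 := hKB _ (hKn (⟨n, hnG⟩ : ↥(D.group F))⁻¹ k hk)
    have h3 : n⁻¹ * (k : GL D.Idx F) * n ∈ D.borelSubgroup F := by
      simpa using h2
    have h4 : (k : GL D.Idx F) ∈ (D.borelSubgroup F).map (MulAut.conj n).toMonoidHom := by
      refine ⟨n⁻¹ * (k : GL D.Idx F) * n, h3, ?_⟩
      show n * (n⁻¹ * (k : GL D.Idx F) * n) * n⁻¹ = _
      group
    have h5 : (D.borelSubgroup F).map (MulAut.conj n).toMonoidHom ≤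
        D.negUnipotent F ⊔ D.diagonalSubgroup F := by
      unfold ChevalleyDatum.borelSubgroup
      rw [Subgroup.map_sup, hn]
      refine sup_le_sup_left ?_ _
      rintro _ ⟨h, hh, rfl⟩
      rw [hHT] at hh ⊢
      exact (Subgroup.mem_normalizer_iff.mp hnT h).mp hh
    rw [← h37b]
    exact ⟨h1, h5 h4⟩
  rw [eq_bot_iff]
  intro k hk
  rw [Subgroup.mem_bot]
  have hkH := hKH k hk
  rw [hHT] at hkH
  obtain ⟨c, hc, hkc⟩ := hkH
  have hchar : ∀ r : Fin D.nroots, torusChar D F c r.val = 1 := by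
    intro r
    obtain ⟨S, hSc⟩ := hSD r
    have hx : ((sl2Hom S (sl2u (1 : F)) : GL D.Idx F) : Matrix D.Idx D.Idx F) = D.x F r.val 1 :=
      sl2Hom_sl2u S 1
    have hxG : sl2Hom S (sl2u (1 : F)) ∈ D.group F := sl2Hom_mem_group S _
    have hy : ((sl2Hom S (sl2u (torusChar D F c r.val - 1)) : GL D.Idx F) : Matrix D.Idx D.Idx F) =
        D.x F r.val (torusChar D F c r.val - 1) := sl2Hom_sl2u S _
    have hcomm : (k : GL D.Idx F) * sl2Hom S (sl2u (1 : F)) =
        sl2Hom S (sl2u (torusChar D F c r.val - 1)) * sl2Hom S (sl2u (1 : F)) * (k : GL D.Idx F) := by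
      apply Units.ext
      rw [Units.val_mul, Units.val_mul, Units.val_mul, hkc, hx, hy, x_add S, x_eq D F r, x_eq D F r,
        torusMat_mul_xMat S hSc c hc]
      congr 2
      ring
    -- the commutator lies in the core
    have hmem : k * (⟨sl2Hom S (sl2u (1 : F)), hxG⟩ * k⁻¹ * (⟨sl2Hom S (sl2u (1 : F)), hxG⟩ : ↥(D.group F))⁻¹) ∈
        ((D.borelSubgroup F).subgroupOf (D.group F)).normalCore :=
      Subgroup.mul_mem _ hk (hKn _ _ (Subgroup.inv_mem _ hk))
    have hyH := hKH _ hmem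
    have hyeq : ((k * (⟨sl2Hom S (sl2u (1 : F)), hxG⟩ * k⁻¹ *
        (⟨sl2Hom S (sl2u (1 : F)), hxG⟩ : ↥(D.group F))⁻¹) : ↥(D.group F)) : GL D.Idx F) =
        sl2Hom S (sl2u (torusChar D F c r.val - 1)) := by
      show (k : GL D.Idx F) * (sl2Hom S (sl2u (1 : F)) * (k : GL D.Idx F)⁻¹ * (sl2Hom S (sl2u (1 : F)))⁻¹) = _
      rw [← mul_assoc, ← mul_assoc, hcomm]
      group
    rw [hyeq] at hyH
    have hy1 : sl2Hom S (sl2u (torusChar D F c r.val - 1)) = (1 : GL D.Idx F) := by
      rcases hpn r.val r.isLt with hpos | hneg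
      · have : sl2Hom S (sl2u (torusChar D F c r.val - 1)) ∈ D.posUnipotent F ⊓ D.diagonalSubgroup F :=
          ⟨Subgroup.subset_closure ⟨r.val, _, hpos, hy⟩, hyH⟩
        rw [h36] at this
        exact Subgroup.mem_bot.mp this
      · have : sl2Hom S (sl2u (torusChar D F c r.val - 1)) ∈ D.borelSubgroup F ⊓ D.negUnipotent F :=
          ⟨Subgroup.mem_sup_right hyH, Subgroup.subset_closure ⟨r.val, _, hneg, hy⟩⟩
        rw [h37a] at this
        exact Subgroup.mem_bot.mp this
    have h0 := h24 r.val r.isLt (torusChar D F c r.val - 1) (by rw [← hy, hy1, Units.val_one])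
    exact sub_eq_zero.mp h0
  apply Subtype.ext
  apply Units.ext
  rw [hkc]
  unfold torusMat
  have : (Sum.elim (fun _ => (1 : F)) (fun s : Fin D.nroots => torusChar D F c s.val) :
      D.Idx → F) = fun _ => 1 := by
    funext x
    rcases x with i | s
    · rfl
    · exact hchar s
  rw [this]
  exact Matrix.diagonal_one

end Cfsg.Agent.Lib.helper23
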