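import Cfsg.Agent.Lib.helper22.ChevN

set_option autoImplicit false

/-!
# Gradings of the coordinate module

A linear functional `f(s) = Σ_i a_i A_{p_i, s}` of the Cartan coordinates of the roots grades the coordinates
(`h_{p_i}` in degree `0`, `e_s` in degree `f(s)`).  The root element `x_r(t)` maps a vector of degree `d` to a sum of
vectors of degrees `d + k f(r)`, `k ≥ 0`, with the term for `k = 0` the vector itself.  Consequently the root
subgroups with `f(r) = 0` (and the torus) consist of matrices preserving the grading, the root subgroups with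
`f(r) > 0` of matrices `g` with `g - 1` strictly raising it, and two subgroups generated by the two kinds of
elements intersect trivially.
-/

namespace Cfsg.Agent.Lib.helper23

open Cfsg.Lie Cfsg.Agent.Lib.helper22

section Grade

variable {D : ChevalleyDatum} {F : Type*} [Field F]

/-- The grading of the coordinates attached to the coefficients `a`. -/
def gradeOf (D : ChevalleyDatum) (a : Fin D.rank → ℤ) : D.Idx → ℤ
  | Sum.inl _ => 0
  | Sum.inr s => ∑ i : Fin D.rank, a i * cartanZ D i.val s.val

theorem gradeOf_inl (a : Fin D.rank → ℤ) (i : Fin D.rank) : gradeOf D a (Sum.inl i) = 0 := rfl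

theorem gradeOf_inr (a : Fin D.rank → ℤ) (s : Fin D.nroots) :
    gradeOf D a (Sum.inr s) = ∑ i : Fin D.rank, a i * cartanZ D i.val s.val := rfl

theorem gradeOf_nr {r : Fin D.nroots} (S : StringData D r) (a : Fin D.rank → ℤ) :
    gradeOf D a (Sum.inr S.nr) = - gradeOf D a (Sum.inr r) := by
  rw [gradeOf_inr, gradeOf_inr, ← Finset.sum_neg_distrib]
  refine Finset.sum_congr rfl fun i _ => ?_
  rw [S.cartan_neg i]
  ring

/-- The non-zero entries of `x_r(t) - 1` raise the degree by a positive multiple of the degree of `r`. -/
theorem xMat_sub_one_grade {r : Fin D.nroots} (S : StringData D r) (hS : S.CartanCompat)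
    (a : Fin D.rank → ℤ) (t : F) (x z : D.Idx) (h : (D.xMat F r t - 1) x z ≠ 0) :
    ∃ k : ℕ, 1 ≤ k ∧ gradeOf D a x - gradeOf D a z = (k : ℤ) * gradeOf D a (Sum.inr r) := by
  have hnr0 : S.nr ≠ r := S.nr_ne
  rw [Matrix.sub_apply, Matrix.one_apply] at h
  rcases z with i₀ | s₀ <;> rcases x with i₁ | u
  · exfalso
    apply h
    rw [xMat_inl_inl]
    by_cases h' : i₁ = i₀
    · simp [h']
    · have h'' : (Sum.inl i₁ : D.Idx) ≠ Sum.inl i₀ := fun hh => h' (Sum.inl.inj hh)
      simp [h', h'']
  · rw [xMat_inr_inl] at h
    by_cases hu : u = r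
    · subst hu
      exact ⟨1, le_refl _, by rw [gradeOf_inl]; simp⟩
    · exfalso
      apply h
      simp [hu]
  · rw [xMat_inl_inr] at h
    by_cases hs1 : s₀ = r
    · exfalso
      apply h
      simp [hs1]
    · by_cases hs2 : s₀.val = D.neg r.val
      · have hs3 : s₀ = S.nr := (eq_nr_iff S s₀).mp hs2
        subst hs3
        exact ⟨1, le_refl _, by rw [gradeOf_inl, gradeOf_nr S]; simp⟩
      · exfalso
        apply h
        simp [hs1, hs2]
  · rw [xMat_inr_inr] at h
    by_cases hs1 : s₀ = r
    · exfalso
      apply h
      rw [if_pos hs1]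
      subst hs1
      by_cases hu : u = s₀
      · simp [hu]
      · have hu' : (Sum.inr u : D.Idx) ≠ Sum.inr s₀ := fun hh => hu (Sum.inr.inj hh)
        simp [hu, hu']
    · rw [if_neg hs1] at h
      by_cases hs2 : s₀.val = D.neg r.val
      · rw [if_pos hs2] at h
        have hs3 : s₀ = S.nr := (eq_nr_iff S s₀).mp hs2
        subst hs3
        by_cases hu : u = S.nr
        · exfalso
          apply h
          simp [hu]
        · have hu' : (Sum.inr u : D.Idx) ≠ Sum.inr S.nr := fun hh => hu (Sum.inr.inj hh)
          rw [if_neg hu, if_neg hu'] at h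
          by_cases hu2 : u = r
          · subst hu2
            exact ⟨2, by norm_num, by rw [gradeOf_nr S]; push_cast; ring⟩
          · exfalso
            apply h
            simp [hu2]
      · rw [if_neg hs2] at h
        have hs3 : s₀ ≠ S.nr := fun hh => hs2 ((eq_nr_iff S s₀).mpr hh)
        by_cases hu : u = s₀
        · exfalso
          apply h
          subst hu
          have hc : D.chainCoeff r.val u.val u.val = [] := by
            rw [S.up u u hs1 hs3 hs1 hs3]
            simp
          simp [hc]
        · have hu' : (Sum.inr u : D.Idx) ≠ Sum.inr s₀ := fun hh => hu (Sum.inr.inj hh)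
          rw [if_neg hu, if_neg hu', zero_add, sub_zero] at h
          have hne : D.chainCoeff r.val s₀.val u.val ≠ [] := by
            intro h0
            rw [h0] at h
            simp at h
          by_cases hu1 : u = r
          · exact absurd (by rw [hu1]; exact (S.up_r s₀ hs1 hs3).1) hne
          · by_cases hu2 : u = S.nr
            · exact absurd (by rw [hu2]; exact (S.up_r s₀ hs1 hs3).2) hne
            · rw [S.up s₀ u hs1 hs3 hu1 hu2] at hne
              have hb : S.base u = S.base s₀ ∧ S.pos s₀ < S.pos u := by
                by_contra hcon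
                exact hne (if_neg hcon)
              refine ⟨S.pos u - S.pos s₀, by omega, ?_⟩
              rw [gradeOf_inr, gradeOf_inr, gradeOf_inr, ← Finset.sum_sub_distrib, Finset.mul_sum]
              refine Finset.sum_congr rfl fun i _ => ?_
              have hc := hS s₀ u hs1 hs3 hu1 hu2 hb.1 i
              have hcast : ((S.pos u - S.pos s₀ : ℕ) : ℤ) = (S.pos u : ℤ) - (S.pos s₀ : ℤ) := by
                push_cast [Nat.cast_sub hb.2.le]
                ring
              rw [hcast]
              linear_combination (a i) * hc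

end Grade

section Blocks

variable {ι : Type*} [Fintype ι] [DecidableEq ι] {F : Type*} [Field F] (γ : ι → ℤ)

/-- The invertible matrices that, together with their inverses, preserve the grading `γ`. -/
def gradePres (F : Type*) [Field F] (γ : ι → ℤ) : Subgroup (GL ι F) where
  carrier := {g | (∀ x z, (g : Matrix ι ι F) x z ≠ 0 → γ x = γ z) ∧
    (∀ x z, ((g⁻¹ : GL ι F) : Matrix ι ι F) x z ≠ 0 → γ x = γ z)}
  one_mem' := by
    constructor
    · intro x z h
      rw [Units.val_one, Matrix.one_apply] at h
      by_cases hxz : x = z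
      · rw [hxz]
      · exact absurd (if_neg hxz) h
    · intro x z h
      rw [inv_one, Units.val_one, Matrix.one_apply] at h
      by_cases hxz : x = z
      · rw [hxz]
      · exact absurd (if_neg hxz) h
  mul_mem' := by
    rintro g h ⟨hg, hg'⟩ ⟨hh, hh'⟩
    constructor
    · intro x z hne
      rw [Units.val_mul, Matrix.mul_apply] at hne
      obtain ⟨w, -, hw⟩ := Finset.exists_ne_zero_of_sum_ne_zero hne
      exact (hg x w (left_ne_zero_of_mul hw)).trans (hh w z (right_ne_zero_of_mul hw))
    · intro x z hne
      rw [mul_inv_rev, Units.val_mul, Matrix.mul_apply] at hne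
      obtain ⟨w, -, hw⟩ := Finset.exists_ne_zero_of_sum_ne_zero hne
      exact (hh' x w (left_ne_zero_of_mul hw)).trans (hg' w z (right_ne_zero_of_mul hw))
  inv_mem' := by
    rintro g ⟨hg, hg'⟩
    exact ⟨hg', by rw [inv_inv]; exact hg⟩

/-- A shift of the grading to natural numbers. -/
noncomputable def gradeNat (γ : ι → ℤ) (x : ι) : ℕ := (γ x + ∑ y : ι, |γ y|).toNat

omit [DecidableEq ι] in
theorem gradeNat_lt {x z : ι} (h : γ z < γ x) : gradeNat γ z + 1 ≤ gradeNat γ x := by
  unfold gradeNat
  have hz : -γ z ≤ ∑ y : ι, |γ y| :=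
    (neg_le_abs (γ z)).trans (Finset.single_le_sum (f := fun y => |γ y|) (fun y _ => abs_nonneg _)
      (Finset.mem_univ z))
  omega

/-- A matrix preserving the grading and unitriangular with respect to it is the identity. -/
theorem eq_one_of_gradePres_of_uniK {g : GL ι F} (h1 : g ∈ gradePres F γ)
    (h2 : g ∈ uniK F (gradeNat γ) 0) : g = 1 := by
  apply Units.ext
  rw [Units.val_one]
  ext x z
  by_contra hne
  have h3 : ((g : Matrix ι ι F) - 1) x z ≠ 0 := by
    rw [Matrix.sub_apply]
    exact sub_ne_zero.mpr hne
  have h4 := h2 x z h3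
  by_cases hxz : x = z
  · subst hxz
    omega
  · rw [Matrix.one_apply, if_neg hxz] at hne
    have h5 := h1.1 x z hne
    unfold gradeNat at h4
    rw [h5] at h4
    omega

end Blocks

end Cfsg.Agent.Lib.helper23
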