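import Cfsg.Agent.Lib.helper23.ChevGraphAut
import Cfsg.Agent.Lib.helper23.ChevNormal
import Cfsg.Agent.Lib.helper23.ChevMap

set_option autoImplicit false

/-!
# Exceptional isogenies as automorphisms over perfect fields

In characteristic `p` (`p = 3` for `G₂`, `p = 2` for `B₂`, `F₄`) the Lie algebra has an endomorphism `P` (killing the
short root vectors and mapping the long ones onto the short ones) with `P x_s(t) = x_{ρ s}(t ^ λ_s) P`.
The relation `P g = g' P` is then the graph of an endomorphism of the Chevalley group, which is an automorphism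
over a perfect field because its square is the Frobenius automorphism.
-/

namespace Cfsg.Agent.Lib.helper23

open Cfsg.Lie Cfsg.Agent.Lib.helper41 Cfsg.Agent.Lib.helper22
open scoped Matrix

/-- all coefficients vanish modulo `p` -/
def isZeroP (p : ℕ) (v : SV) : Bool := v.all fun e => e.2.1 % (p : ℤ) == 0

/-- a sound equality test for symbolic vectors in characteristic `p` -/
def eqSVp (p : ℕ) (v w : SV) : Bool := isZeroP p (norm (v ++ negSV w))

section evp

variable (D : ChevalleyDatum) {F : Type*} [Field F]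

theorem ev_isZeroP (p : ℕ) [CharP F p] (t : F) (v : SV) (h : isZeroP p v = true) : ev D t v = 0 := by
  induction v with
  | nil => exact ev_nil D t
  | cons e v ih =>
    simp only [isZeroP, List.all_cons, Bool.and_eq_true, beq_iff_eq] at h ih
    rw [ev_cons, ih h.2]
    have h0 : ((e.2.1 : ℤ) : F) = 0 :=
      (CharP.intCast_eq_zero_iff F p e.2.1).mpr (Int.dvd_of_emod_eq_zero h.1)
    funext row
    simp [ev, h0]

theorem ev_eq_of_eqSVp (p : ℕ) [CharP F p] (t : F) (v w : SV) (h : eqSVp p v w = true) :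
    ev D t v = ev D t w := by
  have := ev_isZeroP D p t _ h
  rw [ev_norm, ev_append, ev_negSV] at this
  exact add_neg_eq_zero.mp this

/-- The column table of a target table, out-of-range targets giving the zero column. -/
def killT (sg : List ℕ) (n : ℕ) : SV :=
  bif Nat.blt (sg.getD n 0) (D.rank + D.nroots) then [(sg.getD n 0, 1, 0)] else []

theorem killT_mulVec (sg : List ℕ) (t : F) (n : ℕ) :
    sgnPermMat D F sg [] *ᵥ ev D t [(n, 1, 0)] = ev D t (guardT D (killT D sg) n) := by
  rw [sgnPermMat_mulVec]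
  unfold guardT
  cases hb : Nat.blt n (D.rank + D.nroots) with
  | false => rfl
  | true =>
    simp only [cond_true]
    unfold killT sgnPermT
    cases hb2 : Nat.blt (sg.getD n 0) (D.rank + D.nroots) with
    | true => simp
    | false =>
      rw [cond_false, ev_nil]
      apply ev_out_of_range
      by_contra hlt
      have : Nat.blt (sg.getD n 0) (D.rank + D.nroots) = true := Nat.blt_eq.mpr (by omega)
      rw [hb2] at this
      exact Bool.false_ne_true this

/-- The check of `P x_s(t) = x_{ρ s}(t ^ λ_s) P` modulo `p` for all roots `s`, `P` being given by the target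
table `sg` (out-of-range targets meaning `0`). -/
def isogCheck (col : ℕ → ℕ → List (ℕ × ℤ × ℕ)) (p : ℕ) (sg : List ℕ) (rt lm : List ℕ) : Bool :=
  allBelow D.nroots fun s => Nat.blt (rt.getD s 0) D.nroots &&
    allBelow (D.rank + D.nroots) fun n =>
      eqSVp p (appT (guardT D (killT D sg)) (colW D col s 1 1 n))
        (appT (colW D col (rt.getD s 0) 1 (lm.getD s 1)) (guardT D (killT D sg) n))

theorem isog_conj (col : ℕ → ℕ → List (ℕ × ℤ × ℕ)) (hcol : ColValid D col) (p : ℕ) [CharP F p]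
    (sg : List ℕ) (rt lm : List ℕ) (h : isogCheck D col p sg rt lm = true) (s : ℕ) (hs : s < D.nroots) :
    rt.getD s 0 < D.nroots ∧ ∀ t : F, sgnPermMat D F sg [] * D.x F s t =
      D.x F (rt.getD s 0) (t ^ lm.getD s 1) * sgnPermMat D F sg [] := by
  have hc := (allBelow_iff _ _).mp h s hs
  rw [Bool.and_eq_true] at hc
  have hws : rt.getD s 0 < D.nroots := Nat.blt_eq.mp hc.1
  refine ⟨hws, fun t => ?_⟩
  apply matrix_ext_ev D t
  intro n hn
  have hcn := (allBelow_iff _ _).mp hc.2 n hn
  rw [← Matrix.mulVec_mulVec, ← Matrix.mulVec_mulVec, killT_mulVec]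
  have h1 : D.x F s t *ᵥ ev D t [(n, 1, 0)] = ev D t (colW D col s 1 1 n) := by
    have := col_spec' D t col hcol s hs 1 1 n
    simpa using this
  have h2 : ∀ m, D.x F (rt.getD s 0) (t ^ lm.getD s 1) *ᵥ ev D t [(m, 1, 0)] =
      ev D t (colW D col (rt.getD s 0) 1 (lm.getD s 1) m) := by
    intro m
    have := col_spec' D t col hcol (rt.getD s 0) hws 1 (lm.getD s 1) m
    simpa using this
  rw [h1, mulVec_ev D t _ _ (killT_mulVec D sg t), mulVec_ev D t _ _ h2]
  exact ev_eq_of_eqSVp D p t _ _ hcn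

/-- A column of the matrix of a target table. -/
theorem sgnPermMat_col (sg : List ℕ) (j v : D.Idx) (h : sg.getD (code D j) 0 = code D v) :
    ∀ row, sgnPermMat D F sg [] row j = if row = v then 1 else 0 := by
  intro row
  show ev D (0 : F) (sgnPermT sg [] (code D j)) row = _
  unfold sgnPermT
  rw [h]
  by_cases hrow : row = v
  · subst hrow
    simp [ev]
  · have : code D v ≠ code D row := fun hc => hrow ((code_injective D hc).symm)
    simp [ev, hrow, this]

end evp

section aut

variable {F : Type*} [Field F]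

theorem gl_inv_mul_val {ι : Type*} [Fintype ι] [DecidableEq ι] (g : GL ι F) :
    ((g⁻¹ : GL ι F) : Matrix ι ι F) * (g : Matrix ι ι F) = 1 := by
  rw [← Units.val_mul, inv_mul_cancel, Units.val_one]

theorem gl_mul_inv_val {ι : Type*} [Fintype ι] [DecidableEq ι] (g : GL ι F) :
    (g : Matrix ι ι F) * ((g⁻¹ : GL ι F) : Matrix ι ι F) = 1 := by
  rw [← Units.val_mul, mul_inv_cancel, Units.val_one]

/-- The relation `P g = g' P` is inherited by inverses. -/
theorem isog_rel_inv {ι : Type*} [Fintype ι] [DecidableEq ι] (P : Matrix ι ι F) {g g' : GL ι F}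
    (h : P * (g : Matrix ι ι F) = (g' : Matrix ι ι F) * P) :
    P * ((g⁻¹ : GL ι F) : Matrix ι ι F) = ((g'⁻¹ : GL ι F) : Matrix ι ι F) * P := by
  calc P * ((g⁻¹ : GL ι F) : Matrix ι ι F)
      = ((g'⁻¹ : GL ι F) : Matrix ι ι F) * ((g' : Matrix ι ι F) * P) * ((g⁻¹ : GL ι F) : Matrix ι ι F) := by
        rw [← mul_assoc, gl_inv_mul_val, one_mul]
    _ = ((g'⁻¹ : GL ι F) : Matrix ι ι F) * P := by
        rw [← h, mul_assoc, mul_assoc, gl_mul_inv_val, mul_one]

/-- An element with a given root element as its matrix, in the Chevalley group. -/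
theorem exists_x_group (D : ChevalleyDatum) (hSD : ∀ r : Fin D.nroots, Nonempty (StringData D r)) (r : ℕ)
    (hr : r < D.nroots) (t : F) :
    ∃ g : GL D.Idx F, g ∈ D.group F ∧ (g : Matrix D.Idx D.Idx F) = D.x F r t := by
  obtain ⟨g, hg⟩ := exists_x (F := F) hSD r hr t
  exact ⟨g, Subgroup.subset_closure ⟨⟨r, hr⟩, t, by rw [hg, x_eq D F ⟨r, hr⟩]⟩, hg⟩

/-- The automorphism of the Chevalley group over a perfect field of characteristic `p` attached to an
endomorphism `P` of the coordinate space with `P x_s(t) = x_{ρ s}(t ^ λ_s) P`. -/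
theorem isog_aut (D : ChevalleyDatum) (hD : D ∈ [chevG2, chevB2, chevD4, chevF4, chevE6, chevE7, chevE8])
    (p : ℕ) [Fact p.Prime] [CharP F p] (hperf : ∀ x : F, ∃ y : F, y ^ p = x)
    (P : Matrix D.Idx D.Idx F) (rt lm : ℕ → ℕ)
    (h1 : ∀ s, s < D.nroots → rt s < D.nroots ∧ ∀ t : F, P * D.x F s t = D.x F (rt s) (t ^ lm s) * P)
    (hinv : ∀ s, s < D.nroots → rt (rt s) = s ∧ lm s * lm (rt s) = p ∧ (lm s = 1 ∨ lm s = p))
    (hT : ∃ (s₁ : ℕ) (u v j : D.Idx) (c : F), s₁ < D.nroots ∧ c ≠ 0 ∧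
      (∀ row, P row j = if row = v then c else 0) ∧ rho D u < rho D v ∧ D.x F s₁ 1 u v ≠ 0) :
    ∃ α : ↥(D.group F) ≃* ↥(D.group F),
      (∀ g : ↥(D.group F), P * ((g : GL D.Idx F) : Matrix D.Idx D.Idx F) =
        ((α g : GL D.Idx F) : Matrix D.Idx D.Idx F) * P) ∧
      ∀ (g : ↥(D.group F)) (s : ℕ) (t : F), s < D.nroots →
        ((g : GL D.Idx F) : Matrix D.Idx D.Idx F) = D.x F s t →
        ((α g : GL D.Idx F) : Matrix D.Idx D.Idx F) = D.x F (rt s) (t ^ lm s) := by
  obtain ⟨η, I⟩ := bnInput_all D hD F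
  have hSD := I.hSD'
  -- existence of partners, both ways
  have S1 : ∀ g ∈ D.group F, ∃ g' ∈ D.group F,
      P * (g : Matrix D.Idx D.Idx F) = (g' : Matrix D.Idx D.Idx F) * P := by
    intro g hg
    unfold ChevalleyDatum.group at hg
    induction hg using Subgroup.closure_induction with
    | mem x hx =>
      obtain ⟨r, t, hx⟩ := hx
      obtain ⟨g', hg', e⟩ := exists_x_group D hSD (rt r.val) (h1 r.val r.isLt).1 (t ^ lm r.val)
      exact ⟨g', hg', by rw [hx, ← x_eq D F r, (h1 r.val r.isLt).2 t, e]⟩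
    | one => exact ⟨1, one_mem _, by rw [Units.val_one, mul_one, one_mul]⟩
    | mul a b _ _ ha hb =>
      obtain ⟨a', ha', ea⟩ := ha
      obtain ⟨b', hb', eb⟩ := hb
      exact ⟨a' * b', mul_mem ha' hb', by
        rw [Units.val_mul, Units.val_mul, ← mul_assoc, ea, mul_assoc, eb, mul_assoc]⟩
    | inv a _ ha =>
      obtain ⟨a', ha', ea⟩ := ha
      exact ⟨a'⁻¹, inv_mem ha', isog_rel_inv P ea⟩
  have S2 : ∀ g' ∈ D.group F, ∃ g ∈ D.group F,
      P * (g : Matrix D.Idx D.Idx F) = (g' : Matrix D.Idx D.Idx F) * P := by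
    intro g' hg'
    unfold ChevalleyDatum.group at hg'
    induction hg' using Subgroup.closure_induction with
    | mem x hx =>
      obtain ⟨r, u, hx⟩ := hx
      have hr' := (h1 r.val r.isLt).1
      obtain ⟨e1, e2, e3⟩ := hinv (rt r.val) hr'
      obtain ⟨e1', -, -⟩ := hinv r.val r.isLt
      have ht : ∃ t : F, t ^ lm (rt r.val) = u := by
        rcases e3 with e3 | e3
        · exact ⟨u, by rw [e3, pow_one]⟩
        · rw [e3]; exact hperf u
      obtain ⟨t, ht⟩ := ht
      obtain ⟨g, hg, e⟩ := exists_x_group D hSD (rt r.val) hr' t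
      exact ⟨g, hg, by rw [hx, ← x_eq D F r, e, (h1 (rt r.val) hr').2 t, e1', ht]⟩
    | one => exact ⟨1, one_mem _, by rw [Units.val_one, mul_one, one_mul]⟩
    | mul a b _ _ ha hb =>
      obtain ⟨a', ha', ea⟩ := ha
      obtain ⟨b', hb', eb⟩ := hb
      exact ⟨a' * b', mul_mem ha' hb', by
        rw [Units.val_mul, Units.val_mul, ← mul_assoc, ea, mul_assoc, eb, mul_assoc]⟩
    | inv a _ ha =>
      obtain ⟨a', ha', ea⟩ := ha
      exact ⟨a'⁻¹, inv_mem ha', isog_rel_inv P ea⟩
  -- the subgroup fixing the image of `P`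
  let N₁ : Subgroup ↥(D.group F) :=
    { carrier := {g | ((g : GL D.Idx F) : Matrix D.Idx D.Idx F) * P = P}
      mul_mem' := by
        intro a b ha hb
        show ((a * b : ↥(D.group F)) : GL D.Idx F).val * P = P
        rw [Subgroup.coe_mul, Units.val_mul, mul_assoc]
        rw [show (b : GL D.Idx F).val * P = P from hb]
        exact ha
      one_mem' := by
        show ((1 : ↥(D.group F)) : GL D.Idx F).val * P = P
        rw [Subgroup.coe_one, Units.val_one, one_mul]
      inv_mem' := by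
        intro a ha
        show ((a⁻¹ : ↥(D.group F)) : GL D.Idx F).val * P = P
        have ha' : (a : GL D.Idx F).val * P = P := ha
        rw [Subgroup.coe_inv]
        calc ((a : GL D.Idx F)⁻¹).val * P = ((a : GL D.Idx F)⁻¹).val * ((a : GL D.Idx F).val * P) := by rw [ha']
          _ = P := by rw [← mul_assoc, gl_inv_mul_val, one_mul] }
  have hN₁mem : ∀ g : ↥(D.group F), g ∈ N₁ ↔ ((g : GL D.Idx F) : Matrix D.Idx D.Idx F) * P = P :=
    fun g => Iff.rfl
  have hN₁ : N₁.Normal := by
    constructor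
    intro n hn g
    rw [hN₁mem] at hn ⊢
    obtain ⟨h, hh, eh⟩ := S2 g.1 g.2
    have eh' := isog_rel_inv P eh
    rw [Subgroup.coe_mul, Subgroup.coe_mul, Subgroup.coe_inv, Units.val_mul, Units.val_mul]
    calc (g : GL D.Idx F).val * (n : GL D.Idx F).val * ((g : GL D.Idx F)⁻¹).val * P
        = (g : GL D.Idx F).val * ((n : GL D.Idx F).val * (((g : GL D.Idx F)⁻¹).val * P)) := by
          simp only [mul_assoc]
      _ = (g : GL D.Idx F).val * ((n : GL D.Idx F).val * (P * (h⁻¹).val)) := by rw [eh']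
      _ = (g : GL D.Idx F).val * (P * (h⁻¹).val) := by rw [← mul_assoc (n : GL D.Idx F).val, hn]
      _ = P := by rw [← mul_assoc, ← eh, mul_assoc, gl_mul_inv_val, mul_one]
  have hN₁bot : N₁ = ⊥ := by
    rcases chev_normal_dichotomy D hD N₁ with h | h
    · exact h
    exfalso
    obtain ⟨s₁, u, v, j, c, hs₁, hc, hPj, huv, hx⟩ := hT
    obtain ⟨x₁, hx₁, ex₁⟩ := exists_x_group D hSD s₁ hs₁ (1 : F)
    have hmem : (⟨x₁, hx₁⟩ : ↥(D.group F)) ∈ N₁ ⊔ (D.borelSubgroup F).subgroupOf (D.group F) := by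
      rw [h]; exact Subgroup.mem_top _
    rw [← SetLike.mem_coe, Subgroup.normal_mul] at hmem
    obtain ⟨n, hn, b, hb, e⟩ := Set.mem_mul.mp hmem
    have hn' : (n : GL D.Idx F).val * P = P := hn
    have hb' : (b : GL D.Idx F) ∈ D.borelSubgroup F := Subgroup.mem_subgroupOf.mp hb
    obtain ⟨b'', hb'', eb⟩ := S2 b.1 b.2
    have e' : (x₁ : Matrix D.Idx D.Idx F) = (n : GL D.Idx F).val * (b : GL D.Idx F).val := by
      have := congrArg (fun z : ↥(D.group F) => ((z : GL D.Idx F) : Matrix D.Idx D.Idx F)) e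
      simp only [Subgroup.coe_mul, Units.val_mul] at this
      exact this.symm
    have key : (x₁ : Matrix D.Idx D.Idx F) * P = (b : GL D.Idx F).val * P := by
      rw [e', mul_assoc, ← eb, ← mul_assoc, hn']
    have h3 := congrFun (congrFun key u) j
    rw [Matrix.mul_apply, Matrix.mul_apply, Finset.sum_eq_single v, Finset.sum_eq_single v] at h3
    · rw [hPj v, if_pos rfl] at h3
      have h4 : (b : GL D.Idx F).val u v = 0 := by
        by_contra hne
        have := borel_triK I hb' u v hne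
        omega
      rw [h4, zero_mul, ex₁] at h3
      exact hx ((mul_eq_zero.mp h3).resolve_right hc)
    · intro k _ hk
      rw [hPj k, if_neg hk, mul_zero]
    · intro hk; exact absurd (Finset.mem_univ _) hk
    · intro k _ hk
      rw [hPj k, if_neg hk, mul_zero]
    · intro hk; exact absurd (Finset.mem_univ _) hk
  -- uniqueness of the partner
  have huniq : ∀ (g' g'' : ↥(D.group F)),
      ((g' : GL D.Idx F) : Matrix D.Idx D.Idx F) * P = ((g'' : GL D.Idx F) : Matrix D.Idx D.Idx F) * P →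
      g' = g'' := by
    intro g' g'' e
    have hmem : g''⁻¹ * g' ∈ N₁ := by
      rw [hN₁mem, Subgroup.coe_mul, Subgroup.coe_inv, Units.val_mul, mul_assoc, e, ← mul_assoc,
        gl_inv_mul_val, one_mul]
    rw [hN₁bot, Subgroup.mem_bot] at hmem
    exact (inv_mul_eq_one.mp hmem).symm
  -- the endomorphism
  have hex : ∀ g : ↥(D.group F), ∃ g' : ↥(D.group F),
      P * ((g : GL D.Idx F) : Matrix D.Idx D.Idx F) = ((g' : GL D.Idx F) : Matrix D.Idx D.Idx F) * P := by
    intro g
    obtain ⟨g', hg', e⟩ := S1 g.1 g.2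
    exact ⟨⟨g', hg'⟩, e⟩
  choose α₀ hα₀ using hex
  have hchar : ∀ g g' : ↥(D.group F),
      P * ((g : GL D.Idx F) : Matrix D.Idx D.Idx F) = ((g' : GL D.Idx F) : Matrix D.Idx D.Idx F) * P →
      α₀ g = g' := fun g g' e => huniq _ _ (by rw [← hα₀ g, e])
  have hmul : ∀ a b : ↥(D.group F), α₀ (a * b) = α₀ a * α₀ b := by
    intro a b
    apply hchar
    rw [Subgroup.coe_mul, Subgroup.coe_mul, Units.val_mul, Units.val_mul, ← mul_assoc, hα₀ a, mul_assoc,
      hα₀ b, mul_assoc]
  let αh : ↥(D.group F) →* ↥(D.group F) := MonoidHom.mk' α₀ hmul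
  have hαh : ∀ g, αh g = α₀ g := fun g => rfl
  have hgen : ∀ (g : ↥(D.group F)) (s : ℕ) (t : F), s < D.nroots →
      ((g : GL D.Idx F) : Matrix D.Idx D.Idx F) = D.x F s t →
      ((α₀ g : GL D.Idx F) : Matrix D.Idx D.Idx F) = D.x F (rt s) (t ^ lm s) := by
    intro g s t hs hg
    obtain ⟨g', hg', e⟩ := exists_x_group D hSD (rt s) (h1 s hs).1 (t ^ lm s)
    have := hchar g ⟨g', hg'⟩ (by rw [hg, (h1 s hs).2 t, e])
    rw [this, e]
  -- the square of the endomorphism is the Frobenius automorphism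
  have : ExpChar F p := ExpChar.prime Fact.out
  let e : F ≃+* F := RingEquiv.ofBijective (frobenius F p) ⟨frobenius_inj F p, fun x => by
    obtain ⟨y, hy⟩ := hperf x
    exact ⟨y, by rw [frobenius_def, hy]⟩⟩
  have he : ∀ x : F, e x = x ^ p := fun x => rfl
  have hφ : ∀ g : ↥(D.group F), ((groupEquivOfRingEquiv D e g : GL D.Idx F) : Matrix D.Idx D.Idx F) =
      ((g : GL D.Idx F) : Matrix D.Idx D.Idx F).map (e : F →+* F) := fun g => glMapEquiv_val D e g.1
  have hsq : ∀ g : ↥(D.group F), αh (αh g) = groupEquivOfRingEquiv D e g := by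
    rintro ⟨g, hg⟩
    unfold ChevalleyDatum.group at hg
    induction hg using Subgroup.closure_induction with
    | mem x hx =>
      obtain ⟨r, t, hx'⟩ := hx
      apply Subtype.ext
      apply Units.ext
      obtain ⟨e1, e2, -⟩ := hinv r.val r.isLt
      rw [hαh, hαh, hgen _ (rt r.val) (t ^ lm r.val) (h1 r.val r.isLt).1
        (hgen _ r.val t r.isLt (by rw [hx', x_eq D F r])), hφ, e1, ← pow_mul, e2]
      show D.x F r.val (t ^ p) = (x : Matrix D.Idx D.Idx F).map (e : F →+* F)
      rw [hx', xMat_map_hom, x_eq D F r]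
      rfl
    | one =>
      have : (⟨1, Subgroup.one_mem _⟩ : ↥(D.group F)) = 1 := rfl
      rw [this, map_one, map_one, map_one]
    | mul a b ha hb iha ihb =>
      have : (⟨a * b, Subgroup.mul_mem _ ha hb⟩ : ↥(D.group F)) = ⟨a, ha⟩ * ⟨b, hb⟩ := rfl
      rw [this, map_mul, map_mul, map_mul, iha, ihb]
    | inv a ha iha =>
      have : (⟨a⁻¹, Subgroup.inv_mem _ ha⟩ : ↥(D.group F)) = (⟨a, ha⟩ : ↥(D.group F))⁻¹ := rfl
      rw [this, map_inv, map_inv, map_inv, iha]
  have hbij : Function.Bijective αh := by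
    constructor
    · intro a b hab
      have := congrArg αh hab
      rw [hsq, hsq] at this
      exact (groupEquivOfRingEquiv D e).injective this
    · intro y
      obtain ⟨z, hz⟩ := (groupEquivOfRingEquiv D e).surjective y
      exact ⟨αh z, by rw [hsq, hz]⟩
  refine ⟨MulEquiv.ofBijective αh hbij, fun g => hα₀ g, fun g s t hs hg => hgen g s t hs hg⟩

end aut

end Cfsg.Agent.Lib.helper23
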