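import Cfsg.Agent.Lib.helper23.ChevIsog
import Cfsg.Agent.Lib.helper41.ChevTabG2
import Cfsg.Agent.Lib.helper41.ChevTabB2
import Cfsg.Agent.Lib.helper41.ChevTabF4

set_option autoImplicit false
set_option maxRecDepth 100000

/-! The tables of the exceptional isogenies of `G₂` (characteristic 3), `B₂` and `F₄` (characteristic 2), and
their verification. -/

namespace Cfsg.Agent.Lib.helper23

open Cfsg.Lie Cfsg.Agent.Lib.helper41 Cfsg.Agent.Lib.helper22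

def isoSgG2 : List ℕ :=
  [14, 0, 4, 5, 14, 14, 14, 6, 9, 14, 14, 14, 10, 11]

def isoRtG2 : List ℕ :=
  [2, 3, 0, 1, 5, 4, 7, 6, 10, 11, 8, 9]

def isoLmG2 : List ℕ :=
  [1, 1, 3, 3, 3, 1, 1, 3, 3, 3, 1, 1]

theorem isoCheckG2 : isogCheck chevG2 TabG2.tab.col 3 isoSgG2 isoRtG2 isoLmG2 = true := by
  decide +kernel

theorem isoInvG2 : ∀ s, s < chevG2.nroots → isoRtG2.getD (isoRtG2.getD s 0) 0 = s ∧
    isoLmG2.getD s 1 * isoLmG2.getD (isoRtG2.getD s 0) 1 = 3 ∧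
    (isoLmG2.getD s 1 = 1 ∨ isoLmG2.getD s 1 = 3) := by
  decide +kernel

theorem isoTG2 (F : Type*) [Field F] :
    ∃ (s₁ : ℕ) (u v j : chevG2.Idx) (c : F), s₁ < chevG2.nroots ∧ c ≠ 0 ∧
      (∀ row, sgnPermMat chevG2 F isoSgG2 [] row j = if row = v then c else 0) ∧
      rho chevG2 u < rho chevG2 v ∧ chevG2.x F s₁ 1 u v ≠ 0 := by
  refine ⟨4, Sum.inr ⟨4, by decide⟩, Sum.inr ⟨7, by decide⟩, Sum.inr ⟨6, by decide⟩, 1, by decide,
    one_ne_zero, ?_, by decide, ?_⟩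
  · exact sgnPermMat_col chevG2 isoSgG2 _ _ (by decide)
  · rw [x_eq chevG2 F ⟨4, by decide⟩, xMat_inr_inr, if_neg (by decide), if_pos (by decide),
      if_neg (by decide), if_pos rfl]
    simp

/-- The exceptional isogeny of type `G2` as an automorphism over a perfect field of characteristic `3`. -/
theorem isog_aut_G2 {F : Type*} [Field F] [CharP F 3] (hperf : ∀ x : F, ∃ y : F, y ^ 3 = x) :
    ∃ α : ↥(chevG2.group F) ≃* ↥(chevG2.group F),
      (∀ g : ↥(chevG2.group F), sgnPermMat chevG2 F isoSgG2 [] *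
          ((g : GL chevG2.Idx F) : Matrix chevG2.Idx chevG2.Idx F) =
        ((α g : GL chevG2.Idx F) : Matrix chevG2.Idx chevG2.Idx F) *
          sgnPermMat chevG2 F isoSgG2 []) ∧
      ∀ (g : ↥(chevG2.group F)) (s : ℕ) (t : F), s < chevG2.nroots →
        ((g : GL chevG2.Idx F) : Matrix chevG2.Idx chevG2.Idx F) = chevG2.x F s t →
        ((α g : GL chevG2.Idx F) : Matrix chevG2.Idx chevG2.Idx F) =
          chevG2.x F (isoRtG2.getD s 0) (t ^ isoLmG2.getD s 1) := by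
  haveI : Fact (Nat.Prime 3) := ⟨by norm_num⟩
  exact isog_aut chevG2 (by simp) 3 hperf (sgnPermMat chevG2 F isoSgG2 [])
    (fun s => isoRtG2.getD s 0) (fun s => isoLmG2.getD s 1)
    (fun s hs => isog_conj chevG2 TabG2.tab.col TabG2.colValid 3 isoSgG2 isoRtG2 isoLmG2
      isoCheckG2 s hs)
    isoInvG2 (isoTG2 F)

def isoSgB2 : List ℕ :=
  [10, 0, 3, 10, 10, 4, 7, 10, 10, 8]

def isoRtB2 : List ℕ :=
  [1, 0, 3, 2, 5, 4, 7, 6]

def isoLmB2 : List ℕ :=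
  [1, 2, 2, 1, 1, 2, 2, 1]

theorem isoCheckB2 : isogCheck chevB2 TabB2.tab.col 2 isoSgB2 isoRtB2 isoLmB2 = true := by
  decide +kernel

theorem isoInvB2 : ∀ s, s < chevB2.nroots → isoRtB2.getD (isoRtB2.getD s 0) 0 = s ∧
    isoLmB2.getD s 1 * isoLmB2.getD (isoRtB2.getD s 0) 1 = 2 ∧
    (isoLmB2.getD s 1 = 1 ∨ isoLmB2.getD s 1 = 2) := by
  decide +kernel

theorem isoTB2 (F : Type*) [Field F] :
    ∃ (s₁ : ℕ) (u v j : chevB2.Idx) (c : F), s₁ < chevB2.nroots ∧ c ≠ 0 ∧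
      (∀ row, sgnPermMat chevB2 F isoSgB2 [] row j = if row = v then c else 0) ∧
      rho chevB2 u < rho chevB2 v ∧ chevB2.x F s₁ 1 u v ≠ 0 := by
  refine ⟨2, Sum.inr ⟨2, by decide⟩, Sum.inr ⟨5, by decide⟩, Sum.inr ⟨4, by decide⟩, 1, by decide,
    one_ne_zero, ?_, by decide, ?_⟩
  · exact sgnPermMat_col chevB2 isoSgB2 _ _ (by decide)
  · rw [x_eq chevB2 F ⟨2, by decide⟩, xMat_inr_inr, if_neg (by decide), if_pos (by decide),
      if_neg (by decide), if_pos rfl]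
    simp

/-- The exceptional isogeny of type `B2` as an automorphism over a perfect field of characteristic `2`. -/
theorem isog_aut_B2 {F : Type*} [Field F] [CharP F 2] (hperf : ∀ x : F, ∃ y : F, y ^ 2 = x) :
    ∃ α : ↥(chevB2.group F) ≃* ↥(chevB2.group F),
      (∀ g : ↥(chevB2.group F), sgnPermMat chevB2 F isoSgB2 [] *
          ((g : GL chevB2.Idx F) : Matrix chevB2.Idx chevB2.Idx F) =
        ((α g : GL chevB2.Idx F) : Matrix chevB2.Idx chevB2.Idx F) *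
          sgnPermMat chevB2 F isoSgB2 []) ∧
      ∀ (g : ↥(chevB2.group F)) (s : ℕ) (t : F), s < chevB2.nroots →
        ((g : GL chevB2.Idx F) : Matrix chevB2.Idx chevB2.Idx F) = chevB2.x F s t →
        ((α g : GL chevB2.Idx F) : Matrix chevB2.Idx chevB2.Idx F) =
          chevB2.x F (isoRtB2.getD s 0) (t ^ isoLmB2.getD s 1) := by
  haveI : Fact (Nat.Prime 2) := ⟨by norm_num⟩
  exact isog_aut chevB2 (by simp) 2 hperf (sgnPermMat chevB2 F isoSgB2 [])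
    (fun s => isoRtB2.getD s 0) (fun s => isoLmB2.getD s 1)
    (fun s hs => isog_conj chevB2 TabB2.tab.col TabB2.colValid 2 isoSgB2 isoRtB2 isoLmB2
      isoCheckB2 s hs)
    isoInvB2 (isoTB2 F)

def isoSgF4 : List ℕ :=
  [52, 52, 1, 0, 7, 11, 12, 52, 13, 15, 22, 52, 52, 52, 52, 52, 52, 52, 52, 14, 16, 23, 52, 52, 52, 17, 24, 18, 37, 31, 38, 52, 52, 52, 32, 39, 41, 52, 52, 52, 52, 52, 52, 52, 52, 33, 40, 42, 52, 43, 44, 48]

def isoRtF4 : List ℕ :=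
  [3, 7, 8, 0, 9, 11, 18, 1, 2, 4, 15, 5, 16, 21, 23, 10, 12, 19, 6, 17, 22, 13, 20, 14, 33, 27, 34, 25, 30, 41, 28, 35, 37, 24, 26, 31, 42, 32, 43, 45, 46, 29, 36, 38, 47, 39, 40, 44]

def isoLmF4 : List ℕ :=
  [1, 1, 1, 2, 1, 1, 1, 2, 2, 2, 2, 2, 2, 2, 2, 1, 1, 1, 2, 2, 2, 1, 1, 1, 1, 1, 1, 2, 2, 2, 1, 1, 1, 2, 2, 2, 2, 2, 2, 2, 2, 1, 1, 1, 2, 1, 1, 1]

theorem isoCheckF4 : isogCheck chevF4 TabF4.tab.col 2 isoSgF4 isoRtF4 isoLmF4 = true := by
  decide +kernel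

theorem isoInvF4 : ∀ s, s < chevF4.nroots → isoRtF4.getD (isoRtF4.getD s 0) 0 = s ∧
    isoLmF4.getD s 1 * isoLmF4.getD (isoRtF4.getD s 0) 1 = 2 ∧
    (isoLmF4.getD s 1 = 1 ∨ isoLmF4.getD s 1 = 2) := by
  decide +kernel

theorem isoTF4 (F : Type*) [Field F] :
    ∃ (s₁ : ℕ) (u v j : chevF4.Idx) (c : F), s₁ < chevF4.nroots ∧ c ≠ 0 ∧
      (∀ row, sgnPermMat chevF4 F isoSgF4 [] row j = if row = v then c else 0) ∧
      rho chevF4 u < rho chevF4 v ∧ chevF4.x F s₁ 1 u v ≠ 0 := by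
  refine ⟨14, Sum.inr ⟨14, by decide⟩, Sum.inr ⟨33, by decide⟩, Sum.inr ⟨24, by decide⟩, 1, by decide,
    one_ne_zero, ?_, by decide, ?_⟩
  · exact sgnPermMat_col chevF4 isoSgF4 _ _ (by decide)
  · rw [x_eq chevF4 F ⟨14, by decide⟩, xMat_inr_inr, if_neg (by decide), if_pos (by decide),
      if_neg (by decide), if_pos rfl]
    simp

/-- The exceptional isogeny of type `F4` as an automorphism over a perfect field of characteristic `2`. -/
theorem isog_aut_F4 {F : Type*} [Field F] [CharP F 2] (hperf : ∀ x : F, ∃ y : F, y ^ 2 = x) :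
    ∃ α : ↥(chevF4.group F) ≃* ↥(chevF4.group F),
      (∀ g : ↥(chevF4.group F), sgnPermMat chevF4 F isoSgF4 [] *
          ((g : GL chevF4.Idx F) : Matrix chevF4.Idx chevF4.Idx F) =
        ((α g : GL chevF4.Idx F) : Matrix chevF4.Idx chevF4.Idx F) *
          sgnPermMat chevF4 F isoSgF4 []) ∧
      ∀ (g : ↥(chevF4.group F)) (s : ℕ) (t : F), s < chevF4.nroots →
        ((g : GL chevF4.Idx F) : Matrix chevF4.Idx chevF4.Idx F) = chevF4.x F s t →
        ((α g : GL chevF4.Idx F) : Matrix chevF4.Idx chevF4.Idx F) =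
          chevF4.x F (isoRtF4.getD s 0) (t ^ isoLmF4.getD s 1) := by
  haveI : Fact (Nat.Prime 2) := ⟨by norm_num⟩
  exact isog_aut chevF4 (by simp) 2 hperf (sgnPermMat chevF4 F isoSgF4 [])
    (fun s => isoRtF4.getD s 0) (fun s => isoLmF4.getD s 1)
    (fun s hs => isog_conj chevF4 TabF4.tab.col TabF4.colValid 2 isoSgF4 isoRtF4 isoLmF4
      isoCheckF4 s hs)
    isoInvF4 (isoTF4 F)

end Cfsg.Agent.Lib.helper23
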