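import Cfsg.Agent.Lib.helper22.ChevN

set_option autoImplicit false

/-!
# The Chevalley group is perfect

Three ways to see that a root element `x_q(v)` is a commutator in the group `G` generated by the root elements:

* `mem_derived_of_sq`: if some `λ ≠ 0` has `λ² ≠ 1`, from `h_q(λ) x_q(s) h_q(λ)⁻¹ = x_q(λ² s)`;
* `mem_derived_of_odd`: if `2 ≠ 0` and some Cartan integer `A_{p_i, q}` is odd, from
  `h_{p_i}(-1) x_q(s) h_{p_i}(-1)⁻¹ = x_q(-s)`;
* `mem_derived_of_comm`: if `q = r + s` and the commutator formula for `(r, s)` has the single term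
  `x_q(c (-t) u)` with `c ≠ 0` in the field.
-/

namespace Cfsg.Agent.Lib.helper23

open Cfsg.Lie Cfsg.Agent.Lib.helper22
open scoped commutatorElement

variable {D : ChevalleyDatum} {F : Type*} [Field F]

/-- The image in `GL` of the derived subgroup of the Chevalley group. -/
def derivedImage (D : ChevalleyDatum) (F : Type*) [Field F] : Subgroup (GL D.Idx F) :=
  (commutator ↥(D.group F)).map (D.group F).subtype

theorem comm_mem_derivedImage {a b : GL D.Idx F} (ha : a ∈ D.group F) (hb : b ∈ D.group F) :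
    a * b * a⁻¹ * b⁻¹ ∈ derivedImage D F := by
  have h : ⁅(⟨a, ha⟩ : ↥(D.group F)), (⟨b, hb⟩ : ↥(D.group F))⁆ ∈ commutator ↥(D.group F) := by
    rw [commutator_def]
    exact Subgroup.commutator_mem_commutator (Subgroup.mem_top _) (Subgroup.mem_top _)
  have h2 := Subgroup.mem_map_of_mem (D.group F).subtype h
  rw [commutatorElement_def] at h2
  unfold derivedImage
  simpa using h2

theorem commutator_eq_top_of_gens
    (h : ∀ (r : ℕ) (_ : r < D.nroots) (t : F) (g : GL D.Idx F),
      (g : Matrix D.Idx D.Idx F) = D.x F r t → g ∈ derivedImage D F) :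
    commutator ↥(D.group F) = ⊤ := by
  rw [eq_top_iff]
  intro g _
  have hle : D.group F ≤ derivedImage D F := by
    unfold ChevalleyDatum.group
    rw [Subgroup.closure_le]
    rintro g ⟨r, t, hg⟩
    exact h r.val r.isLt t g (by rw [hg, x_eq D F r t])
  obtain ⟨g', hg', he⟩ := hle g.2
  have : g' = g := Subtype.ext he
  exact this ▸ hg'

theorem sl2h_mul_sl2u (c : F) (hc : c ≠ 0) (s : F) :
    sl2h c hc * sl2u s = sl2u (c ^ 2 * s) * sl2h c hc := by
  apply Subtype.ext
  show !![c, 0; 0, c⁻¹] * !![1, s; 0, 1] = !![1, c ^ 2 * s; 0, 1] * !![c, 0; 0, c⁻¹]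
  ext i j
  fin_cases i <;> fin_cases j <;> simp [Matrix.mul_apply, Fin.sum_univ_two]
  field_simp

theorem sl2u_mul_sl2u (a b : F) : sl2u a * sl2u b = sl2u (a + b) := by
  apply Subtype.ext
  show !![1, a; 0, 1] * !![1, b; 0, 1] = !![1, a + b; 0, 1]
  ext i j
  fin_cases i <;> fin_cases j <;> simp [Matrix.mul_apply, Fin.sum_univ_two, add_comm]

theorem sl2u_zero : sl2u (0 : F) = 1 := by
  apply Subtype.ext
  show !![1, (0 : F); 0, 1] = 1
  ext i j
  fin_cases i <;> fin_cases j <;> simp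

theorem sl2u_inv (a : F) : (sl2u a)⁻¹ = sl2u (-a) := by
  rw [inv_eq_iff_mul_eq_one, sl2u_mul_sl2u, add_neg_cancel, sl2u_zero]

/-- First way: a field element `c ≠ 0` with `c² ≠ 1`. -/
theorem mem_derived_of_sq {q : Fin D.nroots} (S : StringData D q) (c : F) (hc : c ≠ 0) (hc2 : c ^ 2 ≠ 1)
    (v : F) (g : GL D.Idx F) (hg : (g : Matrix D.Idx D.Idx F) = D.x F q.val v) : g ∈ derivedImage D F := by
  have hd : c ^ 2 - 1 ≠ 0 := sub_ne_zero.mpr hc2
  have h1 : sl2u v = sl2h c hc * sl2u (v / (c ^ 2 - 1)) * (sl2h c hc)⁻¹ * (sl2u (v / (c ^ 2 - 1)))⁻¹ := by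
    rw [sl2h_mul_sl2u, mul_assoc (sl2u _), mul_inv_cancel, mul_one, sl2u_inv, sl2u_mul_sl2u]
    congr 1
    field_simp
    ring
  have hgS : g = sl2Hom S (sl2u v) := Units.ext (by rw [hg, sl2Hom_sl2u S v])
  rw [hgS, h1, map_mul, map_mul, map_mul, map_inv, map_inv]
  exact comm_mem_derivedImage (sl2Hom_mem_group S _) (sl2Hom_mem_group S _)

/-- Second way: `2 ≠ 0` and an odd Cartan integer. -/
theorem mem_derived_of_odd (hS : SimpleCorootOK D) {q : Fin D.nroots} (S : StringData D q)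
    (hSc : S.CartanCompat) (i : Fin D.rank) (Si : StringData D ⟨D.simple i.val, (hS i).1⟩)
    (hodd : Odd (cartanZ D i.val q.val)) (h2 : (2 : F) ≠ 0)
    (v : F) (g : GL D.Idx F) (hg : (g : Matrix D.Idx D.Idx F) = D.x F q.val v) : g ∈ derivedImage D F := by
  have hm1 : (-1 : F) ≠ 0 := neg_ne_zero.mpr one_ne_zero
  have hH : ((sl2Hom Si (sl2h (-1 : F) hm1) : GL D.Idx F) : Matrix D.Idx D.Idx F) =
      torusMat D F (fun k => (-1 : F) ^ corootZ D (D.simple i.val) k.val) := by
    rw [sl2Hom_sl2h Si (-1) hm1]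
    exact hMat_eq_torusMat Si (-1) hm1
  have hchar : torusChar D F (fun k => (-1 : F) ^ corootZ D (D.simple i.val) k.val) q.val = -1 := by
    rw [torusChar_coroot (D := D) (-1 : F) hm1, rootPairing_simple hS i, hodd.neg_one_zpow]
  have hcomm : ∀ s : F, sl2Hom Si (sl2h (-1 : F) hm1) * sl2Hom S (sl2u s) =
      sl2Hom S (sl2u (-s)) * sl2Hom Si (sl2h (-1 : F) hm1) := by
    intro s
    apply Units.ext
    rw [Units.val_mul, Units.val_mul, hH, sl2Hom_sl2u S, sl2Hom_sl2u S, x_eq D F q, x_eq D F q,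
      torusMat_mul_xMat S hSc _ (fun k => zpow_ne_zero _ hm1), hchar, neg_one_mul]
  have hgS : g = sl2Hom Si (sl2h (-1 : F) hm1) * sl2Hom S (sl2u (-v / 2)) *
      (sl2Hom Si (sl2h (-1 : F) hm1))⁻¹ * (sl2Hom S (sl2u (-v / 2)))⁻¹ := by
    rw [hcomm, mul_assoc (sl2Hom S _), mul_inv_cancel, mul_one, ← map_inv, ← map_mul, sl2u_inv,
      sl2u_mul_sl2u]
    apply Units.ext
    rw [hg, sl2Hom_sl2u S]
    congr 1
    field_simp
    ring
  rw [hgS]
  exact comm_mem_derivedImage (sl2Hom_mem_group Si _) (sl2Hom_mem_group S _)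

/-- Third way: a single-term commutator formula (only needed for `u = 1`). -/
theorem mem_derived_of_comm (hSD : ∀ r : Fin D.nroots, Nonempty (StringData D r))
    (r s q : ℕ) (c : ℤ) (hr : r < D.nroots) (hs : s < D.nroots)
    (hterms : D.commTerms r s = [(q, c, 1, 1)]) (hc : (c : F) ≠ 0)
    (hcomm : ∀ t : F, D.x F s 1 * D.x F r t = D.x F r t * D.x F s 1 * D.wordMat F (D.commWord F r s t 1))
    (v : F) (g : GL D.Idx F) (hg : (g : Matrix D.Idx D.Idx F) = D.x F q v) : g ∈ derivedImage D F := by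
  obtain ⟨Sr⟩ := hSD ⟨r, hr⟩
  obtain ⟨Ss⟩ := hSD ⟨s, hs⟩
  have hw : D.wordMat F (D.commWord F r s (-v / (c : F)) 1) = D.x F q v := by
    unfold ChevalleyDatum.commWord ChevalleyDatum.wordMat
    rw [hterms]
    simp only [List.map_cons, List.map_nil, List.prod_cons, List.prod_nil, mul_one, pow_one]
    congr 1
    field_simp
  have h1 := hcomm (-v / (c : F))
  rw [hw] at h1
  have h2 : sl2Hom Ss (sl2u (1 : F)) * sl2Hom Sr (sl2u (-v / (c : F))) =
      sl2Hom Sr (sl2u (-v / (c : F))) * sl2Hom Ss (sl2u (1 : F)) * g := by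
    apply Units.ext
    rw [Units.val_mul, Units.val_mul, Units.val_mul, sl2Hom_sl2u Ss, sl2Hom_sl2u Sr, hg]
    exact h1
  have h3 : g = (sl2Hom Ss (sl2u (1 : F)))⁻¹ * (sl2Hom Sr (sl2u (-v / (c : F))))⁻¹ *
      ((sl2Hom Ss (sl2u (1 : F)))⁻¹)⁻¹ * ((sl2Hom Sr (sl2u (-v / (c : F))))⁻¹)⁻¹ := by
    rw [inv_inv, inv_inv, mul_assoc, mul_assoc, h2]
    group
  rw [h3]
  exact comm_mem_derivedImage (Subgroup.inv_mem _ (sl2Hom_mem_group Ss _))
    (Subgroup.inv_mem _ (sl2Hom_mem_group Sr _))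

/-- The derived subgroup is normalised by the group. -/
theorem derived_conj_mem {n g : GL D.Idx F} (hn : n ∈ D.group F) (hg : g ∈ derivedImage D F) :
    n⁻¹ * g * n ∈ derivedImage D F := by
  obtain ⟨g0, hg0, rfl⟩ := hg
  have hN : (commutator ↥(D.group F)).Normal := inferInstance
  have h := hN.conj_mem g0 hg0 (⟨n, hn⟩ : ↥(D.group F))⁻¹
  have h2 := Subgroup.mem_map_of_mem (D.group F).subtype h
  unfold derivedImage
  simpa using h2

/-! ### Table conditions -/

/-- A fundamental root `p_i` with `A_{p_i, q}` odd (`0` if there is none). -/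
def oddIdx (D : ChevalleyDatum) (q : ℕ) : ℕ :=
  ((List.range D.rank).find? fun i => decide (D.cartan i q % 2 = 1)).getD 0

def oddOK (D : ChevalleyDatum) (q : ℕ) : Bool :=
  decide (oddIdx D q < D.rank) && decide (D.cartan (oddIdx D q) q % 2 = 1)

/-- The `q`-th pair `(r, s)` of the list has a single-term commutator formula `x_q(c (-t) u)` with `c` in `cs`. -/
def pairOK (D : ChevalleyDatum) (prs : List (ℕ × ℕ)) (cs : List ℤ) (q : ℕ) : Bool :=
  decide ((prs.getD q (0, 0)).1 < D.nroots) && decide ((prs.getD q (0, 0)).2 < D.nroots) &&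
    decide ((prs.getD q (0, 0)).2 ≠ (prs.getD q (0, 0)).1) &&
    decide ((prs.getD q (0, 0)).2 ≠ D.neg (prs.getD q (0, 0)).1) &&
    cs.any fun c => decide (D.commTerms (prs.getD q (0, 0)).1 (prs.getD q (0, 0)).2 = [(q, c, 1, 1)])

/-- Every root is the sum of two roots with commutator formula `x_q(± t u)`. -/
def perfOK (D : ChevalleyDatum) (prs : List (ℕ × ℕ)) : Bool :=
  (List.range D.nroots).all fun q => pairOK D prs [1, -1] q

/-- Every root has an odd Cartan integer or is the sum of two roots with commutator formula `x_q(± 2 t u)`. -/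
def perfOK3 (D : ChevalleyDatum) (prs : List (ℕ × ℕ)) : Bool :=
  (List.range D.nroots).all fun q => oddOK D q || pairOK D prs [2, -2] q

theorem pairOK_spec {prs : List (ℕ × ℕ)} {cs : List ℤ} {q : ℕ} (h : pairOK D prs cs q = true) :
    ∃ r s c, r < D.nroots ∧ s < D.nroots ∧ s ≠ r ∧ s ≠ D.neg r ∧ c ∈ cs ∧
      D.commTerms r s = [(q, c, 1, 1)] := by
  unfold pairOK at h
  simp only [Bool.and_eq_true, decide_eq_true_eq, List.any_eq_true] at h
  obtain ⟨⟨⟨⟨h1, h2⟩, h3⟩, h4⟩, c, hc, h5⟩ := h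
  exact ⟨_, _, c, h1, h2, h3, h4, hc, h5⟩

/-- Perfectness from single-term commutators `x_q(± t u)`: every field. -/
theorem perfect_of_perfOK (hSD : ∀ r : Fin D.nroots, Nonempty (StringData D r)) (prs : List (ℕ × ℕ))
    (h : perfOK D prs = true)
    (hcomm : ∀ r s : ℕ, r < D.nroots → s < D.nroots → s ≠ r → s ≠ D.neg r → ∀ t : F,
      D.x F s 1 * D.x F r t = D.x F r t * D.x F s 1 * D.wordMat F (D.commWord F r s t 1)) :
    commutator ↥(D.group F) = ⊤ := by
  apply commutator_eq_top_of_gens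
  intro q hq v g hg
  unfold perfOK at h
  rw [List.all_eq_true] at h
  obtain ⟨r, s, c, hr, hs, hsr, hsn, hc, hterms⟩ := pairOK_spec (h q (List.mem_range.mpr hq))
  have hc' : (c : F) ≠ 0 := by
    simp only [List.mem_cons, List.not_mem_nil, or_false] at hc
    rcases hc with rfl | rfl
    · simp
    · simp
  exact mem_derived_of_comm hSD r s q c hr hs hterms hc' (hcomm r s hr hs hsr hsn) v g hg

/-- Perfectness over a field with more than two elements. -/
theorem perfect_of_perfOK3 (hSD : ∀ r : Fin D.nroots, ∃ S : StringData D r, S.CartanCompat)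
    (hS : SimpleCorootOK D) (prs : List (ℕ × ℕ)) (h : perfOK3 D prs = true)
    (hF : ∃ a : F, a ≠ 0 ∧ a ≠ 1)
    (hcomm : ∀ r s : ℕ, r < D.nroots → s < D.nroots → s ≠ r → s ≠ D.neg r → ∀ t : F,
      D.x F s 1 * D.x F r t = D.x F r t * D.x F s 1 * D.wordMat F (D.commWord F r s t 1)) :
    commutator ↥(D.group F) = ⊤ := by
  have hSD' : ∀ r : Fin D.nroots, Nonempty (StringData D r) := fun r => (hSD r).elim fun S _ => ⟨S⟩
  apply commutator_eq_top_of_gens
  intro q hq v g hg
  obtain ⟨S, hSc⟩ := hSD ⟨q, hq⟩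
  by_cases hsq : ∃ c : F, c ≠ 0 ∧ c ^ 2 ≠ 1
  · obtain ⟨c, hc, hc2⟩ := hsq
    exact mem_derived_of_sq S c hc hc2 v g hg
  · -- every non-zero element squares to `1`, so `-1 ≠ 1` and `2 ≠ 0`
    obtain ⟨a, ha0, ha1⟩ := hF
    have ha2 : a ^ 2 = 1 := by
      by_contra hcon
      exact hsq ⟨a, ha0, hcon⟩
    have h2 : (2 : F) ≠ 0 := by
      intro h20
      apply ha1
      have h3 : (a - 1) ^ 2 = 0 := by
        have : (a - 1) ^ 2 = a ^ 2 - 2 * a + 1 := by ring
        rw [this, ha2, h20]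
        ring_nf
        linear_combination h20
      exact sub_eq_zero.mp ((pow_eq_zero_iff (two_ne_zero)).mp h3)
    unfold perfOK3 at h
    rw [List.all_eq_true] at h
    have hq' := h q (List.mem_range.mpr hq)
    rw [Bool.or_eq_true] at hq'
    rcases hq' with hodd | hpair
    · unfold oddOK at hodd
      rw [Bool.and_eq_true, decide_eq_true_eq, decide_eq_true_eq] at hodd
      obtain ⟨hi, hodd⟩ := hodd
      obtain ⟨Si⟩ := hSD' ⟨D.simple (oddIdx D q), (hS ⟨oddIdx D q, hi⟩).1⟩
      exact mem_derived_of_odd hS S hSc ⟨oddIdx D q, hi⟩ Si (Int.odd_iff.mpr hodd) h2 v g hg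
    · obtain ⟨r, s, c, hr, hs, hsr, hsn, hc, hterms⟩ := pairOK_spec hpair
      have hc' : (c : F) ≠ 0 := by
        simp only [List.mem_cons, List.not_mem_nil, or_false] at hc
        rcases hc with rfl | rfl
        · simpa using h2
        · simpa using h2
      exact mem_derived_of_comm hSD' r s q c hr hs hterms hc' (hcomm r s hr hs hsr hsn) v g hg

/-! ### One base root and its orbit under the fundamental reflections -/

/-- Table condition: every root other than `q0` is moved by the reflection `stp q` to a root of smaller level. -/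
def orbOK (D : ChevalleyDatum) (q0 : ℕ) (stp lev : List ℕ) : Bool :=
  (List.range D.nroots).all fun q => decide (q = q0) ||
    (decide (stp.getD q 0 < D.rank) && decide (D.reflectRoot (stp.getD q 0) q < D.nroots) &&
      decide (lev.getD (D.reflectRoot (stp.getD q 0) q) 0 < lev.getD q 0))

/-- Table condition: the commutator formula of the pair `(p_0, s0)` is the single term `x_{q0}(± t u)`. -/
def baseOK (D : ChevalleyDatum) (s0 q0 : ℕ) : Bool :=
  decide (D.simple 0 < D.nroots) && decide (s0 < D.nroots) && decide (s0 ≠ D.simple 0) &&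
    decide (s0 ≠ D.neg (D.simple 0)) &&
    (decide (D.commTerms (D.simple 0) s0 = [(q0, 1, 1, 1)]) ||
      decide (D.commTerms (D.simple 0) s0 = [(q0, -1, 1, 1)]))

/-- Perfectness from one single-term commutator and transitivity of the Weyl group on the roots. -/
theorem perfect_of_orbit (hSD : ∀ r : Fin D.nroots, Nonempty (StringData D r)) (hS : SimpleCorootOK D)
    (s0 q0 : ℕ) (stp lev : List ℕ) (hb : baseOK D s0 q0 = true) (ho : orbOK D q0 stp lev = true)
    (hconj : ∀ i < D.rank, ∀ s < D.nroots, ∃ η : ℤ, (η = 1 ∨ η = -1) ∧ ∀ t : F,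
      D.nMat F (D.simple i) 1 * D.x F s t =
        D.x F (D.reflectRoot i s) ((η : F) * t) * D.nMat F (D.simple i) 1)
    (hcomm : ∀ s < D.nroots, s ≠ D.simple 0 → s ≠ D.neg (D.simple 0) → ∀ t : F,
      D.x F s 1 * D.x F (D.simple 0) t =
        D.x F (D.simple 0) t * D.x F s 1 * D.wordMat F (D.commWord F (D.simple 0) s t 1)) :
    commutator ↥(D.group F) = ⊤ := by
  unfold baseOK at hb
  simp only [Bool.and_eq_true, Bool.or_eq_true, decide_eq_true_eq] at hb
  obtain ⟨⟨⟨⟨hp, hs0⟩, hne⟩, hnn⟩, hterms⟩ := hb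
  have hbase : ∀ (v : F) (g : GL D.Idx F), (g : Matrix D.Idx D.Idx F) = D.x F q0 v → g ∈ derivedImage D F := by
    rcases hterms with hterms | hterms
    · exact mem_derived_of_comm hSD _ s0 q0 1 hp hs0 hterms (by simp) (hcomm s0 hs0 hne hnn)
    · exact mem_derived_of_comm hSD _ s0 q0 (-1) hp hs0 hterms (by simp) (hcomm s0 hs0 hne hnn)
  unfold orbOK at ho
  rw [List.all_eq_true] at ho
  have key : ∀ n : ℕ, ∀ q < D.nroots, lev.getD q 0 < n → ∀ (v : F) (g : GL D.Idx F),
      (g : Matrix D.Idx D.Idx F) = D.x F q v → g ∈ derivedImage D F := by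
    intro n
    induction n with
    | zero => intro q _ h; omega
    | succ n ih =>
      intro q hq hn v g hg
      have hq' := ho q (List.mem_range.mpr hq)
      simp only [Bool.and_eq_true, Bool.or_eq_true, decide_eq_true_eq] at hq'
      rcases hq' with rfl | ⟨⟨hi, hlt⟩, hlev⟩
      · exact hbase v g hg
      · obtain ⟨η, -, hη⟩ := hconj _ hi q hq
        obtain ⟨Si⟩ := hSD ⟨D.simple (stp.getD q 0), (hS ⟨_, hi⟩).1⟩
        obtain ⟨S'⟩ := hSD ⟨_, hlt⟩
        have hg' : sl2Hom S' (sl2u ((η : F) * v)) ∈ derivedImage D F :=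
          ih _ hlt (by omega) _ _ (sl2Hom_sl2u S' _)
        have heq : sl2Hom Si (sl2n (1 : F) one_ne_zero) * g =
            sl2Hom S' (sl2u ((η : F) * v)) * sl2Hom Si (sl2n (1 : F) one_ne_zero) := by
          apply Units.ext
          rw [Units.val_mul, Units.val_mul, hg, sl2Hom_sl2u S', sl2Hom_sl2n Si 1 one_ne_zero]
          exact hη v
        have hgeq : g = (sl2Hom Si (sl2n (1 : F) one_ne_zero))⁻¹ * sl2Hom S' (sl2u ((η : F) * v)) *
            sl2Hom Si (sl2n (1 : F) one_ne_zero) := by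
          rw [mul_assoc, ← heq, inv_mul_cancel_left]
        rw [hgeq]
        exact derived_conj_mem (sl2Hom_mem_group Si _) hg'
  apply commutator_eq_top_of_gens
  intro q hq v g hg
  exact key (lev.getD q 0 + 1) q hq (Nat.lt_succ_self _) v g hg

end Cfsg.Agent.Lib.helper23
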