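import Cfsg.Agent.Lib.helper23.ChevGrade
import Cfsg.Agent.Lib.helper23.ChevPerfect

set_option autoImplicit false

/-!
# The Levi decomposition of the standard parabolic subgroups

For a set `J` of nodes the coordinates are graded by the sum of the coefficients of a root at the fundamental roots
outside `J` (computed, up to a positive factor, from the Cartan coordinates and an integral multiple `Mc` of the
inverse of the Cartan matrix).  `L_J` preserves the grading, `U_J` is unitriangular with respect to it, hence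
`U_J ∩ L_J = 1`.
-/

namespace Cfsg.Agent.Lib.helper23

open Cfsg.Lie Cfsg.Agent.Lib.helper22

/-- A positive multiple of the coefficient of the root `s` at the `j`-th fundamental root. -/
def rootCoordL (D : ChevalleyDatum) (Mc : List (List ℤ)) (j s : ℕ) : ℤ :=
  ((List.range D.rank).map fun i => (Mc.getD j []).getD i 0 * D.cartan i s).sum

/-- Table condition: `rootCoordL` has the sign of the corresponding coefficient of the coroot. -/
def coordOK (D : ChevalleyDatum) (Mc : List (List ℤ)) : Bool :=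
  (List.range D.nroots).all fun s => (List.range D.rank).all fun j =>
    decide (Int.sign (rootCoordL D Mc j s) = Int.sign ((D.coroot.getD s #[]).getD j 0))

theorem coordOK_spec {D : ChevalleyDatum} {Mc : List (List ℤ)} (h : coordOK D Mc = true)
    (s : ℕ) (hs : s < D.nroots) (j : ℕ) (hj : j < D.rank) :
    Int.sign (rootCoordL D Mc j s) = Int.sign ((D.coroot.getD s #[]).getD j 0) := by
  unfold coordOK at h
  rw [List.all_eq_true] at h
  have h1 := h s (List.mem_range.mpr hs)
  rw [List.all_eq_true] at h1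
  simpa using h1 j (List.mem_range.mpr hj)

theorem list_sum_range_eq (n : ℕ) (f : ℕ → ℤ) : ((List.range n).map f).sum = ∑ i : Fin n, f i.val := by
  induction n with
  | zero => simp
  | succ n ih =>
    rw [List.range_succ, List.map_append, List.sum_append, ih, Fin.sum_univ_castSucc]
    simp

theorem arr_getD_nonneg (a : Array ℤ) (j : ℕ) (h : ∀ c ∈ a.toList, 0 ≤ c) : 0 ≤ a.getD j 0 := by
  by_cases hj : j < a.size
  · have : a.getD j 0 = a[j] := by simp [Array.getD_eq_getD_getElem?, hj]
    rw [this]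
    exact h _ (Array.mem_toList_iff.mpr (Array.getElem_mem hj))
  · have : a.getD j 0 = 0 := by simp [Array.getD_eq_getD_getElem?, hj]
    rw [this]

theorem arr_getD_nonpos (a : Array ℤ) (j : ℕ) (h : ∀ c ∈ a.toList, c ≤ 0) : a.getD j 0 ≤ 0 := by
  by_cases hj : j < a.size
  · have : a.getD j 0 = a[j] := by simp [Array.getD_eq_getD_getElem?, hj]
    rw [this]
    exact h _ (Array.mem_toList_iff.mpr (Array.getElem_mem hj))
  · have : a.getD j 0 = 0 := by simp [Array.getD_eq_getD_getElem?, hj]
    rw [this]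

open Classical in
/-- The coefficients of the grading attached to `J`. -/
noncomputable def jCoef (D : ChevalleyDatum) (Mc : List (List ℤ)) (J : Set ℕ) : Fin D.rank → ℤ :=
  fun i => ∑ j : Fin D.rank, if j.val ∈ J then 0 else (Mc.getD j.val []).getD i.val 0

variable {D : ChevalleyDatum} {Mc : List (List ℤ)}

open Classical in
theorem gradeJ_inr (J : Set ℕ) (s : Fin D.nroots) :
    gradeOf D (jCoef D Mc J) (Sum.inr s) =
      ∑ j : Fin D.rank, if j.val ∈ J then 0 else rootCoordL D Mc j.val s.val := by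
  rw [gradeOf_inr]
  unfold jCoef
  simp_rw [Finset.sum_mul]
  rw [Finset.sum_comm]
  refine Finset.sum_congr rfl fun j _ => ?_
  by_cases hj : j.val ∈ J
  · simp [hj]
  · simp only [hj, if_false]
    unfold rootCoordL
    rw [list_sum_range_eq]
    rfl

theorem gradeJ_eq_zero (h : coordOK D Mc = true) (J : Set ℕ) (s : Fin D.nroots) (hJ : D.InRootSub J s.val) :
    gradeOf D (jCoef D Mc J) (Sum.inr s) = 0 := by
  classical
  rw [gradeJ_inr]
  refine Finset.sum_eq_zero fun j _ => ?_
  by_cases hj : j.val ∈ J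
  · simp [hj]
  · simp only [hj, if_false]
    have h1 := coordOK_spec h s.val s.isLt j.val j.isLt
    rw [hJ.2 j.val j.isLt hj, Int.sign_zero] at h1
    exact Int.sign_eq_zero_iff_zero.mp h1

theorem gradeJ_pos (h : coordOK D Mc = true) (J : Set ℕ) (s : Fin D.nroots) (hpos : D.IsPosRoot s.val)
    (hJ : ¬ D.InRootSub J s.val) : 0 < gradeOf D (jCoef D Mc J) (Sum.inr s) := by
  classical
  rw [gradeJ_inr]
  apply Finset.sum_pos'
  · intro j _
    by_cases hj : j.val ∈ J
    · simp [hj]
    · simp only [hj, if_false]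
      have h1 := coordOK_spec h s.val s.isLt j.val j.isLt
      have h2 : 0 ≤ (D.coroot.getD s.val #[]).getD j.val 0 := arr_getD_nonneg _ _ hpos.2
      rw [← Int.sign_nonneg_iff] at h2 ⊢
      rw [h1]
      exact h2
  · have hJ' : ∃ i, i < D.rank ∧ i ∉ J ∧ (D.coroot.getD s.val #[]).getD i 0 ≠ 0 := by
      by_contra hcon
      apply hJ
      refine ⟨s.isLt, fun i hi hiJ => ?_⟩
      by_contra hne
      exact hcon ⟨i, hi, hiJ, hne⟩
    obtain ⟨i, hi, hiJ, hne⟩ := hJ'
    refine ⟨⟨i, hi⟩, Finset.mem_univ _, ?_⟩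
    simp only [hiJ, if_false]
    have h1 := coordOK_spec h s.val s.isLt i hi
    have h2 : 0 < (D.coroot.getD s.val #[]).getD i 0 :=
      lt_of_le_of_ne (arr_getD_nonneg _ _ hpos.2) (Ne.symm hne)
    rw [Int.sign_eq_one_of_pos h2] at h1
    exact Int.sign_eq_one_iff_pos.mp h1

/-- A root of positive degree is positive and not in `Φ_J`. -/
theorem pos_of_gradeJ_pos (h : coordOK D Mc = true) (J : Set ℕ) (s : Fin D.nroots)
    (hpn : D.IsPosRoot s.val ∨ D.IsNegRoot s.val) (hg : 0 < gradeOf D (jCoef D Mc J) (Sum.inr s)) :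
    D.IsPosRoot s.val ∧ ¬ D.InRootSub J s.val := by
  classical
  have hJ : ¬ D.InRootSub J s.val := by
    intro hJ
    rw [gradeJ_eq_zero h J s hJ] at hg
    exact lt_irrefl _ hg
  refine ⟨?_, hJ⟩
  rcases hpn with hp | hn
  · exact hp
  · exfalso
    rw [gradeJ_inr] at hg
    have : ∑ j : Fin D.rank, (if j.val ∈ J then 0 else rootCoordL D Mc j.val s.val) ≤ 0 := by
      apply Finset.sum_nonpos
      intro j _
      by_cases hj : j.val ∈ J
      · simp [hj]
      · simp only [hj, if_false]
        have h1 := coordOK_spec h s.val s.isLt j.val j.isLt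
        have h2 : (D.coroot.getD s.val #[]).getD j.val 0 ≤ 0 := arr_getD_nonpos _ _ hn.2
        rw [← Int.sign_nonpos_iff] at h2 ⊢
        rw [h1]
        exact h2
    omega

variable {F : Type*} [Field F]

theorem torus_le_gradePres (γ : D.Idx → ℤ) : torus D F ≤ gradePres F γ := by
  have key : ∀ g : GL D.Idx F, g ∈ torus D F → ∀ x z, (g : Matrix D.Idx D.Idx F) x z ≠ 0 → γ x = γ z := by
    rintro g ⟨c, -, hg⟩ x z hne
    by_cases hxz : x = z
    · rw [hxz]
    · exfalso
      apply hne
      rw [hg]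
      unfold torusMat
      exact Matrix.diagonal_apply_ne _ hxz
  intro g hg
  exact ⟨key g hg, key g⁻¹ (Subgroup.inv_mem _ hg)⟩

theorem x_gradePres {r : Fin D.nroots} (S : StringData D r) (hS : S.CartanCompat) (a : Fin D.rank → ℤ)
    (h0 : gradeOf D a (Sum.inr r) = 0) (t : F) (x z : D.Idx) (hne : D.x F r.val t x z ≠ 0) :
    gradeOf D a x = gradeOf D a z := by
  by_cases hxz : x = z
  · rw [hxz]
  · have h1 : (D.xMat F r t - 1) x z ≠ 0 := by
      rw [Matrix.sub_apply, Matrix.one_apply, if_neg hxz, sub_zero, ← x_eq D F r t]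
      exact hne
    obtain ⟨k, -, hk⟩ := xMat_sub_one_grade S hS a t x z h1
    rw [h0, mul_zero] at hk
    exact sub_eq_zero.mp hk

theorem levi_le_gradePres (hSD : ∀ r : Fin D.nroots, ∃ S : StringData D r, S.CartanCompat)
    (h : coordOK D Mc = true) (J : Set ℕ) :
    D.leviSubgroup F J ≤ gradePres F (gradeOf D (jCoef D Mc J)) := by
  unfold ChevalleyDatum.leviSubgroup
  refine sup_le ?_ ?_
  · exact (diagonalSubgroup_le_torus fun r => (hSD r).elim fun S _ => ⟨S⟩).trans (torus_le_gradePres _)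
  · rw [Subgroup.closure_le]
    rintro g ⟨r, t, hJ, hg⟩
    obtain ⟨S, hS⟩ := hSD ⟨r, hJ.1⟩
    have h0 := gradeJ_eq_zero h J ⟨r, hJ.1⟩ hJ
    have hgS : g = sl2Hom S (sl2u t) := Units.ext (by rw [hg, sl2Hom_sl2u S t])
    constructor
    · intro x z hne
      rw [hg] at hne
      exact x_gradePres S hS _ h0 t x z hne
    · intro x z hne
      rw [hgS, ← map_inv, sl2u_inv, sl2Hom_sl2u S] at hne
      exact x_gradePres S hS _ h0 (-t) x z hne

theorem radical_le_uniK (hSD : ∀ r : Fin D.nroots, ∃ S : StringData D r, S.CartanCompat)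
    (h : coordOK D Mc = true) (J : Set ℕ) :
    D.unipotentRadical F J ≤ uniK F (gradeNat (gradeOf D (jCoef D Mc J))) 0 := by
  unfold ChevalleyDatum.unipotentRadical
  rw [Subgroup.closure_le]
  rintro g ⟨r, t, hpos, hJ, hg⟩
  obtain ⟨S, hS⟩ := hSD ⟨r, hpos.1⟩
  have h0 := gradeJ_pos h J ⟨r, hpos.1⟩ hpos hJ
  show TriK _ (0 + 1) ((g : Matrix D.Idx D.Idx F) - 1)
  intro u v hne
  rw [hg, x_eq D F ⟨r, hpos.1⟩ t] at hne
  obtain ⟨k, hk1, hk⟩ := xMat_sub_one_grade S hS (jCoef D Mc J) t u v hne
  apply gradeNat_lt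
  have hk' : (1 : ℤ) ≤ (k : ℤ) := by exact_mod_cast hk1
  nlinarith

/-- `U_J ∩ L_J = 1`. -/
theorem radical_inf_levi (hSD : ∀ r : Fin D.nroots, ∃ S : StringData D r, S.CartanCompat)
    (h : coordOK D Mc = true) (J : Set ℕ) :
    D.unipotentRadical F J ⊓ D.leviSubgroup F J = ⊥ := by
  rw [eq_bot_iff]
  rintro g ⟨hU, hL⟩
  rw [Subgroup.mem_bot]
  exact eq_one_of_gradePres_of_uniK _ (levi_le_gradePres hSD h J hL) (radical_le_uniK hSD h J hU)

/-- `U_J L_J = P_J`, from the description of `P_J` by generators. -/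
theorem radical_sup_levi (J : Set ℕ)
    (h47 : D.parabolicSubgroup F J = D.diagonalSubgroup F ⊔
      Subgroup.closure {g : GL D.Idx F | ∃ (r : ℕ) (t : F), (D.IsPosRoot r ∨ D.InRootSub J r) ∧
        (g : Matrix D.Idx D.Idx F) = D.x F r t}) :
    D.unipotentRadical F J ⊔ D.leviSubgroup F J = D.parabolicSubgroup F J := by
  rw [h47]
  unfold ChevalleyDatum.unipotentRadical ChevalleyDatum.leviSubgroup
  apply le_antisymm
  · refine sup_le ?_ (sup_le le_sup_left ?_)
    · refine le_trans (Subgroup.closure_mono ?_) le_sup_right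
      rintro g ⟨r, t, hpos, -, hg⟩
      exact ⟨r, t, Or.inl hpos, hg⟩
    · refine le_trans (Subgroup.closure_mono ?_) le_sup_right
      rintro g ⟨r, t, hJ, hg⟩
      exact ⟨r, t, Or.inr hJ, hg⟩
  · refine sup_le (le_trans le_sup_left le_sup_right) ?_
    rw [Subgroup.closure_le]
    rintro g ⟨r, t, hr, hg⟩
    by_cases hJ : D.InRootSub J r
    · exact Subgroup.mem_sup_right (Subgroup.mem_sup_right (Subgroup.subset_closure ⟨r, t, hJ, hg⟩))
    · rcases hr with hpos | hJ'
      · exact Subgroup.mem_sup_left (Subgroup.subset_closure ⟨r, t, hpos, hJ, hg⟩)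
      · exact absurd hJ' hJ

end Cfsg.Agent.Lib.helper23
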