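import Cfsg.Agent.Lib.helper23.ChevPara
import Cfsg.Agent.Lib.helper23.ChevStringAll
import Cfsg.Agent.Lib.helper23.ChevChunk

set_option autoImplicit false
set_option maxRecDepth 100000

/-! The table conditions of `ChevPara` for the seven tabulated Chevalley data. -/

namespace Cfsg.Agent.Lib.helper23

open Cfsg.Lie Cfsg.Agent.Lib.helper22

theorem descAll_E8_0 : (List.range' 0 60).all (descOK chevE8) = true := by decide +kernel

theorem descAll_E8_1 : (List.range' 60 60).all (descOK chevE8) = true := by decide +kernel

theorem descAll_E8_2 : (List.range' (2 * 60) 60).all (descOK chevE8) = true := by decide +kernel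

theorem descAll_E8_3 : (List.range' (3 * 60) 60).all (descOK chevE8) = true := by decide +kernel

theorem descAll_E8 : descAll chevE8 = true :=
  range_all_of_four (descOK chevE8) chevE8.nroots 60 (by norm_num) (by decide) descAll_E8_0 descAll_E8_1
    descAll_E8_2 descAll_E8_3

theorem descAll_E7 : descAll chevE7 = true := by decide +kernel

theorem descAll_all (D : ChevalleyDatum)
    (hD : D ∈ [chevG2, chevB2, chevD4, chevF4, chevE6, chevE7, chevE8]) : descAll D = true := by
  simp only [List.mem_cons, List.not_mem_nil, or_false] at hD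
  rcases hD with rfl | rfl | rfl | rfl | rfl | rfl | rfl
  · decide +kernel
  · decide +kernel
  · decide +kernel
  · decide +kernel
  · decide +kernel
  · exact descAll_E7
  · exact descAll_E8

theorem simpleNegOK_all (D : ChevalleyDatum)
    (hD : D ∈ [chevG2, chevB2, chevD4, chevF4, chevE6, chevE7, chevE8]) : simpleNegOK D = true := by
  simp only [List.mem_cons, List.not_mem_nil, or_false] at hD
  rcases hD with rfl | rfl | rfl | rfl | rfl | rfl | rfl <;> decide +kernel

theorem parabolic_eq {F : Type*} [Field F] (D : ChevalleyDatum)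
    (hD : D ∈ [chevG2, chevB2, chevD4, chevF4, chevE6, chevE7, chevE8])
    (hconj : ∀ i < D.rank, ∀ s < D.nroots, ∃ η : ℤ, (η = 1 ∨ η = -1) ∧ ∀ t : F,
      D.nMat F (D.simple i) 1 * D.x F s t =
        D.x F (D.reflectRoot i s) ((η : F) * t) * D.nMat F (D.simple i) 1)
    (J : Set ℕ) :
    D.parabolicSubgroup F J = D.diagonalSubgroup F ⊔
      Subgroup.closure {g : GL D.Idx F | ∃ (r : ℕ) (t : F), (D.IsPosRoot r ∨ D.InRootSub J r) ∧
        (g : Matrix D.Idx D.Idx F) = D.x F r t} :=
  parabolic_eq_of_checks D (fun r => (exists_stringData D hD r).elim fun S _ => ⟨S⟩)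
    (descAll_all D hD) (simpleNegOK_all D hD) hconj J

end Cfsg.Agent.Lib.helper23
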