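import Cfsg.Agent.Lib.helper23.ChevLeviB
import Cfsg.Agent.Lib.helper23.ChevStringAll
import Cfsg.Agent.Lib.helper23.ChevParaAll

set_option autoImplicit false
set_option maxRecDepth 100000

/-! The Levi decomposition for the seven tabulated Chevalley data: the certificate matrices (integral multiples of
the inverse Cartan matrices) and their verification. -/

namespace Cfsg.Agent.Lib.helper23

open Cfsg.Lie Cfsg.Agent.Lib.helper22

def invCartanG2 : List (List ℤ) :=
  [[2, 3],
   [1, 2]]

def invCartanB2 : List (List ℤ) :=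
  [[2, 2],
   [1, 2]]

def invCartanD4 : List (List ℤ) :=
  [[2, 2, 1, 1],
   [2, 4, 2, 2],
   [1, 2, 2, 1],
   [1, 2, 1, 2]]

def invCartanF4 : List (List ℤ) :=
  [[2, 3, 4, 2],
   [3, 6, 8, 4],
   [2, 4, 6, 3],
   [1, 2, 3, 2]]

def invCartanE6 : List (List ℤ) :=
  [[4, 3, 5, 6, 4, 2],
   [3, 6, 6, 9, 6, 3],
   [5, 6, 10, 12, 8, 4],
   [6, 9, 12, 18, 12, 6],
   [4, 6, 8, 12, 10, 5],
   [2, 3, 4, 6, 5, 4]]

def invCartanE7 : List (List ℤ) :=
  [[4, 4, 6, 8, 6, 4, 2],
   [4, 7, 8, 12, 9, 6, 3],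
   [6, 8, 12, 16, 12, 8, 4],
   [8, 12, 16, 24, 18, 12, 6],
   [6, 9, 12, 18, 15, 10, 5],
   [4, 6, 8, 12, 10, 8, 4],
   [2, 3, 4, 6, 5, 4, 3]]

def invCartanE8 : List (List ℤ) :=
  [[4, 5, 7, 10, 8, 6, 4, 2],
   [5, 8, 10, 15, 12, 9, 6, 3],
   [7, 10, 14, 20, 16, 12, 8, 4],
   [10, 15, 20, 30, 24, 18, 12, 6],
   [8, 12, 16, 24, 20, 15, 10, 5],
   [6, 9, 12, 18, 15, 12, 8, 4],
   [4, 6, 8, 12, 10, 8, 6, 3],
   [2, 3, 4, 6, 5, 4, 3, 2]]

theorem coordOK_G2 : coordOK chevG2 invCartanG2 = true := by decide +kernel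

theorem coordOK_B2 : coordOK chevB2 invCartanB2 = true := by decide +kernel

theorem coordOK_D4 : coordOK chevD4 invCartanD4 = true := by decide +kernel

theorem coordOK_F4 : coordOK chevF4 invCartanF4 = true := by decide +kernel

theorem coordOK_E6 : coordOK chevE6 invCartanE6 = true := by decide +kernel

/-- A chunk of the table condition `coordOK`: the roots `a ≤ s < a + n`. -/
def coordOKc (D : ChevalleyDatum) (Mc : List (List ℤ)) (a n : ℕ) : Bool :=
  (List.range' a n).all fun s => (List.range D.rank).all fun j =>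
    decide (Int.sign (rootCoordL D Mc j s) = Int.sign ((D.coroot.getD s #[]).getD j 0))

theorem coordOK_of_chunks (D : ChevalleyDatum) (Mc : List (List ℤ)) (L : List (ℕ × ℕ))
    (hL : ∀ p ∈ L, coordOKc D Mc p.1 p.2 = true)
    (hcov : ∀ s, s < D.nroots → ∃ p ∈ L, p.1 ≤ s ∧ s < p.1 + p.2) : coordOK D Mc = true := by
  unfold coordOK
  rw [List.all_eq_true]
  intro s hs
  obtain ⟨p, hp, h1, h2⟩ := hcov s (List.mem_range.mp hs)
  have h := hL p hp
  unfold coordOKc at h
  rw [List.all_eq_true] at h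
  exact h s (List.mem_range'_1.mpr ⟨h1, h2⟩)

theorem chunk_cover_levi (n step : ℕ) (hstep : 0 < step) (s : ℕ) (hs : s < n) :
    ∃ p ∈ (List.range ((n + step - 1) / step)).map (fun k => (k * step, step)), p.1 ≤ s ∧ s < p.1 + p.2 := by
  refine ⟨(s / step * step, step), ?_, Nat.div_mul_le_self s step, ?_⟩
  · rw [List.mem_map]
    refine ⟨s / step, List.mem_range.mpr ?_, rfl⟩
    rw [Nat.div_lt_iff_lt_mul hstep]
    have h1 : n ≤ (n + step - 1) / step * step := by
      have := Nat.div_add_mod (n + step - 1) step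
      have h2 := Nat.mod_lt (n + step - 1) hstep
      have h3 : step * ((n + step - 1) / step) = (n + step - 1) / step * step := Nat.mul_comm _ _
      omega
    omega
  · have := Nat.div_add_mod s step
    have h2 := Nat.mod_lt s hstep
    have h3 : step * (s / step) = s / step * step := Nat.mul_comm _ _
    show s < s / step * step + step
    omega

theorem coordOKc_E7_0 : coordOKc chevE7 invCartanE7 0 42 = true := by decide +kernel

theorem coordOKc_E7_1 : coordOKc chevE7 invCartanE7 42 42 = true := by decide +kernel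

theorem coordOKc_E7_2 : coordOKc chevE7 invCartanE7 84 42 = true := by decide +kernel

theorem coordOK_E7 : coordOK chevE7 invCartanE7 = true := by
  apply coordOK_of_chunks chevE7 invCartanE7 ((List.range 3).map (fun k => (k * 42, 42)))
  · intro p hp
    have hp' : p ∈ [(0, 42), (42, 42), (84, 42)] := hp
    simp only [List.mem_cons, List.not_mem_nil, or_false] at hp'
    rcases hp' with rfl | rfl | rfl
    · exact coordOKc_E7_0
    · exact coordOKc_E7_1
    · exact coordOKc_E7_2
  · intro s hs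
    exact chunk_cover_levi 126 42 (by norm_num) s hs

theorem coordOKc_E8_0 : coordOKc chevE8 invCartanE8 0 30 = true := by decide +kernel

theorem coordOKc_E8_1 : coordOKc chevE8 invCartanE8 30 30 = true := by decide +kernel

theorem coordOKc_E8_2 : coordOKc chevE8 invCartanE8 60 30 = true := by decide +kernel

theorem coordOKc_E8_3 : coordOKc chevE8 invCartanE8 90 30 = true := by decide +kernel

theorem coordOKc_E8_4 : coordOKc chevE8 invCartanE8 120 30 = true := by decide +kernel

theorem coordOKc_E8_5 : coordOKc chevE8 invCartanE8 150 30 = true := by decide +kernel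

theorem coordOKc_E8_6 : coordOKc chevE8 invCartanE8 180 30 = true := by decide +kernel

theorem coordOKc_E8_7 : coordOKc chevE8 invCartanE8 210 30 = true := by decide +kernel

theorem coordOK_E8 : coordOK chevE8 invCartanE8 = true := by
  apply coordOK_of_chunks chevE8 invCartanE8 ((List.range 8).map (fun k => (k * 30, 30)))
  · intro p hp
    have hp' : p ∈ [(0, 30), (30, 30), (60, 30), (90, 30), (120, 30), (150, 30), (180, 30), (210, 30)] := hp
    simp only [List.mem_cons, List.not_mem_nil, or_false] at hp'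
    rcases hp' with rfl | rfl | rfl | rfl | rfl | rfl | rfl | rfl
    · exact coordOKc_E8_0
    · exact coordOKc_E8_1
    · exact coordOKc_E8_2
    · exact coordOKc_E8_3
    · exact coordOKc_E8_4
    · exact coordOKc_E8_5
    · exact coordOKc_E8_6
    · exact coordOKc_E8_7
  · intro s hs
    exact chunk_cover_levi 240 30 (by norm_num) s hs

theorem exists_coordOK (D : ChevalleyDatum)
    (hD : D ∈ [chevG2, chevB2, chevD4, chevF4, chevE6, chevE7, chevE8]) :
    ∃ Mc : List (List ℤ), coordOK D Mc = true := by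
  simp only [List.mem_cons, List.not_mem_nil, or_false] at hD
  rcases hD with rfl | rfl | rfl | rfl | rfl | rfl | rfl
  · exact ⟨_, coordOK_G2⟩
  · exact ⟨_, coordOK_B2⟩
  · exact ⟨_, coordOK_D4⟩
  · exact ⟨_, coordOK_F4⟩
  · exact ⟨_, coordOK_E6⟩
  · exact ⟨_, coordOK_E7⟩
  · exact ⟨_, coordOK_E8⟩

theorem cartanNegOK_all (D : ChevalleyDatum)
    (hD : D ∈ [chevG2, chevB2, chevD4, chevF4, chevE6, chevE7, chevE8]) : cartanNegOK D = true := by
  simp only [List.mem_cons, List.not_mem_nil, or_false] at hD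
  rcases hD with rfl | rfl | rfl | rfl | rfl | rfl | rfl
  · exact negOKG2
  · exact negOKB2
  · exact negOKD4
  · exact negOKF4
  · exact negOKE6
  · exact negOKE7
  · exact negOKE8

theorem exists_rootFacts (D : ChevalleyDatum)
    (hD : D ∈ [chevG2, chevB2, chevD4, chevF4, chevE6, chevE7, chevE8]) (r : ℕ) (hr : r < D.nroots) :
    ∃ c, RootFacts D r c := by
  simp only [List.mem_cons, List.not_mem_nil, or_false] at hD
  rcases hD with rfl | rfl | rfl | rfl | rfl | rfl | rfl
  · exact ⟨_, rootFacts_of_check chevG2 negOKG2 cartPG2 cartOKG2 r hr _ (certsOKG2 r hr)⟩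
  · exact ⟨_, rootFacts_of_check chevB2 negOKB2 cartPB2 cartOKB2 r hr _ (certsOKB2 r hr)⟩
  · exact ⟨_, rootFacts_of_check chevD4 negOKD4 cartPD4 cartOKD4 r hr _ (certsOKD4 r hr)⟩
  · exact ⟨_, rootFacts_of_check chevF4 negOKF4 cartPF4 cartOKF4 r hr _ (certsOKF4 r hr)⟩
  · exact ⟨_, rootFacts_of_check chevE6 negOKE6 cartPE6 cartOKE6 r hr _ (certsOKE6 r hr)⟩
  · exact ⟨_, rootFacts_of_check chevE7 negOKE7 cartPE7 cartOKE7 r hr _ (certsOKE7 r hr)⟩
  · exact ⟨_, rootFacts_of_check chevE8 negOKE8 cartPE8 cartOKE8 r hr _ (certsOKE8 r hr)⟩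

/-- `U_J ∩ L_J = 1`. -/
theorem radical_inf_levi_all {F : Type*} [Field F] (D : ChevalleyDatum)
    (hD : D ∈ [chevG2, chevB2, chevD4, chevF4, chevE6, chevE7, chevE8]) (J : Set ℕ) :
    D.unipotentRadical F J ⊓ D.leviSubgroup F J = ⊥ := by
  obtain ⟨Mc, hMc⟩ := exists_coordOK D hD
  exact radical_inf_levi (exists_stringData D hD) hMc J

/-- The Levi decomposition, given the conjugation rule, the commutator formula and the dichotomy of the roots. -/
theorem levi_decomp {F : Type*} [Field F] (D : ChevalleyDatum)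
    (hD : D ∈ [chevG2, chevB2, chevD4, chevF4, chevE6, chevE7, chevE8]) (J : Set ℕ)
    (hconj : ∀ i < D.rank, ∀ s < D.nroots, ∃ η : ℤ, (η = 1 ∨ η = -1) ∧ ∀ t : F,
      D.nMat F (D.simple i) 1 * D.x F s t =
        D.x F (D.reflectRoot i s) ((η : F) * t) * D.nMat F (D.simple i) 1)
    (hpn : ∀ r < D.nroots, D.IsPosRoot r ∨ D.IsNegRoot r)
    (hcomm : ∀ r s : ℕ, r < D.nroots → s < D.nroots → s ≠ r → s ≠ D.neg r → ∀ t u : F,
      D.x F s u * D.x F r t = D.x F r t * D.x F s u * D.wordMat F (D.commWord F r s t u)) :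
    D.parabolicSubgroup F J ≤ Subgroup.normalizer (D.unipotentRadical F J : Set (GL D.Idx F)) ∧
      D.unipotentRadical F J ⊔ D.leviSubgroup F J = D.parabolicSubgroup F J ∧
      D.unipotentRadical F J ⊓ D.leviSubgroup F J = ⊥ := by
  obtain ⟨Mc, hMc⟩ := exists_coordOK D hD
  have h47 := parabolic_eq D hD hconj J
  exact ⟨parabolic_le_normalizer (cartanNegOK_all D hD) (exists_rootFacts D hD) (exists_stringData D hD)
      hMc hpn J h47 hcomm,
    radical_sup_levi J h47, radical_inf_levi (exists_stringData D hD) hMc J⟩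

end Cfsg.Agent.Lib.helper23
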