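import Cfsg.Agent.Lib.helper23.ChevLevi
import Cfsg.Agent.Lib.helper23.ChevTables

set_option autoImplicit false

/-!
# The roots of the commutator formula, and normality of `U_J` in `P_J`

The roots `q` occurring in the terms `(q, c, i, j)` of `commTerms r s` have Cartan coordinates
`i · (those of r) + j · (those of s)`; this is read off the verified string structure (`RootFacts`).  Hence for
`r ∈ Φ_J` and `s ∈ Φ⁺ ∖ Φ_J` all of them lie in `Φ⁺ ∖ Φ_J`, and the commutator formula shows that `X_r` normalises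
`U_J`.
-/

namespace Cfsg.Agent.Lib.helper23

open Cfsg.Lie Cfsg.Agent.Lib.helper22

theorem chainRoot_cartan {D : ChevalleyDatum} {r : ℕ} {c : RootCert} (F : RootFacts D r c) {s : ℕ}
    (hs : s < D.nroots) (hs1 : s ≠ r) (hs2 : s ≠ D.negIdx.getD r 0) (i : ℕ) (hi : 1 ≤ i) (q : ℕ)
    (h : D.chainRoot r s i = some q) :
    q < D.nroots ∧ ∀ j : Fin D.rank, cartanZ D j q = cartanZ D j s + (i : ℤ) * cartanZ D j r := by
  unfold ChevalleyDatum.chainRoot at h
  rw [Option.map_eq_some_iff] at h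
  obtain ⟨⟨q', M⟩, hget, rfl⟩ := h
  have L := F.loc s hs hs1 hs2
  obtain ⟨hq1, hq2, hq, hbase, hpos, -, -⟩ := L.hup (i - 1) q' M hget
  refine ⟨hq, fun j => ?_⟩
  have e1 := F.compat s hs hs1 hs2 j
  have e2 := F.compat q' hq hq1 hq2 j
  rw [hbase, hpos] at e2
  have h3 : ((cpos c s + (i - 1) + 1 : ℕ) : ℤ) = (cpos c s : ℤ) + (i : ℤ) := by
    have : cpos c s + (i - 1) + 1 = cpos c s + i := by omega
    rw [this]
    push_cast
    ring
  rw [h3] at e2
  linear_combination e2 - e1

/-- The Cartan coordinates of the roots in the commutator formula. -/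
theorem commTerms_cartan {D : ChevalleyDatum} (hcn : cartanNegOK D = true)
    (hF : ∀ r < D.nroots, ∃ c, RootFacts D r c)
    {r s : ℕ} (hr : r < D.nroots) (hs : s < D.nroots) (hsr : s ≠ r) (hsn : s ≠ D.neg r)
    (q : ℕ) (cc : ℤ) (i j : ℕ) (hmem : (q, cc, i, j) ∈ D.commTerms r s) :
    q < D.nroots ∧ 1 ≤ i ∧ 1 ≤ j ∧
      ∀ k : Fin D.rank, cartanZ D k q = (i : ℤ) * cartanZ D k r + (j : ℤ) * cartanZ D k s := by
  obtain ⟨cr, Fr⟩ := hF r hr
  obtain ⟨cs, Fs⟩ := hF s hs
  have hsn' : s ≠ D.negIdx.getD r 0 := hsn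
  have hrs : r ≠ s := fun h => hsr h.symm
  have hrn : r ≠ D.negIdx.getD s 0 := by
    intro h
    apply hsn'
    rw [h, Fs.neg_nr]
  -- two auxiliary facts for the terms `(3, 2)` and `(2, 3)`
  have aux : ∀ (r s : ℕ) (cr cs : RootCert), RootFacts D r cr → RootFacts D s cs → r < D.nroots →
      s < D.nroots → s ≠ r → s ≠ D.negIdx.getD r 0 → ∀ (a q : ℕ), D.chainRoot r s 3 = some a →
      D.chainRoot a s 1 = some q →
      q < D.nroots ∧ ∀ k : Fin D.rank, cartanZ D k q = 3 * cartanZ D k r + 2 * cartanZ D k s := by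
    intro r s cr cs Fr Fs hr hs hsr hsn a q ha hq
    obtain ⟨ha1, ha2⟩ := chainRoot_cartan Fr hs hsr hsn 3 (by norm_num) a ha
    obtain ⟨ca, Fa⟩ := hF a ha1
    have hsa : s ≠ a := by
      intro h
      have h0 : ∀ k : Fin D.rank, cartanZ D k r = 0 := by
        intro k
        have := ha2 k
        rw [← h] at this
        push_cast at this
        linarith
      have h2 := Fr.coroot_cartan
      rw [Finset.sum_eq_zero (fun k _ => by rw [h0 k, mul_zero])] at h2
      norm_num at h2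
    have hsna : s ≠ D.negIdx.getD a 0 := by
      intro h
      have h0 : ∀ k : Fin D.rank, 2 * cartanZ D k s = -3 * cartanZ D k r := by
        intro k
        have h1 := ha2 k
        have h2 := cartan_neg_of_ok D hcn k.val k.isLt a (D.negIdx.getD a 0) Fa.nr_add
        rw [← h] at h2
        push_cast at h1
        linarith
      have h2 := Fs.coroot_cartan
      have h3 : 2 * ∑ k : Fin D.rank, corootZ D s k * cartanZ D k s =
          -3 * ∑ k : Fin D.rank, corootZ D s k * cartanZ D k r := by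
        rw [Finset.mul_sum, Finset.mul_sum]
        refine Finset.sum_congr rfl fun k _ => ?_
        linear_combination (corootZ D s k) * h0 k
      rw [h2] at h3
      omega
    obtain ⟨hq1, hq2⟩ := chainRoot_cartan Fa hs hsa hsna 1 (le_refl _) q hq
    refine ⟨hq1, fun k => ?_⟩
    have h1 := ha2 k
    have h2 := hq2 k
    push_cast at h1 h2
    linarith
  unfold ChevalleyDatum.commTerms at hmem
  simp only [List.mem_filterMap, List.mem_cons, List.not_mem_nil, or_false,
    Option.map_eq_some_iff] at hmem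
  obtain ⟨cand, hc, k, hk, heq⟩ := hmem
  rcases hc with rfl | rfl | rfl | rfl | rfl | rfl | rfl
  · simp only [Prod.mk.injEq] at heq
    obtain ⟨rfl, -, rfl, rfl⟩ := heq
    obtain ⟨h1, h2⟩ := chainRoot_cartan Fr hs hsr hsn' 1 (le_refl _) k hk
    exact ⟨h1, le_refl _, le_refl _, fun k' => by rw [h2 k']; push_cast; ring⟩
  · simp only [Prod.mk.injEq] at heq
    obtain ⟨rfl, -, rfl, rfl⟩ := heq
    obtain ⟨h1, h2⟩ := chainRoot_cartan Fr hs hsr hsn' 2 (by norm_num) k hk
    exact ⟨h1, by norm_num, le_refl _, fun k' => by rw [h2 k']; push_cast; ring⟩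
  · simp only [Prod.mk.injEq] at heq
    obtain ⟨rfl, -, rfl, rfl⟩ := heq
    obtain ⟨h1, h2⟩ := chainRoot_cartan Fs hr hrs hrn 2 (by norm_num) k hk
    exact ⟨h1, le_refl _, by norm_num, fun k' => by rw [h2 k']; push_cast; ring⟩
  · simp only [Prod.mk.injEq] at heq
    obtain ⟨rfl, -, rfl, rfl⟩ := heq
    obtain ⟨h1, h2⟩ := chainRoot_cartan Fr hs hsr hsn' 3 (by norm_num) k hk
    exact ⟨h1, by norm_num, le_refl _, fun k' => by rw [h2 k']; push_cast; ring⟩
  · simp only [Prod.mk.injEq] at heq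
    obtain ⟨rfl, -, rfl, rfl⟩ := heq
    obtain ⟨h1, h2⟩ := chainRoot_cartan Fs hr hrs hrn 3 (by norm_num) k hk
    exact ⟨h1, le_refl _, by norm_num, fun k' => by rw [h2 k']; push_cast; ring⟩
  · simp only [Prod.mk.injEq] at heq
    obtain ⟨rfl, -, rfl, rfl⟩ := heq
    rw [Option.bind_eq_some_iff] at hk
    obtain ⟨a, ha, hq⟩ := hk
    obtain ⟨h1, h2⟩ := aux r s cr cs Fr Fs hr hs hsr hsn' a k ha hq
    exact ⟨h1, by norm_num, by norm_num, fun k' => by rw [h2 k']; push_cast; ring⟩
  · simp only [Prod.mk.injEq] at heq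
    obtain ⟨rfl, -, rfl, rfl⟩ := heq
    rw [Option.bind_eq_some_iff] at hk
    obtain ⟨a, ha, hq⟩ := hk
    obtain ⟨h1, h2⟩ := aux s r cs cr Fs Fr hs hr hrs hrn a k ha hq
    exact ⟨h1, by norm_num, by norm_num, fun k' => by rw [h2 k']; push_cast; ring⟩

theorem mem_normalizer_closure {G : Type*} [Group G] (S : Set G) (g : G)
    (h1 : ∀ s ∈ S, g * s * g⁻¹ ∈ Subgroup.closure S) (h2 : ∀ s ∈ S, g⁻¹ * s * g ∈ Subgroup.closure S) :
    g ∈ Subgroup.normalizer (Subgroup.closure S : Set G) := by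
  have key : ∀ (g : G), (∀ s ∈ S, g * s * g⁻¹ ∈ Subgroup.closure S) →
      ∀ h ∈ Subgroup.closure S, g * h * g⁻¹ ∈ Subgroup.closure S := by
    intro g hg h hh
    induction hh using Subgroup.closure_induction with
    | mem s hs => exact hg s hs
    | one => simp
    | mul a b _ _ ha hb =>
      have : g * (a * b) * g⁻¹ = (g * a * g⁻¹) * (g * b * g⁻¹) := by group
      rw [this]
      exact Subgroup.mul_mem _ ha hb
    | inv a _ ha =>
      have : g * a⁻¹ * g⁻¹ = (g * a * g⁻¹)⁻¹ := by group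
      rw [this]
      exact Subgroup.inv_mem _ ha
  rw [Subgroup.mem_normalizer_iff]
  intro h
  constructor
  · exact key g h1 h
  · intro hh
    have h3 := key g⁻¹ (fun s hs => by rw [inv_inv]; exact h2 s hs) _ hh
    have : g⁻¹ * (g * h * g⁻¹) * g⁻¹⁻¹ = h := by group
    rw [this] at h3
    exact h3

variable {D : ChevalleyDatum} {Mc : List (List ℤ)} {F : Type*} [Field F]

/-- A word in root elements of roots in `Φ⁺ ∖ Φ_J` is the matrix of an element of `U_J`. -/
theorem wordMat_mem_radical (hSD : ∀ r : Fin D.nroots, Nonempty (StringData D r)) (J : Set ℕ) :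
    ∀ w : List (ℕ × F), (∀ e ∈ w, D.IsPosRoot e.1 ∧ ¬ D.InRootSub J e.1) →
      ∃ g : GL D.Idx F, g ∈ D.unipotentRadical F J ∧ (g : Matrix D.Idx D.Idx F) = D.wordMat F w := by
  intro w
  induction w with
  | nil =>
    intro _
    exact ⟨1, Subgroup.one_mem _, by unfold ChevalleyDatum.wordMat; simp⟩
  | cons e w ih =>
    intro hw
    obtain ⟨g, hg, hgw⟩ := ih (fun e' he' => hw e' (List.mem_cons_of_mem _ he'))
    obtain ⟨hpos, hJ⟩ := hw e List.mem_cons_self
    obtain ⟨S⟩ := hSD ⟨e.1, hpos.1⟩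
    refine ⟨sl2Hom S (sl2u e.2) * g, Subgroup.mul_mem _ ?_ hg, ?_⟩
    · unfold ChevalleyDatum.unipotentRadical
      exact Subgroup.subset_closure ⟨e.1, e.2, hpos, hJ, sl2Hom_sl2u S e.2⟩
    · rw [Units.val_mul, hgw, sl2Hom_sl2u S]
      unfold ChevalleyDatum.wordMat
      rw [List.map_cons, List.prod_cons]

/-- `P_J` normalises `U_J`, given the description of `P_J` by generators and the commutator formula. -/
theorem parabolic_le_normalizer (hcn : cartanNegOK D = true)
    (hF : ∀ r < D.nroots, ∃ c, RootFacts D r c)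
    (hSD : ∀ r : Fin D.nroots, ∃ S : StringData D r, S.CartanCompat)
    (hco : coordOK D Mc = true) (hpn : ∀ r < D.nroots, D.IsPosRoot r ∨ D.IsNegRoot r)
    (J : Set ℕ)
    (h47 : D.parabolicSubgroup F J = D.diagonalSubgroup F ⊔
      Subgroup.closure {g : GL D.Idx F | ∃ (r : ℕ) (t : F), (D.IsPosRoot r ∨ D.InRootSub J r) ∧
        (g : Matrix D.Idx D.Idx F) = D.x F r t})
    (hcomm : ∀ r s : ℕ, r < D.nroots → s < D.nroots → s ≠ r → s ≠ D.neg r → ∀ t u : F,
      D.x F s u * D.x F r t = D.x F r t * D.x F s u * D.wordMat F (D.commWord F r s t u)) :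
    D.parabolicSubgroup F J ≤ Subgroup.normalizer (D.unipotentRadical F J : Set (GL D.Idx F)) := by
  have hSD' : ∀ r : Fin D.nroots, Nonempty (StringData D r) := fun r => (hSD r).elim fun S _ => ⟨S⟩
  rw [h47]
  refine sup_le ?_ ?_
  · -- the torus
    intro g hg
    have hgT := diagonalSubgroup_le_torus hSD' hg
    have key : ∀ g : GL D.Idx F, g ∈ torus D F → ∀ s ∈ {g : GL D.Idx F | ∃ (r : ℕ) (t : F),
        D.IsPosRoot r ∧ ¬ D.InRootSub J r ∧ (g : Matrix D.Idx D.Idx F) = D.x F r t},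
        g * s * g⁻¹ ∈ Subgroup.closure {g : GL D.Idx F | ∃ (r : ℕ) (t : F),
          D.IsPosRoot r ∧ ¬ D.InRootSub J r ∧ (g : Matrix D.Idx D.Idx F) = D.x F r t} := by
      rintro g hg s ⟨r, t, hpos, hJ, hs⟩
      obtain ⟨t', ht'⟩ := torus_conj_x hSD hg r hpos.1 t
      exact Subgroup.subset_closure ⟨r, t', hpos, hJ, by
        rw [Units.val_mul, Units.val_mul, hs]; exact ht'⟩
    unfold ChevalleyDatum.unipotentRadical
    apply mem_normalizer_closure
    · exact key g hgT
    · intro s hs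
      have := key g⁻¹ (Subgroup.inv_mem _ hgT) s hs
      rwa [inv_inv] at this
  · rw [Subgroup.closure_le]
    rintro g ⟨r, t, hr, hg⟩
    by_cases hJ : D.InRootSub J r
    · -- a root of `Φ_J`: the commutator formula
      obtain ⟨S, hS⟩ := hSD ⟨r, hJ.1⟩
      have hnJ : D.InRootSub J (D.neg r) := by
        refine ⟨by have := S.nr.isLt; rwa [S.nr_val] at this, fun i hi hiJ => ?_⟩
        have h1 := S.coroot_neg ⟨i, hi⟩
        rw [S.nr_val] at h1
        have h2 := hJ.2 i hi hiJ
        unfold corootZ at h1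
        show (D.coroot.getD (D.negIdx.getD r 0) #[]).getD i 0 = 0
        rw [h1, h2, neg_zero]
      have h0 := gradeJ_eq_zero hco J ⟨r, hJ.1⟩ hJ
      have key : ∀ (t : F) (gr : GL D.Idx F), (gr : Matrix D.Idx D.Idx F) = D.x F r t →
          ∀ s ∈ {g : GL D.Idx F | ∃ (r : ℕ) (t : F),
            D.IsPosRoot r ∧ ¬ D.InRootSub J r ∧ (g : Matrix D.Idx D.Idx F) = D.x F r t},
          gr⁻¹ * s * gr ∈ D.unipotentRadical F J := by
        rintro t gr hgr s ⟨s', u, hpos, hsJ, hs⟩
        have hsr : s' ≠ r := fun h => hsJ (h ▸ hJ)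
        have hsn : s' ≠ D.neg r := fun h => hsJ (h ▸ hnJ)
        have hgs := gradeJ_pos hco J ⟨s', hpos.1⟩ hpos hsJ
        obtain ⟨gW, hgW, hgWm⟩ := wordMat_mem_radical (F := F) hSD' J (D.commWord F r s' t u) (by
          intro e he
          unfold ChevalleyDatum.commWord at he
          rw [List.mem_map] at he
          obtain ⟨⟨q, cc, i, j⟩, hmem, rfl⟩ := he
          obtain ⟨hq, hi, hj, hcart⟩ := commTerms_cartan hcn hF hJ.1 hpos.1 hsr hsn q cc i j hmem
          apply pos_of_gradeJ_pos hco J ⟨q, hq⟩ (hpn q hq)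
          have hgq : gradeOf D (jCoef D Mc J) (Sum.inr ⟨q, hq⟩) =
              (i : ℤ) * gradeOf D (jCoef D Mc J) (Sum.inr ⟨r, hJ.1⟩) +
                (j : ℤ) * gradeOf D (jCoef D Mc J) (Sum.inr ⟨s', hpos.1⟩) := by
            rw [gradeOf_inr, gradeOf_inr, gradeOf_inr, Finset.mul_sum, Finset.mul_sum,
              ← Finset.sum_add_distrib]
            refine Finset.sum_congr rfl fun k _ => ?_
            rw [hcart k]
            ring
          rw [hgq, h0, mul_zero, zero_add]
          have hj' : (1 : ℤ) ≤ (j : ℤ) := by exact_mod_cast hj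
          nlinarith)
        have heq : s * gr = gr * s * gW := by
          apply Units.ext
          rw [Units.val_mul, Units.val_mul, Units.val_mul, hs, hgr, hgWm]
          exact hcomm r s' hJ.1 hpos.1 hsr hsn t u
        have : gr⁻¹ * s * gr = s * gW := by
          rw [mul_assoc, heq, mul_assoc, inv_mul_cancel_left]
        rw [this]
        exact Subgroup.mul_mem _ (Subgroup.subset_closure ⟨s', u, hpos, hsJ, hs⟩) hgW
      have hgS : g = sl2Hom S (sl2u t) := Units.ext (by rw [hg, sl2Hom_sl2u S t])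
      unfold ChevalleyDatum.unipotentRadical
      apply mem_normalizer_closure
      · intro s hs
        have := key (-t) g⁻¹ (by rw [hgS, ← map_inv, sl2u_inv, sl2Hom_sl2u S]) s hs
        rwa [inv_inv] at this
      · exact key t g hg
    · rcases hr with hpos | hJ'
      · exact Subgroup.le_normalizer (Subgroup.subset_closure ⟨r, t, hpos, hJ, hg⟩)
      · exact absurd hJ' hJ

end Cfsg.Agent.Lib.helper23
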