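import Cfsg.Agent.Lib.helper23.ChevTables
import Cfsg.Agent.Lib.helper22.ChevH

set_option autoImplicit false

/-!
The signed monomial matrix of `n_p = n_p(1)` for a fundamental root `p`, from the string-data certificate of `p`:
`e_s ↦ η_s e_{w_p(s)}` with `w_p(s)` the mirror image of `s` in its `p`-string.
-/

namespace Cfsg.Agent.Lib.helper23

open Cfsg.Lie Cfsg.Agent.Lib.helper22

/-- The root of the string of `s` at the position `len - pos` (the mirror image of `s` in its string). -/
def mate (c : RootCert) (s : ℕ) : ℕ :=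
  if clen c s = cpos c s then cbase c s else cup c (cbase c s) (clen c s - cpos c s)

/-- The sign of `e_s` under `n_r(1)`. -/
def eta (c : RootCert) (r nr s : ℕ) : ℤ :=
  if s = r ∨ s = nr then -1 else csgn c s * csgn c (mate c s) * (-1) ^ cpos c s

/-- `η_s η_{-s} = 1` for the roots `s < n` (the negative of `s` has index `N - 1 - s`). -/
def etaNegOK (c : RootCert) (r nr N : ℕ) : ℕ → Bool
  | 0 => true
  | s + 1 => decide (eta c r nr s * eta c r nr (N - 1 - s) = 1) && etaNegOK c r nr N s

theorem etaNegOK_spec (c : RootCert) (r nr N : ℕ) : ∀ n, etaNegOK c r nr N n = true →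
    ∀ s < n, eta c r nr s * eta c r nr (N - 1 - s) = 1 := by
  intro n
  induction n with
  | zero => intro _ s hs; omega
  | succ n ih =>
    intro h s hs
    rw [etaNegOK, Bool.and_eq_true, decide_eq_true_eq] at h
    rcases Nat.lt_succ_iff_lt_or_eq.mp hs with h1 | rfl
    · exact ih h.2 s h1
    · exact h.1

theorem eta_sq (c : RootCert) (r nr s : ℕ) : eta c r nr s = 1 ∨ eta c r nr s = -1 := by
  unfold eta
  split_ifs
  · right; rfl
  · rcases csgn_sq c s with h1 | h1 <;> rcases csgn_sq c (mate c s) with h2 | h2 <;>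
      rcases neg_one_pow_eq_or ℤ (cpos c s) with h3 | h3 <;> rw [h1, h2, h3] <;> simp

theorem eta_self (c : RootCert) (r nr : ℕ) : eta c r nr r = -1 := by
  unfold eta
  rw [if_pos (Or.inl rfl)]

theorem eta_nr (c : RootCert) (r nr : ℕ) : eta c r nr nr = -1 := by
  unfold eta
  rw [if_pos (Or.inr rfl)]

theorem eta_other (c : RootCert) (r nr s : ℕ) (h1 : s ≠ r) (h2 : s ≠ nr) :
    eta c r nr s = csgn c s * csgn c (mate c s) * (-1) ^ cpos c s := by
  unfold eta
  rw [if_neg (by tauto)]

theorem csgn_mul_self (c : RootCert) (s : ℕ) : csgn c s * csgn c s = 1 := by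
  rcases csgn_sq c s with h | h <;> rw [h] <;> norm_num

section Mate

variable {D : ChevalleyDatum} {r : ℕ} {c : RootCert} (F : RootFacts D r c)
include F

theorem mate_spec {s : ℕ} (hs : s < D.nroots) (hs1 : s ≠ r) (hs2 : s ≠ D.negIdx.getD r 0) :
    mate c s < D.nroots ∧ mate c s ≠ r ∧ mate c s ≠ D.negIdx.getD r 0 ∧
      cbase c (mate c s) = cbase c s ∧ cpos c (mate c s) + cpos c s = clen c s := by
  have Ls := F.loc s hs hs1 hs2
  have hle : cpos c s ≤ clen c s := by have := Ls.hl; omega
  obtain ⟨u, g1, g2, g3, g4, g5⟩ := facts_surj F hs hs1 hs2 (clen c s - cpos c s) (by omega)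
  have Lu := F.loc u g1 g2 g3
  have hu : mate c s = u := by
    unfold mate
    by_cases h : clen c s = cpos c s
    · rw [if_pos h]
      rcases Lu.htr with ⟨h1, h2⟩ | ⟨h1, h2⟩
      · rw [← g4, h2]
      · omega
    · rw [if_neg h]
      rcases Lu.htr with ⟨h1, h2⟩ | ⟨h1, h2⟩
      · omega
      · rw [← g4, ← g5, h2]
  rw [hu]
  exact ⟨g1, g2, g3, g4, by omega⟩

theorem clen_mate {s : ℕ} (hs : s < D.nroots) (hs1 : s ≠ r) (hs2 : s ≠ D.negIdx.getD r 0) :
    clen c (mate c s) = clen c s := by
  obtain ⟨m1, m2, m3, m4, m5⟩ := mate_spec F hs hs1 hs2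
  have Ls := F.loc s hs hs1 hs2
  have Lm := F.loc _ m1 m2 m3
  rw [← Lm.hb5, ← Ls.hb5, m4]

theorem mate_mate {s : ℕ} (hs : s < D.nroots) (hs1 : s ≠ r) (hs2 : s ≠ D.negIdx.getD r 0) :
    mate c (mate c s) = s := by
  obtain ⟨m1, m2, m3, m4, m5⟩ := mate_spec F hs hs1 hs2
  obtain ⟨n1, n2, n3, n4, n5⟩ := mate_spec F m1 m2 m3
  have hlen := clen_mate F hs hs1 hs2
  exact facts_inj F n1 n2 n3 hs hs1 hs2 (by rw [n4, m4]) (by omega)

theorem eta_mul_mate {s : ℕ} (hs : s < D.nroots) (hs1 : s ≠ r) (hs2 : s ≠ D.negIdx.getD r 0) :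
    eta c r (D.negIdx.getD r 0) s * eta c r (D.negIdx.getD r 0) (mate c s) = (-1) ^ clen c s := by
  obtain ⟨m1, m2, m3, m4, m5⟩ := mate_spec F hs hs1 hs2
  rw [eta_other c r _ s hs1 hs2, eta_other c r _ _ m2 m3, mate_mate F hs hs1 hs2, ← m5, pow_add]
  have e1 := csgn_mul_self c s
  have e2 := csgn_mul_self c (mate c s)
  linear_combination ((-1) ^ cpos c s * (-1) ^ cpos c (mate c s) * csgn c (mate c s) * csgn c (mate c s)) * e1 +
    ((-1) ^ cpos c s * (-1) ^ cpos c (mate c s)) * e2

theorem cartan_eq_weight (hS : SimpleCorootOK D) (i : Fin D.rank) (hr : D.simple i.val = r)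
    {s : ℕ} (hs : s < D.nroots) (hs1 : s ≠ r) (hs2 : s ≠ D.negIdx.getD r 0) :
    D.cartan i.val s = 2 * (cpos c s : ℤ) - (clen c s : ℤ) := by
  have Ls := F.loc s hs hs1 hs2
  rw [Ls.hw]
  have h := rootPairing_simple hS i s
  rw [hr] at h
  exact h.symm

theorem cartan_self (hS : SimpleCorootOK D) (i : Fin D.rank) (hr : D.simple i.val = r) :
    D.cartan i.val r = 2 := by
  have h := rootPairing_simple hS i r
  rw [hr] at h
  exact h.symm.trans F.coroot_cartan

omit F in
theorem reflectRoot_self (i : ℕ) (hr : D.simple i = r) : D.reflectRoot i r = D.negIdx.getD r 0 := by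
  unfold ChevalleyDatum.reflectRoot
  simp only []
  rw [hr, if_pos rfl]
  rfl

theorem reflectRoot_nr (i : ℕ) (hr : D.simple i = r) : D.reflectRoot i (D.negIdx.getD r 0) = r := by
  unfold ChevalleyDatum.reflectRoot
  simp only []
  rw [hr, if_neg F.nr_ne]
  have hneg : D.neg r = D.negIdx.getD r 0 := rfl
  rw [hneg, if_pos rfl]

theorem reflectRoot_eq_mate (hS : SimpleCorootOK D) (i : Fin D.rank) (hr : D.simple i.val = r)
    {s : ℕ} (hs : s < D.nroots) (hs1 : s ≠ r) (hs2 : s ≠ D.negIdx.getD r 0) :
    D.reflectRoot i.val s = mate c s := by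
  have Ls := F.loc s hs hs1 hs2
  obtain ⟨m1, m2, m3, m4, m5⟩ := mate_spec F hs hs1 hs2
  have hA := cartan_eq_weight F hS i hr hs hs1 hs2
  have hle : cpos c s ≤ clen c s := by have := Ls.hl; omega
  unfold ChevalleyDatum.reflectRoot
  simp only []
  have hneg : D.neg r = D.negIdx.getD r 0 := rfl
  rw [hr, hneg, if_neg hs1, if_neg hs2, hA]
  by_cases h1 : (0 : ℤ) < 2 * (cpos c s : ℤ) - (clen c s : ℤ)
  · rw [if_pos h1]
    have ha : (2 * (cpos c s : ℤ) - (clen c s : ℤ)).toNat = 2 * cpos c s - clen c s := by omega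
    rw [ha]
    unfold ChevalleyDatum.chainRoot
    have hk : 2 * cpos c s - clen c s - 1 < (D.chainEntry (D.negIdx.getD r 0) s).length := by
      rw [← Ls.hp]; omega
    rcases hq : (D.chainEntry (D.negIdx.getD r 0) s)[2 * cpos c s - clen c s - 1]'hk with ⟨d, M⟩
    have hk' : (D.chainEntry (D.negIdx.getD r 0) s)[2 * cpos c s - clen c s - 1]? = some (d, M) := by
      rw [List.getElem?_eq_getElem hk, hq]
    rw [hk']
    obtain ⟨g1, g2, g3, g4, g5, -, -⟩ := Ls.hdown _ d M hk'
    simp only [Option.map_some, Option.getD_some]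
    exact facts_inj F g3 g1 g2 m1 m2 m3 (by rw [g4, m4]) (by omega)
  · rw [if_neg h1]
    by_cases h2 : 2 * (cpos c s : ℤ) - (clen c s : ℤ) < 0
    · rw [if_pos h2]
      have ha : (-(2 * (cpos c s : ℤ) - (clen c s : ℤ))).toNat = clen c s - 2 * cpos c s := by omega
      rw [ha]
      unfold ChevalleyDatum.chainRoot
      have hk : clen c s - 2 * cpos c s - 1 < (D.chainEntry r s).length := by
        have := Ls.hl; omega
      rcases hq : (D.chainEntry r s)[clen c s - 2 * cpos c s - 1]'hk with ⟨u, M⟩
      have hk' : (D.chainEntry r s)[clen c s - 2 * cpos c s - 1]? = some (u, M) := by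
        rw [List.getElem?_eq_getElem hk, hq]
      rw [hk']
      obtain ⟨g1, g2, g3, g4, g5, -, -⟩ := Ls.hup _ u M hk'
      simp only [Option.map_some, Option.getD_some]
      exact facts_inj F g3 g1 g2 m1 m2 m3 (by rw [g4, m4]) (by omega)
    · rw [if_neg h2]
      exact facts_inj F hs hs1 hs2 m1 m2 m3 m4.symm (by omega)

end Mate

/-- The signed monomial form of `n_p(1)` for the `i`-th fundamental root, from a checked certificate. -/
theorem nMat_simple_eq {K : Type*} [Field K] (D : ChevalleyDatum) (hD : cartanNegOK D = true) (P : ℕ)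
    (hP : cartPackOK D P = true) (hS : SimpleCorootOK D)
    (hneg : ∀ s < D.nroots, D.negIdx.getD s 0 = D.nroots - 1 - s)
    (i : ℕ) (hi : i < D.rank) (c : RootCert) (hc : rootCheck D P (D.simple i) c = true)
    (heta : etaNegOK c (D.simple i) (D.neg (D.simple i)) D.nroots D.nroots = true) :
    ∃ η : ℕ → ℤ, (∀ s < D.nroots, η s = 1 ∨ η s = -1) ∧ η (D.simple i) = -1 ∧ η (D.neg (D.simple i)) = -1 ∧
      (∀ s < D.nroots, η s * η (D.reflectRoot i s) = (-1) ^ (D.cartan i s).natAbs ∧ η s * η (D.neg s) = 1) ∧
      D.nMat K (D.simple i) 1 = Matrix.of (fun (row col : D.Idx) =>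
        Sum.elim
          (fun j' : Fin D.rank => Sum.elim
            (fun j : Fin D.rank => (if j' = j then (1 : K) else 0) - (if (j' : ℕ) = i then ((D.cartan j (D.simple i) : ℤ) : K) else 0))
            (fun _ => (0 : K)) col)
          (fun s' : Fin D.nroots => Sum.elim
            (fun _ => (0 : K))
            (fun s : Fin D.nroots => if (s' : ℕ) = D.reflectRoot i s then ((η s : ℤ) : K) else 0) col)
          row) := by
  have hp : D.simple i < D.nroots := (hS ⟨i, hi⟩).1
  have F := rootFacts_of_check D hD P hP (D.simple i) hp c hc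
  have hnegp : D.neg (D.simple i) = D.negIdx.getD (D.simple i) 0 := rfl
  have hrefl1 := reflectRoot_self (D := D) i (r := D.simple i) rfl
  have hrefl2 := reflectRoot_nr F i rfl
  have hcs : D.cartan i (D.simple i) = 2 := cartan_self F hS ⟨i, hi⟩ rfl
  have hcn : D.cartan i (D.negIdx.getD (D.simple i) 0) = -2 := by
    have := cartan_neg_of_ok D hD i hi (D.simple i) _ F.nr_add
    have h2 : cartanZ D i (D.simple i) = 2 := hcs
    rw [h2] at this
    exact this
  refine ⟨eta c (D.simple i) (D.neg (D.simple i)), fun s _ => eta_sq c _ _ s, eta_self c _ _, eta_nr c _ _,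
    ?_, ?_⟩
  · intro s hs
    constructor
    · by_cases hs1 : s = D.simple i
      · rw [hs1, hrefl1, ← hnegp, eta_self, eta_nr, hcs]
        norm_num
      · by_cases hs2 : s = D.negIdx.getD (D.simple i) 0
        · rw [hs2, hrefl2, hcn, ← hnegp, eta_self, eta_nr]
          norm_num
        · rw [reflectRoot_eq_mate F hS ⟨i, hi⟩ rfl hs hs1 hs2, hnegp, eta_mul_mate F hs hs1 hs2,
            cartan_eq_weight F hS ⟨i, hi⟩ rfl hs hs1 hs2, neg_one_pow_eq_pow_mod_two,
            neg_one_pow_eq_pow_mod_two (n := Int.natAbs _)]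
          congr 1
          omega
    · have h1 : D.neg s = D.nroots - 1 - s := hneg s hs
      rw [h1]
      exact etaNegOK_spec c _ _ D.nroots D.nroots heta s hs
  · let S := mkStringData D hD P hP ⟨D.simple i, hp⟩ c hc
    have hn : D.nMat K (D.simple i) 1 = sl2Mat S 0 1 (-1) 0 := by
      have := nMat_eq S (1 : K) one_ne_zero
      rw [inv_one] at this
      exact this
    rw [hn]
    have hSnr : ∀ u : Fin D.nroots, u = S.nr ↔ u.val = D.negIdx.getD (D.simple i) 0 := fun u => Fin.ext_iff
    have hSr : ∀ u : Fin D.nroots, u = (⟨D.simple i, hp⟩ : Fin D.nroots) ↔ u.val = D.simple i :=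
      fun u => Fin.ext_iff
    ext row col
    rcases row with j' | s' <;> rcases col with j | s
    · rw [sl2Mat_inl_inl]
      simp only [Matrix.of_apply, Sum.elim_inl]
      have h1 : corootZ D (D.simple i) j'.val = if (⟨i, hi⟩ : Fin D.rank) = j' then 1 else 0 :=
        (hS ⟨i, hi⟩).2 j'
      have h2 : D.cartan j (D.simple i) = cartanZ D j (D.simple i) := rfl
      rw [h1, h2]
      by_cases hj : (j' : ℕ) = i
      · have : (⟨i, hi⟩ : Fin D.rank) = j' := Fin.ext hj.symm
        rw [if_pos this, if_pos hj]
        push_cast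
        ring
      · have : ¬ ((⟨i, hi⟩ : Fin D.rank) = j') := fun h => hj (congrArg Fin.val h).symm
        rw [if_neg this, if_neg hj]
        push_cast
        ring
    · rw [sl2Mat_inl_inr]
      simp only [Matrix.of_apply, Sum.elim_inl, Sum.elim_inr]
      split_ifs <;> ring
    · rw [sl2Mat_inr_inl]
      simp only [Matrix.of_apply, Sum.elim_inl, Sum.elim_inr]
      split_ifs <;> ring
    · rw [sl2Mat_inr_inr]
      simp only [Matrix.of_apply, Sum.elim_inr]
      by_cases hs1 : s.val = D.simple i
      · have hs1' : s = (⟨D.simple i, hp⟩ : Fin D.nroots) := Fin.ext hs1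
        rw [if_pos hs1', hs1, hrefl1, eta_self]
        by_cases hu1 : s'.val = D.simple i
        · have : s' = (⟨D.simple i, hp⟩ : Fin D.nroots) := Fin.ext hu1
          have hne : ¬ (s'.val = D.negIdx.getD (D.simple i) 0) := by
            rw [hu1]; exact fun h => F.nr_ne h.symm
          rw [if_pos this, if_neg hne]
          ring
        · have : ¬ (s' = (⟨D.simple i, hp⟩ : Fin D.nroots)) := fun h => hu1 (congrArg Fin.val h)
          rw [if_neg this]
          by_cases hu2 : s'.val = D.negIdx.getD (D.simple i) 0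
          · rw [if_pos ((hSnr s').mpr hu2), if_pos hu2]
            push_cast
            ring
          · rw [if_neg (fun h => hu2 ((hSnr s').mp h)), if_neg hu2]
      · have hs1' : ¬ (s = (⟨D.simple i, hp⟩ : Fin D.nroots)) := fun h => hs1 (congrArg Fin.val h)
        rw [if_neg hs1']
        by_cases hs2 : s.val = D.negIdx.getD (D.simple i) 0
        · rw [if_pos ((hSnr s).mpr hs2), hs2, hrefl2, ← hnegp, eta_nr]
          by_cases hu1 : s'.val = D.simple i
          · have : s' = (⟨D.simple i, hp⟩ : Fin D.nroots) := Fin.ext hu1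
            rw [if_pos this, if_pos hu1]
            push_cast
            ring
          · have : ¬ (s' = (⟨D.simple i, hp⟩ : Fin D.nroots)) := fun h => hu1 (congrArg Fin.val h)
            rw [if_neg this, if_neg hu1]
            split_ifs <;> ring
        · rw [if_neg (fun h => hs2 ((hSnr s).mp h))]
          obtain ⟨m1, m2, m3, m4, m5⟩ := mate_spec F s.isLt hs1 hs2
          rw [reflectRoot_eq_mate F hS ⟨i, hi⟩ rfl s.isLt hs1 hs2]
          by_cases hu : s'.val = D.simple i ∨ s'.val = D.negIdx.getD (D.simple i) 0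
          · have hu' : s' = (⟨D.simple i, hp⟩ : Fin D.nroots) ∨ s' = S.nr := by
              rcases hu with h | h
              · exact Or.inl (Fin.ext h)
              · exact Or.inr ((hSnr s').mpr h)
            have hne : ¬ (s'.val = mate c s.val) := by
              rcases hu with h | h
              · rw [h]; exact fun h' => m2 h'.symm
              · rw [h]; exact fun h' => m3 h'.symm
            rw [if_pos hu', if_neg hne]
          · have hu' : ¬ (s' = (⟨D.simple i, hp⟩ : Fin D.nroots) ∨ s' = S.nr) := by
              rintro (h | h)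
              · exact hu (Or.inl (congrArg Fin.val h))
              · exact hu (Or.inr ((hSnr s').mp h))
            rw [if_neg hu']
            have hu1 : s'.val ≠ D.simple i := fun h => hu (Or.inl h)
            have hu2 : s'.val ≠ D.negIdx.getD (D.simple i) 0 := fun h => hu (Or.inr h)
            have Ls := F.loc s.val s.isLt hs1 hs2
            have Lu := F.loc s'.val s'.isLt hu1 hu2
            have hbase : S.base s' = S.base s ↔ cbase c s'.val = cbase c s.val := Iff.rfl
            by_cases hb : cbase c s'.val = cbase c s.val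
            · rw [if_pos (hbase.mpr hb)]
              have hlen : clen c s'.val = clen c s.val := by rw [← Lu.hb5, ← Ls.hb5, hb]
              have hk : cpos c s'.val ≤ clen c s.val := by have := Lu.hl; omega
              have hj : cpos c s.val ≤ clen c s.val := by have := Ls.hl; omega
              have hsym := symE_anti (F := K) (clen c s.val) Ls.hl3 1 (-1) (cpos c s'.val) (cpos c s.val) hk hj
              have e1 : S.len s = clen c s.val := rfl
              have e2 : S.pos s' = cpos c s'.val := rfl
              have e3 : S.pos s = cpos c s.val := rfl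
              have e4 : S.sgn s' = csgn c s'.val := rfl
              have e5 : S.sgn s = csgn c s.val := rfl
              rw [e1, e2, e3, e4, e5, hsym]
              by_cases hpos : cpos c s'.val + cpos c s.val = clen c s.val
              · have hmate : s'.val = mate c s.val :=
                  facts_inj F s'.isLt hu1 hu2 m1 m2 m3 (by rw [hb, m4]) (by omega)
                rw [if_pos hpos, if_pos hmate, hnegp, eta_other c _ _ _ hs1 hs2, ← hmate]
                push_cast
                ring
              · have hmate : ¬ (s'.val = mate c s.val) := by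
                  intro h
                  rw [h] at hpos
                  exact hpos m5
                rw [if_neg hpos, if_neg hmate, mul_zero]
            · rw [if_neg (fun h => hb (hbase.mp h))]
              have hmate : ¬ (s'.val = mate c s.val) := by
                intro h
                rw [h] at hb
                exact hb m4
              rw [if_neg hmate]

end Cfsg.Agent.Lib.helper23
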