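import Cfsg.Agent.Lib.helper23.ChevMono
import Cfsg.Agent.Lib.helper23.ChevStringAll

set_option autoImplicit false
set_option maxRecDepth 100000

/-! The signed monomial form of `n_p(1)`, `p` fundamental, for the seven tabulated Chevalley data. -/

namespace Cfsg.Agent.Lib.helper23

open Cfsg.Lie Cfsg.Agent.Lib.helper22

theorem negRevG2 : ∀ s < chevG2.nroots, chevG2.negIdx.getD s 0 = chevG2.nroots - 1 - s := by
  decide +kernel

theorem etaOKG2 : ∀ i < chevG2.rank, etaNegOK (certsG2.getD (chevG2.simple i) ⟨0, 0, 0, 0, 0⟩) (chevG2.simple i)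
    (chevG2.neg (chevG2.simple i)) chevG2.nroots chevG2.nroots = true := by
  decide +kernel

theorem negRevB2 : ∀ s < chevB2.nroots, chevB2.negIdx.getD s 0 = chevB2.nroots - 1 - s := by
  decide +kernel

theorem etaOKB2 : ∀ i < chevB2.rank, etaNegOK (certsB2.getD (chevB2.simple i) ⟨0, 0, 0, 0, 0⟩) (chevB2.simple i)
    (chevB2.neg (chevB2.simple i)) chevB2.nroots chevB2.nroots = true := by
  decide +kernel

theorem negRevD4 : ∀ s < chevD4.nroots, chevD4.negIdx.getD s 0 = chevD4.nroots - 1 - s := by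
  decide +kernel

theorem etaOKD4 : ∀ i < chevD4.rank, etaNegOK (certsD4.getD (chevD4.simple i) ⟨0, 0, 0, 0, 0⟩) (chevD4.simple i)
    (chevD4.neg (chevD4.simple i)) chevD4.nroots chevD4.nroots = true := by
  decide +kernel

theorem negRevF4 : ∀ s < chevF4.nroots, chevF4.negIdx.getD s 0 = chevF4.nroots - 1 - s := by
  decide +kernel

theorem etaOKF4 : ∀ i < chevF4.rank, etaNegOK (certsF4.getD (chevF4.simple i) ⟨0, 0, 0, 0, 0⟩) (chevF4.simple i)
    (chevF4.neg (chevF4.simple i)) chevF4.nroots chevF4.nroots = true := by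
  decide +kernel

theorem negRevE6 : ∀ s < chevE6.nroots, chevE6.negIdx.getD s 0 = chevE6.nroots - 1 - s := by
  decide +kernel

theorem etaOKE6 : ∀ i < chevE6.rank, etaNegOK (certsE6.getD (chevE6.simple i) ⟨0, 0, 0, 0, 0⟩) (chevE6.simple i)
    (chevE6.neg (chevE6.simple i)) chevE6.nroots chevE6.nroots = true := by
  decide +kernel

theorem negRevE7 : ∀ s < chevE7.nroots, chevE7.negIdx.getD s 0 = chevE7.nroots - 1 - s := by
  decide +kernel

theorem etaOKE7 : ∀ i < chevE7.rank, etaNegOK (certsE7.getD (chevE7.simple i) ⟨0, 0, 0, 0, 0⟩) (chevE7.simple i)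
    (chevE7.neg (chevE7.simple i)) chevE7.nroots chevE7.nroots = true := by
  decide +kernel

theorem negRevE8 : ∀ s < chevE8.nroots, chevE8.negIdx.getD s 0 = chevE8.nroots - 1 - s := by
  decide +kernel

theorem etaOKE8 : ∀ i < chevE8.rank, etaNegOK (certsE8.getD (chevE8.simple i) ⟨0, 0, 0, 0, 0⟩) (chevE8.simple i)
    (chevE8.neg (chevE8.simple i)) chevE8.nroots chevE8.nroots = true := by
  decide +kernel

/-- `n_p = n_p(1)` for the `i`-th fundamental root `p` is a signed monomial matrix. -/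
theorem nMat_simple_monomial {K : Type*} [Field K] (D : ChevalleyDatum)
    (hD : D ∈ [chevG2, chevB2, chevD4, chevF4, chevE6, chevE7, chevE8]) (i : ℕ) (hi : i < D.rank) :
    ∃ η : ℕ → ℤ, (∀ s < D.nroots, η s = 1 ∨ η s = -1) ∧ η (D.simple i) = -1 ∧ η (D.neg (D.simple i)) = -1 ∧
      (∀ s < D.nroots, η s * η (D.reflectRoot i s) = (-1) ^ (D.cartan i s).natAbs ∧ η s * η (D.neg s) = 1) ∧
      D.nMat K (D.simple i) 1 = Matrix.of (fun (row col : D.Idx) =>
        Sum.elim
          (fun j' : Fin D.rank => Sum.elim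
            (fun j : Fin D.rank => (if j' = j then (1 : K) else 0) - (if (j' : ℕ) = i then ((D.cartan j (D.simple i) : ℤ) : K) else 0))
            (fun _ => (0 : K)) col)
          (fun s' : Fin D.nroots => Sum.elim
            (fun _ => (0 : K))
            (fun s : Fin D.nroots => if (s' : ℕ) = D.reflectRoot i s then ((η s : ℤ) : K) else 0) col)
          row) := by
  simp only [List.mem_cons, List.not_mem_nil, or_false] at hD
  rcases hD with rfl | rfl | rfl | rfl | rfl | rfl | rfl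
  · exact nMat_simple_eq chevG2 negOKG2 cartPG2 cartOKG2 simpleOKG2 negRevG2 i hi _
      (certsOKG2 _ (simpleOKG2 ⟨i, hi⟩).1) (etaOKG2 i hi)
  · exact nMat_simple_eq chevB2 negOKB2 cartPB2 cartOKB2 simpleOKB2 negRevB2 i hi _
      (certsOKB2 _ (simpleOKB2 ⟨i, hi⟩).1) (etaOKB2 i hi)
  · exact nMat_simple_eq chevD4 negOKD4 cartPD4 cartOKD4 simpleOKD4 negRevD4 i hi _
      (certsOKD4 _ (simpleOKD4 ⟨i, hi⟩).1) (etaOKD4 i hi)
  · exact nMat_simple_eq chevF4 negOKF4 cartPF4 cartOKF4 simpleOKF4 negRevF4 i hi _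
      (certsOKF4 _ (simpleOKF4 ⟨i, hi⟩).1) (etaOKF4 i hi)
  · exact nMat_simple_eq chevE6 negOKE6 cartPE6 cartOKE6 simpleOKE6 negRevE6 i hi _
      (certsOKE6 _ (simpleOKE6 ⟨i, hi⟩).1) (etaOKE6 i hi)
  · exact nMat_simple_eq chevE7 negOKE7 cartPE7 cartOKE7 simpleOKE7 negRevE7 i hi _
      (certsOKE7 _ (simpleOKE7 ⟨i, hi⟩).1) (etaOKE7 i hi)
  · exact nMat_simple_eq chevE8 negOKE8 cartPE8 cartOKE8 simpleOKE8 negRevE8 i hi _
      (certsOKE8 _ (simpleOKE8 ⟨i, hi⟩).1) (etaOKE8 i hi)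

end Cfsg.Agent.Lib.helper23
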