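import Cfsg.Agent.Lib.helper23.ChevWord
import Cfsg.Agent.Lib.helper23.ChevLevi

set_option autoImplicit false

/-!
# Words in the fundamental reflections: the action on coroot coordinates

The coroot of `w_{p_i}(s)` is `h_s - ⟨p_i, h_s⟩ h_{p_i}` (a table check), so a word in the fundamental reflections acts
linearly on the coordinates of the coroots on the fundamental coroots.  Consequently a word that maps every
fundamental root to a positive root maps every positive root to a positive root.
-/

namespace Cfsg.Agent.Lib.helper23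

open Cfsg.Lie Cfsg.Agent.Lib.helper22

/-- Table check: the coroot of `w_{p_i}(s)` is `h_s - ⟨p_i, h_s⟩ h_{p_i}`. -/
def reflCorootOK (D : ChevalleyDatum) : Bool :=
  (List.range D.rank).all fun i => (List.range D.nroots).all fun s =>
    (List.range D.rank).all fun k =>
      decide (corootZ D (D.reflectRoot i s) k =
        corootZ D s k - if k = i then
          ((List.range D.rank).map fun j => corootZ D s j * cartanZ D j (D.simple i)).sum else 0)

theorem reflCorootOK_spec {D : ChevalleyDatum} (h : reflCorootOK D = true) (i : ℕ) (hi : i < D.rank)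
    (s : ℕ) (hs : s < D.nroots) (k : ℕ) (hk : k < D.rank) :
    corootZ D (D.reflectRoot i s) k = corootZ D s k -
      if k = i then ∑ j : Fin D.rank, corootZ D s j.val * cartanZ D j.val (D.simple i) else 0 := by
  unfold reflCorootOK at h
  rw [List.all_eq_true] at h
  have h1 := h i (List.mem_range.mpr hi)
  rw [List.all_eq_true] at h1
  have h2 := h1 s (List.mem_range.mpr hs)
  rw [List.all_eq_true] at h2
  have h3 := h2 k (List.mem_range.mpr hk)
  rw [decide_eq_true_eq, list_sum_range_eq] at h3
  exact h3

/-- The reflection in the `i`-th fundamental root on coroot coordinates. -/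
def reflLin (D : ChevalleyDatum) (i : ℕ) : (Fin D.rank → ℤ) →ₗ[ℤ] (Fin D.rank → ℤ) where
  toFun v := fun k => v k - if k.val = i then ∑ j : Fin D.rank, v j * cartanZ D j.val (D.simple i) else 0
  map_add' v v' := by
    funext k
    simp only [Pi.add_apply, add_mul, Finset.sum_add_distrib]
    split_ifs <;> ring
  map_smul' a v := by
    funext k
    simp only [Pi.smul_apply, smul_eq_mul, RingHom.id_apply, mul_assoc, ← Finset.mul_sum]
    split_ifs <;> ring

/-- The action of a word in the fundamental reflections on coroot coordinates. -/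
def wordLin (D : ChevalleyDatum) (w : List ℕ) : (Fin D.rank → ℤ) →ₗ[ℤ] (Fin D.rank → ℤ) :=
  w.foldr (fun i L => (reflLin D i).comp L) LinearMap.id

/-- The coordinates of the coroot of `s` on the fundamental coroots. -/
def corootVec (D : ChevalleyDatum) (s : ℕ) : Fin D.rank → ℤ := fun k => corootZ D s k.val

variable {D : ChevalleyDatum}

theorem corootVec_reflect (h : reflCorootOK D = true) (i : ℕ) (hi : i < D.rank) (s : ℕ)
    (hs : s < D.nroots) : corootVec D (D.reflectRoot i s) = reflLin D i (corootVec D s) := by
  funext k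
  exact reflCorootOK_spec h i hi s hs k.val k.isLt

theorem corootVec_actW (h : reflCorootOK D = true)
    (hlt : ∀ i < D.rank, ∀ s < D.nroots, D.reflectRoot i s < D.nroots) :
    ∀ (w : List ℕ), (∀ i ∈ w, i < D.rank) → ∀ s < D.nroots,
      actW D w s < D.nroots ∧ corootVec D (actW D w s) = wordLin D w (corootVec D s)
  | [] => fun _ s hs => ⟨hs, rfl⟩
  | i :: w => fun hw s hs => by
    obtain ⟨h1, h2⟩ := corootVec_actW h hlt w (fun j hj => hw j (List.mem_cons_of_mem _ hj)) s hs
    have hi := hw i List.mem_cons_self
    refine ⟨hlt i hi _ h1, ?_⟩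
    show corootVec D (D.reflectRoot i (actW D w s)) = (reflLin D i) (wordLin D w (corootVec D s))
    rw [corootVec_reflect h i hi _ h1, h2]

theorem corootVec_eq_sum (hS : SimpleCorootOK D) (s : ℕ) :
    corootVec D s = ∑ j : Fin D.rank, corootZ D s j.val • corootVec D (D.simple j.val) := by
  funext k
  rw [Finset.sum_apply]
  simp only [Pi.smul_apply, smul_eq_mul, corootVec]
  rw [Finset.sum_eq_single k]
  · rw [(hS k).2 k, if_pos rfl, mul_one]
  · intro j _ hjk
    rw [(hS j).2 k, if_neg hjk, mul_zero]
  · intro h
    exact absurd (Finset.mem_univ _) h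

/-- A word that maps every fundamental root to a positive root maps every positive root to a positive root. -/
theorem actW_pos (h : reflCorootOK D = true) (hS : SimpleCorootOK D)
    (hlt : ∀ i < D.rank, ∀ s < D.nroots, D.reflectRoot i s < D.nroots)
    (hpn : ∀ r < D.nroots, D.IsPosRoot r ∨ D.IsNegRoot r)
    (hnz : ∀ r < D.nroots, ∃ k : Fin D.rank, corootZ D r k.val ≠ 0)
    (w : List ℕ) (hw : ∀ i ∈ w, i < D.rank)
    (hall : ∀ j < D.rank, D.IsPosRoot (actW D w (D.simple j)))
    (s : ℕ) (hs : D.IsPosRoot s) : D.IsPosRoot (actW D w s) := by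
  obtain ⟨h1, h2⟩ := corootVec_actW h hlt w hw s hs.1
  have key : ∀ k : Fin D.rank, 0 ≤ corootZ D (actW D w s) k.val := by
    intro k
    have e : corootVec D (actW D w s) k =
        ∑ j : Fin D.rank, corootZ D s j.val * corootZ D (actW D w (D.simple j.val)) k.val := by
      rw [h2, corootVec_eq_sum hS s, map_sum, Finset.sum_apply]
      refine Finset.sum_congr rfl fun j _ => ?_
      rw [map_smul, Pi.smul_apply, smul_eq_mul, ← (corootVec_actW h hlt w hw _ (hS j).1).2]
      rfl
    have e' : corootZ D (actW D w s) k.val = corootVec D (actW D w s) k := rfl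
    rw [e', e]
    apply Finset.sum_nonneg
    intro j _
    exact mul_nonneg (arr_getD_nonneg _ _ hs.2) (arr_getD_nonneg _ _ (hall j.val j.isLt).2)
  rcases hpn _ h1 with hp | hn
  · exact hp
  · exfalso
    obtain ⟨k, hk⟩ := hnz _ h1
    exact hk (le_antisymm (arr_getD_nonpos _ _ hn.2) (key k))

end Cfsg.Agent.Lib.helper23
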