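import Cfsg.Agent.Lib.helper23.ChevNF
import Cfsg.Agent.Lib.helper22.ChevBruhat
import Cfsg.Agent.Lib.helper22.ChevBNPair
import Cfsg.Agent.Lib.helper8.BNPairBruhat

set_option autoImplicit false

/-!
# The canonical form `g = b n u` of the elements of a Chevalley group

For `n ∈ N` let `U_n⁻` be generated by the root elements `x_r(t)`, `r` positive, with `n X_r n⁻¹ ≤ V`.  Every element
of `B n B` lies in `B n U_n⁻` (induction on the number of positive roots made negative by a word representing `n`),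
the coset `n H` is determined by the double coset (uniqueness in the Bruhat decomposition of a (B, N)-pair), and for
fixed `n` the factors are unique (`B ∩ V = 1`).
-/

namespace Cfsg.Agent.Lib.helper23

open Cfsg Cfsg.Lie Cfsg.Agent.Lib.helper22

/-- Conjugation by `a` maps `closure S` into the subgroup `K` if it maps `S` into `K`. -/
theorem conj_mem_of_closure {G : Type*} [Group G] (S : Set G) (K : Subgroup G) (a : G)
    (h : ∀ x ∈ S, a * x * a⁻¹ ∈ K) : ∀ y ∈ Subgroup.closure S, a * y * a⁻¹ ∈ K := by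
  intro y hy
  induction hy using Subgroup.closure_induction with
  | mem x hx => exact h x hx
  | one => simp
  | mul x y _ _ hx hy =>
    have : a * (x * y) * a⁻¹ = (a * x * a⁻¹) * (a * y * a⁻¹) := by group
    rw [this]
    exact K.mul_mem hx hy
  | inv x _ hx =>
    have : a * x⁻¹ * a⁻¹ = (a * x * a⁻¹)⁻¹ := by group
    rw [this]
    exact K.inv_mem hx

/-- The generating set of `U_n⁻`: the root elements `x_r(t)`, `r` positive, with `n X_r n⁻¹ ≤ V`. -/
def umSet (D : ChevalleyDatum) (F : Type*) [Field F] (n : GL D.Idx F) : Set (GL D.Idx F) :=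
  {x : GL D.Idx F | ∃ (r : ℕ) (t : F), D.IsPosRoot r ∧
    (D.rootSubgroup F r).map (MulAut.conj n).toMonoidHom ≤ D.negUnipotent F ∧
    (x : Matrix D.Idx D.Idx F) = D.x F r t}

/-- The number of positive roots made negative by the word `w`. -/
def nneg (D : ChevalleyDatum) (w : List ℕ) : ℕ :=
  ((Finset.range D.nroots).filter fun r => D.IsPosRoot r ∧ D.IsNegRoot (actW D w r)).card

theorem actW_append (D : ChevalleyDatum) (w w' : List ℕ) (s : ℕ) :
    actW D (w ++ w') s = actW D w (actW D w' s) := by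
  unfold actW
  rw [List.foldr_append]

section Comb

variable {D : ChevalleyDatum}

theorem actW_neg (hlt : ∀ i < D.rank, ∀ s < D.nroots, D.reflectRoot i s < D.nroots)
    (hwn : ∀ i s, i < D.rank → s < D.nroots → D.reflectRoot i (D.neg s) = D.neg (D.reflectRoot i s)) :
    ∀ (w : List ℕ), (∀ i ∈ w, i < D.rank) → ∀ s < D.nroots,
      actW D w s < D.nroots ∧ actW D w (D.neg s) = D.neg (actW D w s)
  | [] => fun _ s hs => ⟨hs, rfl⟩
  | i :: w => fun hw s hs => by
    obtain ⟨h1, h2⟩ := actW_neg hlt hwn w (fun j hj => hw j (List.mem_cons_of_mem _ hj)) s hs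
    have hi := hw i List.mem_cons_self
    refine ⟨hlt i hi _ h1, ?_⟩
    show D.reflectRoot i (actW D w (D.neg s)) = D.neg (D.reflectRoot i (actW D w s))
    rw [h2, hwn i _ hi h1]

theorem not_neg_neg
    (hpi : ∀ r < D.nroots, (D.IsPosRoot r ↔ D.nroots ≤ 2 * r) ∧ (D.IsNegRoot r ↔ 2 * r < D.nroots))
    (heven : D.nroots / 2 + D.nroots / 2 = D.nroots)
    (hnegrev : ∀ r < D.nroots, D.neg r + r + 1 = D.nroots) {x : ℕ}
    (h1 : D.IsNegRoot x) (h2 : D.IsNegRoot (D.neg x)) : False := by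
  have a := ((hpi _ h1.1).2).mp h1
  have b := ((hpi _ h2.1).2).mp h2
  have c := hnegrev _ h1.1
  omega

theorem reflectRoot_simple (D : ChevalleyDatum) (i : ℕ) : D.reflectRoot i (D.simple i) = D.neg (D.simple i) := by
  unfold ChevalleyDatum.reflectRoot
  simp

/-- If the word `w` makes the `i`-th fundamental root negative, then `w w_i` makes fewer positive roots negative
than `w`. -/
theorem nneg_lt
    (hpi : ∀ r < D.nroots, (D.IsPosRoot r ↔ D.nroots ≤ 2 * r) ∧ (D.IsNegRoot r ↔ 2 * r < D.nroots))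
    (heven : D.nroots / 2 + D.nroots / 2 = D.nroots)
    (hnegrev : ∀ r < D.nroots, D.neg r + r + 1 = D.nroots)
    (hinv : ∀ i < D.rank, ∀ s < D.nroots, D.reflectRoot i (D.reflectRoot i s) = s)
    (hwn : ∀ i s, i < D.rank → s < D.nroots → D.reflectRoot i (D.neg s) = D.neg (D.reflectRoot i s))
    (hup : ∀ i s, i < D.rank → D.nroots / 2 ≤ s → s < D.nroots → s ≠ D.simple i →
      D.nroots / 2 ≤ D.reflectRoot i s ∧ D.reflectRoot i s ≠ D.simple i)
    (hlt : ∀ i < D.rank, ∀ s < D.nroots, D.reflectRoot i s < D.nroots)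
    (hsimple : ∀ i < D.rank, D.IsPosRoot (D.simple i))
    (w : List ℕ) (hw : ∀ i ∈ w, i < D.rank) (i : ℕ) (hi : i < D.rank)
    (hneg : D.IsNegRoot (actW D w (D.simple i))) : nneg D (w ++ [i]) < nneg D w := by
  unfold nneg
  have hpA : D.simple i ∈ (Finset.range D.nroots).filter
      (fun r => D.IsPosRoot r ∧ D.IsNegRoot (actW D w r)) := by
    rw [Finset.mem_filter, Finset.mem_range]
    exact ⟨(hsimple i hi).1, hsimple i hi, hneg⟩
  have hsub : ((Finset.range D.nroots).filter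
      (fun r => D.IsPosRoot r ∧ D.IsNegRoot (actW D (w ++ [i]) r))).image (D.reflectRoot i) ⊆
      ((Finset.range D.nroots).filter (fun r => D.IsPosRoot r ∧ D.IsNegRoot (actW D w r))).erase
        (D.simple i) := by
    intro x hx
    rw [Finset.mem_image] at hx
    obtain ⟨r, hr, rfl⟩ := hx
    rw [Finset.mem_filter, Finset.mem_range] at hr
    obtain ⟨hr1, hr2, hr3⟩ := hr
    rw [actW_append] at hr3
    have hr3' : D.IsNegRoot (actW D w (D.reflectRoot i r)) := hr3
    have hne : r ≠ D.simple i := by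
      intro hrs
      rw [hrs, reflectRoot_simple, (actW_neg hlt hwn w hw _ (hsimple i hi).1).2] at hr3'
      exact not_neg_neg hpi heven hnegrev hneg hr3'
    have hr2' := ((hpi r hr1).1).mp hr2
    obtain ⟨h5, h6⟩ := hup i r hi (by omega) hr1 hne
    have h7 := hlt i hi r hr1
    rw [Finset.mem_erase, Finset.mem_filter, Finset.mem_range]
    exact ⟨h6, h7, ((hpi _ h7).1).mpr (by omega), hr3'⟩
  have hinj : Set.InjOn (D.reflectRoot i) (((Finset.range D.nroots).filter
      (fun r => D.IsPosRoot r ∧ D.IsNegRoot (actW D (w ++ [i]) r)) : Finset ℕ) : Set ℕ) := by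
    intro a ha b hb hab
    rw [Finset.mem_coe, Finset.mem_filter, Finset.mem_range] at ha hb
    have h := congrArg (D.reflectRoot i) hab
    rwa [hinv i hi a ha.1, hinv i hi b hb.1] at h
  calc ((Finset.range D.nroots).filter
        (fun r => D.IsPosRoot r ∧ D.IsNegRoot (actW D (w ++ [i]) r))).card
      = (((Finset.range D.nroots).filter
        (fun r => D.IsPosRoot r ∧ D.IsNegRoot (actW D (w ++ [i]) r))).image (D.reflectRoot i)).card :=
        (Finset.card_image_of_injOn hinj).symm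
    _ ≤ (((Finset.range D.nroots).filter (fun r => D.IsPosRoot r ∧ D.IsNegRoot (actW D w r))).erase
        (D.simple i)).card := Finset.card_le_card hsub
    _ < _ := Finset.card_erase_lt_of_mem hpA

end Comb

section Group

variable {D : ChevalleyDatum} {F : Type*} [Field F]

/-- If `n` acts on the root elements through `π` and `π r` is negative, then `n X_r n⁻¹ ≤ V`. -/
theorem map_conj_le_neg {n : GL D.Idx F} {π : ℕ → ℕ} {c : ℕ → F}
    (h : RootAct D F (n : Matrix D.Idx D.Idx F) π c) {r : ℕ} (hr : r < D.nroots)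
    (hneg : D.IsNegRoot (π r)) :
    (D.rootSubgroup F r).map (MulAut.conj n).toMonoidHom ≤ D.negUnipotent F := by
  unfold ChevalleyDatum.rootSubgroup
  rw [MonoidHom.map_closure, Subgroup.closure_le]
  rintro _ ⟨g, ⟨t, hg⟩, rfl⟩
  obtain ⟨-, -, h3⟩ := h r hr
  apply Subgroup.subset_closure
  refine ⟨π r, c r * t, hneg, ?_⟩
  show ((n * g * n⁻¹ : GL D.Idx F) : Matrix D.Idx D.Idx F) = _
  rw [Units.val_mul, Units.val_mul, hg, h3, mul_assoc, ← Units.val_mul, mul_inv_cancel, Units.val_one,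
    mul_one]

/-- If `n` acts on the root elements through `π` and `n X_r n⁻¹ ≤ V`, then `π r` is not positive. -/
theorem not_pos_of_map_le {n : GL D.Idx F} {π : ℕ → ℕ} {c : ℕ → F}
    (hSD : ∀ r : Fin D.nroots, Nonempty (StringData D r))
    (hBV : D.borelSubgroup F ⊓ D.negUnipotent F = ⊥)
    (hx1 : ∀ r < D.nroots, D.x F r (1 : F) ≠ 1)
    (h : RootAct D F (n : Matrix D.Idx D.Idx F) π c) {r : ℕ} (hr : r < D.nroots)
    (hle : (D.rootSubgroup F r).map (MulAut.conj n).toMonoidHom ≤ D.negUnipotent F) :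
    ¬ D.IsPosRoot (π r) := by
  intro hpos
  obtain ⟨g, hg⟩ := exists_x (F := F) hSD r hr 1
  obtain ⟨-, -, h3⟩ := h r hr
  have hgX : g ∈ D.rootSubgroup F r := Subgroup.subset_closure ⟨1, hg⟩
  have hV : n * g * n⁻¹ ∈ D.negUnipotent F := hle ⟨g, hgX, rfl⟩
  have hval : ((n * g * n⁻¹ : GL D.Idx F) : Matrix D.Idx D.Idx F) = D.x F (π r) (c r * 1) := by
    rw [Units.val_mul, Units.val_mul, hg, h3, mul_assoc, ← Units.val_mul, mul_inv_cancel, Units.val_one,
      mul_one]
  have hU : n * g * n⁻¹ ∈ D.posUnipotent F := Subgroup.subset_closure ⟨π r, c r * 1, hpos, hval⟩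
  have h1 : n * g * n⁻¹ ∈ D.borelSubgroup F ⊓ D.negUnipotent F := ⟨Subgroup.mem_sup_left hU, hV⟩
  rw [hBV, Subgroup.mem_bot] at h1
  have hg1 : g = 1 := by
    have e : g = n⁻¹ * (n * g * n⁻¹) * n := by group
    rw [e, h1]
    group
  apply hx1 r hr
  rw [← hg, hg1, Units.val_one]

/-- The inverse of `n_p` is `h n_p` with `h ∈ H`. -/
theorem simple_inv_eq {η : ℕ → ℕ → ℤ} (I : BNInput D F η) {i : ℕ} (hi : i < D.rank) {x : GL D.Idx F}
    (hx : (x : Matrix D.Idx D.Idx F) = D.nMat F (D.simple i) 1) :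
    ∃ h ∈ D.diagonalSubgroup F, x⁻¹ = h * x := by
  obtain ⟨Si⟩ := I.hSD' ⟨D.simple i, (I.hS ⟨i, hi⟩).1⟩
  have hx' : x = sl2Hom Si (sl2n 1 one_ne_zero) :=
    Units.ext (hx.trans (sl2Hom_sl2n Si 1 one_ne_zero).symm)
  refine ⟨sl2Hom Si (sl2h (-1) (neg_ne_zero.mpr one_ne_zero)), ?_, ?_⟩
  · unfold ChevalleyDatum.diagonalSubgroup
    exact Subgroup.subset_closure ⟨D.simple i, _, (I.hS ⟨i, hi⟩).1, neg_ne_zero.mpr one_ne_zero,
      sl2Hom_sl2h Si _ _⟩
  · rw [hx', ← map_inv, sl2n_inv, sl2n_eq_sl2h_mul_sl2n, map_mul]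

/-- The inverse of `n_p` acts on the root elements through the reflection `w_p`. -/
theorem rootAct_simple_inv {η : ℕ → ℕ → ℤ} (I : BNInput D F η) {i : ℕ} (hi : i < D.rank)
    {x : GL D.Idx F} (hx : (x : Matrix D.Idx D.Idx F) = D.nMat F (D.simple i) 1) :
    ∃ c : ℕ → F, RootAct D F ((x⁻¹ : GL D.Idx F) : Matrix D.Idx D.Idx F) (D.reflectRoot i) c := by
  obtain ⟨h, hh, e⟩ := simple_inv_eq I hi hx
  obtain ⟨c, hc⟩ := rootAct_torus I.hSD (diagonalSubgroup_le_torus I.hSD' hh)
  have h1 := hc.mul (rootAct_simple I.R i hi)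
  rw [e, Units.val_mul, hx]
  exact ⟨_, h1⟩

/-- Every element of `N` acts on the root elements through a word in the fundamental reflections. -/
theorem wordAct_of_mem_monomial {η : ℕ → ℕ → ℤ} (I : BNInput D F η) {n : GL D.Idx F}
    (hn : n ∈ D.monomialSubgroup F) :
    ∃ w : List ℕ, (∀ i ∈ w, i < D.rank) ∧
      ∃ c : ℕ → F, RootAct D F (n : Matrix D.Idx D.Idx F) (actW D w) c := by
  have hHT : D.diagonalSubgroup F ≤ torus D F := diagonalSubgroup_le_torus I.hSD'
  have h1 := monomial_le_simple I hn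
  have h2 : Subgroup.closure (simpleNSet D F) ⊔ D.diagonalSubgroup F =
      Subgroup.closure (simpleNSet D F ∪ (D.diagonalSubgroup F : Set (GL D.Idx F))) := by
    rw [Subgroup.closure_union, Subgroup.closure_eq]
  rw [h2] at h1
  clear hn
  induction h1 using Subgroup.closure_induction'' with
  | mem x hx =>
    rcases hx with ⟨i, hi, hx⟩ | hx
    · refine ⟨[i], ?_, _, hx ▸ rootAct_simple I.R i hi⟩
      intro j hj
      rw [List.mem_singleton] at hj
      rw [hj]
      exact hi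
    · obtain ⟨c, hc⟩ := rootAct_torus I.hSD (hHT hx)
      exact ⟨[], by simp, c, hc⟩
  | inv_mem x hx =>
    rcases hx with ⟨i, hi, hx⟩ | hx
    · obtain ⟨c, hc⟩ := rootAct_simple_inv I hi hx
      refine ⟨[i], ?_, c, hc⟩
      intro j hj
      rw [List.mem_singleton] at hj
      rw [hj]
      exact hi
    · obtain ⟨c, hc⟩ := rootAct_torus I.hSD (hHT (inv_mem hx))
      exact ⟨[], by simp, c, hc⟩
  | one =>
    rw [Units.val_one]
    exact ⟨[], by simp, _, rootAct_one⟩
  | mul x y _ _ hx hy =>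
    obtain ⟨w, hw, c, h⟩ := hx
    obtain ⟨w', hw', c', h'⟩ := hy
    rw [Units.val_mul]
    refine ⟨w ++ w', ?_, fun s => c (actW D w' s) * c' s, ?_⟩
    · intro i hi
      rcases List.mem_append.mp hi with h3 | h3
      · exact hw i h3
      · exact hw' i h3
    · have e : actW D (w ++ w') = fun s => actW D w (actW D w' s) :=
        funext fun s => actW_append D w w' s
      rw [e]
      exact h.mul h'

/-- `n u ∈ B n U_n⁻` for `n ∈ N` acting through the word `w` and `u ∈ U`: induction on the number of positive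
roots made negative by `w`. -/
theorem nf_core {η : ℕ → ℕ → ℤ} (I : BNInput D F η)
    (hpi : ∀ r < D.nroots, (D.IsPosRoot r ↔ D.nroots ≤ 2 * r) ∧ (D.IsNegRoot r ↔ 2 * r < D.nroots))
    (hinv : ∀ i < D.rank, ∀ s < D.nroots, D.reflectRoot i (D.reflectRoot i s) = s)
    (hA : ∀ (w : List ℕ), (∀ i ∈ w, i < D.rank) →
      (∀ j < D.rank, D.IsPosRoot (actW D w (D.simple j))) → ∀ s, D.IsPosRoot s → D.IsPosRoot (actW D w s))
    (hBV : D.borelSubgroup F ⊓ D.negUnipotent F = ⊥)
    (hx1 : ∀ r < D.nroots, D.x F r (1 : F) ≠ 1) :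
    ∀ (k : ℕ) (w : List ℕ), (∀ i ∈ w, i < D.rank) → nneg D w = k →
    ∀ n : GL D.Idx F, n ∈ D.monomialSubgroup F →
      (∃ c : ℕ → F, RootAct D F (n : Matrix D.Idx D.Idx F) (actW D w) c) →
      ∀ u ∈ D.posUnipotent F, ∃ b ∈ D.borelSubgroup F, ∃ u' ∈ Subgroup.closure (umSet D F n),
        n * u = b * n * u' := by
  have hlt : ∀ i < D.rank, ∀ s < D.nroots, D.reflectRoot i s < D.nroots := by
    intro i hi s hs
    obtain ⟨-, hw, -, -⟩ := I.R.refl i s hi hs
    exact hw
  have hsimple : ∀ i < D.rank, D.IsPosRoot (D.simple i) := by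
    intro i hi
    have h1 := I.hNorm
    unfold simpleNormOK at h1
    rw [List.all_eq_true] at h1
    have h2 := h1 i (List.mem_range.mpr hi)
    rw [Bool.and_eq_true, decide_eq_true_eq] at h2
    exact h2.1
  have heven := I.hU.even
  intro k
  induction k using Nat.strong_induction_on with
  | _ k ih =>
    intro w hw hk n hn hcex u hu
    obtain ⟨c, hc⟩ := hcex
    by_cases hex : ∃ j, j < D.rank ∧ D.IsNegRoot (actW D w (D.simple j))
    · obtain ⟨i, hi, hneg⟩ := hex
      have hp : D.simple i < D.nroots := (I.hS ⟨i, hi⟩).1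
      obtain ⟨S⟩ := I.hSD' ⟨D.simple i, hp⟩
      obtain ⟨ni, hnidef⟩ : ∃ ni : GL D.Idx F, ni = sl2Hom S (sl2n 1 one_ne_zero) := ⟨_, rfl⟩
      have hni : (ni : Matrix D.Idx D.Idx F) = D.nMat F (D.simple i) 1 := by
        rw [hnidef]
        exact sl2Hom_sl2n S 1 one_ne_zero
      have hniN : ni ∈ D.monomialSubgroup F := simpleNSet_subset I ⟨i, hi, hni⟩
      obtain ⟨ci, hci⟩ := rootAct_simple_inv I hi hni
      have hn' : n * ni⁻¹ ∈ D.monomialSubgroup F := mul_mem hn (inv_mem hniN)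
      have hc' : RootAct D F ((n * ni⁻¹ : GL D.Idx F) : Matrix D.Idx D.Idx F) (actW D (w ++ [i]))
          (fun s => c (D.reflectRoot i s) * ci s) := by
        have h1 := hc.mul hci
        rw [Units.val_mul]
        have e : actW D (w ++ [i]) = fun s => actW D w (D.reflectRoot i s) :=
          funext fun s => actW_append D w [i] s
        rw [e]
        exact h1
      have hw' : ∀ j ∈ w ++ [i], j < D.rank := by
        intro j hj
        rcases List.mem_append.mp hj with h3 | h3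
        · exact hw j h3
        · rw [List.mem_singleton] at h3
          rw [h3]
          exact hi
      have hlt' := nneg_lt hpi I.hU.even I.hU.negrev hinv I.R.w_neg I.R.w_up hlt hsimple w hw i hi hneg
      rw [hk] at hlt'
      -- `u = u₁⁻¹ x_p(-t)` with `u₁ ∈ U_p`
      obtain ⟨t, u₁, hu₁, hdec⟩ := posUnipotent_decomp I hi S (inv_mem hu)
      have hu_eq : u = u₁⁻¹ * sl2Hom S (sl2u (-t)) := by
        rw [sl2u_neg, map_inv, ← mul_inv_rev, ← hdec, inv_inv]
      have hu₂ : ni * u₁⁻¹ * ni⁻¹ ∈ Subgroup.closure (upSet D F (D.simple i)) :=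
        simple_conj_up I hi hni _ (inv_mem hu₁)
      have hUpU : Subgroup.closure (upSet D F (D.simple i)) ≤ D.posUnipotent F := by
        obtain ⟨-, hsup⟩ := up_normal I.hSD' I.hU I.hNorm I.hcomm (F := F) i hi
        rw [← hsup]
        exact le_sup_left
      obtain ⟨b, hb, u₃, hu₃, e3⟩ := ih _ hlt' (w ++ [i]) hw' rfl (n * ni⁻¹) hn' ⟨_, hc'⟩ _ (hUpU hu₂)
      refine ⟨b, hb, ni⁻¹ * u₃ * ni * sl2Hom S (sl2u (-t)), ?_, ?_⟩
      · apply mul_mem
        · have hconj := conj_mem_of_closure (umSet D F (n * ni⁻¹)) (Subgroup.closure (umSet D F n)) ni⁻¹ ?_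
              u₃ hu₃
          · rwa [inv_inv] at hconj
          · rintro x ⟨r, t', hr, hle, hxv⟩
            rw [inv_inv]
            have h1 := not_pos_of_map_le I.hSD' hBV hx1 hc' hr.1 hle
            have hlt1 : actW D (w ++ [i]) r < D.nroots := (hc' r hr.1).1
            have hneg1 : D.IsNegRoot (actW D (w ++ [i]) r) := by
              have a := hpi _ hlt1
              rw [a.1] at h1
              rw [a.2]
              omega
            rw [actW_append] at hneg1
            have hneg1' : D.IsNegRoot (actW D w (D.reflectRoot i r)) := hneg1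
            have hne : r ≠ D.simple i := by
              intro hrs
              rw [hrs, reflectRoot_simple, (actW_neg hlt I.R.w_neg w hw _ hp).2] at hneg1'
              exact not_neg_neg hpi I.hU.even I.hU.negrev hneg hneg1'
            have hr2 := ((hpi r hr.1).1).mp hr
            obtain ⟨h5, h6⟩ := I.R.w_up i r hi (by omega) hr.1 hne
            have h7 := hlt i hi r hr.1
            obtain ⟨-, -, h8⟩ := hci r hr.1
            apply Subgroup.subset_closure
            refine ⟨D.reflectRoot i r, ci r * t', ((hpi _ h7).1).mpr (by omega),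
              map_conj_le_neg hc h7 hneg1', ?_⟩
            rw [Units.val_mul, Units.val_mul, hxv, h8, mul_assoc, ← Units.val_mul, inv_mul_cancel,
              Units.val_one, mul_one]
        · apply Subgroup.subset_closure
          exact ⟨D.simple i, -t, hsimple i hi, map_conj_le_neg hc hp hneg, sl2Hom_sl2u S (-t)⟩
      · rw [hu_eq]
        have e4 : n * (u₁⁻¹ * sl2Hom S (sl2u (-t))) =
            (n * ni⁻¹ * (ni * u₁⁻¹ * ni⁻¹)) * ni * sl2Hom S (sl2u (-t)) := by group
        rw [e4, e3]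
        group
    · have hallpos : ∀ j < D.rank, D.IsPosRoot (actW D w (D.simple j)) := by
        intro j hj
        have hlt1 : actW D w (D.simple j) < D.nroots := (hc _ (I.hS ⟨j, hj⟩).1).1
        have a := hpi _ hlt1
        by_contra hnp
        exact hex ⟨j, hj, a.2.mpr (by rw [a.1] at hnp; omega)⟩
      have hU : ∀ y ∈ D.posUnipotent F, n * y * n⁻¹ ∈ D.posUnipotent F := by
        apply conj_mem_of_closure
        rintro x ⟨r, t, hr, hx⟩
        obtain ⟨-, -, h3⟩ := hc r hr.1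
        apply Subgroup.subset_closure
        refine ⟨actW D w r, c r * t, hA w hw hallpos r hr, ?_⟩
        rw [Units.val_mul, Units.val_mul, hx, h3, mul_assoc, ← Units.val_mul, mul_inv_cancel,
          Units.val_one, mul_one]
      refine ⟨n * u * n⁻¹, Subgroup.mem_sup_left (hU u hu), 1, one_mem _, ?_⟩
      group

/-- Existence of the canonical form. -/
theorem nf_exists {η : ℕ → ℕ → ℤ} (I : BNInput D F η)
    (hpi : ∀ r < D.nroots, (D.IsPosRoot r ↔ D.nroots ≤ 2 * r) ∧ (D.IsNegRoot r ↔ 2 * r < D.nroots))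
    (hinv : ∀ i < D.rank, ∀ s < D.nroots, D.reflectRoot i (D.reflectRoot i s) = s)
    (hA : ∀ (w : List ℕ), (∀ i ∈ w, i < D.rank) →
      (∀ j < D.rank, D.IsPosRoot (actW D w (D.simple j))) → ∀ s, D.IsPosRoot s → D.IsPosRoot (actW D w s))
    (hBV : D.borelSubgroup F ⊓ D.negUnipotent F = ⊥)
    (hx1 : ∀ r < D.nroots, D.x F r (1 : F) ≠ 1)
    (hG : D.group F ≤ D.borelSubgroup F ⊔ D.monomialSubgroup F) {g : GL D.Idx F} (hg : g ∈ D.group F) :
    ∃ b ∈ D.borelSubgroup F, ∃ n ∈ D.monomialSubgroup F, ∃ u ∈ Subgroup.closure (umSet D F n),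
      g = b * n * u := by
  obtain ⟨b₁, hb₁, n, hn, b₂, hb₂, rfl⟩ := bruhat I hG hg
  obtain ⟨u, hu, h, hh, e⟩ := borel_decomp I (inv_mem hb₂)
  have e2 : b₂ = h⁻¹ * u⁻¹ := by
    rw [← mul_inv_rev, ← e, inv_inv]
  have hHN : D.diagonalSubgroup F ≤ D.monomialSubgroup F := le_sup_left
  have hnh : n * h⁻¹ ∈ D.monomialSubgroup F := mul_mem hn (hHN (inv_mem hh))
  obtain ⟨w, hw, c, hc⟩ := wordAct_of_mem_monomial I hnh
  obtain ⟨b, hb, u', hu', e3⟩ :=
    nf_core I hpi hinv hA hBV hx1 _ w hw rfl (n * h⁻¹) hnh ⟨c, hc⟩ u⁻¹ (inv_mem hu)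
  refine ⟨b₁ * b, mul_mem hb₁ hb, n * h⁻¹, hnh, u', hu', ?_⟩
  rw [e2]
  have e4 : b₁ * n * (h⁻¹ * u⁻¹) = b₁ * (n * h⁻¹ * u⁻¹) := by group
  rw [e4, e3]
  group

/-- Uniqueness of the canonical form. -/
theorem nf_unique {η : ℕ → ℕ → ℤ} (I : BNInput D F η)
    (hBG : D.borelSubgroup F ≤ D.group F) (hNG : D.monomialSubgroup F ≤ D.group F)
    (hG : D.group F ≤ D.borelSubgroup F ⊔ D.monomialSubgroup F)
    (hBV : D.borelSubgroup F ⊓ D.negUnipotent F = ⊥)
    {b b' n n' u u' : GL D.Idx F} (hb : b ∈ D.borelSubgroup F) (hb' : b' ∈ D.borelSubgroup F)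
    (hn : n ∈ D.monomialSubgroup F) (hn' : n' ∈ D.monomialSubgroup F)
    (hu : u ∈ Subgroup.closure (umSet D F n)) (hu' : u' ∈ Subgroup.closure (umSet D F n'))
    (e : b * n * u = b' * n' * u') :
    n⁻¹ * n' ∈ D.diagonalSubgroup F ∧ (n = n' → b = b' ∧ u = u') := by
  have hUm : ∀ m : GL D.Idx F, Subgroup.closure (umSet D F m) ≤ D.posUnipotent F := by
    intro m
    rw [Subgroup.closure_le]
    rintro x ⟨r, t, hr, -, hx⟩
    exact Subgroup.subset_closure ⟨r, t, hr, hx⟩
  have hUB : D.posUnipotent F ≤ D.borelSubgroup F := le_sup_left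
  constructor
  · obtain ⟨P, hPB, hPN, -⟩ := chev_bnPair I hBG hNG hG
    have hb1 : b'⁻¹ * b ∈ D.borelSubgroup F := Subgroup.mul_mem _ (Subgroup.inv_mem _ hb') hb
    have hb2' : u * u'⁻¹ ∈ D.posUnipotent F :=
      Subgroup.mul_mem _ (hUm n hu) (Subgroup.inv_mem _ (hUm n' hu'))
    have hb2 : u * u'⁻¹ ∈ D.borelSubgroup F := hUB hb2'
    have hmem : (⟨n', hNG hn'⟩ : ↥(D.group F)) ∈ Cfsg.Agent.Lib.helper8.dc P ⟨n, hNG hn⟩ := by
      rw [Cfsg.Agent.Lib.helper8.mem_dc_iff]
      refine ⟨⟨b'⁻¹ * b, hBG hb1⟩, ?_, ⟨u * u'⁻¹, hBG hb2⟩, ?_, ?_⟩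
      · rw [hPB, Subgroup.mem_subgroupOf]
        exact hb1
      · rw [hPB, Subgroup.mem_subgroupOf]
        exact hb2
      · apply Subtype.ext
        show n' = b'⁻¹ * b * n * (u * u'⁻¹)
        have e5 : b'⁻¹ * b * n * (u * u'⁻¹) = b'⁻¹ * (b * n * u) * u'⁻¹ := by group
        rw [e5, e]
        group
    have hR := Cfsg.Agent.Lib.helper8.bruhat_unique P
      (by rw [hPN, Subgroup.mem_subgroupOf]; exact hn')
      (by rw [hPN, Subgroup.mem_subgroupOf]; exact hn) hmem
    have h1 : n'⁻¹ * n ∈ D.borelSubgroup F := by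
      have h := hR.2.2
      rw [hPB, Subgroup.mem_subgroupOf] at h
      exact h
    have h2 : n⁻¹ * n' ∈ D.borelSubgroup F ⊓ D.monomialSubgroup F := by
      refine ⟨?_, Subgroup.mul_mem _ (Subgroup.inv_mem _ hn) hn'⟩
      have e6 : n⁻¹ * n' = (n'⁻¹ * n)⁻¹ := by group
      rw [e6]
      exact Subgroup.inv_mem _ h1
    rw [borelSubgroup_inf_monomialSubgroup I.hSD I.posOK] at h2
    exact h2
  · intro hnn
    subst hnn
    have hV : ∀ y ∈ Subgroup.closure (umSet D F n), n * y * n⁻¹ ∈ D.negUnipotent F := by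
      apply conj_mem_of_closure
      rintro x ⟨r, t, -, hle, hxv⟩
      exact hle ⟨x, Subgroup.subset_closure ⟨t, hxv⟩, rfl⟩
    have h1 : n * (u * u'⁻¹) * n⁻¹ ∈ D.negUnipotent F :=
      hV _ (Subgroup.mul_mem _ hu (Subgroup.inv_mem _ hu'))
    have h2 : n * (u * u'⁻¹) * n⁻¹ = b⁻¹ * b' := by
      have e' : n * u = b⁻¹ * (b' * n * u') := by
        rw [← e]
        group
      calc n * (u * u'⁻¹) * n⁻¹ = (n * u) * u'⁻¹ * n⁻¹ := by group
        _ = b⁻¹ * b' := by rw [e']; group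
    have h3 : b⁻¹ * b' ∈ D.borelSubgroup F ⊓ D.negUnipotent F :=
      ⟨Subgroup.mul_mem _ (Subgroup.inv_mem _ hb) hb', h2 ▸ h1⟩
    rw [hBV, Subgroup.mem_bot, inv_mul_eq_one] at h3
    subst h3
    exact ⟨rfl, mul_left_cancel e⟩

end Group

end Cfsg.Agent.Lib.helper23
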