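import Cfsg.Agent.Lib.helper23.ChevWordAll
import Cfsg.Agent.Lib.helper23.ChevMonoAll

set_option autoImplicit false

/-! Positive and negative roots of the seven tabulated data in terms of the root indices. -/

namespace Cfsg.Agent.Lib.helper23

open Cfsg.Lie Cfsg.Agent.Lib.helper22

/-- Positive roots are the upper half of the root indices, negative roots the lower half. -/
theorem posIff_all (D : ChevalleyDatum)
    (hD : D ∈ [chevG2, chevB2, chevD4, chevF4, chevE6, chevE7, chevE8]) : ∀ r < D.nroots,
    (D.IsPosRoot r ↔ D.nroots ≤ 2 * r) ∧ (D.IsNegRoot r ↔ 2 * r < D.nroots) := by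
  simp only [List.mem_cons, List.not_mem_nil, or_false] at hD
  rcases hD with rfl | rfl | rfl | rfl | rfl | rfl | rfl
  · exact posIffG2
  · exact posIffB2
  · exact posIffD4
  · exact posIffF4
  · exact posIffE6
  · exact posIffE7
  · exact posIffE8

theorem negIdx_eq_all (D : ChevalleyDatum)
    (hD : D ∈ [chevG2, chevB2, chevD4, chevF4, chevE6, chevE7, chevE8]) : ∀ s < D.nroots,
    D.negIdx.getD s 0 = D.nroots - 1 - s := by
  simp only [List.mem_cons, List.not_mem_nil, or_false] at hD
  rcases hD with rfl | rfl | rfl | rfl | rfl | rfl | rfl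
  · exact negRevG2
  · exact negRevB2
  · exact negRevD4
  · exact negRevF4
  · exact negRevE6
  · exact negRevE7
  · exact negRevE8

/-- The negative of a root has the mirrored index. -/
theorem neg_eq_all (D : ChevalleyDatum)
    (hD : D ∈ [chevG2, chevB2, chevD4, chevF4, chevE6, chevE7, chevE8]) (s : ℕ) (hs : s < D.nroots) :
    D.neg s = D.nroots - 1 - s :=
  negIdx_eq_all D hD s hs

/-- Every root is positive or negative. -/
theorem pos_or_neg_all (D : ChevalleyDatum)
    (hD : D ∈ [chevG2, chevB2, chevD4, chevF4, chevE6, chevE7, chevE8]) (r : ℕ) (hr : r < D.nroots) :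
    D.IsPosRoot r ∨ D.IsNegRoot r := by
  obtain ⟨h1, h2⟩ := posIff_all D hD r hr
  by_cases h : D.nroots ≤ 2 * r
  · exact Or.inl (h1.mpr h)
  · exact Or.inr (h2.mpr (by omega))

/-- The negative of a positive root is a negative root. -/
theorem neg_isNegRoot_all (D : ChevalleyDatum)
    (hD : D ∈ [chevG2, chevB2, chevD4, chevF4, chevE6, chevE7, chevE8]) (r : ℕ) (hr : D.IsPosRoot r) :
    D.IsNegRoot (D.neg r) := by
  have h1 := ((posIff_all D hD r hr.1).1).mp hr
  have h2 := neg_eq_all D hD r hr.1
  have h3 : D.neg r < D.nroots := by have := hr.1; omega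
  exact ((posIff_all D hD _ h3).2).mpr (by have := hr.1; omega)

end Cfsg.Agent.Lib.helper23
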