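import Cfsg.Agent.Lib.helper23.ChevSimpleFinal
import Cfsg.Agent.Lib.helper23.ChevPosIff
import Cfsg.Agent.Lib.helper8.BNPairExchange
import Cfsg.Agent.S1048

set_option autoImplicit false

/-!
# `N_G(U_J) = P_J`

The normaliser of `U_J` in the Chevalley group contains `B`, hence is a standard parabolic subgroup of the
(B, N)-pair; a fundamental `n_p` normalising `U_J` has `p ∈ Φ_J`, since otherwise `X_{-p} = n_p X_p n_p⁻¹ ≤ U_J ≤ U`.
-/

namespace Cfsg.Agent.Lib.helper23

open Cfsg Cfsg.Lie Cfsg.Agent.Lib.helper22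

theorem normalizer_radical {F : Type*} [Field F] (D : ChevalleyDatum)
    (hD : D ∈ [chevG2, chevB2, chevD4, chevF4, chevE6, chevE7, chevE8]) (J : Set ℕ) :
    Subgroup.normalizer (D.unipotentRadical F J : Set (GL D.Idx F)) ⊓ D.group F =
      D.parabolicSubgroup F J := by
  obtain ⟨hBG, hNG, -⟩ := Cfsg.Agent.S1043.result (F := F) D hD
  have h48 := (Cfsg.Agent.S1048.result (F := F) D hD J).1
  have hS := simpleCorootOK D hD
  have hSD : ∀ r : Fin D.nroots, Nonempty (StringData D r) :=
    fun r => (exists_stringData D hD r).elim fun S _ => ⟨S⟩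
  have hBP : D.borelSubgroup F ≤ D.parabolicSubgroup F J := le_sup_left
  have hPG : D.parabolicSubgroup F J ≤ D.group F := by
    unfold ChevalleyDatum.parabolicSubgroup
    refine sup_le hBG ?_
    rw [Subgroup.closure_le]
    rintro g ⟨j, -, hjr, hg⟩
    apply hNG
    exact Subgroup.mem_sup_right (Subgroup.subset_closure ⟨D.simple j, (hS ⟨j, hjr⟩).1, hg⟩)
  have hUJU : D.unipotentRadical F J ≤ D.posUnipotent F := by
    unfold ChevalleyDatum.unipotentRadical
    rw [Subgroup.closure_le]
    rintro x ⟨r, t, hr, -, hx⟩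
    exact Subgroup.subset_closure ⟨r, t, hr, hx⟩
  apply le_antisymm
  · obtain ⟨P, hPB, -, hPS⟩ := chev_bn_all (F := F) D hD
    obtain ⟨M, hM⟩ : ∃ M : Subgroup (GL D.Idx F),
        M = Subgroup.normalizer (D.unipotentRadical F J : Set (GL D.Idx F)) ⊓ D.group F := ⟨_, rfl⟩
    rw [← hM]
    have hBM : P.B ≤ M.subgroupOf (D.group F) := by
      rw [hPB]
      intro g hg
      rw [Subgroup.mem_subgroupOf] at hg ⊢
      rw [hM]
      exact ⟨h48 (hBP hg), g.2⟩
    have hpar := Cfsg.Agent.Lib.helper8.eq_parabolic_of_le P hBM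
    have hle : P.parabolic (P.S ∩ ((M.subgroupOf (D.group F) : Subgroup ↥(D.group F)) : Set ↥(D.group F))) ≤
        (D.parabolicSubgroup F J).subgroupOf (D.group F) := by
      unfold BNPair.parabolic
      refine sup_le ?_ ?_
      · rw [hPB]
        intro x hx
        rw [Subgroup.mem_subgroupOf] at hx ⊢
        exact hBP hx
      · rw [Subgroup.closure_le]
        rintro s ⟨hs1, hs2⟩
        rw [hPS] at hs1
        obtain ⟨i, hi, hsv⟩ := hs1
        have hs2' : (s : GL D.Idx F) ∈ M := Subgroup.mem_subgroupOf.mp hs2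
        rw [hM] at hs2'
        have hsN := hs2'.1
        have hp : D.simple i < D.nroots := (hS ⟨i, hi⟩).1
        have hiJ : i ∈ J := by
          by_contra hiJ
          obtain ⟨η, I⟩ := bnInput_all D hD F
          have hpos : D.IsPosRoot (D.simple i) := by
            have h1 := I.hNorm
            unfold simpleNormOK at h1
            rw [List.all_eq_true] at h1
            have h2 := h1 i (List.mem_range.mpr hi)
            rw [Bool.and_eq_true, decide_eq_true_eq] at h2
            exact h2.1
          have hnJ : ¬ D.InRootSub J (D.simple i) := by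
            intro h
            have h1 := h.2 i hi hiJ
            have h2 := (hS ⟨i, hi⟩).2 ⟨i, hi⟩
            rw [if_pos rfl] at h2
            have h3 : corootZ D (D.simple i) i = (D.coroot.getD (D.simple i) #[]).getD i 0 := rfl
            rw [h3, h1] at h2
            exact zero_ne_one h2
          obtain ⟨g0, hg0⟩ := exists_x (F := F) hSD (D.simple i) hp 1
          have hg0U : g0 ∈ D.unipotentRadical F J :=
            Subgroup.subset_closure ⟨D.simple i, 1, hpos, hnJ, hg0⟩
          have hy := (Subgroup.mem_normalizer_iff.mp hsN g0).mp hg0U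
          obtain ⟨ε, hε, hconj⟩ := chev_conj_all (F := F) D hD i hi (D.simple i) hp
          have hval : (((s : GL D.Idx F) * g0 * (s : GL D.Idx F)⁻¹ : GL D.Idx F) : Matrix D.Idx D.Idx F) =
              D.x F (D.neg (D.simple i)) ((ε : F) * 1) := by
            rw [Units.val_mul, Units.val_mul, hsv, hg0, hconj, reflectRoot_self i rfl, mul_assoc, ← hsv,
              ← Units.val_mul, mul_inv_cancel, Units.val_one, mul_one]
            rfl
          have hnegr := neg_isNegRoot_all D hD _ hpos
          have hV : (s : GL D.Idx F) * g0 * (s : GL D.Idx F)⁻¹ ∈ D.negUnipotent F :=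
            Subgroup.subset_closure ⟨_, _, hnegr, hval⟩
          have h1 : (s : GL D.Idx F) * g0 * (s : GL D.Idx F)⁻¹ ∈ D.borelSubgroup F ⊓ D.negUnipotent F :=
            ⟨Subgroup.mem_sup_left (hUJU hy), hV⟩
          rw [(Cfsg.Agent.S1037.result D hD).1, Subgroup.mem_bot] at h1
          rw [h1, Units.val_one] at hval
          have h2 := (Cfsg.Agent.S1024.result D hD _ hnegr.1 _).mp hval.symm
          rcases hε with rfl | rfl
          · simp at h2
          · simp at h2
        rw [SetLike.mem_coe, Subgroup.mem_subgroupOf]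
        exact Subgroup.mem_sup_right (Subgroup.subset_closure ⟨i, hiJ, hi, hsv⟩)
    intro g hg
    have hgG : g ∈ D.group F := by
      rw [hM] at hg
      exact hg.2
    have h1 : (⟨g, hgG⟩ : ↥(D.group F)) ∈ M.subgroupOf (D.group F) := Subgroup.mem_subgroupOf.mpr hg
    rw [hpar] at h1
    exact Subgroup.mem_subgroupOf.mp (hle h1)
  · exact le_inf h48 hPG

end Cfsg.Agent.Lib.helper23
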