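import Cfsg.Agent.Lib.helper22.ChevN

set_option autoImplicit false

/-!
# The standard parabolic subgroups are generated by `H` and root subgroups

`P_J = ⟨H, X_r : r ∈ Φ⁺ ∪ Φ_J⟩`, from the conjugation rule `n_p x_s(t) n_p⁻¹ = x_{w_p s}(± t)` and two table
conditions (`descAll`, `simpleNegOK`) that are decided for each datum.
-/

namespace Cfsg.Agent.Lib.helper23

open Cfsg.Lie Cfsg.Agent.Lib.helper22

/-- Minus the sum of the coroot coefficients of the root `r`, as a natural number. -/
def negCoht (D : ChevalleyDatum) (r : ℕ) : ℕ := (-((D.coroot.getD r #[]).toList.sum)).toNat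

/-- A fundamental root in the support of `r` whose reflection raises `r`. -/
def descIdx (D : ChevalleyDatum) (r : ℕ) : ℕ :=
  ((List.range D.rank).find? fun j =>
    decide ((D.coroot.getD r #[]).getD j 0 ≠ 0) && decide (D.cartan j r < 0)).getD 0

/-- The table condition for the root `r`: it is positive, or the reflection `descIdx` moves it to a root with the
same coroot coefficients elsewhere that is positive or closer to the positive roots. -/
def descOK (D : ChevalleyDatum) (r : ℕ) : Bool :=
  decide (D.IsPosRoot r) ||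
    (decide (descIdx D r < D.rank) && decide ((D.coroot.getD r #[]).getD (descIdx D r) 0 ≠ 0) &&
      decide (D.reflectRoot (descIdx D r) r < D.nroots) &&
      ((List.range D.rank).all fun i => decide (i = descIdx D r) ||
        decide ((D.coroot.getD (D.reflectRoot (descIdx D r) r) #[]).getD i 0 = (D.coroot.getD r #[]).getD i 0)) &&
      (decide (D.IsPosRoot (D.reflectRoot (descIdx D r) r)) ||
        decide (negCoht D (D.reflectRoot (descIdx D r) r) < negCoht D r)))

def descAll (D : ChevalleyDatum) : Bool := (List.range D.nroots).all (descOK D)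

/-- The table condition on the fundamental roots: `p_j` is positive, and `-p_j` is a root whose coroot is supported
on `j`. -/
def simpleNegOK (D : ChevalleyDatum) : Bool :=
  (List.range D.rank).all fun j =>
    decide (D.IsPosRoot (D.simple j)) && decide (D.neg (D.simple j) < D.nroots) &&
      (List.range D.rank).all fun i => decide (i = j) ||
        decide ((D.coroot.getD (D.neg (D.simple j)) #[]).getD i 0 = 0)

theorem descAll_spec {D : ChevalleyDatum} (h : descAll D = true) (r : ℕ) (hr : r < D.nroots) :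
    D.IsPosRoot r ∨
      (descIdx D r < D.rank ∧ (D.coroot.getD r #[]).getD (descIdx D r) 0 ≠ 0 ∧
        D.reflectRoot (descIdx D r) r < D.nroots ∧
        (∀ i < D.rank, i ≠ descIdx D r →
          (D.coroot.getD (D.reflectRoot (descIdx D r) r) #[]).getD i 0 = (D.coroot.getD r #[]).getD i 0) ∧
        (D.IsPosRoot (D.reflectRoot (descIdx D r) r) ∨
          negCoht D (D.reflectRoot (descIdx D r) r) < negCoht D r)) := by
  unfold descAll at h
  rw [List.all_eq_true] at h
  have h1 := h r (List.mem_range.mpr hr)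
  unfold descOK at h1
  rw [Bool.or_eq_true, decide_eq_true_eq] at h1
  rcases h1 with h1 | h1
  · exact Or.inl h1
  · right
    simp only [Bool.and_eq_true, Bool.or_eq_true, decide_eq_true_eq, List.all_eq_true, List.mem_range] at h1
    obtain ⟨⟨⟨⟨h1, h2⟩, h3⟩, h4⟩, h5⟩ := h1
    refine ⟨h1, h2, h3, ?_, h5⟩
    intro i hi hij
    rcases h4 i hi with h | h
    · exact absurd h hij
    · exact h

theorem simpleNegOK_spec {D : ChevalleyDatum} (h : simpleNegOK D = true) (j : ℕ) (hj : j < D.rank) :
    D.IsPosRoot (D.simple j) ∧ D.neg (D.simple j) < D.nroots ∧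
      ∀ i < D.rank, i ≠ j → (D.coroot.getD (D.neg (D.simple j)) #[]).getD i 0 = 0 := by
  unfold simpleNegOK at h
  rw [List.all_eq_true] at h
  have h1 := h j (List.mem_range.mpr hj)
  simp only [Bool.and_eq_true, Bool.or_eq_true, decide_eq_true_eq, List.all_eq_true, List.mem_range] at h1
  obtain ⟨⟨h1, h2⟩, h3⟩ := h1
  refine ⟨h1, h2, ?_⟩
  intro i hi hij
  rcases h3 i hi with h | h
  · exact absurd h hij
  · exact h

theorem sl2n_one_eq {F : Type*} [Field F] :
    sl2n (1 : F) one_ne_zero = sl2u 1 * sl2l (-1) * sl2u 1 := by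
  apply Subtype.ext
  show !![0, 1; -(1 : F)⁻¹, 0] = !![1, 1; 0, 1] * !![1, 0; -1, 1] * !![1, 1; 0, 1]
  ext i j
  fin_cases i <;> fin_cases j <;> simp [Matrix.mul_apply, Fin.sum_univ_two]

theorem parabolic_eq_of_checks {F : Type*} [Field F] (D : ChevalleyDatum)
    (hSD : ∀ r : Fin D.nroots, Nonempty (StringData D r))
    (hdesc : descAll D = true) (hsn : simpleNegOK D = true)
    (hconj : ∀ i < D.rank, ∀ s < D.nroots, ∃ η : ℤ, (η = 1 ∨ η = -1) ∧ ∀ t : F,
      D.nMat F (D.simple i) 1 * D.x F s t =
        D.x F (D.reflectRoot i s) ((η : F) * t) * D.nMat F (D.simple i) 1)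
    (J : Set ℕ) :
    D.parabolicSubgroup F J = D.diagonalSubgroup F ⊔
      Subgroup.closure {g : GL D.Idx F | ∃ (r : ℕ) (t : F), (D.IsPosRoot r ∨ D.InRootSub J r) ∧
        (g : Matrix D.Idx D.Idx F) = D.x F r t} := by
  apply le_antisymm
  · -- `P_J ≤ ⟨H, X_r⟩`
    unfold ChevalleyDatum.parabolicSubgroup ChevalleyDatum.borelSubgroup
    refine sup_le (sup_le ?_ le_sup_left) ?_
    · refine le_trans ?_ le_sup_right
      unfold ChevalleyDatum.posUnipotent
      apply Subgroup.closure_mono
      rintro g ⟨r, t, hr, hg⟩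
      exact ⟨r, t, Or.inl hr, hg⟩
    · refine le_trans ?_ le_sup_right
      rw [Subgroup.closure_le]
      rintro g ⟨j, hjJ, hj, hg⟩
      obtain ⟨hpos, hnlt, hcor⟩ := simpleNegOK_spec hsn j hj
      obtain ⟨S⟩ := hSD ⟨D.simple j, hpos.1⟩
      have hgS : g = sl2Hom S (sl2u 1) * sl2Hom S (sl2l (-1)) * sl2Hom S (sl2u 1) := by
        rw [← map_mul, ← map_mul, ← sl2n_one_eq]
        apply Units.ext
        rw [hg, sl2Hom_sl2n S 1 one_ne_zero]
      rw [hgS]
      have hu : sl2Hom S (sl2u (1 : F)) ∈ Subgroup.closure {g : GL D.Idx F | ∃ (r : ℕ) (t : F),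
          (D.IsPosRoot r ∨ D.InRootSub J r) ∧ (g : Matrix D.Idx D.Idx F) = D.x F r t} :=
        Subgroup.subset_closure ⟨D.simple j, 1, Or.inl hpos, sl2Hom_sl2u S 1⟩
      have hl : sl2Hom S (sl2l (-1 : F)) ∈ Subgroup.closure {g : GL D.Idx F | ∃ (r : ℕ) (t : F),
          (D.IsPosRoot r ∨ D.InRootSub J r) ∧ (g : Matrix D.Idx D.Idx F) = D.x F r t} := by
        refine Subgroup.subset_closure ⟨D.neg (D.simple j), -1, Or.inr ⟨hnlt, ?_⟩, sl2Hom_sl2l S (-1)⟩
        intro i hi hiJ
        exact hcor i hi (fun h => hiJ (h ▸ hjJ))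
      exact Subgroup.mul_mem _ (Subgroup.mul_mem _ hu hl) hu
  · -- `⟨H, X_r⟩ ≤ P_J`
    have hHP : D.diagonalSubgroup F ≤ D.parabolicSubgroup F J := by
      unfold ChevalleyDatum.parabolicSubgroup ChevalleyDatum.borelSubgroup
      exact le_trans le_sup_right le_sup_left
    have hUP : D.posUnipotent F ≤ D.parabolicSubgroup F J := by
      unfold ChevalleyDatum.parabolicSubgroup ChevalleyDatum.borelSubgroup
      exact le_trans le_sup_left le_sup_left
    have key : ∀ n : ℕ, ∀ r < D.nroots, negCoht D r < n → D.InRootSub J r → ∀ (t : F) (g : GL D.Idx F),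
        (g : Matrix D.Idx D.Idx F) = D.x F r t → g ∈ D.parabolicSubgroup F J := by
      intro n
      induction n with
      | zero => intro r _ h; omega
      | succ n ih =>
        intro r hr hn hJ t g hg
        rcases descAll_spec hdesc r hr with hpos | ⟨hj, hne, hlt, hcor, hstep⟩
        · exact hUP (Subgroup.subset_closure ⟨r, t, hpos, hg⟩)
        · have hjJ : descIdx D r ∈ J := by
            by_contra hcon
            exact hne (hJ.2 _ hj hcon)
          have hJ' : D.InRootSub J (D.reflectRoot (descIdx D r) r) := by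
            refine ⟨hlt, ?_⟩
            intro i hi hiJ
            rw [hcor i hi (fun h => hiJ (h ▸ hjJ))]
            exact hJ.2 i hi hiJ
          obtain ⟨η, -, hη⟩ := hconj _ hj r hr
          obtain ⟨hpos, -, -⟩ := simpleNegOK_spec hsn _ hj
          obtain ⟨S⟩ := hSD ⟨D.simple (descIdx D r), hpos.1⟩
          obtain ⟨S'⟩ := hSD ⟨D.reflectRoot (descIdx D r) r, hlt⟩
          have hnP : sl2Hom S (sl2n (1 : F) one_ne_zero) ∈ D.parabolicSubgroup F J := by
            unfold ChevalleyDatum.parabolicSubgroup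
            exact Subgroup.mem_sup_right (Subgroup.subset_closure
              ⟨descIdx D r, hjJ, hj, sl2Hom_sl2n S 1 one_ne_zero⟩)
          have hg' : ((sl2Hom S' (sl2u ((η : F) * t)) : GL D.Idx F) : Matrix D.Idx D.Idx F) =
              D.x F (D.reflectRoot (descIdx D r) r) ((η : F) * t) := sl2Hom_sl2u S' _
          have hg'P : sl2Hom S' (sl2u ((η : F) * t)) ∈ D.parabolicSubgroup F J := by
            rcases hstep with hp | hlt'
            · exact hUP (Subgroup.subset_closure ⟨_, _, hp, hg'⟩)
            · exact ih _ hlt (by omega) hJ' _ _ hg'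
          have heq : sl2Hom S (sl2n (1 : F) one_ne_zero) * g =
              sl2Hom S' (sl2u ((η : F) * t)) * sl2Hom S (sl2n (1 : F) one_ne_zero) := by
            apply Units.ext
            rw [Units.val_mul, Units.val_mul, hg, hg', sl2Hom_sl2n S 1 one_ne_zero]
            exact hη t
          have hgeq : g = (sl2Hom S (sl2n (1 : F) one_ne_zero))⁻¹ *
              (sl2Hom S' (sl2u ((η : F) * t)) * sl2Hom S (sl2n (1 : F) one_ne_zero)) := by
            rw [← heq, inv_mul_cancel_left]
          rw [hgeq]
          exact Subgroup.mul_mem _ (Subgroup.inv_mem _ hnP) (Subgroup.mul_mem _ hg'P hnP)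
    refine sup_le hHP ?_
    rw [Subgroup.closure_le]
    rintro g ⟨r, t, hr, hg⟩
    rcases hr with hpos | hJ
    · exact hUP (Subgroup.subset_closure ⟨r, t, hpos, hg⟩)
    · exact key (negCoht D r + 1) r hJ.1 (Nat.lt_succ_self _) hJ t g hg

end Cfsg.Agent.Lib.helper23
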