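import Cfsg.Agent.Lib.helper23.ChevPerfect
import Cfsg.Agent.Lib.helper23.ChevStringAll
import Cfsg.Agent.Lib.helper23.ChevChunk
import Cfsg.Agent.Lib.helper23.ChevConjAll
import Cfsg.Agent.Lib.helper41.ChevCommG2
import Cfsg.Agent.Lib.helper41.ChevCommB2
import Cfsg.Agent.Lib.helper41.ChevCommD4
import Cfsg.Agent.Lib.helper41.ChevCommF4
import Cfsg.Agent.Lib.helper41.ChevCommE6
import Cfsg.Agent.Lib.helper41.ChevCommE7
import Cfsg.Agent.Lib.helper41.ChevCommE8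

set_option autoImplicit false
set_option maxRecDepth 100000

/-! Perfectness of the Chevalley groups of the seven tabulated data.

* `G₂` (more than two field elements): torus arguments only.
* `B₂` (more than two field elements): torus arguments, and for the long roots a pair of short roots `(r, s)` with
  commutator formula `x_q(± 2 t u)`.
* `F₄`: for every root `q` a pair `(r, s)` with commutator formula `x_q(± t u)`.
* `D₄`, `E₆`, `E₇`, `E₈`: one pair `(p_0, s0)` with commutator formula `x_{q0}(± t u)`, and for every other root a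
  chain of fundamental reflections leading to `q0` (the derived subgroup is normal).

The commutator identities are helper41's `TabX.comm_base`. -/

namespace Cfsg.Agent.Lib.helper23

open Cfsg.Lie Cfsg.Agent.Lib.helper22

def perfPairsB2 : List (ℕ × ℕ) :=
  [(1, 2), (0, 0), (0, 0), (1, 5), (2, 6), (0, 0), (0, 0), (5, 6)]

def perfPairsF4 : List (ℕ × ℕ) :=
  [(1, 23), (0, 24), (0, 26), (7, 14), (0, 31), (0, 32), (1, 32), (3, 33), (3, 34), (3, 35), (3, 36),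
   (3, 37), (3, 38), (3, 39), (3, 40), (0, 42), (0, 43), (1, 43), (7, 37), (7, 38), (7, 39), (0, 45),
   (1, 45), (0, 46), (1, 47), (2, 46), (2, 47), (8, 40), (9, 40), (10, 40), (4, 46), (4, 47), (5, 47),
   (7, 44), (8, 44), (9, 44), (10, 44), (11, 44), (12, 44), (13, 44), (14, 44), (15, 46), (15, 47), (16, 47),
   (33, 40), (21, 47), (23, 47), (24, 46)]

def perfStpD4 : List ℕ :=
  [1, 0, 0, 0, 0, 1, 0, 3, 2, 2, 1, 1, 3, 2, 1, 1, 1, 2, 0, 0, 0, 0, 0, 1]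

def perfLevD4 : List ℕ :=
  [2, 1, 2, 2, 3, 4, 0, 1, 1, 2, 2, 2, 3, 3, 3, 4, 4, 5, 5, 4, 5, 5, 6, 7]

def perfStpE6 : List ℕ :=
  [1, 3, 2, 2, 2, 0, 0, 0, 0, 0, 0, 0, 0, 0, 0, 2, 0, 4, 5, 3, 3, 4, 2, 2, 2, 3, 1, 1, 1, 3, 1, 1, 1, 3, 3,
   4, 5, 4, 4, 3, 3, 3, 2, 2, 2, 2, 1, 1, 1, 1, 1, 1, 1, 3, 3, 4, 0, 0, 0, 0, 0, 0, 0, 0, 0, 0, 0, 2, 2, 2,
   3, 1]

def perfLevE6 : List ℕ :=
  [4, 3, 2, 3, 4, 1, 2, 3, 3, 4, 5, 4, 5, 6, 7, 8, 0, 1, 2, 2, 3, 4, 3, 4, 5, 6, 3, 4, 5, 6, 4, 5, 6, 5, 6,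
   6, 7, 7, 8, 7, 8, 9, 7, 8, 9, 10, 7, 8, 9, 10, 9, 10, 11, 11, 12, 13, 9, 8, 9, 10, 11, 10, 11, 12, 12, 13,
   14, 13, 14, 15, 16, 17]

def perfStpE7 : List ℕ :=
  [0, 0, 2, 3, 4, 5, 6, 1, 1, 1, 1, 3, 3, 3, 4, 4, 5, 2, 2, 2, 2, 2, 2, 3, 3, 3, 4, 1, 1, 1, 1, 3, 2, 0, 0,
   0, 0, 0, 0, 0, 0, 0, 0, 2, 2, 2, 2, 3, 0, 0, 0, 0, 0, 1, 1, 1, 1, 3, 3, 3, 4, 4, 5, 6, 5, 5, 4, 4, 4, 3,
   3, 3, 3, 2, 2, 2, 2, 2, 1, 1, 1, 1, 1, 1, 1, 1, 1, 3, 3, 3, 4, 4, 5, 0, 0, 0, 0, 0, 0, 0, 0, 0, 0, 0, 0,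
   0, 0, 0, 0, 2, 2, 2, 2, 2, 2, 3, 3, 3, 4, 1, 1, 1, 1, 3, 2, 0]

def perfLevE7 : List ℕ :=
  [1, 0, 1, 2, 3, 4, 5, 3, 4, 5, 6, 5, 6, 7, 7, 8, 9, 6, 7, 8, 8, 9, 10, 9, 10, 11, 12, 10, 11, 12, 13, 14,
   15, 7, 8, 9, 9, 10, 11, 10, 11, 12, 13, 11, 12, 13, 14, 15, 11, 12, 13, 14, 15, 12, 13, 14, 15, 13, 14,
   15, 14, 15, 15, 16, 16, 17, 16, 17, 18, 16, 17, 18, 19, 16, 17, 18, 19, 20, 16, 17, 18, 19, 20, 18, 19,
   20, 21, 20, 21, 22, 22, 23, 24, 16, 17, 18, 19, 20, 21, 19, 20, 21, 22, 21, 22, 23, 23, 24, 25, 22, 23,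
   24, 24, 25, 26, 25, 26, 27, 28, 26, 27, 28, 29, 30, 31, 32]

def perfStpE8 : List ℕ :=
  [7, 6, 5, 4, 3, 2, 0, 1, 0, 0, 0, 0, 0, 0, 0, 1, 3, 4, 5, 6, 7, 2, 2, 2, 2, 2, 3, 3, 3, 3, 4, 4, 4, 5, 5,
   6, 1, 1, 1, 1, 1, 1, 1, 1, 1, 1, 3, 3, 3, 3, 3, 3, 4, 4, 4, 5, 2, 2, 2, 2, 2, 2, 2, 2, 2, 2, 3, 3, 3, 3,
   4, 1, 1, 1, 1, 1, 3, 2, 0, 0, 0, 0, 0, 0, 0, 0, 0, 0, 0, 0, 0, 0, 0, 2, 2, 2, 2, 2, 3, 0, 0, 0, 0, 0, 0,
   1, 1, 1, 1, 1, 3, 3, 3, 3, 4, 4, 4, 5, 5, 6, 7, 6, 6, 5, 5, 5, 4, 4, 4, 4, 3, 3, 3, 3, 3, 2, 2, 2, 2, 2,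
   2, 1, 1, 1, 1, 1, 1, 1, 1, 1, 1, 1, 3, 3, 3, 3, 4, 4, 4, 5, 5, 6, 0, 0, 0, 0, 0, 0, 0, 0, 0, 0, 0, 0, 0,
   0, 0, 0, 0, 0, 0, 0, 0, 0, 2, 2, 2, 2, 2, 2, 2, 2, 2, 2, 3, 3, 3, 3, 3, 3, 4, 4, 4, 5, 1, 1, 1, 1, 1, 1,
   1, 1, 1, 1, 3, 3, 3, 3, 4, 2, 2, 2, 2, 2, 3, 1, 0, 0, 0, 0, 0, 0, 2, 0, 1, 3, 4, 5, 6, 7]

def perfLevE8 : List ℕ :=
  [7, 6, 5, 4, 3, 2, 1, 3, 2, 3, 4, 5, 6, 7, 0, 1, 2, 3, 4, 5, 6, 3, 4, 5, 6, 7, 5, 6, 7, 8, 7, 8, 9, 9, 10,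
   11, 6, 7, 8, 9, 8, 9, 10, 10, 11, 12, 9, 10, 11, 11, 12, 13, 12, 13, 14, 15, 10, 11, 12, 12, 13, 14, 13,
   14, 15, 16, 14, 15, 16, 17, 18, 15, 16, 17, 18, 19, 20, 21, 11, 12, 13, 13, 14, 15, 14, 15, 16, 17, 15,
   16, 17, 18, 19, 16, 17, 18, 19, 20, 21, 16, 17, 18, 19, 20, 21, 17, 18, 19, 20, 21, 18, 19, 20, 21, 19,
   20, 21, 20, 21, 21, 22, 22, 23, 22, 23, 24, 22, 23, 24, 25, 22, 23, 24, 25, 26, 22, 23, 24, 25, 26, 27,
   22, 23, 24, 25, 26, 27, 24, 25, 26, 27, 28, 26, 27, 28, 29, 28, 29, 30, 30, 31, 32, 22, 23, 24, 25, 26,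
   27, 28, 25, 26, 27, 28, 29, 27, 28, 29, 30, 29, 30, 31, 31, 32, 33, 28, 29, 30, 31, 30, 31, 32, 32, 33,
   34, 31, 32, 33, 33, 34, 35, 34, 35, 36, 37, 32, 33, 34, 34, 35, 36, 35, 36, 37, 38, 36, 37, 38, 39, 40,
   37, 38, 39, 40, 41, 42, 43, 38, 39, 40, 41, 42, 43, 44, 44, 45, 46, 47, 48, 49, 50]

theorem perfOK3_G2 : perfOK3 chevG2 [] = true := by decide +kernel

theorem perfOK3_B2 : perfOK3 chevB2 perfPairsB2 = true := by decide +kernel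

theorem perfOK_F4 : perfOK chevF4 perfPairsF4 = true := by decide +kernel

theorem perfBase_D4 : baseOK chevD4 1 6 = true := by decide +kernel

theorem perfOrb_D4 : orbOK chevD4 6 perfStpD4 perfLevD4 = true := by decide +kernel

theorem perfBase_E6 : baseOK chevE6 5 16 = true := by decide +kernel

theorem perfOrb_E6 : orbOK chevE6 16 perfStpE6 perfLevE6 = true := by decide +kernel

theorem perfBase_E7 : baseOK chevE7 0 1 = true := by decide +kernel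

theorem perfOrb_E7 : orbOK chevE7 1 perfStpE7 perfLevE7 = true := by decide +kernel

theorem perfBase_E8 : baseOK chevE8 6 14 = true := by decide +kernel

/-- The step of the table condition `orbOK`. -/
def perfOrbStep (D : ChevalleyDatum) (q0 : ℕ) (stp lev : List ℕ) (q : ℕ) : Bool :=
  decide (q = q0) ||
    (decide (stp.getD q 0 < D.rank) && decide (D.reflectRoot (stp.getD q 0) q < D.nroots) &&
      decide (lev.getD (D.reflectRoot (stp.getD q 0) q) 0 < lev.getD q 0))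

theorem perfOrb_E8_0 : (List.range' 0 60).all (perfOrbStep chevE8 14 perfStpE8 perfLevE8) = true := by
  decide +kernel

theorem perfOrb_E8_1 : (List.range' 60 60).all (perfOrbStep chevE8 14 perfStpE8 perfLevE8) = true := by
  decide +kernel

theorem perfOrb_E8_2 : (List.range' (2 * 60) 60).all (perfOrbStep chevE8 14 perfStpE8 perfLevE8) = true := by
  decide +kernel

theorem perfOrb_E8_3 : (List.range' (3 * 60) 60).all (perfOrbStep chevE8 14 perfStpE8 perfLevE8) = true := by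
  decide +kernel

theorem perfOrb_E8 : orbOK chevE8 14 perfStpE8 perfLevE8 = true :=
  range_all_of_four (perfOrbStep chevE8 14 perfStpE8 perfLevE8) chevE8.nroots 60 (by norm_num) (by decide)
    perfOrb_E8_0 perfOrb_E8_1 perfOrb_E8_2 perfOrb_E8_3

/-- `G = G'` for the seven data over every field, except `G₂` and `B₂` over the field with two elements. -/
theorem chev_perfect {F : Type*} [Field F] (D : ChevalleyDatum)
    (hD : D ∈ [chevG2, chevB2, chevD4, chevF4, chevE6, chevE7, chevE8])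
    (h2 : D = chevG2 ∨ D = chevB2 → ∃ a : F, a ≠ 0 ∧ a ≠ 1) :
    commutator ↥(D.group F) = ⊤ := by
  have hSD := exists_stringData D hD
  have hSD' : ∀ r : Fin D.nroots, Nonempty (StringData D r) := fun r => (hSD r).elim fun S _ => ⟨S⟩
  have hS := simpleCorootOK D hD
  have hconj := fun i hi s hs => chev_conj_all (F := F) D hD i hi s hs
  simp only [List.mem_cons, List.not_mem_nil, or_false] at hD
  rcases hD with rfl | rfl | rfl | rfl | rfl | rfl | rfl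
  · exact perfect_of_perfOK3 hSD hS [] perfOK3_G2 (h2 (Or.inl rfl))
      (fun r s hr hs hsr hsn t => Cfsg.Agent.Lib.helper41.TabG2.comm_base r s hr hs hsr hsn t)
  · exact perfect_of_perfOK3 hSD hS perfPairsB2 perfOK3_B2 (h2 (Or.inr rfl))
      (fun r s hr hs hsr hsn t => Cfsg.Agent.Lib.helper41.TabB2.comm_base r s hr hs hsr hsn t)
  · exact perfect_of_orbit hSD' hS _ _ _ _ perfBase_D4 perfOrb_D4 hconj
      (fun s hs hsr hsn t => Cfsg.Agent.Lib.helper41.TabD4.comm_base _ s (hS ⟨0, by decide⟩).1 hs hsr hsn rfl t)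
  · exact perfect_of_perfOK hSD' perfPairsF4 perfOK_F4
      (fun r s hr hs hsr hsn t => Cfsg.Agent.Lib.helper41.TabF4.comm_base r s hr hs hsr hsn t)
  · exact perfect_of_orbit hSD' hS _ _ _ _ perfBase_E6 perfOrb_E6 hconj
      (fun s hs hsr hsn t => Cfsg.Agent.Lib.helper41.TabE6.comm_base _ s (hS ⟨0, by decide⟩).1 hs hsr hsn rfl t)
  · exact perfect_of_orbit hSD' hS _ _ _ _ perfBase_E7 perfOrb_E7 hconj
      (fun s hs hsr hsn t => Cfsg.Agent.Lib.helper41.TabE7.comm_base _ s (hS ⟨0, by decide⟩).1 hs hsr hsn rfl t)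
  · exact perfect_of_orbit hSD' hS _ _ _ _ perfBase_E8 perfOrb_E8 hconj
      (fun s hs hsr hsn t => Cfsg.Agent.Lib.helper41.TabE8.comm_base _ s (hS ⟨0, by decide⟩).1 hs hsr hsn rfl t)

end Cfsg.Agent.Lib.helper23
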