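import Cfsg.Agent.Lib.helper23.ChevIsogAll
import Cfsg.Prelude.Def_LieTwisted

set_option autoImplicit false

/-!
# The twisting automorphism of `G₂` in characteristic 3

`σ = (exceptional isogeny) ∘ (field automorphism t ↦ t ^ e)`, with `x_s(t) ↦ x_{ρ s}((t ^ e) ^ λ_s)`, is an
involution when `t ^ (3 e²) = t`; it preserves `U`, `V`, `H`, `N`, `B`.
-/

namespace Cfsg.Agent.Lib.helper23

open Cfsg.Lie Cfsg.Agent.Lib.helper41 Cfsg.Agent.Lib.helper22

/-- The image of a root element under the automorphism induced by a field isomorphism. -/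
theorem groupEquiv_x {F K : Type*} [Field F] [Field K] (D : ChevalleyDatum) (e : F ≃+* K)
    (g : ↥(D.group F)) (s : ℕ) (hs : s < D.nroots) (t : F)
    (hg : ((g : GL D.Idx F) : Matrix D.Idx D.Idx F) = D.x F s t) :
    ((groupEquivOfRingEquiv D e g : GL D.Idx K) : Matrix D.Idx D.Idx K) = D.x K s (e t) := by
  have h1 : ((groupEquivOfRingEquiv D e g : GL D.Idx K) : Matrix D.Idx D.Idx K) =
      ((g : GL D.Idx F) : Matrix D.Idx D.Idx F).map (e : F →+* K) := glMapEquiv_val D e g.1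
  rw [h1, hg, x_eq D F ⟨s, hs⟩, xMat_map_hom, x_eq D K ⟨s, hs⟩]
  rfl

/-- Two homomorphisms from a Chevalley group agreeing on the root elements are equal. -/
theorem chev_hom_ext {F : Type*} [Field F] (D : ChevalleyDatum) {M : Type*} [Group M]
    (f g : ↥(D.group F) →* M)
    (h : ∀ x : ↥(D.group F), (∃ (r : Fin D.nroots) (t : F),
      ((x : GL D.Idx F) : Matrix D.Idx D.Idx F) = D.xMat F r t) → f x = g x) : f = g := by
  apply MonoidHom.ext
  rintro ⟨x, hx⟩
  unfold ChevalleyDatum.group at hx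
  induction hx using Subgroup.closure_induction with
  | mem y hy => exact h _ hy
  | one =>
    have : (⟨1, Subgroup.one_mem _⟩ : ↥(D.group F)) = 1 := rfl
    rw [this, map_one, map_one]
  | mul a b ha hb iha ihb =>
    have : (⟨a * b, Subgroup.mul_mem _ ha hb⟩ : ↥(D.group F)) = ⟨a, ha⟩ * ⟨b, hb⟩ := rfl
    rw [this, map_mul, map_mul, iha, ihb]
  | inv a ha iha =>
    have : (⟨a⁻¹, Subgroup.inv_mem _ ha⟩ : ↥(D.group F)) = (⟨a, ha⟩ : ↥(D.group F))⁻¹ := rfl
    rw [this, map_inv, map_inv, iha]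

/-- The data of the twisting automorphism of `G₂(K)`, `θ = (· ^ e)`. -/
structure ReeData (K : Type*) [Field K] (e : ℕ) where
  char3 : CharP K 3
  hadd : ∀ x y : K, (x + y) ^ e = x ^ e + y ^ e
  hodd : Odd e
  hφ : ∀ x : K, ((x ^ e) ^ e) ^ 3 = x
  σ : ↥(chevG2.group K) ≃* ↥(chevG2.group K)
  hσ : ∀ (g : ↥(chevG2.group K)) (s : ℕ) (t : K), s < 12 →
    ((g : GL chevG2.Idx K) : Matrix chevG2.Idx chevG2.Idx K) = chevG2.x K s t →
    ((σ g : GL chevG2.Idx K) : Matrix chevG2.Idx chevG2.Idx K) =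
      chevG2.x K (isoRtG2.getD s 0) ((t ^ e) ^ isoLmG2.getD s 1)

theorem exists_reeData {K : Type*} [Field K] [Fintype K] {m : ℕ}
    (hK : Fintype.card K = 3 ^ (2 * m + 1)) : Nonempty (ReeData K (3 ^ m)) := by
  obtain ⟨p, hp⟩ := CharP.exists K
  haveI := hp
  haveI hpp : Fact p.Prime := ⟨CharP.char_is_prime K p⟩
  obtain ⟨n, -, hn⟩ := FiniteField.card K p
  have h3 : p = 3 := by
    have h1 : p ∣ 3 ^ (2 * m + 1) := by
      rw [← hK, hn]
      exact dvd_pow_self p n.ne_zero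
    exact (Nat.prime_dvd_prime_iff_eq hpp.out Nat.prime_three).mp (hpp.out.dvd_of_dvd_pow h1)
  subst h3
  have hφ : ∀ x : K, ((x ^ 3 ^ m) ^ 3 ^ m) ^ 3 = x := by
    intro x
    rw [← pow_mul, ← pow_mul]
    have : 3 ^ m * (3 ^ m * 3) = 3 ^ (2 * m + 1) := by ring
    rw [this, ← hK, FiniteField.pow_card]
  have hadd : ∀ x y : K, (x + y) ^ 3 ^ m = x ^ 3 ^ m + y ^ 3 ^ m := fun x y => add_pow_char_pow ..
  have hperf : ∀ x : K, ∃ y : K, y ^ 3 = x := fun x => ⟨(x ^ 3 ^ m) ^ 3 ^ m, hφ x⟩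
  obtain ⟨α, -, hα⟩ := isog_aut_G2 hperf
  let ψ₀ : K →+* K :=
    { toFun := fun x => x ^ 3 ^ m
      map_one' := one_pow _
      map_mul' := fun x y => mul_pow x y _
      map_zero' := zero_pow (by positivity)
      map_add' := hadd }
  have hinj : Function.Injective ψ₀ := ψ₀.injective
  let ψ : K ≃+* K := RingEquiv.ofBijective ψ₀ ⟨hinj, Finite.surjective_of_injective hinj⟩
  have hψ : ∀ x : K, ψ x = x ^ 3 ^ m := fun x => rfl
  refine ⟨⟨hp, hadd, Odd.pow (by decide), hφ, (groupEquivOfRingEquiv chevG2 ψ).trans α, ?_⟩⟩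
  intro g s t hs hg
  have h1 := groupEquiv_x chevG2 ψ g s hs t hg
  rw [hψ] at h1
  exact hα _ s _ hs h1

section Words

variable {K : Type*} [Field K]

/-- The action of the twisting automorphism on words. -/
def sgWord (e : ℕ) (w : List (ℕ × K)) : List (ℕ × K) :=
  w.map fun p => (isoRtG2.getD p.1 0, (p.2 ^ e) ^ isoLmG2.getD p.1 1)

theorem stringData_G2 (r : Fin chevG2.nroots) : Nonempty (StringData chevG2 r) :=
  (exists_stringData chevG2 (by simp) r).elim fun S _ => ⟨S⟩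

/-- A word in root elements as an element of the general linear group. -/
theorem exists_word (w : List (ℕ × K)) :
    ∃ g : GL chevG2.Idx K, (g : Matrix chevG2.Idx chevG2.Idx K) = chevG2.wordMat K w := by
  induction w with
  | nil => exact ⟨1, by rw [wordMat_nil, Units.val_one]⟩
  | cons p w ih =>
    obtain ⟨g, hg⟩ := ih
    by_cases hp : p.1 < chevG2.nroots
    · obtain ⟨x, hx⟩ := exists_x (F := K) stringData_G2 p.1 hp p.2
      exact ⟨x * g, by rw [Units.val_mul, hx, hg, wordMat_cons]⟩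
    · refine ⟨g, ?_⟩
      rw [wordMat_cons, hg]
      unfold ChevalleyDatum.x
      rw [dif_neg hp, one_mul]

end Words

section Sigma

variable {K : Type*} [Field K] {e : ℕ} (R : ReeData K e)

include R

/-- The twisting automorphism as a map of the general linear group (trivial outside `G₂(K)`). -/
noncomputable def ReeData.sg (g : GL chevG2.Idx K) : GL chevG2.Idx K :=
  open Classical in if hg : g ∈ chevG2.group K then (R.σ ⟨g, hg⟩ : GL chevG2.Idx K) else 1

theorem ReeData.sg_of_mem {g : GL chevG2.Idx K} (hg : g ∈ chevG2.group K) :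
    R.sg g = (R.σ ⟨g, hg⟩ : GL chevG2.Idx K) := by
  unfold ReeData.sg
  exact dif_pos hg

theorem ReeData.sg_mem (g : GL chevG2.Idx K) : R.sg g ∈ chevG2.group K := by
  by_cases hg : g ∈ chevG2.group K
  · rw [R.sg_of_mem hg]
    exact (R.σ ⟨g, hg⟩).2
  · unfold ReeData.sg
    rw [dif_neg hg]
    exact one_mem _

theorem ReeData.sg_one : R.sg 1 = 1 := by
  rw [R.sg_of_mem (one_mem _)]
  have : (⟨1, one_mem _⟩ : ↥(chevG2.group K)) = 1 := rfl
  rw [this, map_one]
  rfl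

theorem ReeData.sg_mul {g h : GL chevG2.Idx K} (hg : g ∈ chevG2.group K) (hh : h ∈ chevG2.group K) :
    R.sg (g * h) = R.sg g * R.sg h := by
  rw [R.sg_of_mem (mul_mem hg hh), R.sg_of_mem hg, R.sg_of_mem hh]
  have : (⟨g * h, mul_mem hg hh⟩ : ↥(chevG2.group K)) = ⟨g, hg⟩ * ⟨h, hh⟩ := rfl
  rw [this, map_mul]
  rfl

theorem ReeData.sg_inv {g : GL chevG2.Idx K} (hg : g ∈ chevG2.group K) : R.sg g⁻¹ = (R.sg g)⁻¹ := by
  rw [R.sg_of_mem (inv_mem hg), R.sg_of_mem hg]
  have : (⟨g⁻¹, inv_mem hg⟩ : ↥(chevG2.group K)) = (⟨g, hg⟩ : ↥(chevG2.group K))⁻¹ := rfl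
  rw [this, map_inv]
  rfl

theorem ReeData.sg_x {g : GL chevG2.Idx K} {s : ℕ} {t : K} (hs : s < 12)
    (hg : (g : Matrix chevG2.Idx chevG2.Idx K) = chevG2.x K s t) :
    g ∈ chevG2.group K ∧ ((R.sg g : GL chevG2.Idx K) : Matrix chevG2.Idx chevG2.Idx K) =
      chevG2.x K (isoRtG2.getD s 0) ((t ^ e) ^ isoLmG2.getD s 1) := by
  have hmem : g ∈ chevG2.group K :=
    Subgroup.subset_closure ⟨⟨s, hs⟩, t, by rw [hg, x_eq chevG2 K ⟨s, hs⟩]⟩
  refine ⟨hmem, ?_⟩
  rw [R.sg_of_mem hmem]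
  exact R.hσ ⟨g, hmem⟩ s t hs hg

theorem ReeData.sg_word (w : List (ℕ × K)) (hw : ∀ p ∈ w, p.1 < 12) :
    ∀ g : GL chevG2.Idx K, (g : Matrix chevG2.Idx chevG2.Idx K) = chevG2.wordMat K w →
      g ∈ chevG2.group K ∧ ((R.sg g : GL chevG2.Idx K) : Matrix chevG2.Idx chevG2.Idx K) =
        chevG2.wordMat K (sgWord e w) := by
  induction w with
  | nil =>
    intro g hg
    rw [wordMat_nil] at hg
    have : g = 1 := Units.ext hg
    subst this
    refine ⟨one_mem _, ?_⟩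
    rw [R.sg_one]
    show _ = chevG2.wordMat K []
    rw [wordMat_nil, Units.val_one]
  | cons p w ih =>
    intro g hg
    rw [wordMat_cons] at hg
    have hp : p.1 < 12 := hw p List.mem_cons_self
    obtain ⟨x, hx⟩ := exists_x (F := K) stringData_G2 p.1 hp p.2
    obtain ⟨hxG, hxs⟩ := R.sg_x hp hx
    have hg' : ((x⁻¹ * g : GL chevG2.Idx K) : Matrix chevG2.Idx chevG2.Idx K) = chevG2.wordMat K w := by
      rw [Units.val_mul, hg, ← mul_assoc, ← hx, gl_inv_mul_val, one_mul]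
    obtain ⟨h1, h2⟩ := ih (fun q hq => hw q (List.mem_cons_of_mem _ hq)) (x⁻¹ * g) hg'
    have hgG : g ∈ chevG2.group K := by
      have : g = x * (x⁻¹ * g) := by group
      rw [this]
      exact mul_mem hxG h1
    refine ⟨hgG, ?_⟩
    have e1 : g = x * (x⁻¹ * g) := by group
    rw [e1, R.sg_mul hxG h1, Units.val_mul, hxs, h2]
    show _ = chevG2.wordMat K ((isoRtG2.getD p.1 0, (p.2 ^ e) ^ isoLmG2.getD p.1 1) :: sgWord e w)
    rw [wordMat_cons]

theorem ReeData.pow_e_inj {x y : K} (h : x ^ e = y ^ e) : x = y := by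
  rw [← R.hφ x, ← R.hφ y, h]

theorem ReeData.e_ne_zero : e ≠ 0 := by
  rintro rfl
  exact absurd R.hodd (by decide)

theorem ReeData.neg_pow_e (x : K) : (-x) ^ e = -x ^ e := R.hodd.neg_pow x

theorem ReeData.sg_sg {g : GL chevG2.Idx K} (hg : g ∈ chevG2.group K) : R.sg (R.sg g) = g := by
  have key : (R.σ.toMonoidHom.comp R.σ.toMonoidHom) = MonoidHom.id _ := by
    apply chev_hom_ext
    rintro x ⟨r, t, hx⟩
    apply Subtype.ext
    apply Units.ext
    have hx' : ((x : GL chevG2.Idx K) : Matrix chevG2.Idx chevG2.Idx K) = chevG2.x K r.val t := by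
      rw [hx, x_eq chevG2 K r]
    have hr : r.val < 12 := r.isLt
    obtain ⟨e1, e2, -⟩ := isoInvG2 r.val r.isLt
    have hr' : isoRtG2.getD r.val 0 < 12 := by
      have : ∀ s, s < 12 → isoRtG2.getD s 0 < 12 := by decide
      exact this _ hr
    have h1 := R.hσ x r.val t hr hx'
    have h2 := R.hσ (R.σ x) _ _ hr' h1
    show ((R.σ (R.σ x) : GL chevG2.Idx K) : Matrix chevG2.Idx chevG2.Idx K) =
      ((x : GL chevG2.Idx K) : Matrix chevG2.Idx chevG2.Idx K)
    rw [h2, e1, hx']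
    congr 1
    have e3 : (((t ^ e) ^ isoLmG2.getD r.val 1) ^ e) ^ isoLmG2.getD (isoRtG2.getD r.val 0) 1 =
        ((t ^ e) ^ e) ^ (isoLmG2.getD r.val 1 * isoLmG2.getD (isoRtG2.getD r.val 0) 1) := by
      rw [← pow_mul, ← pow_mul, ← pow_mul, ← pow_mul, ← pow_mul]
      congr 1
      ring
    rw [e3, e2]
    exact R.hφ t
  rw [R.sg_of_mem hg, R.sg_of_mem (R.σ ⟨g, hg⟩).2]
  have := congrArg (fun f : ↥(chevG2.group K) →* ↥(chevG2.group K) => ((f ⟨g, hg⟩ : GL chevG2.Idx K))) key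
  exact this

/-- The subgroup of the fixed points of the twisting automorphism. -/
def ReeData.fix : Subgroup (GL chevG2.Idx K) where
  carrier := {g | g ∈ chevG2.group K ∧ R.sg g = g}
  mul_mem' := by
    rintro a b ⟨ha, ha'⟩ ⟨hb, hb'⟩
    exact ⟨mul_mem ha hb, by rw [R.sg_mul ha hb, ha', hb']⟩
  one_mem' := ⟨one_mem _, R.sg_one⟩
  inv_mem' := by
    rintro a ⟨ha, ha'⟩
    exact ⟨inv_mem ha, by rw [R.sg_inv ha, ha']⟩

theorem ReeData.mem_fix {g : GL chevG2.Idx K} : g ∈ R.fix ↔ g ∈ chevG2.group K ∧ R.sg g = g := Iff.rfl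

/-- The twisting automorphism maps a subgroup generated by a set into a subgroup containing the images of
the generators. -/
theorem ReeData.sg_closure (S : Set (GL chevG2.Idx K)) (T : Subgroup (GL chevG2.Idx K))
    (hS : ∀ x ∈ S, x ∈ chevG2.group K ∧ R.sg x ∈ T) :
    ∀ x ∈ Subgroup.closure S, x ∈ chevG2.group K ∧ R.sg x ∈ T := by
  intro x hx
  induction hx using Subgroup.closure_induction with
  | mem y hy => exact hS y hy
  | one => exact ⟨one_mem _, by rw [R.sg_one]; exact one_mem _⟩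
  | mul a b _ _ ha hb => exact ⟨mul_mem ha.1 hb.1, by rw [R.sg_mul ha.1 hb.1]; exact mul_mem ha.2 hb.2⟩
  | inv a _ ha => exact ⟨inv_mem ha.1, by rw [R.sg_inv ha.1]; exact inv_mem ha.2⟩

end Sigma

end Cfsg.Agent.Lib.helper23
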