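import Cfsg.Agent.Lib.helper23.ChevReeSyl

set_option autoImplicit false
set_option maxRecDepth 100000

/-!
# The action of the torus on `U¹`, and the coordinate `t` as a homomorphism

* `eb`: the matrix entry `(e_b, h_b)`, additive on `U`, equal to `t` on `U(t,u,v)`.
* Conjugation by `h ∈ H ∩ G^σ` maps `U(t,u,v)` to `U(χ_b t, χ_{3a+b} u, χ_{3a+2b} v)`.
-/

namespace Cfsg.Agent.Lib.helper23

open Cfsg Cfsg.Lie Cfsg.Agent.Lib.helper41 Cfsg.Agent.Lib.helper22

section Eb

variable {K : Type*} [Field K]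

/-- The matrix entry `(e_b, h_b)`. -/
def eb (g : GL chevG2.Idx K) : K :=
  (g : Matrix chevG2.Idx chevG2.Idx K) (Sum.inr ⟨6, by decide⟩) (Sum.inl ⟨1, by decide⟩)

theorem eb_one : eb (1 : GL chevG2.Idx K) = 0 := by
  unfold eb
  rw [Units.val_one]
  exact Matrix.one_apply_ne (by simp)

theorem uni_diag {g : GL chevG2.Idx K} (hg : g ∈ chevG2.posUnipotent K) (i : chevG2.Idx) :
    (g : Matrix chevG2.Idx chevG2.Idx K) i i = 1 := by
  have h1 : TriK (rho chevG2) 1 ((g : Matrix chevG2.Idx chevG2.Idx K) - 1) :=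
    posUnipotent_le_uniK_all chevG2 (by simp) K hg
  by_contra hne
  have h2 : ((g : Matrix chevG2.Idx chevG2.Idx K) - 1) i i ≠ 0 := by
    rw [Matrix.sub_apply, Matrix.one_apply_eq]
    exact sub_ne_zero.mpr hne
  have := h1 i i h2
  omega

theorem uni_off {g : GL chevG2.Idx K} (hg : g ∈ chevG2.posUnipotent K) {i k : chevG2.Idx} (hik : i ≠ k)
    (hne : (g : Matrix chevG2.Idx chevG2.Idx K) i k ≠ 0) : rho chevG2 k + 1 ≤ rho chevG2 i := by
  have h1 : TriK (rho chevG2) 1 ((g : Matrix chevG2.Idx chevG2.Idx K) - 1) :=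
    posUnipotent_le_uniK_all chevG2 (by simp) K hg
  apply h1 i k
  rw [Matrix.sub_apply, Matrix.one_apply_ne hik, sub_zero]
  exact hne

/-- The entry `(e_b, h_b)` is additive on `U`. -/
theorem eb_mul {g g' : GL chevG2.Idx K} (hg : g ∈ chevG2.posUnipotent K) (hg' : g' ∈ chevG2.posUnipotent K) :
    eb (g * g') = eb g + eb g' := by
  unfold eb
  rw [Units.val_mul, Matrix.mul_apply]
  have hij : (Sum.inr ⟨6, by decide⟩ : chevG2.Idx) ≠ Sum.inl ⟨1, by decide⟩ := by simp
  have key : ∀ k : chevG2.Idx,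
      (g : Matrix chevG2.Idx chevG2.Idx K) (Sum.inr ⟨6, by decide⟩) k *
        (g' : Matrix chevG2.Idx chevG2.Idx K) k (Sum.inl ⟨1, by decide⟩) =
      (if k = Sum.inr ⟨6, by decide⟩ then
        (g' : Matrix chevG2.Idx chevG2.Idx K) (Sum.inr ⟨6, by decide⟩) (Sum.inl ⟨1, by decide⟩) else 0) +
      (if k = Sum.inl ⟨1, by decide⟩ then
        (g : Matrix chevG2.Idx chevG2.Idx K) (Sum.inr ⟨6, by decide⟩) (Sum.inl ⟨1, by decide⟩) else 0) := by
    intro k
    by_cases h1 : k = Sum.inr ⟨6, by decide⟩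
    · subst h1
      rw [if_pos rfl, if_neg hij, uni_diag hg, one_mul, add_zero]
    · by_cases h2 : k = Sum.inl ⟨1, by decide⟩
      · subst h2
        rw [if_neg h1, if_pos rfl, uni_diag hg', mul_one, zero_add]
      · rw [if_neg h1, if_neg h2, add_zero]
        by_contra hne
        obtain ⟨ha, hb⟩ := mul_ne_zero_iff.mp hne
        have h3 := uni_off hg (Ne.symm h1) ha
        have h4 := uni_off hg' h2 hb
        have r1 : rho chevG2 (Sum.inr ⟨6, by decide⟩) = 8 := by decide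
        have r2 : rho chevG2 (Sum.inl ⟨1, by decide⟩) = 7 := by decide
        omega
  rw [Finset.sum_congr rfl fun k _ => key k, Finset.sum_add_distrib, Finset.sum_ite_eq', Finset.sum_ite_eq',
    if_pos (Finset.mem_univ _), if_pos (Finset.mem_univ _), add_comm]

theorem eb_inv {g : GL chevG2.Idx K} (hg : g ∈ chevG2.posUnipotent K) : eb g⁻¹ = -eb g := by
  have h := eb_mul hg (inv_mem hg)
  rw [mul_inv_cancel, eb_one] at h
  exact eq_neg_of_add_eq_zero_right h.symm

/-- The entry `(e_b, h_b)` of a root element. -/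
theorem eb_x {r : ℕ} (hr : r < 12) (c : K) {g : GL chevG2.Idx K}
    (hg : (g : Matrix chevG2.Idx chevG2.Idx K) = chevG2.x K r c) :
    eb g = if r = 6 then -(2 : K) * c else 0 := by
  unfold eb
  rw [hg, x_eq chevG2 K ⟨r, hr⟩, xMat_inr_inl]
  by_cases h : r = 6
  · subst h
    rw [if_pos rfl, if_pos rfl]
    have : cartanZ chevG2 1 6 = 2 := by decide
    show -((cartanZ chevG2 1 6 : ℤ) : K) * c = _
    rw [this]
    norm_num
  · rw [if_neg h, if_neg]
    intro h2
    exact h (congrArg Fin.val h2).symm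

/-- The entry `(e_b, h_b)` of a conjugate by a torus element. -/
theorem eb_torus_conj {h : GL chevG2.Idx K} (c : Fin chevG2.rank → K)
    (hv : (h : Matrix chevG2.Idx chevG2.Idx K) = torusMat chevG2 K c) (g : GL chevG2.Idx K) :
    eb (h * g) = torusChar chevG2 K c 6 * eb g ∧ eb (g * h) = eb g := by
  unfold eb
  rw [Units.val_mul, Units.val_mul, hv]
  unfold torusMat
  rw [Matrix.diagonal_mul, Matrix.mul_diagonal]
  exact ⟨rfl, mul_one _⟩

theorem eb_word6 [CharP K 3] (a b c d f g' : K) {g : GL chevG2.Idx K}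
    (hg : (g : Matrix chevG2.Idx chevG2.Idx K) =
      chevG2.wordMat K [(7, a), (6, b), (8, c), (9, d), (10, f), (11, g')]) : eb g = b := by
  obtain ⟨g7, h7⟩ := exists_x (F := K) stringData_G2 7 (by decide) a
  obtain ⟨g6, h6⟩ := exists_x (F := K) stringData_G2 6 (by decide) b
  obtain ⟨g8, h8⟩ := exists_x (F := K) stringData_G2 8 (by decide) c
  obtain ⟨g9, h9⟩ := exists_x (F := K) stringData_G2 9 (by decide) d
  obtain ⟨g10, h10⟩ := exists_x (F := K) stringData_G2 10 (by decide) f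
  obtain ⟨g11, h11⟩ := exists_x (F := K) stringData_G2 11 (by decide) g'
  have m7 : g7 ∈ chevG2.posUnipotent K := Subgroup.subset_closure ⟨7, a, by decide, h7⟩
  have m6 : g6 ∈ chevG2.posUnipotent K := Subgroup.subset_closure ⟨6, b, by decide, h6⟩
  have m8 : g8 ∈ chevG2.posUnipotent K := Subgroup.subset_closure ⟨8, c, by decide, h8⟩
  have m9 : g9 ∈ chevG2.posUnipotent K := Subgroup.subset_closure ⟨9, d, by decide, h9⟩
  have m10 : g10 ∈ chevG2.posUnipotent K := Subgroup.subset_closure ⟨10, f, by decide, h10⟩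
  have m11 : g11 ∈ chevG2.posUnipotent K := Subgroup.subset_closure ⟨11, g', by decide, h11⟩
  have e1 : g = g7 * g6 * (g8 * g9 * (g10 * g11)) := by
    apply Units.ext
    rw [hg, wordMat_six]
    simp only [Units.val_mul, h7, h6, h8, h9, h10, h11]
  rw [e1, eb_mul (mul_mem m7 m6) (mul_mem (mul_mem m8 m9) (mul_mem m10 m11)), eb_mul m7 m6,
    eb_mul (mul_mem m8 m9) (mul_mem m10 m11), eb_mul m8 m9, eb_mul m10 m11,
    eb_x (by decide) a h7, eb_x (by decide) b h6, eb_x (by decide) c h8, eb_x (by decide) d h9,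
    eb_x (by decide) f h10, eb_x (by decide) g' h11]
  simp only [show (7 : ℕ) ≠ 6 by decide, show (8 : ℕ) ≠ 6 by decide, show (9 : ℕ) ≠ 6 by decide,
    show (10 : ℕ) ≠ 6 by decide, show (11 : ℕ) ≠ 6 by decide, if_false, if_true, zero_add, add_zero]
  linear_combination (-b) * (three_eq_zero : (3 : K) = 0)

theorem eb_reeU [CharP K 3] {e : ℕ} (t u v : K) {g : GL chevG2.Idx K}
    (hg : (g : Matrix chevG2.Idx chevG2.Idx K) = chevG2.wordMat K (reeWordU e t u v)) : eb g = t :=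
  eb_word6 _ _ _ _ _ _ hg

end Eb

section Conj

variable {K : Type*} [Field K]

/-- Conjugation of a word by a torus element. -/
theorem torusMat_mul_word (c : Fin chevG2.rank → K) (hc : ∀ i, c i ≠ 0) (w : List (ℕ × K))
    (hw : ∀ p ∈ w, p.1 < 12) :
    torusMat chevG2 K c * chevG2.wordMat K w =
      chevG2.wordMat K (w.map fun p => (p.1, torusChar chevG2 K c p.1 * p.2)) * torusMat chevG2 K c := by
  induction w with
  | nil => rw [List.map_nil, Cfsg.Agent.Lib.helper22.wordMat_nil, mul_one, one_mul]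
  | cons p w ih =>
    rw [List.map_cons, Cfsg.Agent.Lib.helper22.wordMat_cons, Cfsg.Agent.Lib.helper22.wordMat_cons, ← mul_assoc,
      torusMat_mul_x c hc p.1 (hw p List.mem_cons_self), mul_assoc,
      ih (fun q hq => hw q (List.mem_cons_of_mem _ hq)), mul_assoc]

/-- Coordinates in the order `a, b, a+b, 2a+b, 3a+b, 3a+2b` are unique. -/
theorem ree_ord_inj [CharP K 3] {a b c d f g a' b' c' d' f' g' : K}
    (h : chevG2.wordMat K [(7, a), (6, b), (8, c), (9, d), (10, f), (11, g)] =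
      chevG2.wordMat K [(7, a'), (6, b'), (8, c'), (9, d'), (10, f'), (11, g')]) :
    a = a' ∧ b = b' ∧ c = c' ∧ d = d' ∧ f = f' ∧ g = g' := by
  obtain ⟨η, I⟩ := bnInput_all chevG2 (by simp) K
  have hform : ∀ a b c d f g : K, chevG2.wordMat K [(7, a), (6, b), (8, c), (9, d), (10, f), (11, g)] =
      chevG2.wordMat K (chevG2.posRoots.map fun r =>
        (r, coord6 b a (c - a * b) (d - a ^ 2 * b) (f + a ^ 3 * b) (g + a ^ 3 * b ^ 2) r)) := by
    intro a b c d f g
    rw [wordMat_coord6, ← (posSys K).swap, wordMat_six]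
    unfold ReeSys.M4
    simp only [mul_assoc]
    rfl
  rw [hform, hform] at h
  obtain ⟨x, hxU, hxv⟩ := (posUnipotent_ordProd I.hSD' I.hU I.hcomm).2
    (coord6 b a (c - a * b) (d - a ^ 2 * b) (f + a ^ 3 * b) (g + a ^ 3 * b ^ 2))
  obtain ⟨c0, -, huniq⟩ := (posUnipotent_ordProd I.hSD' I.hU I.hcomm).1 x hxU
  have h1 := huniq _ ⟨fun r hr => coord6_zero _ _ _ _ _ _ r hr, hxv⟩
  have h2 := huniq (coord6 b' a' (c' - a' * b') (d' - a' ^ 2 * b') (f' + a' ^ 3 * b') (g' + a' ^ 3 * b' ^ 2))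
    ⟨fun r hr => coord6_zero _ _ _ _ _ _ r hr, by rw [hxv, h]⟩
  rw [← h2] at h1
  have e6 : b = b' := congrFun h1 6
  have e7 : a = a' := congrFun h1 7
  subst e6 e7
  have e8 : c - a * b = c' - a * b := congrFun h1 8
  have e9 : d - a ^ 2 * b = d' - a ^ 2 * b := congrFun h1 9
  have e10 : f + a ^ 3 * b = f' + a ^ 3 * b := congrFun h1 10
  have e11 : g + a ^ 3 * b ^ 2 = g' + a ^ 3 * b ^ 2 := congrFun h1 11
  exact ⟨rfl, rfl, sub_left_injective e8, sub_left_injective e9, add_right_cancel e10, add_right_cancel e11⟩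

variable {e : ℕ} (R : ReeData K e)

include R

/-- For a torus element fixed by `σ`, `c₀ = c₁ ^ θ`. -/
theorem ReeData.fix_c0 {h : GL chevG2.Idx K} (hfix : h ∈ R.fix) (c : Fin chevG2.rank → K)
    (hc : ∀ i, c i ≠ 0) (hv : (h : Matrix chevG2.Idx chevG2.Idx K) = torusMat chevG2 K c) :
    c ⟨0, by decide⟩ = c ⟨1, by decide⟩ ^ e := by
  have h2 := R.fix_torus hfix c hc hv 11 (by decide)
  have r1 : isoRtG2.getD 11 0 = 9 := by decide
  have r2 : isoLmG2.getD 11 1 = 1 := by decide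
  rw [r1, r2, torusChar_9, torusChar_11, one_pow, one_pow, mul_one, mul_one, pow_one] at h2
  exact h2

/-- Conjugation by `h ∈ H` fixed by `σ` maps `U(t,u,v)` to `U(χ_b t, χ_{3a+b} u, χ_{3a+2b} v)`. -/
theorem ReeData.torus_conj_ree {h : GL chevG2.Idx K} (hh : h ∈ chevG2.diagonalSubgroup K) (hfix : h ∈ R.fix)
    (c : Fin chevG2.rank → K) (hc : ∀ i, c i ≠ 0)
    (hv : (h : Matrix chevG2.Idx chevG2.Idx K) = torusMat chevG2 K c) (t u v : K) {x : GL chevG2.Idx K}
    (hx : (x : Matrix chevG2.Idx chevG2.Idx K) = chevG2.wordMat K (reeWordU e t u v)) :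
    ((h * x * h⁻¹ : GL chevG2.Idx K) : Matrix chevG2.Idx chevG2.Idx K) =
      chevG2.wordMat K (reeWordU e (torusChar chevG2 K c 6 * t) (torusChar chevG2 K c 10 * u)
        (torusChar chevG2 K c 11 * v)) := by
  haveI := R.char3
  have hxU : x ∈ chevG2.posUnipotent K := reeU_mem_pos R t u v x hx
  have hxfix : x ∈ R.fix := R.sg_reeU t u v x hx
  have hNU := (Cfsg.Agent.S1036.result (F := K) chevG2 (by simp)).1
  have hcU : h * x * h⁻¹ ∈ chevG2.posUnipotent K := (Subgroup.mem_normalizer_iff.mp (hNU hh) x).mp hxU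
  have hcfix : h * x * h⁻¹ ∈ R.fix := mul_mem (mul_mem hfix hxfix) (inv_mem hfix)
  obtain ⟨t', u', v', e1⟩ := R.fix_pos _ hcU hcfix
  have e2 : ((h * x * h⁻¹ : GL chevG2.Idx K) : Matrix chevG2.Idx chevG2.Idx K) =
      chevG2.wordMat K ((reeWordU e t u v).map fun p => (p.1, torusChar chevG2 K c p.1 * p.2)) := by
    rw [Units.val_mul, Units.val_mul, hx, hv, torusMat_mul_word c hc _ (reeWordU_lt e t u v), mul_assoc, ← hv,
      gl_mul_inv_val, mul_one]
  rw [e1] at e2
  obtain ⟨-, h6, -, -, h10, h11⟩ := ree_ord_inj e2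
  rw [e1]
  have h6' : t' = torusChar chevG2 K c 6 * t := h6
  have h10' : u' = torusChar chevG2 K c 10 * u := h10
  have h11' : v' = torusChar chevG2 K c 11 * v := h11
  rw [h6', h10', h11']

end Conj

end Cfsg.Agent.Lib.helper23
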