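import Cfsg.Agent.Lib.helper23.ChevReeB

set_option autoImplicit false
set_option maxRecDepth 100000

/-! # The (B, N)-pair of the twisted group of type `G₂` -/

namespace Cfsg.Agent.Lib.helper23

open Cfsg Cfsg.Lie Cfsg.Agent.Lib.helper41 Cfsg.Agent.Lib.helper22

section BN

variable {K : Type*} [Field K] {e : ℕ} (R : ReeData K e) {n : GL chevG2.Idx K}

include R

/-- `U ∩ G¹` is not trivial. -/
theorem ReeData.exists_u_ne_one : ∃ u ∈ chevG2.posUnipotent K ⊓ twistedG2 K e, u ≠ 1 := by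
  obtain ⟨u, hu⟩ := exists_word (reeWordU e (0 : K) 1 0)
  refine ⟨u, (R.pos_inf_twisted u).mpr ⟨_, _, _, hu⟩, ?_⟩
  rintro rfl
  have h0 : chevG2.wordMat K (reeWordU e (0 : K) 0 0) = 1 := by
    rw [wordMat_reeU_mid R.e_ne_zero, zero_pow R.e_ne_zero, x_zero_G2, x_zero_G2, one_mul]
  rw [Units.val_one, ← h0] at hu
  exact zero_ne_one (R.reeU_inj hu).2.1

omit R in
/-- `n u n ∉ B` for `1 ≠ u ∈ U`. -/
theorem ReeW0.conj_not_borel (hn : ReeW0 e n) {u : GL chevG2.Idx K} (hu : u ∈ chevG2.posUnipotent K)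
    (hne : u ≠ 1) : n * u * n ∉ chevG2.borelSubgroup K := by
  intro hB
  have h1 : n * u * n⁻¹ ∈ chevG2.negUnipotent K := hn.conj_pos u hu
  have h2 : n * u * n⁻¹ ∈ chevG2.borelSubgroup K := by
    have e1 : n * u * n⁻¹ = (n * u * n) * (n * n)⁻¹ := by group
    rw [e1]
    exact mul_mem hB (inv_mem (Subgroup.mem_sup_right hn.sq_mem))
  have h3 : n * u * n⁻¹ ∈ chevG2.borelSubgroup K ⊓ chevG2.negUnipotent K := Subgroup.mem_inf.mpr ⟨h2, h1⟩
  rw [(Cfsg.Agent.S1037.result (F := K) chevG2 (by simp)).1, Subgroup.mem_bot] at h3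
  apply hne
  have e2 : u = n⁻¹ * (n * u * n⁻¹) * n := by group
  rw [e2, h3]
  group

/-- The elements of `N ∩ G¹` lie in `H¹ ∪ n H¹`. -/
theorem ReeData.mono_twisted (hn : ReeW0 e n) {n' : GL chevG2.Idx K} (hn' : n' ∈ chevG2.monomialSubgroup K)
    (hΓ : n' ∈ twistedG2 K e) :
    n' ∈ chevG2.diagonalSubgroup K ∨ ∃ h ∈ chevG2.diagonalSubgroup K, h ∈ twistedG2 K e ∧ n' = n * h := by
  have hfix := R.twisted_le_fix hΓ
  have hσ : n'⁻¹ * R.sg n' ∈ chevG2.diagonalSubgroup K := by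
    rw [hfix.2, inv_mul_cancel]
    exact one_mem _
  rcases hn.cases R hn' hσ with h | ⟨h, hh, rfl⟩
  · exact Or.inl h
  · refine Or.inr ⟨h, hh, ?_, rfl⟩
    have e1 : h = n⁻¹ * (n * h) := by group
    rw [e1]
    exact mul_mem (inv_mem hn.tw) hΓ

/-- The (B, N)-pair of the twisted group. -/
theorem ReeData.exists_bn (hn : ReeW0 e n) : ∃ P : Cfsg.BNPair ↥(twistedG2 K e),
    P.B = (chevG2.borelSubgroup K ⊓ twistedG2 K e).subgroupOf (twistedG2 K e) ∧
    P.N = (chevG2.monomialSubgroup K ⊓ twistedG2 K e).subgroupOf (twistedG2 K e) ∧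
    P.S = {x : ↥(twistedG2 K e) | (x : GL chevG2.Idx K) ∈ ({n} : Set (GL chevG2.Idx K))} := by
  have I := bnInput_G2 K
  have hUB : chevG2.posUnipotent K ≤ chevG2.borelSubgroup K := le_sup_left
  have hHB : chevG2.diagonalSubgroup K ≤ chevG2.borelSubgroup K := le_sup_right
  have hHN : chevG2.diagonalSubgroup K ≤ chevG2.monomialSubgroup K := le_sup_left
  have hBN := (Cfsg.Agent.S1040.result (F := K) chevG2 (by simp)).2
  have hU1 : ∀ u ∈ chevG2.posUnipotent K ⊓ twistedG2 K e, u ∈ chevG2.borelSubgroup K ⊓ twistedG2 K e :=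
    fun u hu => Subgroup.mem_inf.mpr ⟨hUB (Subgroup.mem_inf.mp hu).1, (Subgroup.mem_inf.mp hu).2⟩
  have hH1 : ∀ h ∈ chevG2.diagonalSubgroup K ⊓ twistedG2 K e, h ∈ chevG2.borelSubgroup K ⊓ twistedG2 K e :=
    fun h hh => Subgroup.mem_inf.mpr ⟨hHB (Subgroup.mem_inf.mp hh).1, (Subgroup.mem_inf.mp hh).2⟩
  have hnΓ : n ∈ chevG2.monomialSubgroup K ⊓ twistedG2 K e := Subgroup.mem_inf.mpr ⟨hn.mono, hn.tw⟩
  apply exists_bnPair (twistedG2 K e) (chevG2.borelSubgroup K ⊓ twistedG2 K e)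
    (chevG2.monomialSubgroup K ⊓ twistedG2 K e) {n} inf_le_right inf_le_right
  · -- G ≤ B ⊔ N
    intro g hg
    rcases R.twisted_cases hn hg with ⟨u, hu, h, hh, rfl⟩ | ⟨u, hu, h, hh, u', hu', rfl⟩
    · exact Subgroup.mem_sup_left (mul_mem (hU1 u hu) (hH1 h hh))
    · exact mul_mem (mul_mem (Subgroup.mem_sup_left (mul_mem (hU1 u hu) (hH1 h hh)))
        (Subgroup.mem_sup_right hnΓ)) (Subgroup.mem_sup_left (hU1 u' hu'))
  · -- B ∩ N normal in N
    intro n' hn' t ht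
    have hn'1 := Subgroup.mem_inf.mp hn'
    have ht1 := Subgroup.mem_inf.mp ht
    have ht2 := Subgroup.mem_inf.mp ht1.1
    have ht3 := Subgroup.mem_inf.mp ht1.2
    have htH : t ∈ chevG2.diagonalSubgroup K := by
      rw [← hBN]
      exact Subgroup.mem_inf.mpr ⟨ht2.1, ht3.1⟩
    exact Subgroup.mem_inf.mpr ⟨hHB (conj_mem_diag I hn'1.1 htH),
      mul_mem (mul_mem hn'1.2 ht2.2) (inv_mem hn'1.2)⟩
  · rintro s rfl
    exact hnΓ
  · rintro s rfl
    exact Subgroup.mem_inf.mpr ⟨hHB hn.sq_mem, mul_mem hn.tw hn.tw⟩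
  · rintro s rfl s' rfl -
    rfl
  · -- N is generated by n and H¹
    intro n' hn'
    have hn'1 := Subgroup.mem_inf.mp hn'
    rcases R.mono_twisted hn hn'1.1 hn'1.2 with h | ⟨h, hh, hhΓ, rfl⟩
    · exact Subgroup.mem_sup_right (Subgroup.mem_inf.mpr ⟨Subgroup.mem_inf.mpr ⟨hHB h, hn'1.2⟩, hn'⟩)
    · exact mul_mem (Subgroup.mem_sup_left (Subgroup.subset_closure rfl))
        (Subgroup.mem_sup_right (Subgroup.mem_inf.mpr ⟨Subgroup.mem_inf.mpr ⟨hHB hh, hhΓ⟩,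
          Subgroup.mem_inf.mpr ⟨hHN hh, hhΓ⟩⟩))
  · -- the double coset condition
    rintro s rfl n' hn' b hb
    have hn'1 := Subgroup.mem_inf.mp hn'
    have hb1 := Subgroup.mem_inf.mp hb
    have hg : s * b * n' ∈ twistedG2 K e := mul_mem (mul_mem hn.tw hb1.2) hn'1.2
    rcases R.twisted_cases hn hg with ⟨u, hu, h, hh, e1⟩ | ⟨u, hu, h, hh, u', hu', e1⟩
    · have hgB : s * b * n' ∈ chevG2.borelSubgroup K ⊓ twistedG2 K e := by
        rw [e1]
        exact mul_mem (hU1 u hu) (hH1 h hh)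
      rcases R.mono_twisted hn hn'1.1 hn'1.2 with h' | ⟨h', hh', hh'Γ, e2⟩
      · right
        refine ⟨s * b * n' * n'⁻¹, mul_mem hgB (inv_mem (Subgroup.mem_inf.mpr ⟨hHB h', hn'1.2⟩)), 1, one_mem _, ?_⟩
        group
      · left
        have h3 : s * n' ∈ chevG2.borelSubgroup K ⊓ twistedG2 K e := by
          rw [e2]
          have e3 : s * (s * h') = (s * s) * h' := by group
          rw [e3]
          exact Subgroup.mem_inf.mpr ⟨hHB (mul_mem hn.sq_mem hh'), mul_mem (mul_mem hn.tw hn.tw) hh'Γ⟩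
        refine ⟨s * b * n' * (s * n')⁻¹, mul_mem hgB (inv_mem h3), 1, one_mem _, ?_⟩
        group
    · have hb0 : u * h ∈ chevG2.borelSubgroup K ⊓ twistedG2 K e := mul_mem (hU1 u hu) (hH1 h hh)
      rcases R.mono_twisted hn hn'1.1 hn'1.2 with h' | ⟨h', hh', hh'Γ, e2⟩
      · left
        refine ⟨u * h, hb0, n'⁻¹ * u', mul_mem (inv_mem (Subgroup.mem_inf.mpr ⟨hHB h', hn'1.2⟩)) (hU1 u' hu'), ?_⟩
        rw [e1]
        group
      · right
        refine ⟨u * h, hb0, h'⁻¹ * u', mul_mem (inv_mem (Subgroup.mem_inf.mpr ⟨hHB hh', hh'Γ⟩)) (hU1 u' hu'), ?_⟩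
        rw [e1, e2]
        group
  · -- n B n ≠ B
    rintro s rfl
    obtain ⟨u, hu, hne⟩ := R.exists_u_ne_one
    refine ⟨u, hU1 u hu, fun h => ?_⟩
    exact hn.conj_not_borel (Subgroup.mem_inf.mp hu).1 hne (Subgroup.mem_inf.mp h).1

end BN

end Cfsg.Agent.Lib.helper23
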