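import Cfsg.Agent.Lib.helper23.ChevReeSimple

set_option autoImplicit false
set_option maxRecDepth 100000

/-! # Centralisers of torus elements and point stabilisers in the twisted group of type `G₂` -/

namespace Cfsg.Agent.Lib.helper23

open Cfsg Cfsg.Lie Cfsg.Agent.Lib.helper41 Cfsg.Agent.Lib.helper22

section General

/-- In a cyclic group of order `2k` with `k` odd, exactly `k` elements have odd order. -/
theorem card_odd_of_cyclic {G : Type*} [Group G] [IsCyclic G] {k : ℕ} (hk : Odd k)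
    (hG : Nat.card G = 2 * k) : Nat.card {h : G // Odd (orderOf h)} = k := by
  obtain ⟨g, hg⟩ := IsCyclic.exists_generator (α := G)
  have hog : orderOf g = 2 * k := by rw [orderOf_eq_card_of_forall_mem_zpowers hg, hG]
  have h3 : (g ^ 2) ^ k = 1 := by rw [← pow_mul, ← hog, pow_orderOf_eq_one]
  have h1 : ∀ h : G, Odd (orderOf h) ↔ h ∈ Subgroup.zpowers (g ^ 2) := by
    intro h
    constructor
    · intro hodd
      have hdvd : orderOf h ∣ 2 * k := by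
        rw [← hG]
        exact orderOf_dvd_natCard h
      have hdk : orderOf h ∣ k :=
        (Nat.Coprime.dvd_mul_left (Nat.coprime_two_right.mpr hodd)).mp hdvd
      have hk1 : h ^ k = 1 := orderOf_dvd_iff_pow_eq_one.mp hdk
      obtain ⟨j, hj⟩ := hk
      have e1 : (h ^ (j + 1)) ^ 2 = h := by
        rw [← pow_mul]
        have e2 : (j + 1) * 2 = k + 1 := by omega
        rw [e2, pow_succ, hk1, one_mul]
      obtain ⟨i, hi⟩ := Subgroup.mem_zpowers_iff.mp (hg (h ^ (j + 1)))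
      rw [← e1, ← hi]
      refine Subgroup.mem_zpowers_iff.mpr ⟨i, ?_⟩
      rw [← zpow_natCast g 2, ← zpow_natCast (g ^ i) 2, ← zpow_mul, ← zpow_mul, mul_comm]
    · intro hmem
      obtain ⟨i, hi⟩ := Subgroup.mem_zpowers_iff.mp hmem
      have h2 : h ^ k = 1 := by
        rw [← hi, ← zpow_natCast ((g ^ 2) ^ i) k, ← zpow_mul, mul_comm, zpow_mul, zpow_natCast, h3, one_zpow]
      exact Odd.of_dvd_nat hk (orderOf_dvd_of_pow_eq_one h2)
  have h4 : orderOf (g ^ 2) = k := by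
    rw [orderOf_pow' g two_ne_zero, hog]
    have e2 : Nat.gcd (2 * k) 2 = 2 := Nat.gcd_eq_right (dvd_mul_right 2 k)
    rw [e2, Nat.mul_div_cancel_left k (by norm_num)]
  rw [Nat.card_congr (Equiv.subtypeEquivRight h1)]
  exact (Nat.card_zpowers (g ^ 2)).trans h4

/-- The stabiliser of the coset `aB` in the action on `G/B`. -/
theorem mem_stab_mk {G : Type*} [Group G] (B : Subgroup G) (g a : G) :
    g ∈ MulAction.stabilizer G (QuotientGroup.mk a : G ⧸ B) ↔ a⁻¹ * g * a ∈ B := by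
  rw [MulAction.mem_stabilizer_iff, MulAction.Quotient.smul_mk, smul_eq_mul, QuotientGroup.eq]
  have e : (g * a)⁻¹ * a = (a⁻¹ * g * a)⁻¹ := by group
  rw [e, inv_mem_iff]

/-- The arithmetic behind the centraliser computation. -/
theorem ree_mu_sq {K : Type*} [Field K] {e : ℕ} (hφ : ∀ x : K, ((x ^ e) ^ e) ^ 3 = x) {μ t u v : K}
    (hμ : μ ≠ 0) (h6 : t = (μ ^ e) ^ (-3 : ℤ) * μ ^ (2 : ℤ) * t)
    (h10 : u = (μ ^ e) ^ (3 : ℤ) * μ ^ (-1 : ℤ) * u) (h11 : v = μ * v)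
    (hne : ¬ (t = 0 ∧ u = 0 ∧ v = 0)) : μ * μ = 1 := by
  have hμe : μ ^ e ≠ 0 := pow_ne_zero _ hμ
  by_cases ht : t = 0
  · by_cases hu : u = 0
    · have hv : v ≠ 0 := fun hv => hne ⟨ht, hu, hv⟩
      have h1 : μ = 1 := mul_right_cancel₀ hv (h11.symm.trans (one_mul v).symm)
      rw [h1, one_mul]
    · have h1 : (μ ^ e) ^ (3 : ℤ) * μ ^ (-1 : ℤ) = 1 :=
        mul_right_cancel₀ hu (h10.symm.trans (one_mul u).symm)
      have h2 : (μ ^ e) ^ 3 = μ := by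
        rw [zpow_neg_one, zpow_ofNat, ← div_eq_mul_inv, div_eq_one_iff_eq hμ] at h1
        exact h1
      have h3 : μ ^ e = μ := by
        calc μ ^ e = ((μ ^ e) ^ 3) ^ e := by rw [h2]
          _ = ((μ ^ e) ^ e) ^ 3 := by rw [← pow_mul (μ ^ e), ← pow_mul (μ ^ e), mul_comm]
          _ = μ := hφ μ
      rw [h3] at h2
      apply mul_right_cancel₀ hμ
      linear_combination h2
  · have h1 : (μ ^ e) ^ (-3 : ℤ) * μ ^ (2 : ℤ) = 1 :=
      mul_right_cancel₀ ht (h6.symm.trans (one_mul t).symm)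
    have h2 : (μ ^ e) ^ 3 = μ ^ 2 := by
      rw [zpow_neg, zpow_ofNat, zpow_ofNat, inv_mul_eq_one₀ (pow_ne_zero 3 hμe)] at h1
      exact h1
    have h3 : (μ ^ e) ^ 2 = μ := by
      calc (μ ^ e) ^ 2 = (μ ^ 2) ^ e := by ring
        _ = ((μ ^ e) ^ 3) ^ e := by rw [h2]
        _ = ((μ ^ e) ^ e) ^ 3 := by rw [← pow_mul (μ ^ e), ← pow_mul (μ ^ e), mul_comm]
        _ = μ := hφ μ
    have h4 : μ ^ e = 1 := by
      have h5 : (μ ^ e) ^ 3 * (μ ^ e) = (μ ^ e) ^ 3 * 1 := by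
        linear_combination ((μ ^ e) ^ 2 + μ) * h3 - h2
      exact mul_left_cancel₀ (pow_ne_zero 3 hμe) h5
    rw [h4, one_pow] at h3
    rw [← h3, one_mul]

end General

section Stab0

variable {K : Type*} [Field K] {e : ℕ} {n : GL chevG2.Idx K}

/-- If `n (u h u⁻¹) n⁻¹ ∈ B` for `h ∈ H`, `u ∈ U`, then `h` and `u` commute. -/
theorem ReeW0.comm_of_conj (hn : ReeW0 e n) {h u : GL chevG2.Idx K} (hh : h ∈ chevG2.diagonalSubgroup K)
    (hu : u ∈ chevG2.posUnipotent K) (hc : n * (u * h * u⁻¹) * n⁻¹ ∈ chevG2.borelSubgroup K) :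
    h * u = u * h := by
  have I := bnInput_G2 K
  have hNU := (Cfsg.Agent.S1036.result (F := K) chevG2 (by simp)).1
  have h1 : u * (h * u⁻¹ * h⁻¹) ∈ chevG2.posUnipotent K :=
    mul_mem hu ((Subgroup.mem_normalizer_iff.mp (hNU hh) _).mp (inv_mem hu))
  have h3 : n * (u * (h * u⁻¹ * h⁻¹)) * n⁻¹ ∈ chevG2.negUnipotent K := hn.conj_pos _ h1
  have h4 : n * (u * (h * u⁻¹ * h⁻¹)) * n⁻¹ ∈ chevG2.borelSubgroup K := by
    have e2 : n * (u * (h * u⁻¹ * h⁻¹)) * n⁻¹ = (n * (u * h * u⁻¹) * n⁻¹) * (n * h * n⁻¹)⁻¹ := by group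
    rw [e2]
    exact mul_mem hc (inv_mem (Subgroup.mem_sup_right (conj_mem_diag I hn.mono hh)))
  have h5 : n * (u * (h * u⁻¹ * h⁻¹)) * n⁻¹ ∈ chevG2.borelSubgroup K ⊓ chevG2.negUnipotent K :=
    Subgroup.mem_inf.mpr ⟨h4, h3⟩
  rw [(Cfsg.Agent.S1037.result (F := K) chevG2 (by simp)).1, Subgroup.mem_bot] at h5
  have h6 : u * (h * u⁻¹ * h⁻¹) = 1 := by
    have e3 : u * (h * u⁻¹ * h⁻¹) = n⁻¹ * (n * (u * (h * u⁻¹ * h⁻¹)) * n⁻¹) * n := by group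
    rw [e3, h5]
    group
  calc h * u = (u * (h * u⁻¹ * h⁻¹))⁻¹ * (u * h) := by group
    _ = u * h := by rw [h6, inv_one, one_mul]

end Stab0

section Stab

variable {K : Type*} [Field K] {e : ℕ} (R : ReeData K e) {n : GL chevG2.Idx K}

include R

/-- `B¹ ∩ n⁻¹ B¹ n ≤ H`. -/
theorem ReeData.borel_conj_diag (hn : ReeW0 e n) {g : GL chevG2.Idx K}
    (hgB : g ∈ chevG2.borelSubgroup K) (hgΓ : g ∈ twistedG2 K e)
    (hc : n * g * n⁻¹ ∈ chevG2.borelSubgroup K) : g ∈ chevG2.diagonalSubgroup K := by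
  have I := bnInput_G2 K
  obtain ⟨u, hu, h, hh, e1⟩ := R.borel_twisted hgB hgΓ
  have h3 : n * u * n⁻¹ ∈ chevG2.negUnipotent K := hn.conj_pos u (Subgroup.mem_inf.mp hu).1
  have h4 : n * u * n⁻¹ ∈ chevG2.borelSubgroup K := by
    have e2 : n * u * n⁻¹ = (n * g * n⁻¹) * (n * h * n⁻¹)⁻¹ := by
      rw [e1]
      group
    rw [e2]
    exact mul_mem hc (inv_mem (Subgroup.mem_sup_right (conj_mem_diag I hn.mono (Subgroup.mem_inf.mp hh).1)))
  have h5 : n * u * n⁻¹ ∈ chevG2.borelSubgroup K ⊓ chevG2.negUnipotent K := Subgroup.mem_inf.mpr ⟨h4, h3⟩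
  rw [(Cfsg.Agent.S1037.result (F := K) chevG2 (by simp)).1, Subgroup.mem_bot] at h5
  have h6 : u = 1 := by
    have e3 : u = n⁻¹ * (n * u * n⁻¹) * n := by group
    rw [e3, h5]
    group
  rw [e1, h6, one_mul]
  exact (Subgroup.mem_inf.mp hh).1

/-- An element of `H¹` commuting with a nontrivial element of `U¹` has square `1`. -/
theorem ReeData.comm_sq {h x : GL chevG2.Idx K} (hh : h ∈ chevG2.diagonalSubgroup K) (hfix : h ∈ R.fix)
    (hx : x ∈ chevG2.posUnipotent K ⊓ twistedG2 K e) (hne : x ≠ 1) (hcomm : h * x = x * h) :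
    h * h = 1 := by
  have I := bnInput_G2 K
  obtain ⟨t, u, v, hxv⟩ := (R.pos_inf_twisted x).mp hx
  obtain ⟨c, hc, hv⟩ := diagonalSubgroup_le_torus I.hSD' hh
  have hconj := R.torus_conj_ree hh hfix c hc hv t u v hxv
  have e1 : h * x * h⁻¹ = x := by rw [hcomm]; group
  rw [e1, hxv] at hconj
  obtain ⟨h6, h10, h11⟩ := R.reeU_inj hconj
  have hc0 := R.fix_c0 hfix c hc hv
  rw [torusChar_6, hc0] at h6
  rw [torusChar_10, hc0] at h10
  rw [torusChar_11] at h11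
  have key : c ⟨1, by decide⟩ * c ⟨1, by decide⟩ = 1 := by
    refine ree_mu_sq R.hφ (hc _) h6 h10 h11 ?_
    rintro ⟨rfl, rfl, rfl⟩
    apply hne
    apply Units.ext
    rw [hxv, R.wordMat_reeU_zero, Units.val_one]
  apply R.fix_diag_inj (mul_mem hh hh) (mul_mem hfix hfix) (one_mem _) (one_mem _)
  rw [diag_entry_mul hh hh, hv, torusMat_entry, torusChar_11, key, Units.val_one, Matrix.one_apply_eq]

/-- The pointwise stabiliser of three points of `G¹/B¹` is conjugate to a subgroup of `H¹`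
consisting of elements of square `1`. -/
theorem ReeData.three_point (hn : ReeW0 e n) {a b c : GL chevG2.Idx K} (ha : a ∈ twistedG2 K e)
    (hb : b ∈ twistedG2 K e) (hc : c ∈ twistedG2 K e) (hab : a⁻¹ * b ∉ chevG2.borelSubgroup K)
    (hac : a⁻¹ * c ∉ chevG2.borelSubgroup K) (hbc : b⁻¹ * c ∉ chevG2.borelSubgroup K) :
    ∃ w ∈ twistedG2 K e, ∀ g ∈ twistedG2 K e, a⁻¹ * g * a ∈ chevG2.borelSubgroup K →
      b⁻¹ * g * b ∈ chevG2.borelSubgroup K → c⁻¹ * g * c ∈ chevG2.borelSubgroup K →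
      w⁻¹ * g * w ∈ chevG2.diagonalSubgroup K ∧ (w⁻¹ * g * w) * (w⁻¹ * g * w) = 1 := by
  have hUB : chevG2.posUnipotent K ≤ chevG2.borelSubgroup K := le_sup_left
  have hHB : chevG2.diagonalSubgroup K ≤ chevG2.borelSubgroup K := le_sup_right
  have hba : b⁻¹ * a ∈ twistedG2 K e := mul_mem (inv_mem hb) ha
  rcases R.twisted_cases hn hba with ⟨u, hu, h, hh, e1⟩ | ⟨u₁, hu₁, h₁, hh₁, u₁', hu₁', e1⟩
  · exfalso
    apply hab
    have e0 : a⁻¹ * b = (b⁻¹ * a)⁻¹ := by group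
    rw [e0, e1]
    exact inv_mem (mul_mem (hUB (Subgroup.mem_inf.mp hu).1) (hHB (Subgroup.mem_inf.mp hh).1))
  have hb₁ : u₁ * h₁ ∈ chevG2.borelSubgroup K :=
    mul_mem (hUB (Subgroup.mem_inf.mp hu₁).1) (hHB (Subgroup.mem_inf.mp hh₁).1)
  have hu₁'B : u₁' ∈ chevG2.borelSubgroup K := hUB (Subgroup.mem_inf.mp hu₁').1
  have hw : a * u₁'⁻¹ ∈ twistedG2 K e := mul_mem ha (inv_mem (Subgroup.mem_inf.mp hu₁').2)
  have hcw : c⁻¹ * (a * u₁'⁻¹) ∈ twistedG2 K e := mul_mem (inv_mem hc) hw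
  rcases R.twisted_cases hn hcw with ⟨u, hu, h, hh, e2⟩ | ⟨u₂, hu₂, h₂, hh₂, u₂', hu₂', e2⟩
  · exfalso
    apply hac
    have e0 : a⁻¹ * c = u₁'⁻¹ * (c⁻¹ * (a * u₁'⁻¹))⁻¹ := by group
    rw [e0, e2]
    exact mul_mem (inv_mem hu₁'B)
      (inv_mem (mul_mem (hUB (Subgroup.mem_inf.mp hu).1) (hHB (Subgroup.mem_inf.mp hh).1)))
  have hb₂ : u₂ * h₂ ∈ chevG2.borelSubgroup K :=
    mul_mem (hUB (Subgroup.mem_inf.mp hu₂).1) (hHB (Subgroup.mem_inf.mp hh₂).1)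
  have hu₂ne : u₂' ≠ 1 := by
    intro h1
    rw [h1] at e2
    apply hbc
    have e0 : b⁻¹ * c = (b⁻¹ * a) * u₁'⁻¹ * (c⁻¹ * (a * u₁'⁻¹))⁻¹ := by group
    rw [e0, e1, e2]
    have e3 : u₁ * h₁ * n * u₁' * u₁'⁻¹ * (u₂ * h₂ * n * 1)⁻¹ = (u₁ * h₁) * (u₂ * h₂)⁻¹ := by group
    rw [e3]
    exact mul_mem hb₁ (inv_mem hb₂)
  refine ⟨a * u₁'⁻¹, hw, ?_⟩
  intro g hg hga hgb hgc
  have hg'B : (a * u₁'⁻¹)⁻¹ * g * (a * u₁'⁻¹) ∈ chevG2.borelSubgroup K := by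
    have e0 : (a * u₁'⁻¹)⁻¹ * g * (a * u₁'⁻¹) = u₁' * (a⁻¹ * g * a) * u₁'⁻¹ := by group
    rw [e0]
    exact mul_mem (mul_mem hu₁'B hga) (inv_mem hu₁'B)
  have hg'Γ : (a * u₁'⁻¹)⁻¹ * g * (a * u₁'⁻¹) ∈ twistedG2 K e := mul_mem (mul_mem (inv_mem hw) hg) hw
  have hng' : n * ((a * u₁'⁻¹)⁻¹ * g * (a * u₁'⁻¹)) * n⁻¹ ∈ chevG2.borelSubgroup K := by
    have e0 : n * ((a * u₁'⁻¹)⁻¹ * g * (a * u₁'⁻¹)) * n⁻¹ =
        (u₁ * h₁)⁻¹ * ((u₁ * h₁ * n * u₁') * a⁻¹ * g * a * (u₁ * h₁ * n * u₁')⁻¹) * (u₁ * h₁) := by group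
    rw [e0, ← e1]
    have e3 : b⁻¹ * a * a⁻¹ * g * a * (b⁻¹ * a)⁻¹ = b⁻¹ * g * b := by group
    rw [e3]
    exact mul_mem (mul_mem (inv_mem hb₁) hgb) hb₁
  have hg'H := R.borel_conj_diag hn hg'B hg'Γ hng'
  refine ⟨hg'H, ?_⟩
  have hcu : n * (u₂' * ((a * u₁'⁻¹)⁻¹ * g * (a * u₁'⁻¹)) * u₂'⁻¹) * n⁻¹ ∈ chevG2.borelSubgroup K := by
    have e0 : n * (u₂' * ((a * u₁'⁻¹)⁻¹ * g * (a * u₁'⁻¹)) * u₂'⁻¹) * n⁻¹ =
        (u₂ * h₂)⁻¹ * ((u₂ * h₂ * n * u₂') * (a * u₁'⁻¹)⁻¹ * g * (a * u₁'⁻¹) * (u₂ * h₂ * n * u₂')⁻¹) *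
          (u₂ * h₂) := by group
    rw [e0, ← e2]
    have e3 : c⁻¹ * (a * u₁'⁻¹) * (a * u₁'⁻¹)⁻¹ * g * (a * u₁'⁻¹) * (c⁻¹ * (a * u₁'⁻¹))⁻¹ = c⁻¹ * g * c := by
      group
    rw [e3]
    exact mul_mem (mul_mem (inv_mem hb₂) hgc) hb₂
  have hcomm := hn.comm_of_conj hg'H (Subgroup.mem_inf.mp hu₂').1 hcu
  exact R.comm_sq hg'H (R.twisted_le_fix hg'Γ) hu₂' hu₂ne hcomm

/-- The elements of odd order of `H¹` are half of `H¹`, and act fixed-point-freely on `U¹`. -/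
theorem ReeData.odd_diag [Fintype K] {m : ℕ} (hK : Fintype.card K = 3 ^ (2 * m + 1)) :
    2 * Nat.card {h : ↥(chevG2.diagonalSubgroup K ⊓ twistedG2 K e) // Odd (orderOf h)} =
        3 ^ (2 * m + 1) - 1 ∧
      ∀ h ∈ (chevG2.diagonalSubgroup K ⊓ twistedG2 K e), h ≠ 1 → Odd (orderOf h) →
        (chevG2.posUnipotent K ⊓ twistedG2 K e) ⊓ Subgroup.centralizer {h} = ⊥ := by
  constructor
  · haveI := R.diag_cyclic
    have hcard := R.card_diag_inf_twisted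
    rw [hK] at hcard
    have h1 : 3 ^ (2 * m + 1) % 4 = 3 := by
      rw [pow_succ, pow_mul, Nat.mul_mod, Nat.pow_mod]
      norm_num
    obtain ⟨k, hkodd, hk⟩ : ∃ k, Odd k ∧ 3 ^ (2 * m + 1) - 1 = 2 * k := by
      refine ⟨(3 ^ (2 * m + 1) - 1) / 2, ?_, ?_⟩
      · rw [Nat.odd_iff]
        omega
      · omega
    rw [hk] at hcard ⊢
    rw [card_odd_of_cyclic hkodd hcard]
  · intro h hh hne hodd
    rw [eq_bot_iff]
    intro x hx
    rw [Subgroup.mem_bot]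
    by_contra hx1
    have hxU := (Subgroup.mem_inf.mp hx).1
    have hcomm := Subgroup.mem_centralizer_iff.mp (Subgroup.mem_inf.mp hx).2 h (Set.mem_singleton h)
    have hsq := R.comm_sq (Subgroup.mem_inf.mp hh).1 (R.twisted_le_fix (Subgroup.mem_inf.mp hh).2) hxU hx1
      hcomm
    have h2 : orderOf h ∣ 2 := orderOf_dvd_of_pow_eq_one (by rw [pow_two]; exact hsq)
    have h3 : orderOf h = 1 := by
      rcases (Nat.dvd_prime Nat.prime_two).mp h2 with h' | h'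
      · exact h'
      · rw [h'] at hodd
        exact absurd hodd (by decide)
    exact hne (orderOf_eq_one_iff.mp h3)

end Stab

end Cfsg.Agent.Lib.helper23
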