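import Cfsg.Agent.Lib.helper23.ChevReeC

set_option autoImplicit false
set_option maxRecDepth 100000

/-! # Three-point stabilisers of the twisted group of type `G₂` acting on `G¹/B¹` -/

namespace Cfsg.Agent.Lib.helper23

open Cfsg Cfsg.Lie Cfsg.Agent.Lib.helper41 Cfsg.Agent.Lib.helper22

/-- A subgroup whose elements are separated by one predicate has at most two elements. -/
theorem card_le_two_of_sep {G : Type*} [Group G] (S : Subgroup G) (p : G → Prop)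
    (hp : ∀ g ∈ S, ∀ g' ∈ S, (p g ↔ p g') → g = g') : Nat.card ↥S ≤ 2 ∧ Finite ↥S := by
  classical
  have hf : Function.Injective (fun g : ↥S => decide (p g.1)) := by
    intro g g' h
    exact Subtype.ext (hp g.1 g.2 g'.1 g'.2 (by simpa using h))
  refine ⟨?_, Finite.of_injective _ hf⟩
  calc Nat.card ↥S ≤ Nat.card Bool := Nat.card_le_card_of_injective _ hf
    _ = 2 := by rw [Nat.card_eq_fintype_card, Fintype.card_bool]

section Stab3

variable {K : Type*} [Field K] {e : ℕ} (R : ReeData K e)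

include R

/-- The pointwise stabiliser of three points of `G¹/B¹` has order at most `2`, and order `2` occurs. -/
theorem ReeData.three_point_stab :
    (∀ x y z : ↥(twistedG2 K e) ⧸ (chevG2.borelSubgroup K ⊓ twistedG2 K e).subgroupOf (twistedG2 K e),
        x ≠ y → x ≠ z → y ≠ z →
        Nat.card ↥(MulAction.stabilizer ↥(twistedG2 K e) x ⊓ MulAction.stabilizer ↥(twistedG2 K e) y ⊓
          MulAction.stabilizer ↥(twistedG2 K e) z) ≤ 2) ∧
      ∃ x y z : ↥(twistedG2 K e) ⧸ (chevG2.borelSubgroup K ⊓ twistedG2 K e).subgroupOf (twistedG2 K e),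
        x ≠ y ∧ x ≠ z ∧ y ≠ z ∧
        Nat.card ↥(MulAction.stabilizer ↥(twistedG2 K e) x ⊓ MulAction.stabilizer ↥(twistedG2 K e) y ⊓
          MulAction.stabilizer ↥(twistedG2 K e) z) = 2 := by
  obtain ⟨n, hn⟩ := R.exists_w0
  have I := bnInput_G2 K
  have hUB : chevG2.posUnipotent K ≤ chevG2.borelSubgroup K := le_sup_left
  have hHB : chevG2.diagonalSubgroup K ≤ chevG2.borelSubgroup K := le_sup_right
  have hμ : ∀ k : GL chevG2.Idx K, k ∈ chevG2.diagonalSubgroup K → k * k = 1 →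
      (k : Matrix chevG2.Idx chevG2.Idx K) (Sum.inr ⟨11, by decide⟩) (Sum.inr ⟨11, by decide⟩) = 1 ∨
      (k : Matrix chevG2.Idx chevG2.Idx K) (Sum.inr ⟨11, by decide⟩) (Sum.inr ⟨11, by decide⟩) = -1 := by
    intro k hk hkk
    have h := diag_entry_mul hk hk
    rw [hkk, Units.val_one, Matrix.one_apply_eq] at h
    exact mul_self_eq_one_iff.mp h.symm
  have part1 : ∀ x y z : (↥(twistedG2 K e) ⧸ (chevG2.borelSubgroup K ⊓ twistedG2 K e).subgroupOf (twistedG2 K e)), x ≠ y → x ≠ z → y ≠ z →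
      Nat.card ↥(MulAction.stabilizer ↥(twistedG2 K e) x ⊓ MulAction.stabilizer ↥(twistedG2 K e) y ⊓
          MulAction.stabilizer ↥(twistedG2 K e) z) ≤ 2 ∧
      Finite ↥(MulAction.stabilizer ↥(twistedG2 K e) x ⊓ MulAction.stabilizer ↥(twistedG2 K e) y ⊓
          MulAction.stabilizer ↥(twistedG2 K e) z) := by
    intro x y z hxy hxz hyz
    obtain ⟨a, rfl⟩ := QuotientGroup.mk_surjective x
    obtain ⟨b, rfl⟩ := QuotientGroup.mk_surjective y
    obtain ⟨c, rfl⟩ := QuotientGroup.mk_surjective z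
    have hab : (a : GL chevG2.Idx K)⁻¹ * (b : GL chevG2.Idx K) ∉ chevG2.borelSubgroup K := by
      intro hB
      apply hxy
      rw [QuotientGroup.eq, Subgroup.mem_subgroupOf]
      exact Subgroup.mem_inf.mpr ⟨hB, (a⁻¹ * b).2⟩
    have hac : (a : GL chevG2.Idx K)⁻¹ * (c : GL chevG2.Idx K) ∉ chevG2.borelSubgroup K := by
      intro hB
      apply hxz
      rw [QuotientGroup.eq, Subgroup.mem_subgroupOf]
      exact Subgroup.mem_inf.mpr ⟨hB, (a⁻¹ * c).2⟩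
    have hbc : (b : GL chevG2.Idx K)⁻¹ * (c : GL chevG2.Idx K) ∉ chevG2.borelSubgroup K := by
      intro hB
      apply hyz
      rw [QuotientGroup.eq, Subgroup.mem_subgroupOf]
      exact Subgroup.mem_inf.mpr ⟨hB, (b⁻¹ * c).2⟩
    obtain ⟨w, hw, hall⟩ := R.three_point hn a.2 b.2 c.2 hab hac hbc
    apply card_le_two_of_sep _ (fun g : ↥(twistedG2 K e) =>
      ((w⁻¹ * (g : GL chevG2.Idx K) * w : GL chevG2.Idx K) : Matrix chevG2.Idx chevG2.Idx K)
        (Sum.inr ⟨11, by decide⟩) (Sum.inr ⟨11, by decide⟩) = 1)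
    have key : ∀ g : ↥(twistedG2 K e),
        g ∈ MulAction.stabilizer ↥(twistedG2 K e) (QuotientGroup.mk a : (↥(twistedG2 K e) ⧸ (chevG2.borelSubgroup K ⊓ twistedG2 K e).subgroupOf (twistedG2 K e))) ⊓
          MulAction.stabilizer ↥(twistedG2 K e) (QuotientGroup.mk b : (↥(twistedG2 K e) ⧸ (chevG2.borelSubgroup K ⊓ twistedG2 K e).subgroupOf (twistedG2 K e))) ⊓
          MulAction.stabilizer ↥(twistedG2 K e) (QuotientGroup.mk c : (↥(twistedG2 K e) ⧸ (chevG2.borelSubgroup K ⊓ twistedG2 K e).subgroupOf (twistedG2 K e))) →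
        w⁻¹ * (g : GL chevG2.Idx K) * w ∈ chevG2.diagonalSubgroup K ∧
          (w⁻¹ * (g : GL chevG2.Idx K) * w) * (w⁻¹ * (g : GL chevG2.Idx K) * w) = 1 := by
      intro g hg
      have h12 := (Subgroup.mem_inf.mp hg).1
      have h1 := (Subgroup.mem_subgroupOf.mp ((mem_stab_mk _ _ _).mp (Subgroup.mem_inf.mp h12).1))
      have h2 := (Subgroup.mem_subgroupOf.mp ((mem_stab_mk _ _ _).mp (Subgroup.mem_inf.mp h12).2))
      have h3 := (Subgroup.mem_subgroupOf.mp ((mem_stab_mk _ _ _).mp (Subgroup.mem_inf.mp hg).2))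
      exact hall _ g.2 (Subgroup.mem_inf.mp h1).1 (Subgroup.mem_inf.mp h2).1 (Subgroup.mem_inf.mp h3).1
    intro g hg g' hg' hiff
    obtain ⟨hk, hkk⟩ := key g hg
    obtain ⟨hk', hkk'⟩ := key g' hg'
    have hkΓ : w⁻¹ * (g : GL chevG2.Idx K) * w ∈ twistedG2 K e := mul_mem (mul_mem (inv_mem hw) g.2) hw
    have hk'Γ : w⁻¹ * (g' : GL chevG2.Idx K) * w ∈ twistedG2 K e := mul_mem (mul_mem (inv_mem hw) g'.2) hw
    have heq : ((w⁻¹ * (g : GL chevG2.Idx K) * w : GL chevG2.Idx K) : Matrix chevG2.Idx chevG2.Idx K)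
          (Sum.inr ⟨11, by decide⟩) (Sum.inr ⟨11, by decide⟩) =
        ((w⁻¹ * (g' : GL chevG2.Idx K) * w : GL chevG2.Idx K) : Matrix chevG2.Idx chevG2.Idx K)
          (Sum.inr ⟨11, by decide⟩) (Sum.inr ⟨11, by decide⟩) := by
      rcases hμ _ hk hkk with h1 | h1
      · exact h1.trans (hiff.mp h1).symm
      · rcases hμ _ hk' hkk' with h2 | h2
        · exact (hiff.mpr h2).trans h2.symm
        · exact h1.trans h2.symm
    have h5 := R.fix_diag_inj hk (R.twisted_le_fix hkΓ) hk' (R.twisted_le_fix hk'Γ) heq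
    exact Subtype.ext (mul_left_cancel (mul_right_cancel h5))
  refine ⟨fun x y z hxy hxz hyz => (part1 x y z hxy hxz hyz).1, ?_⟩
  haveI := R.char3
  obtain ⟨u₀, hu₀⟩ := exists_word (reeWordU e (0 : K) 1 0)
  have hu₀m : u₀ ∈ chevG2.posUnipotent K ⊓ twistedG2 K e := (R.pos_inf_twisted u₀).mpr ⟨_, _, _, hu₀⟩
  have hu₀ne : u₀ ≠ 1 := by
    intro h1
    rw [h1, Units.val_one, ← R.wordMat_reeU_zero] at hu₀
    exact zero_ne_one (R.reeU_inj hu₀).2.1
  obtain ⟨h, hH, hΓ, c, hc, hv, hc1, hc0⟩ := R.exists_torus (-1) (neg_ne_zero.mpr one_ne_zero)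
  have hconj := R.torus_conj_ree hH (R.twisted_le_fix hΓ) c hc hv 0 1 0 hu₀
  have hχ10 : torusChar chevG2 K c 10 = 1 := by
    rw [torusChar_10, hc0, hc1, R.hodd.neg_one_pow]
    norm_num [zpow_neg, zpow_ofNat]
  rw [mul_zero, mul_zero, hχ10, mul_one, ← hu₀] at hconj
  have hcomm : h * u₀ = u₀ * h := by
    have e0 : h * u₀ * h⁻¹ = u₀ := Units.ext hconj
    calc h * u₀ = (h * u₀ * h⁻¹) * h := by group
      _ = u₀ * h := by rw [e0]
  have hne1 : h ≠ 1 := by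
    intro h1
    rw [h1] at hv
    have e0 := congrFun (congrFun hv (Sum.inr ⟨11, by decide⟩)) (Sum.inr ⟨11, by decide⟩)
    rw [torusMat_entry, torusChar_11, hc1, Units.val_one, Matrix.one_apply_eq] at e0
    exact one_ne_zero (α := K) (by linear_combination (three_eq_zero : (3 : K) = 0) - e0)
  have hxy : (QuotientGroup.mk (1 : ↥(twistedG2 K e)) : (↥(twistedG2 K e) ⧸ (chevG2.borelSubgroup K ⊓ twistedG2 K e).subgroupOf (twistedG2 K e))) ≠
      QuotientGroup.mk (⟨n, hn.tw⟩ : ↥(twistedG2 K e))⁻¹ := by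
    intro heq
    rw [QuotientGroup.eq, Subgroup.mem_subgroupOf] at heq
    have h1 : (1 : GL chevG2.Idx K)⁻¹ * n⁻¹ ∈ chevG2.borelSubgroup K := (Subgroup.mem_inf.mp heq).1
    rw [inv_one, one_mul] at h1
    exact hn.not_mem_borel (inv_mem_iff.mp h1)
  have hxz : (QuotientGroup.mk (1 : ↥(twistedG2 K e)) : (↥(twistedG2 K e) ⧸ (chevG2.borelSubgroup K ⊓ twistedG2 K e).subgroupOf (twistedG2 K e))) ≠
      QuotientGroup.mk ((⟨u₀, (Subgroup.mem_inf.mp hu₀m).2⟩ : ↥(twistedG2 K e)) *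
        (⟨n, hn.tw⟩ : ↥(twistedG2 K e))⁻¹) := by
    intro heq
    rw [QuotientGroup.eq, Subgroup.mem_subgroupOf] at heq
    have h1 : (1 : GL chevG2.Idx K)⁻¹ * (u₀ * n⁻¹) ∈ chevG2.borelSubgroup K := (Subgroup.mem_inf.mp heq).1
    have h2 : n⁻¹ ∈ chevG2.borelSubgroup K := by
      have e0 : n⁻¹ = u₀⁻¹ * ((1 : GL chevG2.Idx K)⁻¹ * (u₀ * n⁻¹)) := by group
      rw [e0]
      exact mul_mem (inv_mem (hUB (Subgroup.mem_inf.mp hu₀m).1)) h1
    exact hn.not_mem_borel (inv_mem_iff.mp h2)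
  have hyz : (QuotientGroup.mk (⟨n, hn.tw⟩ : ↥(twistedG2 K e))⁻¹ : (↥(twistedG2 K e) ⧸ (chevG2.borelSubgroup K ⊓ twistedG2 K e).subgroupOf (twistedG2 K e))) ≠
      QuotientGroup.mk ((⟨u₀, (Subgroup.mem_inf.mp hu₀m).2⟩ : ↥(twistedG2 K e)) *
        (⟨n, hn.tw⟩ : ↥(twistedG2 K e))⁻¹) := by
    intro heq
    rw [QuotientGroup.eq, Subgroup.mem_subgroupOf] at heq
    have h1 : (n⁻¹)⁻¹ * (u₀ * n⁻¹) ∈ chevG2.borelSubgroup K := (Subgroup.mem_inf.mp heq).1
    have e0 : (n⁻¹)⁻¹ * (u₀ * n⁻¹) = n * u₀ * n⁻¹ := by group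
    rw [e0] at h1
    have h5 : n * u₀ * n⁻¹ ∈ chevG2.borelSubgroup K ⊓ chevG2.negUnipotent K :=
      Subgroup.mem_inf.mpr ⟨h1, hn.conj_pos u₀ (Subgroup.mem_inf.mp hu₀m).1⟩
    rw [(Cfsg.Agent.S1037.result (F := K) chevG2 (by simp)).1, Subgroup.mem_bot] at h5
    apply hu₀ne
    have e3 : u₀ = n⁻¹ * (n * u₀ * n⁻¹) * n := by group
    rw [e3, h5]
    group
  refine ⟨_, _, _, hxy, hxz, hyz, le_antisymm (part1 _ _ _ hxy hxz hyz).1 ?_⟩
  haveI := (part1 _ _ _ hxy hxz hyz).2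
  have hmem : (⟨h, hΓ⟩ : ↥(twistedG2 K e)) ∈
      MulAction.stabilizer ↥(twistedG2 K e) (QuotientGroup.mk (1 : ↥(twistedG2 K e)) : (↥(twistedG2 K e) ⧸ (chevG2.borelSubgroup K ⊓ twistedG2 K e).subgroupOf (twistedG2 K e))) ⊓
      MulAction.stabilizer ↥(twistedG2 K e)
        (QuotientGroup.mk (⟨n, hn.tw⟩ : ↥(twistedG2 K e))⁻¹ : (↥(twistedG2 K e) ⧸ (chevG2.borelSubgroup K ⊓ twistedG2 K e).subgroupOf (twistedG2 K e))) ⊓
      MulAction.stabilizer ↥(twistedG2 K e)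
        (QuotientGroup.mk ((⟨u₀, (Subgroup.mem_inf.mp hu₀m).2⟩ : ↥(twistedG2 K e)) *
          (⟨n, hn.tw⟩ : ↥(twistedG2 K e))⁻¹) : (↥(twistedG2 K e) ⧸ (chevG2.borelSubgroup K ⊓ twistedG2 K e).subgroupOf (twistedG2 K e))) := by
    refine Subgroup.mem_inf.mpr ⟨Subgroup.mem_inf.mpr ⟨?_, ?_⟩, ?_⟩
    · rw [mem_stab_mk, Subgroup.mem_subgroupOf]
      refine Subgroup.mem_inf.mpr ⟨?_, SetLike.coe_mem _⟩
      show (1 : GL chevG2.Idx K)⁻¹ * h * 1 ∈ chevG2.borelSubgroup K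
      rw [inv_one, one_mul, mul_one]
      exact hHB hH
    · rw [mem_stab_mk, Subgroup.mem_subgroupOf]
      refine Subgroup.mem_inf.mpr ⟨?_, SetLike.coe_mem _⟩
      show (n⁻¹)⁻¹ * h * n⁻¹ ∈ chevG2.borelSubgroup K
      rw [inv_inv]
      exact hHB (conj_mem_diag I hn.mono hH)
    · rw [mem_stab_mk, Subgroup.mem_subgroupOf]
      refine Subgroup.mem_inf.mpr ⟨?_, SetLike.coe_mem _⟩
      show (u₀ * n⁻¹)⁻¹ * h * (u₀ * n⁻¹) ∈ chevG2.borelSubgroup K
      have e0 : (u₀ * n⁻¹)⁻¹ * h * (u₀ * n⁻¹) = n * (u₀⁻¹ * (h * u₀)) * n⁻¹ := by group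
      rw [e0, hcomm]
      have e1 : n * (u₀⁻¹ * (u₀ * h)) * n⁻¹ = n * h * n⁻¹ := by group
      rw [e1]
      exact hHB (conj_mem_diag I hn.mono hH)
  have hnt := (Subgroup.nontrivial_iff_exists_ne_one _).mpr
    ⟨(⟨h, hΓ⟩ : ↥(twistedG2 K e)), hmem, fun h1 => hne1 (congrArg Subtype.val h1)⟩
  exact Finite.one_lt_card_iff_nontrivial.mpr hnt

end Stab3

end Cfsg.Agent.Lib.helper23
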