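import Cfsg.Agent.Lib.helper23.ChevReeN

set_option autoImplicit false
set_option maxRecDepth 100000

/-!
# The diagonal subgroup of the twisted group of type `G₂`

An element of `H` fixed by the twisting automorphism is determined by its value `μ` on the highest root (the other
values being forced by `χ(ρ s) = τ_s(χ(s))`), and every `μ ≠ 0` occurs for an element of `H ∩ G¹`:
`h(t)` has the value `t ^ (3θ + 1)`, which runs through the squares, and `h_{a+b}(-1)` has the value `-1`.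
-/

namespace Cfsg.Agent.Lib.helper23

open Cfsg Cfsg.Lie Cfsg.Agent.Lib.helper41 Cfsg.Agent.Lib.helper22

section Torus

variable {K : Type*} [Field K]

theorem torusChar_two (c : Fin chevG2.rank → K) (s : ℕ) :
    torusChar chevG2 K c s = c ⟨0, by decide⟩ ^ cartanZ chevG2 0 s * c ⟨1, by decide⟩ ^ cartanZ chevG2 1 s := by
  unfold torusChar
  exact Fin.prod_univ_two (fun i : Fin 2 => c i ^ cartanZ chevG2 i.val s)

theorem torusChar_11 (c : Fin chevG2.rank → K) : torusChar chevG2 K c 11 = c ⟨1, by decide⟩ := by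
  rw [torusChar_two]
  have h0 : cartanZ chevG2 0 11 = 0 := by decide
  have h1 : cartanZ chevG2 1 11 = 1 := by decide
  rw [h0, h1, zpow_zero, zpow_one, one_mul]

theorem torusChar_9 (c : Fin chevG2.rank → K) : torusChar chevG2 K c 9 = c ⟨0, by decide⟩ := by
  rw [torusChar_two]
  have h0 : cartanZ chevG2 0 9 = 1 := by decide
  have h1 : cartanZ chevG2 1 9 = 0 := by decide
  rw [h0, h1, zpow_zero, zpow_one, mul_one]

theorem torusMat_entry (c : Fin chevG2.rank → K) (s : Fin chevG2.nroots) :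
    torusMat chevG2 K c (Sum.inr s) (Sum.inr s) = torusChar chevG2 K c s.val := by
  unfold torusMat
  rw [Matrix.diagonal_apply_eq]
  rfl

theorem torusMat_mul_x (c : Fin chevG2.rank → K) (hc : ∀ i, c i ≠ 0) (s : ℕ) (hs : s < 12) (t : K) :
    torusMat chevG2 K c * chevG2.x K s t =
      chevG2.x K s (torusChar chevG2 K c s * t) * torusMat chevG2 K c := by
  obtain ⟨S, hS⟩ := (bnInput_G2 K).hSD ⟨s, hs⟩
  rw [x_eq chevG2 K ⟨s, hs⟩ t, x_eq chevG2 K ⟨s, hs⟩]
  exact torusMat_mul_xMat S hS c hc t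

theorem hMat_torus (r : ℕ) (hr : r < 12) (t : K) (ht : t ≠ 0) :
    chevG2.hMat K r t = torusMat chevG2 K (fun i => t ^ corootZ chevG2 r i.val) := by
  obtain ⟨S⟩ := stringData_G2 ⟨r, hr⟩
  exact hMat_eq_torusMat S t ht

end Torus

section Fix

variable {K : Type*} [Field K] {e : ℕ} (R : ReeData K e)

include R

/-- The character of a torus element fixed by `σ` satisfies `χ(ρ s) = τ_s(χ(s))`. -/
theorem ReeData.fix_torus {h : GL chevG2.Idx K} (hfix : h ∈ R.fix) (c : Fin chevG2.rank → K)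
    (hc : ∀ i, c i ≠ 0) (hv : (h : Matrix chevG2.Idx chevG2.Idx K) = torusMat chevG2 K c) (s : ℕ) (hs : s < 12) :
    torusChar chevG2 K c (isoRtG2.getD s 0) * (((1 : K) ^ e) ^ isoLmG2.getD s 1) =
      ((torusChar chevG2 K c s * 1) ^ e) ^ isoLmG2.getD s 1 := by
  have hρs := isoRt_lt s hs
  obtain ⟨x, hx⟩ := exists_x (F := K) stringData_G2 s hs 1
  obtain ⟨y, hy⟩ := exists_x (F := K) stringData_G2 s hs (torusChar chevG2 K c s * 1)
  obtain ⟨hxG, hxs⟩ := R.sg_x hs hx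
  obtain ⟨hyG, hys⟩ := R.sg_x hs hy
  have e1 : h * x = y * h := Units.ext (by
    rw [Units.val_mul, Units.val_mul, hx, hy, hv]
    exact torusMat_mul_x c hc s hs 1)
  have e2 : R.sg h * R.sg x = R.sg y * R.sg h := by rw [← R.sg_mul hfix.1 hxG, ← R.sg_mul hyG hfix.1, e1]
  rw [hfix.2] at e2
  have e3 := congrArg (fun g : GL chevG2.Idx K => (g : Matrix chevG2.Idx chevG2.Idx K)) e2
  simp only [Units.val_mul] at e3
  rw [hxs, hys, hv, torusMat_mul_x c hc _ hρs] at e3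
  have e4 := congrArg (fun M => M * ((h⁻¹ : GL chevG2.Idx K) : Matrix chevG2.Idx chevG2.Idx K)) e3
  simp only [mul_assoc] at e4
  rw [← hv, gl_mul_inv_val, mul_one, mul_one] at e4
  exact x_inj_G2 hρs e4

/-- An element of `H` fixed by `σ` is determined by its entry at the highest root. -/
theorem ReeData.fix_diag_inj {h h' : GL chevG2.Idx K} (hh : h ∈ chevG2.diagonalSubgroup K) (hfix : h ∈ R.fix)
    (hh' : h' ∈ chevG2.diagonalSubgroup K) (hfix' : h' ∈ R.fix)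
    (heq : (h : Matrix chevG2.Idx chevG2.Idx K) (Sum.inr ⟨11, by decide⟩) (Sum.inr ⟨11, by decide⟩) =
      (h' : Matrix chevG2.Idx chevG2.Idx K) (Sum.inr ⟨11, by decide⟩) (Sum.inr ⟨11, by decide⟩)) : h = h' := by
  have I := bnInput_G2 K
  obtain ⟨c, hc, hv⟩ := diagonalSubgroup_le_torus I.hSD' hh
  obtain ⟨c', hc', hv'⟩ := diagonalSubgroup_le_torus I.hSD' hh'
  rw [hv, hv', torusMat_entry, torusMat_entry] at heq
  have h1 : c ⟨1, by decide⟩ = c' ⟨1, by decide⟩ := by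
    rw [← torusChar_11 c, ← torusChar_11 c']
    exact heq
  have h2 := R.fix_torus hfix c hc hv 11 (by decide)
  have h3 := R.fix_torus hfix' c' hc' hv' 11 (by decide)
  have r1 : isoRtG2.getD 11 0 = 9 := by decide
  have r2 : isoLmG2.getD 11 1 = 1 := by decide
  rw [r1, r2, torusChar_9, torusChar_11, one_pow, one_pow, mul_one, mul_one, pow_one] at h2 h3
  have h4 : c = c' := by
    funext i
    obtain ⟨i, hi⟩ := i
    have hi' : i < 2 := hi
    have : i = 0 ∨ i = 1 := by omega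
    rcases this with rfl | rfl
    · rw [h2, h3, h1]
    · exact h1
  apply Units.ext
  rw [hv, hv', h4]

/-- Every element is a square up to sign. -/
theorem ReeData.exists_sq (μ : K) : ∃ y : K, y * y = μ ∨ y * y = -μ := by
  obtain ⟨j, hj⟩ := R.hodd
  refine ⟨μ ^ (3 * j * j + 3 * j + 1), ?_⟩
  have h2 : ((μ ^ e) ^ e) ^ 3 = μ := R.hφ μ
  have h3 : (μ ^ (3 * j * j + 3 * j + 1) * μ ^ (3 * j * j + 3 * j + 1)) *
      (μ ^ (3 * j * j + 3 * j + 1) * μ ^ (3 * j * j + 3 * j + 1)) = ((μ ^ e) ^ e) ^ 3 * μ := by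
    rw [hj]
    ring
  rw [h2] at h3
  exact mul_self_eq_mul_self_iff.mp h3

/-- Every `μ ≠ 0` is the entry at the highest root of an element of `H ∩ G¹`. -/
theorem ReeData.exists_diag_entry (μ : K) (hμ : μ ≠ 0) : ∃ h : GL chevG2.Idx K,
    h ∈ chevG2.diagonalSubgroup K ∧ h ∈ twistedG2 K e ∧
    (h : Matrix chevG2.Idx chevG2.Idx K) (Sum.inr ⟨11, by decide⟩) (Sum.inr ⟨11, by decide⟩) = μ := by
  obtain ⟨y, hy⟩ := R.exists_sq μ
  have hy0 : y ≠ 0 := by
    rintro rfl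
    rcases hy with h | h
    · exact hμ (by rw [← h, mul_zero])
    · exact hμ (neg_eq_zero.mp (by rw [← h, mul_zero]))
  have hye : y ^ e ≠ 0 := pow_ne_zero _ hy0
  have ht : (y ^ e) ^ 3 * y⁻¹ ≠ 0 := mul_ne_zero (pow_ne_zero _ hye) (inv_ne_zero hy0)
  have hte : ((y ^ e) ^ 3 * y⁻¹) ^ e ≠ 0 := pow_ne_zero _ ht
  obtain ⟨h₁, hH₁, hΓ₁, hv₁⟩ := R.exists_hh _ ht
  have c8 : corootZ chevG2 8 1 = 3 := by decide
  have c10 : corootZ chevG2 10 1 = 1 := by decide
  have hcomp : (((y ^ e) ^ 3 * y⁻¹) ^ e) ^ 3 * ((y ^ e) ^ 3 * y⁻¹) = y * y := by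
    have h1 : ((y ^ e) ^ 3 * y⁻¹) ^ e = y * (y ^ e)⁻¹ := by
      rw [mul_pow, inv_pow, R.pow_e_cube, R.hφ]
    rw [h1]
    field_simp
  have hent : (h₁ : Matrix chevG2.Idx chevG2.Idx K) (Sum.inr ⟨11, by decide⟩) (Sum.inr ⟨11, by decide⟩) = y * y := by
    rw [hv₁, hMat_torus 8 (by decide) _ hte, hMat_torus 10 (by decide) _ ht, torusMat_mul, torusMat_entry,
      torusChar_11]
    show (((y ^ e) ^ 3 * y⁻¹) ^ e) ^ corootZ chevG2 8 1 * ((y ^ e) ^ 3 * y⁻¹) ^ corootZ chevG2 10 1 = _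
    rw [c8, c10, zpow_one, zpow_ofNat]
    exact hcomp
  rcases hy with hy | hy
  · exact ⟨h₁, hH₁, hΓ₁, hent.trans hy⟩
  · obtain ⟨h₂, hH₂, hΓ₂, hv₂⟩ := R.exists_hm
    refine ⟨h₂ * h₁, mul_mem hH₂ hH₁, mul_mem hΓ₂ hΓ₁, ?_⟩
    rw [Units.val_mul, hv₂, hv₁, hMat_torus 8 (by decide) _ hte, hMat_torus 10 (by decide) _ ht,
      hMat_torus 8 (by decide) _ (neg_ne_zero.mpr one_ne_zero), torusMat_mul, torusMat_mul, torusMat_entry,
      torusChar_11]
    show (-1 : K) ^ corootZ chevG2 8 1 * ((((y ^ e) ^ 3 * y⁻¹) ^ e) ^ corootZ chevG2 8 1 *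
      ((y ^ e) ^ 3 * y⁻¹) ^ corootZ chevG2 10 1) = _
    rw [c8, c10, zpow_one, zpow_ofNat, zpow_ofNat, hcomp, hy]
    ring

/-- `|H ∩ G¹| = |K| - 1`. -/
theorem ReeData.card_diag_inf_twisted [Fintype K] :
    Nat.card ↥(chevG2.diagonalSubgroup K ⊓ twistedG2 K e) = Fintype.card K - 1 := by
  have I := bnInput_G2 K
  have hne : ∀ g : ↥(chevG2.diagonalSubgroup K ⊓ twistedG2 K e),
      ((g : GL chevG2.Idx K) : Matrix chevG2.Idx chevG2.Idx K) (Sum.inr ⟨11, by decide⟩)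
        (Sum.inr ⟨11, by decide⟩) ≠ 0 := by
    intro g
    obtain ⟨c, hc, hv⟩ := diagonalSubgroup_le_torus I.hSD' g.2.1
    rw [hv, torusMat_entry]
    exact torusChar_ne_zero chevG2 K c hc _
  have hbij : Function.Bijective
      (fun g : ↥(chevG2.diagonalSubgroup K ⊓ twistedG2 K e) => Units.mk0 _ (hne g)) := by
    constructor
    · intro g g' hgg
      have h1 := congrArg Units.val hgg
      exact Subtype.ext (R.fix_diag_inj g.2.1 (R.twisted_le_fix g.2.2) g'.2.1 (R.twisted_le_fix g'.2.2) h1)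
    · intro μ
      obtain ⟨h, hH, hΓ, hv⟩ := R.exists_diag_entry μ.val μ.ne_zero
      exact ⟨⟨h, hH, hΓ⟩, Units.ext hv⟩
  rw [Nat.card_congr (Equiv.ofBijective _ hbij), Nat.card_units, Nat.card_eq_fintype_card]

end Fix

end Cfsg.Agent.Lib.helper23
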