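import Cfsg.Agent.Lib.helper23.ChevReeW

set_option autoImplicit false
set_option maxRecDepth 100000

/-!
# The involution `h_{a+b}(-1)` of the twisted group of type `G₂`

Identities between words in root elements with integer parameters are checked column by column with helper41's
symbolic column calculus; `h_{a+b}(-1)` is a product of four generators of the twisted group.
-/

namespace Cfsg.Agent.Lib.helper23

open Cfsg Cfsg.Lie Cfsg.Agent.Lib.helper41 Cfsg.Agent.Lib.helper22
open scoped Matrix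

section Words

variable (D : ChevalleyDatum)

/-- A word with integer parameters applied to a symbolic vector. -/
def wordSV (col : ℕ → ℕ → List (ℕ × ℤ × ℕ)) : List (ℕ × ℤ) → SV → SV
  | [], v => v
  | p :: w, v => norm (appT (colW D col p.1 p.2 0) (wordSV col w v))

/-- A word with integer parameters as a word over a field. -/
def intWord (F : Type*) [Field F] (w : List (ℕ × ℤ)) : List (ℕ × F) := w.map fun p => (p.1, (p.2 : F))

theorem intWord_append (F : Type*) [Field F] (w w' : List (ℕ × ℤ)) :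
    intWord F (w ++ w') = intWord F w ++ intWord F w' := List.map_append

variable {F : Type*} [Field F]

theorem wordMat_mulVec_ev (col : ℕ → ℕ → List (ℕ × ℤ × ℕ)) (hcol : ColValid D col) (w : List (ℕ × ℤ))
    (hw : ∀ p ∈ w, p.1 < D.nroots) (v : SV) :
    D.wordMat F (intWord F w) *ᵥ ev D (1 : F) v = ev D (1 : F) (wordSV D col w v) := by
  induction w with
  | nil =>
    show D.wordMat F [] *ᵥ _ = ev D (1 : F) v
    rw [Cfsg.Agent.Lib.helper22.wordMat_nil, Matrix.one_mulVec]
  | cons p w ih =>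
    have hp := hw p List.mem_cons_self
    show D.wordMat F ((p.1, (p.2 : F)) :: intWord F w) *ᵥ _ = _
    rw [Cfsg.Agent.Lib.helper22.wordMat_cons, ← Matrix.mulVec_mulVec,
      ih (fun q hq => hw q (List.mem_cons_of_mem _ hq))]
    show _ = ev D (1 : F) (norm (appT (colW D col p.1 p.2 0) (wordSV D col w v)))
    rw [ev_norm]
    have h2 : ∀ m, D.x F p.1 (p.2 : F) *ᵥ ev D (1 : F) [(m, 1, 0)] = ev D (1 : F) (colW D col p.1 p.2 0 m) := by
      intro m
      have := col_spec' D (1 : F) col hcol p.1 hp p.2 0 m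
      simpa using this
    exact mulVec_ev D 1 _ _ h2 _

/-- The check that two words with integer parameters have the same matrix in characteristic `p`. -/
def wordEqCheck (col : ℕ → ℕ → List (ℕ × ℤ × ℕ)) (p : ℕ) (w1 w2 : List (ℕ × ℤ)) : Bool :=
  allBelow (D.rank + D.nroots) fun n => eqSVp p (wordSV D col w1 [(n, 1, 0)]) (wordSV D col w2 [(n, 1, 0)])

theorem wordMat_eq_of_check (col : ℕ → ℕ → List (ℕ × ℤ × ℕ)) (hcol : ColValid D col) (p : ℕ) [CharP F p]
    (w1 w2 : List (ℕ × ℤ)) (hw1 : ∀ q ∈ w1, q.1 < D.nroots) (hw2 : ∀ q ∈ w2, q.1 < D.nroots)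
    (h : wordEqCheck D col p w1 w2 = true) :
    D.wordMat F (intWord F w1) = D.wordMat F (intWord F w2) := by
  apply matrix_ext_ev D (1 : F)
  intro n hn
  rw [wordMat_mulVec_ev D col hcol w1 hw1, wordMat_mulVec_ev D col hcol w2 hw2]
  exact ev_eq_of_eqSVp D p 1 _ _ ((allBelow_iff _ _).mp h n hn)

end Words

/-- The word `U(0,0,1) V(0,0,1) U(1,1,1) V(-1,1,-1)`. -/
def hmWord : List (ℕ × ℤ) :=
  [(7, 0), (6, 0), (8, 0), (9, 1), (10, 0), (11, 1), (4, 0), (5, 0), (3, 0), (2, -1), (1, 0), (0, -1),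
    (7, 1), (6, 1), (8, 2), (9, 2), (10, 1), (11, 1), (4, 1), (5, 1), (3, -2), (2, 2), (1, -1), (0, 1)]

/-- The word `h_{a+b}(-1)`. -/
def hmWord' : List (ℕ × ℤ) := [(8, -1), (3, 1), (8, -1), (8, -1), (3, 1), (8, -1)]

theorem hmCheck : wordEqCheck chevG2 TabG2.tab.col 3 hmWord hmWord' = true := by decide +kernel

section HM

variable {K : Type*} [Field K] {e : ℕ} (R : ReeData K e)

include R

theorem ReeData.hm_word :
    chevG2.wordMat K (reeWordU e 0 0 1) * chevG2.wordMat K (reeWordV e 0 0 1) *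
      chevG2.wordMat K (reeWordU e 1 1 1) * chevG2.wordMat K (reeWordV e (-1) 1 (-1)) =
    chevG2.hMat K 8 (-1) := by
  haveI := R.char3
  have he := R.e_ne_zero
  have he1 : e + 1 ≠ 0 := by omega
  have he2 : 2 * e + 1 ≠ 0 := by omega
  have hodd : (-1 : K) ^ e = -1 := R.hodd.neg_one_pow
  have hev : (-1 : K) ^ (e + 1) = 1 := by rw [pow_succ, hodd]; ring
  have hodd2 : (-1 : K) ^ (2 * e + 1) = -1 := by rw [pow_succ, pow_mul]; norm_num
  have h1 : reeWordU e (0 : K) 0 1 = intWord K [(7, 0), (6, 0), (8, 0), (9, 1), (10, 0), (11, 1)] := by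
    unfold reeWordU intWord
    simp only [List.map_cons, List.map_nil, zero_pow he, zero_pow he1, zero_pow he2, one_pow, add_zero,
      zero_add, Int.cast_zero, Int.cast_one]
    rfl
  have h2 : reeWordV e (0 : K) 0 1 = intWord K [(4, 0), (5, 0), (3, 0), (2, -1), (1, 0), (0, -1)] := by
    unfold reeWordV reeWordU ChevalleyDatum.negWord intWord
    simp only [List.map_cons, List.map_nil, zero_pow he, zero_pow he1, zero_pow he2, one_pow, add_zero,
      zero_add, Int.cast_zero, Int.cast_one, Int.cast_neg, neg_zero]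
    rfl
  have h3 : reeWordU e (1 : K) 1 1 = intWord K [(7, 1), (6, 1), (8, 2), (9, 2), (10, 1), (11, 1)] := by
    unfold reeWordU intWord
    simp only [List.map_cons, List.map_nil, one_pow, Int.cast_one, Int.cast_ofNat, one_add_one_eq_two]
    rfl
  have h4 : reeWordV e (-1 : K) 1 (-1) = intWord K [(4, 1), (5, 1), (3, -2), (2, 2), (1, -1), (0, 1)] := by
    unfold reeWordV reeWordU ChevalleyDatum.negWord intWord
    simp only [List.map_cons, List.map_nil, one_pow, hodd, hev, hodd2, Int.cast_one, Int.cast_ofNat,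
      Int.cast_neg, one_add_one_eq_two, neg_neg]
    have e9 : -((-1 : K) + -1) = 2 := by ring
    rw [e9]
    rfl
  have h5 : chevG2.hMat K 8 (-1) = chevG2.wordMat K (intWord K hmWord') := by
    unfold ChevalleyDatum.hMat ChevalleyDatum.hWord ChevalleyDatum.nWord hmWord' intWord
    simp only [List.map_cons, List.map_nil, List.cons_append, List.nil_append, inv_neg_one, neg_neg,
      Int.cast_one, Int.cast_neg]
    rfl
  rw [h1, h2, h3, h4, h5, ← Cfsg.Agent.Lib.helper22.wordMat_append, ← Cfsg.Agent.Lib.helper22.wordMat_append,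
    ← Cfsg.Agent.Lib.helper22.wordMat_append, ← intWord_append, ← intWord_append, ← intWord_append]
  exact wordMat_eq_of_check chevG2 TabG2.tab.col TabG2.colValid 3 _ _ (by decide) (by decide) hmCheck

/-- `h_{a+b}(-1)` lies in `H ∩ G¹`. -/
theorem ReeData.exists_hm : ∃ h : GL chevG2.Idx K, h ∈ chevG2.diagonalSubgroup K ∧ h ∈ twistedG2 K e ∧
    (h : Matrix chevG2.Idx chevG2.Idx K) = chevG2.hMat K 8 (-1) := by
  obtain ⟨u1, hu1⟩ := exists_word (reeWordU e (0 : K) 0 1)
  obtain ⟨v1, hv1⟩ := exists_word (reeWordV e (0 : K) 0 1)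
  obtain ⟨u2, hu2⟩ := exists_word (reeWordU e (1 : K) 1 1)
  obtain ⟨v2, hv2⟩ := exists_word (reeWordV e (-1 : K) 1 (-1))
  have hval : ((u1 * v1 * u2 * v2 : GL chevG2.Idx K) : Matrix chevG2.Idx chevG2.Idx K) = chevG2.hMat K 8 (-1) := by
    rw [Units.val_mul, Units.val_mul, Units.val_mul, hu1, hv1, hu2, hv2]
    exact R.hm_word
  refine ⟨u1 * v1 * u2 * v2, ?_, ?_, hval⟩
  · exact Subgroup.subset_closure ⟨8, -1, by decide, neg_ne_zero.mpr one_ne_zero, hval⟩
  · have m1 : u1 ∈ twistedG2 K e := Subgroup.subset_closure ⟨_, ⟨0, 0, 1, Or.inl rfl⟩, hu1⟩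
    have m2 : v1 ∈ twistedG2 K e := Subgroup.subset_closure ⟨_, ⟨0, 0, 1, Or.inr rfl⟩, hv1⟩
    have m3 : u2 ∈ twistedG2 K e := Subgroup.subset_closure ⟨_, ⟨1, 1, 1, Or.inl rfl⟩, hu2⟩
    have m4 : v2 ∈ twistedG2 K e := Subgroup.subset_closure ⟨_, ⟨-1, 1, -1, Or.inr rfl⟩, hv2⟩
    exact mul_mem (mul_mem (mul_mem m1 m2) m3) m4

end HM

end Cfsg.Agent.Lib.helper23
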