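import Cfsg.Agent.Lib.helper23.ChevReeHm

set_option autoImplicit false
set_option maxRecDepth 100000

/-!
# The elements `n(t)` and `h(t)` of the twisted group of type `G₂`

`n(t) = U(0,t,0) V(0,t⁻¹,0) U(0,t,0) = n_{a+b}(t^θ) n_{3a+b}(t)` lies in `N ∩ G¹`, `h(t) = n(t) n(-1) =
h_{a+b}(t^θ) h_{3a+b}(t)` lies in `H ∩ G¹`, and `n(1)` represents the nontrivial element of the Weyl group of the
twisted group: it acts on the roots as `-1`.
-/

namespace Cfsg.Agent.Lib.helper23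

open Cfsg Cfsg.Lie Cfsg.Agent.Lib.helper41 Cfsg.Agent.Lib.helper22

theorem six_comm {M : Type*} [Monoid M] {A B C D : M} (hAB : Commute A B) (hCB : Commute C B)
    (hAD : Commute A D) : (A * B) * (C * D) * (A * B) = (A * C * A) * (B * D * B) := by
  calc A * B * (C * D) * (A * B) = A * (B * C) * (D * A) * B := by simp only [mul_assoc]
    _ = A * (C * B) * (A * D) * B := by rw [← hCB.eq, ← hAD.eq]
    _ = A * C * (B * A) * D * B := by simp only [mul_assoc]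
    _ = A * C * (A * B) * D * B := by rw [← hAB.eq]
    _ = A * C * A * (B * D * B) := by simp only [mul_assoc]

section Mid

variable {K : Type*} [Field K]

theorem x_zero_G2 (r : ℕ) : chevG2.x K r 0 = 1 := x_zero stringData_G2 r

theorem wordMat_reeU_mid {e : ℕ} (he : e ≠ 0) (t : K) :
    chevG2.wordMat K (reeWordU e 0 t 0) = chevG2.x K 8 (t ^ e) * chevG2.x K 10 t := by
  unfold reeWordU
  rw [wordMat_six]
  show chevG2.x K 7 (0 ^ e) * chevG2.x K 6 0 * (chevG2.x K 8 (0 ^ (e + 1) + t ^ e) *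
    chevG2.x K 9 (0 ^ (2 * e + 1) + 0 ^ e) * (chevG2.x K 10 t * chevG2.x K 11 0)) = _
  simp only [zero_pow he, zero_pow (show e + 1 ≠ 0 by omega), zero_pow (show 2 * e + 1 ≠ 0 by omega),
    zero_add, add_zero, x_zero_G2, one_mul, mul_one]

theorem wordMat_reeV_mid {e : ℕ} (he : e ≠ 0) (t : K) :
    chevG2.wordMat K (reeWordV e 0 t 0) = chevG2.x K 3 (-(t ^ e)) * chevG2.x K 1 (-t) := by
  unfold reeWordV reeWordU ChevalleyDatum.negWord
  simp only [List.map_cons, List.map_nil]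
  rw [wordMat_six]
  show chevG2.x K 4 (-(0 ^ e)) * chevG2.x K 5 (-0) * (chevG2.x K 3 (-(0 ^ (e + 1) + t ^ e)) *
    chevG2.x K 2 (-(0 ^ (2 * e + 1) + 0 ^ e)) * (chevG2.x K 1 (-t) * chevG2.x K 0 (-0))) = _
  simp only [zero_pow he, zero_pow (show e + 1 ≠ 0 by omega), zero_pow (show 2 * e + 1 ≠ 0 by omega),
    zero_add, add_zero, neg_zero, x_zero_G2, one_mul, mul_one]

theorem nMat_eq3 (r : ℕ) (c : K) :
    chevG2.nMat K r c = chevG2.x K r c * chevG2.x K (chevG2.neg r) (-c⁻¹) * chevG2.x K r c := by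
  unfold ChevalleyDatum.nMat ChevalleyDatum.nWord
  simp only [Cfsg.Agent.Lib.helper22.wordMat_cons, Cfsg.Agent.Lib.helper22.wordMat_nil, mul_one, mul_assoc]

theorem hMat_eq2 (r : ℕ) (c : K) : chevG2.hMat K r c = chevG2.nMat K r c * chevG2.nMat K r (-1) := by
  unfold ChevalleyDatum.hMat ChevalleyDatum.hWord ChevalleyDatum.nMat
  exact Cfsg.Agent.Lib.helper22.wordMat_append _ _

theorem comm_n8_n10 [CharP K 3] (a b : K) : Commute (chevG2.nMat K 8 a) (chevG2.nMat K 10 b) := by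
  rw [nMat_eq3, nMat_eq3]
  have h1 : chevG2.neg 8 = 3 := by decide
  have h2 : chevG2.neg 10 = 1 := by decide
  rw [h1, h2]
  have c1 := fun t u => comm_x3 (K := K) 8 10 (by decide) t u
  have c2 := fun t u => comm_x3 (K := K) 8 1 (by decide) t u
  have c3 := fun t u => comm_x3 (K := K) 3 10 (by decide) t u
  have c4 := fun t u => comm_x3 (K := K) 3 1 (by decide) t u
  have k8 : ∀ t u v, Commute (chevG2.x K 8 t) (chevG2.x K 10 u * chevG2.x K 1 v * chevG2.x K 10 u) :=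
    fun t u v => ((c1 t u).mul_right (c2 t v)).mul_right (c1 t u)
  have k3 : ∀ t u v, Commute (chevG2.x K 3 t) (chevG2.x K 10 u * chevG2.x K 1 v * chevG2.x K 10 u) :=
    fun t u v => ((c3 t u).mul_right (c4 t v)).mul_right (c3 t u)
  exact ((k8 _ _ _).mul_left (k3 _ _ _)).mul_left (k8 _ _ _)

/-- `n_r(c) ∈ N`. -/
theorem sl2n_mem_mono {r : Fin chevG2.nroots} (S : StringData chevG2 r) (c : K) (hc : c ≠ 0) :
    sl2Hom S (sl2n c hc) ∈ chevG2.monomialSubgroup K := by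
  rw [sl2n_eq_sl2h_mul_sl2n, map_mul]
  exact mul_mem (Subgroup.mem_sup_left (Subgroup.subset_closure ⟨r.val, c, r.isLt, hc, sl2Hom_sl2h S c hc⟩))
    (Subgroup.mem_sup_right (Subgroup.subset_closure ⟨r.val, r.isLt, sl2Hom_sl2n S 1 one_ne_zero⟩))

theorem reeU_mem_twisted {e : ℕ} (t u v : K) (g : GL chevG2.Idx K)
    (hg : (g : Matrix chevG2.Idx chevG2.Idx K) = chevG2.wordMat K (reeWordU e t u v)) : g ∈ twistedG2 K e :=
  Subgroup.subset_closure ⟨_, ⟨t, u, v, Or.inl rfl⟩, hg⟩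

theorem reeV_mem_twisted {e : ℕ} (t u v : K) (g : GL chevG2.Idx K)
    (hg : (g : Matrix chevG2.Idx chevG2.Idx K) = chevG2.wordMat K (reeWordV e t u v)) : g ∈ twistedG2 K e :=
  Subgroup.subset_closure ⟨_, ⟨t, u, v, Or.inr rfl⟩, hg⟩

/-- The elements `V(0,t,0)` lie in `V`. -/
theorem reeV_mid_mem_neg {e : ℕ} (he : e ≠ 0) (t : K) (g : GL chevG2.Idx K)
    (hg : (g : Matrix chevG2.Idx chevG2.Idx K) = chevG2.wordMat K (reeWordV e 0 t 0)) :
    g ∈ chevG2.negUnipotent K := by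
  rw [wordMat_reeV_mid he] at hg
  obtain ⟨a, ha⟩ := exists_x (F := K) stringData_G2 3 (by decide) (-(t ^ e))
  obtain ⟨b, hb⟩ := exists_x (F := K) stringData_G2 1 (by decide) (-t)
  have : g = a * b := Units.ext (by rw [hg, Units.val_mul, ha, hb])
  rw [this]
  exact mul_mem (Subgroup.subset_closure ⟨3, _, by decide, ha⟩) (Subgroup.subset_closure ⟨1, _, by decide, hb⟩)

end Mid

/-- A representative in `N ∩ G¹` of the nontrivial element of the Weyl group of the twisted group. -/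
structure ReeW0 {K : Type*} [Field K] (e : ℕ) (n : GL chevG2.Idx K) : Prop where
  mono : n ∈ chevG2.monomialSubgroup K
  tw : n ∈ twistedG2 K e
  act : ∃ (π : ℕ → ℕ) (c : ℕ → K),
    RootAct chevG2 K (n : Matrix chevG2.Idx chevG2.Idx K) π c ∧ ∀ s, s < 12 → π s = 11 - s

section N

variable {K : Type*} [Field K] {e : ℕ} (R : ReeData K e)

include R

/-- The elements `n(t) = U(0,t,0) V(0,t⁻¹,0) U(0,t,0) = n_{a+b}(t^θ) n_{3a+b}(t)`. -/
theorem ReeData.exists_m (t : K) (ht : t ≠ 0) : ∃ u v : GL chevG2.Idx K,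
    (u : Matrix chevG2.Idx chevG2.Idx K) = chevG2.wordMat K (reeWordU e 0 t 0) ∧
    (v : Matrix chevG2.Idx chevG2.Idx K) = chevG2.wordMat K (reeWordV e 0 t⁻¹ 0) ∧
    u * v * u ∈ chevG2.monomialSubgroup K ∧
    ((u * v * u : GL chevG2.Idx K) : Matrix chevG2.Idx chevG2.Idx K) =
      chevG2.nMat K 8 (t ^ e) * chevG2.nMat K 10 t := by
  haveI := R.char3
  have he := R.e_ne_zero
  obtain ⟨u, hu⟩ := exists_word (reeWordU e (0 : K) t 0)
  obtain ⟨v, hv⟩ := exists_word (reeWordV e (0 : K) t⁻¹ 0)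
  obtain ⟨S8⟩ := stringData_G2 ⟨8, by decide⟩
  obtain ⟨S10⟩ := stringData_G2 ⟨10, by decide⟩
  have hte : t ^ e ≠ 0 := pow_ne_zero _ ht
  have hval : ((u * v * u : GL chevG2.Idx K) : Matrix chevG2.Idx chevG2.Idx K) =
      chevG2.nMat K 8 (t ^ e) * chevG2.nMat K 10 t := by
    rw [Units.val_mul, Units.val_mul, hu, hv, wordMat_reeU_mid he, wordMat_reeV_mid he, nMat_eq3, nMat_eq3]
    have h1 : chevG2.neg 8 = 3 := by decide
    have h2 : chevG2.neg 10 = 1 := by decide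
    rw [h1, h2, inv_pow]
    exact six_comm (comm_x3 8 10 (by decide) _ _) (comm_x3 3 10 (by decide) _ _) (comm_x3 8 1 (by decide) _ _)
  refine ⟨u, v, hu, hv, ?_, hval⟩
  have e1 : u * v * u = sl2Hom S8 (sl2n (t ^ e) hte) * sl2Hom S10 (sl2n t ht) := by
    apply Units.ext
    rw [hval, Units.val_mul, sl2Hom_sl2n, sl2Hom_sl2n]
  rw [e1]
  exact mul_mem (sl2n_mem_mono S8 _ hte) (sl2n_mem_mono S10 _ ht)

/-- The elements `h(t) = n(t) n(-1) = h_{a+b}(t^θ) h_{3a+b}(t)` of `H ∩ G¹`. -/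
theorem ReeData.exists_hh (t : K) (ht : t ≠ 0) : ∃ h : GL chevG2.Idx K,
    h ∈ chevG2.diagonalSubgroup K ∧ h ∈ twistedG2 K e ∧
    (h : Matrix chevG2.Idx chevG2.Idx K) = chevG2.hMat K 8 (t ^ e) * chevG2.hMat K 10 t := by
  haveI := R.char3
  obtain ⟨u, v, hu, hv, -, hval⟩ := R.exists_m t ht
  obtain ⟨u', v', hu', hv', -, hval'⟩ := R.exists_m (-1) (neg_ne_zero.mpr one_ne_zero)
  obtain ⟨S8⟩ := stringData_G2 ⟨8, by decide⟩
  obtain ⟨S10⟩ := stringData_G2 ⟨10, by decide⟩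
  have hte : t ^ e ≠ 0 := pow_ne_zero _ ht
  have hv2 : (((u * v * u) * (u' * v' * u') : GL chevG2.Idx K) : Matrix chevG2.Idx chevG2.Idx K) =
      chevG2.hMat K 8 (t ^ e) * chevG2.hMat K 10 t := by
    rw [Units.val_mul, hval, hval', R.hodd.neg_one_pow, hMat_eq2, hMat_eq2]
    calc chevG2.nMat K 8 (t ^ e) * chevG2.nMat K 10 t * (chevG2.nMat K 8 (-1) * chevG2.nMat K 10 (-1))
        = chevG2.nMat K 8 (t ^ e) * (chevG2.nMat K 10 t * chevG2.nMat K 8 (-1)) * chevG2.nMat K 10 (-1) := by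
          simp only [mul_assoc]
      _ = chevG2.nMat K 8 (t ^ e) * (chevG2.nMat K 8 (-1) * chevG2.nMat K 10 t) * chevG2.nMat K 10 (-1) := by
          rw [(comm_n8_n10 (-1) t).eq]
      _ = _ := by simp only [mul_assoc]
  refine ⟨(u * v * u) * (u' * v' * u'), ?_, ?_, hv2⟩
  · have e1 : (u * v * u) * (u' * v' * u') = sl2Hom S8 (sl2h (t ^ e) hte) * sl2Hom S10 (sl2h t ht) := by
      apply Units.ext
      rw [hv2, Units.val_mul, sl2Hom_sl2h, sl2Hom_sl2h]
    rw [e1]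
    exact mul_mem (Subgroup.subset_closure ⟨8, _, by decide, hte, sl2Hom_sl2h S8 _ hte⟩)
      (Subgroup.subset_closure ⟨10, _, by decide, ht, sl2Hom_sl2h S10 _ ht⟩)
  · have m1 := reeU_mem_twisted _ _ _ u hu
    have m2 := reeV_mem_twisted _ _ _ v hv
    have m3 := reeU_mem_twisted _ _ _ u' hu'
    have m4 := reeV_mem_twisted _ _ _ v' hv'
    exact mul_mem (mul_mem (mul_mem m1 m2) m1) (mul_mem (mul_mem m3 m4) m3)

theorem ReeData.exists_w0 : ∃ n : GL chevG2.Idx K, ReeW0 e n := by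
  have he := R.e_ne_zero
  have I := bnInput_G2 K
  obtain ⟨u, v, hu, hv, hN, -⟩ := R.exists_m 1 one_ne_zero
  have m1 := reeU_mem_twisted _ _ _ u hu
  have m2 := reeV_mem_twisted _ _ _ v hv
  have htw : u * v * u ∈ twistedG2 K e := mul_mem (mul_mem m1 m2) m1
  refine ⟨u * v * u, hN, htw, ?_⟩
  have hfix := R.twisted_le_fix htw
  have hh : (u * v * u)⁻¹ * R.sg (u * v * u) ∈ chevG2.diagonalSubgroup K := by
    rw [hfix.2, inv_mul_cancel]
    exact one_mem _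
  rcases R.mono_cases hN hh with h | h
  · exfalso
    have hU : u ∈ chevG2.posUnipotent K := reeU_mem_pos R 0 1 0 u hu
    have hV : v ∈ chevG2.negUnipotent K := reeV_mid_mem_neg he _ v hv
    have hB : v ∈ chevG2.borelSubgroup K := by
      have e1 : v = u⁻¹ * (u * v * u) * u⁻¹ := by group
      rw [e1]
      exact mul_mem (mul_mem (Subgroup.mem_sup_left (inv_mem hU)) (Subgroup.mem_sup_right h))
        (Subgroup.mem_sup_left (inv_mem hU))
    have h1 : v ∈ chevG2.borelSubgroup K ⊓ chevG2.negUnipotent K := ⟨hB, hV⟩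
    rw [(Cfsg.Agent.S1037.result (F := K) chevG2 (by simp)).1, Subgroup.mem_bot] at h1
    rw [h1, Units.val_one, wordMat_reeV_mid he] at hv
    have h2 : chevG2.x K 3 (-((1 : K)⁻¹ ^ e)) = chevG2.x K 1 (1 : K)⁻¹ := by
      calc chevG2.x K 3 (-((1 : K)⁻¹ ^ e))
          = chevG2.x K 3 (-((1 : K)⁻¹ ^ e)) * (chevG2.x K 1 (-(1 : K)⁻¹) * chevG2.x K 1 (1 : K)⁻¹) := by
            rw [x_add' I.hSD', neg_add_cancel, x_zero_G2, mul_one]
        _ = chevG2.x K 1 (1 : K)⁻¹ := by rw [← mul_assoc, ← hv, one_mul]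
    have h3 := x_ne_of_ne I (primHyp_G2 K) (by decide : 3 < chevG2.nroots) (by decide : 1 < chevG2.nroots)
      (by decide) h2
    rw [inv_one, one_pow, neg_eq_zero] at h3
    exact one_ne_zero h3
  · exact h

end N

section W0

variable {K : Type*} [Field K] {e : ℕ} {n : GL chevG2.Idx K}

theorem ReeW0.sq_mem (hn : ReeW0 e n) : n * n ∈ chevG2.diagonalSubgroup K := by
  obtain ⟨π, c, hπ, hneg⟩ := hn.act
  exact mul_mem_diag_of_neg hn.mono hn.mono hπ hneg hπ hneg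

theorem ReeW0.fix (R : ReeData K e) (hn : ReeW0 e n) : R.sg n = n := (R.twisted_le_fix hn.tw).2

theorem ReeW0.not_mem (hn : ReeW0 e n) : n ∉ chevG2.diagonalSubgroup K := by
  intro hH
  have I := bnInput_G2 K
  obtain ⟨π, c, hπ, hneg⟩ := hn.act
  obtain ⟨c', hc'⟩ := rootAct_torus I.hSD (diagonalSubgroup_le_torus I.hSD' hH)
  obtain ⟨-, -, h1⟩ := hπ 6 (by decide)
  obtain ⟨-, -, h2⟩ := hc' 6 (by decide)
  have e1 := (h1 1).symm.trans (h2 1)
  have e2 := congrArg (fun M => M * ((n⁻¹ : GL chevG2.Idx K) : Matrix chevG2.Idx chevG2.Idx K)) e1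
  simp only [mul_assoc, gl_mul_inv_val, mul_one] at e2
  rw [hneg 6 (by decide)] at e2
  have h3 := x_ne_of_ne I (primHyp_G2 K) (by decide : 11 - 6 < chevG2.nroots) (by decide : 6 < chevG2.nroots)
    (by decide) e2
  exact rootAct_ne_zero_all I (primHyp_G2 K) hπ (by decide : 6 < chevG2.nroots) h3

/-- `n U n⁻¹ ≤ V`. -/
theorem ReeW0.conj_pos (hn : ReeW0 e n) :
    ∀ u ∈ chevG2.posUnipotent K, n * u * n⁻¹ ∈ chevG2.negUnipotent K := by
  obtain ⟨π, c, hπ, hneg⟩ := hn.act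
  apply conj_mem_of_closure
  rintro x ⟨r, t, hr, hx⟩
  obtain ⟨-, -, h3⟩ := hπ r hr.1
  have hr' := (isPos_G2 K r).mp hr
  apply Subgroup.subset_closure
  refine ⟨π r, c r * t, ?_, ?_⟩
  · rw [hneg r hr'.2]
    have : ∀ r, r < 12 → 6 ≤ r → chevG2.IsNegRoot (11 - r) := by decide
    exact this r hr'.2 hr'.1
  · rw [Units.val_mul, Units.val_mul, hx, h3, mul_assoc, gl_mul_inv_val, mul_one]

/-- The elements `n'` of `N` with `n'⁻¹ σ(n') ∈ H` lie in `H ∪ n H`. -/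
theorem ReeW0.cases (R : ReeData K e) (hn : ReeW0 e n) {n' : GL chevG2.Idx K} (hn' : n' ∈ chevG2.monomialSubgroup K)
    (hh : n'⁻¹ * R.sg n' ∈ chevG2.diagonalSubgroup K) :
    n' ∈ chevG2.diagonalSubgroup K ∨ ∃ h ∈ chevG2.diagonalSubgroup K, n' = n * h := by
  rcases R.mono_cases hn' hh with h | ⟨π', c', hπ', hneg'⟩
  · exact Or.inl h
  · right
    obtain ⟨π, c, hπ, hneg⟩ := hn.act
    have h1 := mul_mem_diag_of_neg hn.mono hn' hπ hneg hπ' hneg'
    refine ⟨(n * n)⁻¹ * (n * n'), mul_mem (inv_mem hn.sq_mem) h1, ?_⟩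
    group

end W0

end Cfsg.Agent.Lib.helper23
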