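import Cfsg.Agent.Lib.helper23.ChevReeP

set_option autoImplicit false
set_option maxRecDepth 100000

/-! # Elements of order `3` in `U¹` for the twisted group of type `G₂` -/

namespace Cfsg.Agent.Lib.helper23

open Cfsg Cfsg.Lie Cfsg.Agent.Lib.helper41 Cfsg.Agent.Lib.helper22

theorem chainStep_G2 : ∀ r : Fin 12, 6 ≤ r.val →
    chevG2.chainCoeff r.val 0 1 = (if r.val = 6 then [(1, -1)] else []) ∧
    chevG2.chainCoeff r.val 1 2 = (if r.val = 7 then [(1, -1)] else []) ∧
    chevG2.chainCoeff r.val 2 3 = (if r.val = 7 then [(1, 2)] else []) := by decide +kernel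

theorem negStep_G2 : ∀ r : Fin 12, chevG2.neg r.val = 11 - r.val := by decide +kernel

theorem rho_eq_one_G2 : ∀ l : chevG2.Idx, rho chevG2 l = 1 → l = Sum.inr ⟨1, by decide⟩ := by
  decide +kernel

theorem rho_eq_two_G2 : ∀ l : chevG2.Idx, rho chevG2 l = 2 → l = Sum.inr ⟨2, by decide⟩ := by
  decide +kernel

section Step

variable {K : Type*} [Field K]

/-- An entry one step above the diagonal is additive on `U`. -/
theorem step_mul {g g' : GL chevG2.Idx K} (hg : g ∈ chevG2.posUnipotent K)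
    (hg' : g' ∈ chevG2.posUnipotent K) {i j : chevG2.Idx} (hij : rho chevG2 i = rho chevG2 j + 1) :
    ((g * g' : GL chevG2.Idx K) : Matrix chevG2.Idx chevG2.Idx K) i j =
      (g : Matrix chevG2.Idx chevG2.Idx K) i j + (g' : Matrix chevG2.Idx chevG2.Idx K) i j := by
  rw [Units.val_mul, Matrix.mul_apply]
  have hne : i ≠ j := by
    intro h
    rw [h] at hij
    omega
  have key : ∀ k : chevG2.Idx,
      (g : Matrix chevG2.Idx chevG2.Idx K) i k * (g' : Matrix chevG2.Idx chevG2.Idx K) k j =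
      (if k = i then (g' : Matrix chevG2.Idx chevG2.Idx K) i j else 0) +
      (if k = j then (g : Matrix chevG2.Idx chevG2.Idx K) i j else 0) := by
    intro k
    by_cases h1 : k = i
    · rw [h1, if_pos rfl, if_neg hne, uni_diag hg, one_mul, add_zero]
    · by_cases h2 : k = j
      · rw [h2, if_neg (Ne.symm hne), if_pos rfl, uni_diag hg', mul_one, zero_add]
      · rw [if_neg h1, if_neg h2, add_zero]
        by_contra hne'
        obtain ⟨ha, hb⟩ := mul_ne_zero_iff.mp hne'
        have h3 := uni_off hg (Ne.symm h1) ha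
        have h4 := uni_off hg' h2 hb
        omega
  rw [Finset.sum_congr rfl fun k _ => key k, Finset.sum_add_distrib, Finset.sum_ite_eq', Finset.sum_ite_eq',
    if_pos (Finset.mem_univ _), if_pos (Finset.mem_univ _), add_comm]

/-- The entries of a positive root element on the path from the lowest root. -/
theorem step_x {r : ℕ} (hr6 : 6 ≤ r) (hr : r < 12) (c : K) {g : GL chevG2.Idx K}
    (hg : (g : Matrix chevG2.Idx chevG2.Idx K) = chevG2.x K r c) :
    (g : Matrix chevG2.Idx chevG2.Idx K) (Sum.inr ⟨1, by decide⟩) (Sum.inr ⟨0, by decide⟩) =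
      (if r = 6 then -c else 0) ∧
    (g : Matrix chevG2.Idx chevG2.Idx K) (Sum.inr ⟨2, by decide⟩) (Sum.inr ⟨1, by decide⟩) =
      (if r = 7 then -c else 0) ∧
    (g : Matrix chevG2.Idx chevG2.Idx K) (Sum.inr ⟨3, by decide⟩) (Sum.inr ⟨2, by decide⟩) =
      (if r = 7 then 2 * c else 0) := by
  obtain ⟨h1, h2, h3⟩ := chainStep_G2 ⟨r, hr⟩ hr6
  have hn := negStep_G2 ⟨r, hr⟩
  simp only at h1 h2 h3 hn
  rw [hg, x_eq chevG2 K ⟨r, hr⟩, xMat_inr_inr, xMat_inr_inr, xMat_inr_inr]
  simp only [h1, h2, h3, hn, Fin.mk.injEq]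
  interval_cases r <;> simp [Fin.ext_iff]

/-- The entries of a word in the positive root elements on the path from the lowest root. -/
theorem step_word6 (a b c d f g' : K) {g : GL chevG2.Idx K}
    (hg : (g : Matrix chevG2.Idx chevG2.Idx K) =
      chevG2.wordMat K [(7, a), (6, b), (8, c), (9, d), (10, f), (11, g')]) :
    (g : Matrix chevG2.Idx chevG2.Idx K) (Sum.inr ⟨1, by decide⟩) (Sum.inr ⟨0, by decide⟩) = -b ∧
    (g : Matrix chevG2.Idx chevG2.Idx K) (Sum.inr ⟨2, by decide⟩) (Sum.inr ⟨1, by decide⟩) = -a ∧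
    (g : Matrix chevG2.Idx chevG2.Idx K) (Sum.inr ⟨3, by decide⟩) (Sum.inr ⟨2, by decide⟩) = 2 * a := by
  obtain ⟨g7, h7⟩ := exists_x (F := K) stringData_G2 7 (by decide) a
  obtain ⟨g6, h6⟩ := exists_x (F := K) stringData_G2 6 (by decide) b
  obtain ⟨g8, h8⟩ := exists_x (F := K) stringData_G2 8 (by decide) c
  obtain ⟨g9, h9⟩ := exists_x (F := K) stringData_G2 9 (by decide) d
  obtain ⟨g10, h10⟩ := exists_x (F := K) stringData_G2 10 (by decide) f
  obtain ⟨g11, h11⟩ := exists_x (F := K) stringData_G2 11 (by decide) g'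
  have m7 : g7 ∈ chevG2.posUnipotent K := Subgroup.subset_closure ⟨7, a, by decide, h7⟩
  have m6 : g6 ∈ chevG2.posUnipotent K := Subgroup.subset_closure ⟨6, b, by decide, h6⟩
  have m8 : g8 ∈ chevG2.posUnipotent K := Subgroup.subset_closure ⟨8, c, by decide, h8⟩
  have m9 : g9 ∈ chevG2.posUnipotent K := Subgroup.subset_closure ⟨9, d, by decide, h9⟩
  have m10 : g10 ∈ chevG2.posUnipotent K := Subgroup.subset_closure ⟨10, f, by decide, h10⟩
  have m11 : g11 ∈ chevG2.posUnipotent K := Subgroup.subset_closure ⟨11, g', by decide, h11⟩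
  have e1 : g = g7 * g6 * (g8 * g9 * (g10 * g11)) := by
    apply Units.ext
    rw [hg, wordMat_six]
    simp only [Units.val_mul, h7, h6, h8, h9, h10, h11]
  have r10 : rho chevG2 (Sum.inr ⟨1, by decide⟩) = rho chevG2 (Sum.inr ⟨0, by decide⟩) + 1 := by decide
  have r21 : rho chevG2 (Sum.inr ⟨2, by decide⟩) = rho chevG2 (Sum.inr ⟨1, by decide⟩) + 1 := by decide
  have r32 : rho chevG2 (Sum.inr ⟨3, by decide⟩) = rho chevG2 (Sum.inr ⟨2, by decide⟩) + 1 := by decide
  obtain ⟨a7, b7, c7⟩ := step_x (by norm_num) (by norm_num) a h7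
  obtain ⟨a6, b6, c6⟩ := step_x (by norm_num) (by norm_num) b h6
  obtain ⟨a8, b8, c8⟩ := step_x (by norm_num) (by norm_num) c h8
  obtain ⟨a9, b9, c9⟩ := step_x (by norm_num) (by norm_num) d h9
  obtain ⟨a10, b10, c10⟩ := step_x (by norm_num) (by norm_num) f h10
  obtain ⟨a11, b11, c11⟩ := step_x (by norm_num) (by norm_num) g' h11
  refine ⟨?_, ?_, ?_⟩
  · rw [e1, step_mul (mul_mem m7 m6) (mul_mem (mul_mem m8 m9) (mul_mem m10 m11)) r10, step_mul m7 m6 r10,
      step_mul (mul_mem m8 m9) (mul_mem m10 m11) r10, step_mul m8 m9 r10, step_mul m10 m11 r10,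
      a7, a6, a8, a9, a10, a11]
    simp
  · rw [e1, step_mul (mul_mem m7 m6) (mul_mem (mul_mem m8 m9) (mul_mem m10 m11)) r21, step_mul m7 m6 r21,
      step_mul (mul_mem m8 m9) (mul_mem m10 m11) r21, step_mul m8 m9 r21, step_mul m10 m11 r21,
      b7, b6, b8, b9, b10, b11]
    simp
  · rw [e1, step_mul (mul_mem m7 m6) (mul_mem (mul_mem m8 m9) (mul_mem m10 m11)) r32, step_mul m7 m6 r32,
      step_mul (mul_mem m8 m9) (mul_mem m10 m11) r32, step_mul m8 m9 r32, step_mul m10 m11 r32,
      c7, c6, c8, c9, c10, c11]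
    simp

/-- The entry of `(g - 1)³` from the lowest root to the root three steps above. -/
theorem cube_entry {g : GL chevG2.Idx K} (hg : g ∈ chevG2.posUnipotent K) :
    (((g : Matrix chevG2.Idx chevG2.Idx K) - 1) ^ 3 : Matrix chevG2.Idx chevG2.Idx K)
        (Sum.inr ⟨3, by decide⟩) (Sum.inr ⟨0, by decide⟩) =
      (g : Matrix chevG2.Idx chevG2.Idx K) (Sum.inr ⟨3, by decide⟩) (Sum.inr ⟨2, by decide⟩) *
      (g : Matrix chevG2.Idx chevG2.Idx K) (Sum.inr ⟨2, by decide⟩) (Sum.inr ⟨1, by decide⟩) *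
      (g : Matrix chevG2.Idx chevG2.Idx K) (Sum.inr ⟨1, by decide⟩) (Sum.inr ⟨0, by decide⟩) := by
  have h1 : TriK (rho chevG2) 1 ((g : Matrix chevG2.Idx chevG2.Idx K) - 1) :=
    posUnipotent_le_uniK_all chevG2 (by simp) K hg
  have h2 : TriK (rho chevG2) (1 + 1) (((g : Matrix chevG2.Idx chevG2.Idx K) - 1) *
      ((g : Matrix chevG2.Idx chevG2.Idx K) - 1)) := h1.mul h1
  have r0 : rho chevG2 (Sum.inr ⟨0, by decide⟩) = 0 := by decide
  have r1 : rho chevG2 (Sum.inr ⟨1, by decide⟩) = 1 := by decide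
  have r3 : rho chevG2 (Sum.inr ⟨3, by decide⟩) = 3 := by decide
  rw [pow_succ, pow_two, Matrix.mul_apply]
  rw [Finset.sum_eq_single (Sum.inr ⟨1, by decide⟩)]
  · rw [Matrix.mul_apply, Finset.sum_eq_single (Sum.inr ⟨2, by decide⟩)]
    · rw [Matrix.sub_apply, Matrix.sub_apply, Matrix.sub_apply, Matrix.one_apply_ne (by simp),
        Matrix.one_apply_ne (by simp), Matrix.one_apply_ne (by simp), sub_zero, sub_zero, sub_zero]
    · intro k _ hk
      by_contra hne
      obtain ⟨ha, hb⟩ := mul_ne_zero_iff.mp hne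
      have h3 := h1 _ _ ha
      have h4 := h1 _ _ hb
      exact hk (rho_eq_two_G2 k (by omega))
    · intro h
      exact absurd (Finset.mem_univ _) h
  · intro l _ hl
    by_contra hne
    obtain ⟨ha, hb⟩ := mul_ne_zero_iff.mp hne
    have h3 := h2 _ _ ha
    have h4 := h1 _ _ hb
    exact hl (rho_eq_one_G2 l (by omega))
  · intro h
    exact absurd (Finset.mem_univ _) h

end Step

section Order

variable {K : Type*} [Field K] {e : ℕ} (R : ReeData K e)

include R

/-- `U(t,u,v)³ ≠ 1` for `t ≠ 0`. -/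
theorem ReeData.cube_ne_one {x : GL chevG2.Idx K} {t u v : K}
    (hx : (x : Matrix chevG2.Idx chevG2.Idx K) = chevG2.wordMat K (reeWordU e t u v)) (ht : t ≠ 0) :
    x ^ 3 ≠ 1 := by
  haveI := R.char3
  haveI : Fact (Nat.Prime 3) := ⟨Nat.prime_three⟩
  haveI : Nonempty chevG2.Idx := ⟨Sum.inr ⟨0, by decide⟩⟩
  intro h3
  have hxU := reeU_mem_pos R t u v x hx
  obtain ⟨s1, s2, s3⟩ := step_word6 _ _ _ _ _ _ hx
  have hc := cube_entry hxU
  rw [sub_pow_char_of_commute 3 (Commute.one_right _), one_pow, ← Units.val_pow_eq_pow_val, h3,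
    Units.val_one, sub_self, Matrix.zero_apply, s1, s2, s3] at hc
  have h2 : (2 : K) ≠ 0 := by
    intro h
    exact one_ne_zero (α := K) (by linear_combination (three_eq_zero : (3 : K) = 0) - h)
  have hte : t ^ e ≠ 0 := pow_ne_zero _ ht
  exact mul_ne_zero (mul_ne_zero (mul_ne_zero h2 hte) (neg_ne_zero.mpr hte)) (neg_ne_zero.mpr ht) hc.symm

/-- `U(0,u,v)³ = 1`. -/
theorem ReeData.cube_eq_one {x : GL chevG2.Idx K} {u v : K}
    (hx : (x : Matrix chevG2.Idx chevG2.Idx K) = chevG2.wordMat K (reeWordU e 0 u v)) : x ^ 3 = 1 := by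
  haveI := R.char3
  have he := R.e_ne_zero
  apply Units.ext
  rw [Units.val_pow_eq_pow_val, hx, R.reeU_split, Units.val_one]
  have hcomm : Commute (chevG2.wordMat K (reeWordU e 0 u 0)) (chevG2.wordMat K (reeWordU e 0 0 v)) := by
    rw [wordMat_reeU_mid he, R.wordMat_reeU_top]
    exact Commute.mul_left
      (Commute.mul_right (comm_x3 8 9 (by decide) _ _) (comm_x3 8 11 (by decide) _ _))
      (Commute.mul_right (comm_x3 9 10 (by decide) _ _).symm (comm_x3 10 11 (by decide) _ _))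
  have e1 : u + u + u = 0 := by linear_combination u * (three_eq_zero : (3 : K) = 0)
  have e2 : v + v + v = 0 := by linear_combination v * (three_eq_zero : (3 : K) = 0)
  have hA : chevG2.wordMat K (reeWordU e 0 u 0) ^ 3 = 1 := by
    rw [pow_succ, pow_two, R.reeU_mid_add, R.reeU_mid_add, e1, R.wordMat_reeU_zero]
  have hB : chevG2.wordMat K (reeWordU e 0 0 v) ^ 3 = 1 := by
    rw [pow_succ, pow_two, R.reeU_top_add, R.reeU_top_add, e2, R.wordMat_reeU_zero]
  rw [hcomm.mul_pow, hA, hB, one_mul]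

/-- `U¹` has exactly `|K|² - 1` elements of order `3`. -/
theorem ReeData.card_order_three [Fintype K] :
    Nat.card {x : ↥(chevG2.posUnipotent K ⊓ twistedG2 K e) // orderOf x = 3} = Fintype.card K ^ 2 - 1 := by
  classical
  haveI : Fact (Nat.Prime 3) := ⟨Nat.prime_three⟩
  have hex : ∀ p : {p : K × K // p ≠ 0},
      ∃ g : {x : ↥(chevG2.posUnipotent K ⊓ twistedG2 K e) // orderOf x = 3},
      (((g : ↥(chevG2.posUnipotent K ⊓ twistedG2 K e)) : GL chevG2.Idx K) :
        Matrix chevG2.Idx chevG2.Idx K) = chevG2.wordMat K (reeWordU e 0 p.1.1 p.1.2) := by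
    intro p
    obtain ⟨g, hg⟩ := exists_word (reeWordU e (0 : K) p.1.1 p.1.2)
    have hmem : g ∈ chevG2.posUnipotent K ⊓ twistedG2 K e := (R.pos_inf_twisted g).mpr ⟨_, _, _, hg⟩
    refine ⟨⟨⟨g, hmem⟩, ?_⟩, hg⟩
    rw [orderOf_eq_prime_iff]
    constructor
    · apply Subtype.ext
      rw [Subgroup.coe_pow, Subgroup.coe_one]
      exact R.cube_eq_one hg
    · intro h1
      have h2 : g = 1 := congrArg Subtype.val h1
      rw [h2, Units.val_one, ← R.wordMat_reeU_zero] at hg
      obtain ⟨-, e2, e3⟩ := R.reeU_inj hg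
      exact p.2 (Prod.ext e2.symm e3.symm)
  choose f hf using hex
  have hbij : Function.Bijective f := by
    constructor
    · intro p q hpq
      have h1 := hf p
      rw [hpq, hf q] at h1
      obtain ⟨-, e2, e3⟩ := R.reeU_inj h1
      exact Subtype.ext (Prod.ext e2 e3).symm
    · intro g
      obtain ⟨t, u, v, hg⟩ := (R.pos_inf_twisted g.1.1).mp g.1.2
      have hord := orderOf_eq_prime_iff.mp g.2
      have h3 : (g.1.1 : GL chevG2.Idx K) ^ 3 = 1 := by
        rw [← Subgroup.coe_pow, hord.1, Subgroup.coe_one]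
      have ht : t = 0 := by
        by_contra ht
        exact R.cube_ne_one hg ht h3
      rw [ht] at hg
      have hne : (u, v) ≠ (0 : K × K) := by
        intro h0
        apply hord.2
        apply Subtype.ext
        apply Units.ext
        have hu : u = 0 := congrArg Prod.fst h0
        have hv : v = 0 := congrArg Prod.snd h0
        rw [hg, hu, hv, R.wordMat_reeU_zero]
        rfl
      refine ⟨⟨(u, v), hne⟩, ?_⟩
      apply Subtype.ext
      apply Subtype.ext
      apply Units.ext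
      rw [hf, hg]
  rw [← Nat.card_congr (Equiv.ofBijective f hbij), Nat.card_eq_fintype_card, Fintype.card_subtype_compl,
    Fintype.card_subtype_eq, Fintype.card_prod, pow_two]

end Order

end Cfsg.Agent.Lib.helper23
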