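import Cfsg.Agent.Lib.helper23.ChevReeA
import Cfsg.Agent.Lib.helper22.ChevBorel
import Cfsg.Agent.S0319

set_option autoImplicit false
set_option maxRecDepth 100000

/-!
# Perfectness and simplicity of the twisted group of type `G₂`

For `q > 3` the group `G¹` is perfect: `U(0,0,v) = [h(-1), U(0,0,v)]`, `U(0,u,0) = [h, U(0,u',0)]` for `h ∈ H¹` not
centralising these elements, and every `U(t,u,v)` is a commutator times an element `U(0,u',v')`; the generators
`V(t,u,v)` are conjugate to elements of `U¹`.  Simplicity follows from Tits' criterion.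
-/

namespace Cfsg.Agent.Lib.helper23

open Cfsg Cfsg.Lie Cfsg.Agent.Lib.helper41 Cfsg.Agent.Lib.helper22
open scoped commutatorElement

section Der

variable {G : Type*} [Group G]

/-- The image of the derived subgroup of a subgroup. -/
def derIm (Γ : Subgroup G) : Subgroup G := (commutator ↥Γ).map Γ.subtype

theorem comm_mem_derIm {Γ : Subgroup G} {a b : G} (ha : a ∈ Γ) (hb : b ∈ Γ) :
    a * b * a⁻¹ * b⁻¹ ∈ derIm Γ := by
  have h : ⁅(⟨a, ha⟩ : ↥Γ), (⟨b, hb⟩ : ↥Γ)⁆ ∈ commutator ↥Γ := by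
    rw [commutator_def]
    exact Subgroup.commutator_mem_commutator (Subgroup.mem_top _) (Subgroup.mem_top _)
  have h2 := Subgroup.mem_map_of_mem Γ.subtype h
  rw [commutatorElement_def] at h2
  unfold derIm
  simpa using h2

theorem derIm_conj_mem {Γ : Subgroup G} {n g : G} (hn : n ∈ Γ) (hg : g ∈ derIm Γ) :
    n * g * n⁻¹ ∈ derIm Γ := by
  obtain ⟨g0, hg0, rfl⟩ := hg
  have hN : (commutator ↥Γ).Normal := inferInstance
  have h := hN.conj_mem g0 hg0 (⟨n, hn⟩ : ↥Γ)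
  have h2 := Subgroup.mem_map_of_mem Γ.subtype h
  unfold derIm
  simpa using h2

theorem commutator_eq_top_of_le {Γ : Subgroup G} (h : Γ ≤ derIm Γ) : commutator ↥Γ = ⊤ := by
  rw [eq_top_iff]
  intro g _
  obtain ⟨g', hg', he⟩ := h g.2
  have : g' = g := Subtype.ext he
  exact this ▸ hg'

end Der

section Chars

variable {K : Type*} [Field K]

theorem torusChar_6 (c : Fin chevG2.rank → K) :
    torusChar chevG2 K c 6 = c ⟨0, by decide⟩ ^ (-3 : ℤ) * c ⟨1, by decide⟩ ^ (2 : ℤ) := by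
  rw [torusChar_two]
  have h0 : cartanZ chevG2 0 6 = -3 := by decide
  have h1 : cartanZ chevG2 1 6 = 2 := by decide
  rw [h0, h1]

theorem torusChar_10 (c : Fin chevG2.rank → K) :
    torusChar chevG2 K c 10 = c ⟨0, by decide⟩ ^ (3 : ℤ) * c ⟨1, by decide⟩ ^ (-1 : ℤ) := by
  rw [torusChar_two]
  have h0 : cartanZ chevG2 0 10 = 3 := by decide
  have h1 : cartanZ chevG2 1 10 = -1 := by decide
  rw [h0, h1]

/-- Words in negative root elements lie in `V`. -/
theorem word_mem_neg (w : List (ℕ × K)) (hw : ∀ p ∈ w, chevG2.IsNegRoot p.1) :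
    ∀ g : GL chevG2.Idx K, (g : Matrix chevG2.Idx chevG2.Idx K) = chevG2.wordMat K w →
      g ∈ chevG2.negUnipotent K := by
  induction w with
  | nil =>
    intro g hg
    rw [Cfsg.Agent.Lib.helper22.wordMat_nil] at hg
    have : g = 1 := Units.ext hg
    rw [this]
    exact one_mem _
  | cons p w ih =>
    intro g hg
    rw [Cfsg.Agent.Lib.helper22.wordMat_cons] at hg
    have hp := hw p List.mem_cons_self
    obtain ⟨x, hx⟩ := exists_x (F := K) stringData_G2 p.1 hp.1 p.2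
    have hg' : ((x⁻¹ * g : GL chevG2.Idx K) : Matrix chevG2.Idx chevG2.Idx K) = chevG2.wordMat K w := by
      rw [Units.val_mul, hg, ← mul_assoc, ← hx, gl_inv_mul_val, one_mul]
    have h1 := ih (fun q hq => hw q (List.mem_cons_of_mem _ hq)) (x⁻¹ * g) hg'
    have e1 : g = x * (x⁻¹ * g) := by group
    rw [e1]
    exact mul_mem (Subgroup.subset_closure ⟨p.1, p.2, hp, hx⟩) h1

theorem reeV_mem_neg {e : ℕ} (t u v : K) (g : GL chevG2.Idx K)
    (hg : (g : Matrix chevG2.Idx chevG2.Idx K) = chevG2.wordMat K (reeWordV e t u v)) :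
    g ∈ chevG2.negUnipotent K := by
  apply word_mem_neg _ _ g hg
  intro p hp
  unfold reeWordV reeWordU ChevalleyDatum.negWord at hp
  simp only [List.map_cons, List.map_nil, List.mem_cons, List.not_mem_nil, or_false] at hp
  rcases hp with rfl | rfl | rfl | rfl | rfl | rfl
  · exact (by decide : chevG2.IsNegRoot (chevG2.negIdx.getD g2a 0))
  · exact (by decide : chevG2.IsNegRoot (chevG2.negIdx.getD g2b 0))
  · exact (by decide : chevG2.IsNegRoot (chevG2.negIdx.getD g2ab 0))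
  · exact (by decide : chevG2.IsNegRoot (chevG2.negIdx.getD g2aab 0))
  · exact (by decide : chevG2.IsNegRoot (chevG2.negIdx.getD g2aaab 0))
  · exact (by decide : chevG2.IsNegRoot (chevG2.negIdx.getD g2aaabb 0))

/-- `n⁻¹ V n ≤ U`. -/
theorem ReeW0.conj_neg {e : ℕ} {n : GL chevG2.Idx K} (hn : ReeW0 e n) :
    ∀ v ∈ chevG2.negUnipotent K, n⁻¹ * v * n ∈ chevG2.posUnipotent K := by
  have I := bnInput_G2 K
  obtain ⟨π, c, hπ, hneg⟩ := hn.act
  obtain ⟨c', hc'⟩ := rootAct_torus I.hSD (diagonalSubgroup_le_torus I.hSD' (inv_mem hn.sq_mem))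
  have hact := hc'.mul hπ
  have e0 : ((n * n)⁻¹ : GL chevG2.Idx K).val * (n : Matrix chevG2.Idx chevG2.Idx K) =
      ((n⁻¹ : GL chevG2.Idx K) : Matrix chevG2.Idx chevG2.Idx K) := by
    rw [← Units.val_mul]
    congr 1
    group
  rw [e0] at hact
  intro v hv
  have h1 := conj_mem_of_closure {g : GL chevG2.Idx K | ∃ (r : ℕ) (t : K), chevG2.IsNegRoot r ∧
    (g : Matrix chevG2.Idx chevG2.Idx K) = chevG2.x K r t} (chevG2.posUnipotent K) n⁻¹ ?_ v hv
  · rwa [inv_inv] at h1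
  · rintro x ⟨r, t, hr, hx⟩
    obtain ⟨-, -, h3⟩ := hact r hr.1
    apply Subgroup.subset_closure
    refine ⟨π r, (c' (π r) * c r) * t, ?_, ?_⟩
    · rw [hneg r hr.1]
      have : ∀ r, r < 12 → chevG2.IsNegRoot r → chevG2.IsPosRoot (11 - r) := by decide
      exact this r hr.1 hr
    · rw [Units.val_mul, Units.val_mul, hx, h3, mul_assoc, inv_inv, gl_inv_mul_val, mul_one]

end Chars

section Fam

variable {K : Type*} [Field K] {e : ℕ} (R : ReeData K e)

include R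

theorem ReeData.wordMat_reeU_top (v : K) :
    chevG2.wordMat K (reeWordU e 0 0 v) = chevG2.x K 9 (v ^ e) * chevG2.x K 11 v := by
  have he := R.e_ne_zero
  unfold reeWordU
  rw [wordMat_six]
  show chevG2.x K 7 (0 ^ e) * chevG2.x K 6 0 * (chevG2.x K 8 (0 ^ (e + 1) + 0 ^ e) *
    chevG2.x K 9 (0 ^ (2 * e + 1) + v ^ e) * (chevG2.x K 10 0 * chevG2.x K 11 v)) = _
  simp only [zero_pow he, zero_pow (show e + 1 ≠ 0 by omega), zero_pow (show 2 * e + 1 ≠ 0 by omega),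
    zero_add, add_zero, x_zero_G2, one_mul, mul_one]

theorem ReeData.wordMat_reeU_zero : chevG2.wordMat K (reeWordU e (0 : K) 0 0) = 1 := by
  rw [wordMat_reeU_mid R.e_ne_zero, zero_pow R.e_ne_zero, x_zero_G2, x_zero_G2, one_mul]

theorem ReeData.reeU_top_add (v v' : K) :
    chevG2.wordMat K (reeWordU e 0 0 v) * chevG2.wordMat K (reeWordU e 0 0 v') =
      chevG2.wordMat K (reeWordU e 0 0 (v + v')) := by
  haveI := R.char3
  rw [R.wordMat_reeU_top, R.wordMat_reeU_top, R.wordMat_reeU_top, R.hadd,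
    (comm_x3 9 11 (by decide) (v' ^ e) v).symm.mul_mul_mul_comm, x_add' stringData_G2, x_add' stringData_G2]

theorem ReeData.reeU_mid_add (u u' : K) :
    chevG2.wordMat K (reeWordU e 0 u 0) * chevG2.wordMat K (reeWordU e 0 u' 0) =
      chevG2.wordMat K (reeWordU e 0 (u + u') 0) := by
  haveI := R.char3
  have he := R.e_ne_zero
  rw [wordMat_reeU_mid he, wordMat_reeU_mid he, wordMat_reeU_mid he, R.hadd,
    (comm_x3 10 8 (by decide) u (u' ^ e)).mul_mul_mul_comm, x_add' stringData_G2, x_add' stringData_G2]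

theorem ReeData.reeU_split (u v : K) :
    chevG2.wordMat K (reeWordU e 0 u v) =
      chevG2.wordMat K (reeWordU e 0 u 0) * chevG2.wordMat K (reeWordU e 0 0 v) := by
  haveI := R.char3
  have he := R.e_ne_zero
  rw [wordMat_reeU_mid he, R.wordMat_reeU_top]
  unfold reeWordU
  rw [wordMat_six]
  show chevG2.x K 7 (0 ^ e) * chevG2.x K 6 0 * (chevG2.x K 8 (0 ^ (e + 1) + u ^ e) *
    chevG2.x K 9 (0 ^ (2 * e + 1) + v ^ e) * (chevG2.x K 10 u * chevG2.x K 11 v)) = _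
  simp only [zero_pow he, zero_pow (show e + 1 ≠ 0 by omega), zero_pow (show 2 * e + 1 ≠ 0 by omega),
    zero_add, x_zero_G2, one_mul]
  exact (comm_x3 9 10 (by decide) (v ^ e) u).mul_mul_mul_comm _ _

/-- An element of `H ∩ G¹` with prescribed value at the highest root, and its parameters. -/
theorem ReeData.exists_torus (μ : K) (hμ : μ ≠ 0) : ∃ h : GL chevG2.Idx K,
    h ∈ chevG2.diagonalSubgroup K ∧ h ∈ twistedG2 K e ∧ ∃ c : Fin chevG2.rank → K, (∀ i, c i ≠ 0) ∧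
      (h : Matrix chevG2.Idx chevG2.Idx K) = torusMat chevG2 K c ∧ c ⟨1, by decide⟩ = μ ∧
      c ⟨0, by decide⟩ = μ ^ e := by
  obtain ⟨h, hH, hΓ, hent⟩ := R.exists_diag_entry μ hμ
  obtain ⟨c, hc, hv⟩ := diagonalSubgroup_le_torus (bnInput_G2 K).hSD' hH
  rw [hv, torusMat_entry, torusChar_11] at hent
  refine ⟨h, hH, hΓ, c, hc, hv, hent, ?_⟩
  rw [R.fix_c0 (R.twisted_le_fix hΓ) c hc hv, hent]

/-- `U(0,0,v)` is a commutator. -/
theorem ReeData.top_mem_der (v : K) (z : GL chevG2.Idx K)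
    (hz : (z : Matrix chevG2.Idx chevG2.Idx K) = chevG2.wordMat K (reeWordU e 0 0 v)) :
    z ∈ derIm (twistedG2 K e) := by
  haveI := R.char3
  obtain ⟨h, hH, hΓ, c, hc, hv, hc1, hc0⟩ := R.exists_torus (-1) (neg_ne_zero.mpr one_ne_zero)
  have hzΓ := reeU_mem_twisted _ _ _ z hz
  have h1 := R.torus_conj_ree hH (R.twisted_le_fix hΓ) c hc hv 0 0 v hz
  rw [mul_zero, mul_zero, torusChar_11, hc1, neg_one_mul] at h1
  have h2 : z * (h * z * h⁻¹) = 1 := by
    apply Units.ext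
    rw [Units.val_mul, h1, hz, R.reeU_top_add, add_neg_cancel, R.wordMat_reeU_zero, Units.val_one]
  have h3 : z * (z * z) = 1 := by
    apply Units.ext
    rw [Units.val_mul, Units.val_mul, hz, R.reeU_top_add, R.reeU_top_add, Units.val_one]
    have : v + (v + v) = 0 := by linear_combination v * (three_eq_zero : (3 : K) = 0)
    rw [this, R.wordMat_reeU_zero]
  have h4 : h * z * h⁻¹ = z⁻¹ := eq_inv_of_mul_eq_one_right h2
  have h5 : z = h * z * h⁻¹ * z⁻¹ := by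
    rw [h4, ← mul_inv_rev]
    exact eq_inv_of_mul_eq_one_left h3
  rw [h5]
  exact comm_mem_derIm hΓ hzΓ

/-- `U(0,u,0)` is a commutator, if some element of `H¹` does not centralise these elements. -/
theorem ReeData.mid_mem_der (hbig : ∃ μ : K, μ ≠ 0 ∧ (μ ^ e) ^ 3 ≠ μ) (u : K) (z : GL chevG2.Idx K)
    (hz : (z : Matrix chevG2.Idx chevG2.Idx K) = chevG2.wordMat K (reeWordU e 0 u 0)) :
    z ∈ derIm (twistedG2 K e) := by
  obtain ⟨μ, hμ, hne⟩ := hbig
  obtain ⟨h, hH, hΓ, c, hc, hv, hc1, hc0⟩ := R.exists_torus μ hμ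
  have hκ : torusChar chevG2 K c 10 - 1 ≠ 0 := by
    rw [torusChar_10, hc0, hc1, zpow_ofNat, zpow_neg_one]
    intro h0
    apply hne
    field_simp at h0
    linear_combination h0
  obtain ⟨z₁, hz₁⟩ := exists_word (reeWordU e (0 : K) (u / (torusChar chevG2 K c 10 - 1)) 0)
  have hz₁Γ := reeU_mem_twisted _ _ _ z₁ hz₁
  obtain ⟨z₂, hz₂⟩ := exists_word (reeWordU e (0 : K) (-(u / (torusChar chevG2 K c 10 - 1))) 0)
  have h1 := R.torus_conj_ree hH (R.twisted_le_fix hΓ) c hc hv 0 (u / (torusChar chevG2 K c 10 - 1)) 0 hz₁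
  rw [mul_zero, mul_zero] at h1
  have h2 : z₁ * z₂ = 1 := by
    apply Units.ext
    rw [Units.val_mul, hz₁, hz₂, R.reeU_mid_add, add_neg_cancel, R.wordMat_reeU_zero, Units.val_one]
  have h3 : z₂ = z₁⁻¹ := eq_inv_of_mul_eq_one_right h2
  have h5 : z = h * z₁ * h⁻¹ * z₁⁻¹ := by
    rw [← h3]
    apply Units.ext
    rw [Units.val_mul, h1, hz₂, hz, R.reeU_mid_add]
    congr 2
    field_simp
    ring
  rw [h5]
  exact comm_mem_derIm hΓ hz₁Γ

/-- `U¹ ≤ [G¹, G¹]`. -/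
theorem ReeData.pos_mem_der (hbig : ∃ μ : K, μ ≠ 0 ∧ (μ ^ e) ^ 3 ≠ μ) (t u v : K) (x : GL chevG2.Idx K)
    (hx : (x : Matrix chevG2.Idx chevG2.Idx K) = chevG2.wordMat K (reeWordU e t u v)) :
    x ∈ derIm (twistedG2 K e) := by
  haveI := R.char3
  obtain ⟨h, hH, hΓ, c, hc, hv, hc1, hc0⟩ := R.exists_torus (-1) (neg_ne_zero.mpr one_ne_zero)
  have hxΓ := reeU_mem_twisted _ _ _ x hx
  have hxU : x ∈ chevG2.posUnipotent K := reeU_mem_pos R t u v x hx
  have hNU := (Cfsg.Agent.S1036.result (F := K) chevG2 (by simp)).1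
  have hcU : h * x * h⁻¹ ∈ chevG2.posUnipotent K := (Subgroup.mem_normalizer_iff.mp (hNU hH) x).mp hxU
  have h1 := R.torus_conj_ree hH (R.twisted_le_fix hΓ) c hc hv t u v hx
  have hy : h * x * h⁻¹ * x⁻¹ ∈ derIm (twistedG2 K e) := comm_mem_derIm hΓ hxΓ
  have hχ6 : torusChar chevG2 K c 6 = -1 := by
    rw [torusChar_6, hc0, hc1, R.hodd.neg_one_pow]
    norm_num [zpow_neg, zpow_ofNat]
  have e1 : eb (h * x * h⁻¹ * x⁻¹) = t := by
    rw [eb_mul hcU (inv_mem hxU), eb_inv hxU, eb_reeU _ _ _ h1, eb_reeU _ _ _ hx, hχ6]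
    linear_combination (-t) * (three_eq_zero : (3 : K) = 0)
  have hwU : (h * x * h⁻¹ * x⁻¹)⁻¹ * x ∈ chevG2.posUnipotent K :=
    mul_mem (inv_mem (mul_mem hcU (inv_mem hxU))) hxU
  have hwΓ : (h * x * h⁻¹ * x⁻¹)⁻¹ * x ∈ twistedG2 K e :=
    mul_mem (inv_mem (mul_mem (mul_mem (mul_mem hΓ hxΓ) (inv_mem hΓ)) (inv_mem hxΓ))) hxΓ
  have e2 : eb ((h * x * h⁻¹ * x⁻¹)⁻¹ * x) = 0 := by
    rw [eb_mul (inv_mem (mul_mem hcU (inv_mem hxU))) hxU, eb_inv (mul_mem hcU (inv_mem hxU)), e1,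
      eb_reeU _ _ _ hx, neg_add_cancel]
  obtain ⟨t', u', v', e3⟩ := (R.pos_inf_twisted _).mp (Subgroup.mem_inf.mpr ⟨hwU, hwΓ⟩)
  have e4 : t' = 0 := by rw [← eb_reeU _ _ _ e3, e2]
  rw [e4, R.reeU_split] at e3
  obtain ⟨w₁, hw₁⟩ := exists_word (reeWordU e (0 : K) u' 0)
  obtain ⟨w₂, hw₂⟩ := exists_word (reeWordU e (0 : K) 0 v')
  have e5 : (h * x * h⁻¹ * x⁻¹)⁻¹ * x = w₁ * w₂ := Units.ext (by rw [e3, Units.val_mul, hw₁, hw₂])
  have e6 : x = (h * x * h⁻¹ * x⁻¹) * (w₁ * w₂) := by rw [← e5]; group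
  rw [e6]
  exact mul_mem hy (mul_mem (R.mid_mem_der hbig u' w₁ hw₁) (R.top_mem_der v' w₂ hw₂))

/-- `G¹` is perfect. -/
theorem ReeData.perfect (hbig : ∃ μ : K, μ ≠ 0 ∧ (μ ^ e) ^ 3 ≠ μ) : commutator ↥(twistedG2 K e) = ⊤ := by
  obtain ⟨n, hn⟩ := R.exists_w0
  apply commutator_eq_top_of_le
  have hle : Subgroup.closure {g : GL chevG2.Idx K | ∃ w ∈ g2Words K e,
      (g : Matrix chevG2.Idx chevG2.Idx K) = chevG2.wordMat K w} ≤ derIm (twistedG2 K e) := by
    rw [Subgroup.closure_le]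
    rintro g ⟨w, ⟨t, u, v, hw | hw⟩, hg⟩
    · rw [hw] at hg
      exact R.pos_mem_der hbig t u v g hg
    · rw [hw] at hg
      have hgΓ := reeV_mem_twisted _ _ _ g hg
      have hgV := reeV_mem_neg _ _ _ g hg
      have hU := hn.conj_neg g hgV
      have hΓ : n⁻¹ * g * n ∈ twistedG2 K e := mul_mem (mul_mem (inv_mem hn.tw) hgΓ) hn.tw
      obtain ⟨t', u', v', e3⟩ := (R.pos_inf_twisted _).mp (Subgroup.mem_inf.mpr ⟨hU, hΓ⟩)
      have h1 := derIm_conj_mem hn.tw (R.pos_mem_der hbig t' u' v' _ e3)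
      have e4 : n * (n⁻¹ * g * n) * n⁻¹ = g := by group
      rw [e4] at h1
      exact h1
  exact hle

end Fam

end Cfsg.Agent.Lib.helper23
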