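import Cfsg.Agent.Lib.helper23.ChevReeP

set_option autoImplicit false
set_option maxRecDepth 100000

/-! # Simplicity of the twisted group of type `G₂` over a field with more than three elements -/

namespace Cfsg.Agent.Lib.helper23

open Cfsg Cfsg.Lie Cfsg.Agent.Lib.helper41 Cfsg.Agent.Lib.helper22

section Simple

variable {K : Type*} [Field K] {e : ℕ} (R : ReeData K e) {n : GL chevG2.Idx K}

include R

/-- The intersection of the conjugates of `B¹` is trivial. -/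
theorem ReeData.core_eq_bot (hn : ReeW0 e n) :
    ((chevG2.borelSubgroup K ⊓ twistedG2 K e).subgroupOf (twistedG2 K e)).normalCore = ⊥ := by
  have I := bnInput_G2 K
  have hNU := (Cfsg.Agent.S1036.result (F := K) chevG2 (by simp)).1
  rw [eq_bot_iff]
  intro x hx
  rw [Subgroup.mem_bot]
  have key : ∀ y : ↥(twistedG2 K e),
      (∀ b : ↥(twistedG2 K e), b * y * b⁻¹ ∈ (chevG2.borelSubgroup K ⊓ twistedG2 K e).subgroupOf (twistedG2 K e)) →
      (y : GL chevG2.Idx K) ∈ chevG2.diagonalSubgroup K := by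
    intro y hy
    have h1 := hy 1
    rw [one_mul, inv_one, mul_one, Subgroup.mem_subgroupOf] at h1
    have h2 := hy ⟨n, hn.tw⟩
    rw [Subgroup.mem_subgroupOf] at h2
    have h2' : n * (y : GL chevG2.Idx K) * n⁻¹ ∈ chevG2.borelSubgroup K := (Subgroup.mem_inf.mp h2).1
    obtain ⟨u, hu, h, hh, e1⟩ := R.borel_twisted (Subgroup.mem_inf.mp h1).1 (Subgroup.mem_inf.mp h1).2
    have h3 : n * u * n⁻¹ ∈ chevG2.negUnipotent K := hn.conj_pos u (Subgroup.mem_inf.mp hu).1
    have h4 : n * u * n⁻¹ ∈ chevG2.borelSubgroup K := by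
      have e2 : n * u * n⁻¹ = (n * (y : GL chevG2.Idx K) * n⁻¹) * (n * h * n⁻¹)⁻¹ := by
        rw [e1]
        group
      rw [e2]
      exact mul_mem h2' (inv_mem (Subgroup.mem_sup_right (conj_mem_diag I hn.mono (Subgroup.mem_inf.mp hh).1)))
    have h5 : n * u * n⁻¹ ∈ chevG2.borelSubgroup K ⊓ chevG2.negUnipotent K := Subgroup.mem_inf.mpr ⟨h4, h3⟩
    rw [(Cfsg.Agent.S1037.result (F := K) chevG2 (by simp)).1, Subgroup.mem_bot] at h5
    have h6 : u = 1 := by
      have e3 : u = n⁻¹ * (n * u * n⁻¹) * n := by group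
      rw [e3, h5]
      group
    rw [e1, h6, one_mul]
    exact (Subgroup.mem_inf.mp hh).1
  have hxH := key x hx
  obtain ⟨z, hz⟩ := exists_word (reeWordU e (0 : K) 0 1)
  have hzΓ := reeU_mem_twisted _ _ _ z hz
  have hzU : z ∈ chevG2.posUnipotent K := reeU_mem_pos R 0 0 1 z hz
  have hconj : ∀ b : ↥(twistedG2 K e), b * ((⟨z, hzΓ⟩ : ↥(twistedG2 K e)) * x * (⟨z, hzΓ⟩ : ↥(twistedG2 K e))⁻¹) * b⁻¹ ∈
      (chevG2.borelSubgroup K ⊓ twistedG2 K e).subgroupOf (twistedG2 K e) := by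
    intro b
    have h := hx (b * ⟨z, hzΓ⟩)
    have e : b * ⟨z, hzΓ⟩ * x * (b * ⟨z, hzΓ⟩)⁻¹ = b * ((⟨z, hzΓ⟩ : ↥(twistedG2 K e)) * x * (⟨z, hzΓ⟩ : ↥(twistedG2 K e))⁻¹) * b⁻¹ := by
      group
    rw [← e]
    exact h
  have h7 : z * (x : GL chevG2.Idx K) * z⁻¹ ∈ chevG2.diagonalSubgroup K := key _ hconj
  have h8 : z * (x : GL chevG2.Idx K) * z⁻¹ * (x : GL chevG2.Idx K)⁻¹ ∈
      chevG2.posUnipotent K ⊓ chevG2.diagonalSubgroup K := by
    refine Subgroup.mem_inf.mpr ⟨?_, mul_mem h7 (inv_mem hxH)⟩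
    have e : z * (x : GL chevG2.Idx K) * z⁻¹ * (x : GL chevG2.Idx K)⁻¹ =
        z * ((x : GL chevG2.Idx K) * z⁻¹ * (x : GL chevG2.Idx K)⁻¹) := by group
    rw [e]
    exact mul_mem hzU ((Subgroup.mem_normalizer_iff.mp (hNU hxH) _).mp (inv_mem hzU))
  rw [(Cfsg.Agent.S1036.result (F := K) chevG2 (by simp)).2, Subgroup.mem_bot] at h8
  have h9 : (x : GL chevG2.Idx K) * z * (x : GL chevG2.Idx K)⁻¹ = z := by
    have e1 : z * (x : GL chevG2.Idx K) = (x : GL chevG2.Idx K) * z := by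
      calc z * (x : GL chevG2.Idx K)
          = (z * (x : GL chevG2.Idx K) * z⁻¹ * (x : GL chevG2.Idx K)⁻¹) * (x : GL chevG2.Idx K) * z := by group
        _ = (x : GL chevG2.Idx K) * z := by rw [h8, one_mul]
    rw [← e1]
    group
  obtain ⟨c, hc, hv⟩ := diagonalSubgroup_le_torus I.hSD' hxH
  have h10 := R.torus_conj_ree hxH (R.twisted_le_fix x.2) c hc hv 0 0 1 hz
  rw [h9, hz] at h10
  have h11 := (R.reeU_inj h10).2.2
  rw [mul_one] at h11
  apply Subtype.ext
  show (x : GL chevG2.Idx K) = 1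
  apply R.fix_diag_inj hxH (R.twisted_le_fix x.2) (one_mem _) (one_mem _)
  rw [hv, torusMat_entry, Units.val_one, Matrix.one_apply_eq]
  exact h11.symm

/-- `G¹` is simple if some element of `H¹` does not centralise the elements `U(0,u,0)`. -/
theorem ReeData.simple (hbig : ∃ μ : K, μ ≠ 0 ∧ (μ ^ e) ^ 3 ≠ μ) :
    IsSimpleGroup ↥(twistedG2 K e) ∧ ¬ IsMulCommutative ↥(twistedG2 K e) := by
  have I := bnInput_G2 K
  obtain ⟨n, hn⟩ := R.exists_w0
  obtain ⟨P, hB, -, hS⟩ := R.exists_bn hn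
  obtain ⟨u, hu, hune⟩ := R.exists_u_ne_one
  have huΓ := (Subgroup.mem_inf.mp hu).2
  have huU := (Subgroup.mem_inf.mp hu).1
  have hnc : ¬ IsMulCommutative ↥(twistedG2 K e) := by
    intro hcomm
    have h1 := isMulCommutative_iff.mp hcomm ⟨n, hn.tw⟩ ⟨u, huΓ⟩
    have h2 : n * u = u * n := congrArg Subtype.val h1
    have h3 : n * u * n⁻¹ = u := by rw [h2]; group
    have h4 : u ∈ chevG2.borelSubgroup K ⊓ chevG2.negUnipotent K :=
      Subgroup.mem_inf.mpr ⟨Subgroup.mem_sup_left huU, h3 ▸ hn.conj_pos u huU⟩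
    rw [(Cfsg.Agent.S1037.result (F := K) chevG2 (by simp)).1, Subgroup.mem_bot] at h4
    exact hune h4
  refine ⟨?_, hnc⟩
  haveI hnt : Nontrivial ↥(twistedG2 K e) :=
    ⟨⟨⟨u, huΓ⟩, 1, fun h => hune (congrArg Subtype.val h)⟩⟩
  have hirr : P.Irreducible := by
    intro J hJ hJne hcomp
    exfalso
    obtain ⟨s, hs⟩ := hJne
    obtain ⟨s', hs', hs'J⟩ := hcomp
    have h1 := hJ hs
    rw [hS] at h1 hs'
    have e1 : (s : GL chevG2.Idx K) = n := h1
    have e2 : (s' : GL chevG2.Idx K) = n := hs'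
    have : s' = s := Subtype.ext (e2.trans e1.symm)
    rw [this] at hs'J
    exact hs'J hs
  have hsolvB : Group.IsSolvable ↥P.B := by
    rw [hB]
    haveI : Group.IsSolvable ↥(chevG2.borelSubgroup K) :=
      borelSubgroup_isSolvable I.hSD (posUnipotent_le_uniK_all chevG2 (by simp) K)
    exact Group.isSolvable_of_isSolvable_injective
      (f := (Subgroup.inclusion (inf_le_left : chevG2.borelSubgroup K ⊓ twistedG2 K e ≤ chevG2.borelSubgroup K)).comp
        (Subgroup.subgroupOfEquivOfLe (inf_le_right :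
          chevG2.borelSubgroup K ⊓ twistedG2 K e ≤ twistedG2 K e)).toMonoidHom)
      ((Subgroup.inclusion_injective (inf_le_left : chevG2.borelSubgroup K ⊓ twistedG2 K e ≤ chevG2.borelSubgroup K)).comp
        (Subgroup.subgroupOfEquivOfLe (inf_le_right :
          chevG2.borelSubgroup K ⊓ twistedG2 K e ≤ twistedG2 K e)).injective)
  exact Cfsg.Agent.S0319.result P hirr hsolvB (R.perfect hbig) (by rw [hB]; exact R.core_eq_bot hn)

/-- For `|K| > 3` some element of `H¹` does not centralise the elements `U(0,u,0)`. -/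
theorem ReeData.exists_big [Fintype K] {m : ℕ} (hm : 1 ≤ m) (hK : Fintype.card K = 3 ^ (2 * m + 1)) :
    ∃ μ : K, μ ≠ 0 ∧ (μ ^ e) ^ 3 ≠ μ := by
  by_contra hall
  push Not at hall
  have he := R.e_ne_zero
  have h1 : ∀ μ : K, (μ ^ e) ^ 3 = μ := by
    intro μ
    by_cases hμ : μ = 0
    · rw [hμ, zero_pow he, zero_pow (by norm_num)]
    · exact hall μ hμ
  have h2 : ∀ μ : K, μ ^ e = μ := by
    intro μ
    have := h1 (μ ^ e)
    rw [R.hφ] at this
    exact this.symm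
  have h3 : ∀ μ : K, μ ^ 3 = μ := by
    intro μ
    have := h1 μ
    rwa [h2] at this
  obtain ⟨ζ, hζ⟩ := IsCyclic.exists_generator (α := Kˣ)
  have h4 : ζ ^ 2 = 1 := by
    apply Units.ext
    apply mul_right_cancel₀ ζ.ne_zero
    rw [Units.val_pow_eq_pow_val, Units.val_one, one_mul, ← pow_succ]
    exact h3 _
  have h5 : orderOf ζ ∣ 2 := orderOf_dvd_of_pow_eq_one h4
  have h6 : orderOf ζ = Nat.card Kˣ := orderOf_eq_card_of_forall_mem_zpowers hζ
  rw [h6, Nat.card_units, Nat.card_eq_fintype_card, hK] at h5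
  have h7 := Nat.le_of_dvd (by norm_num) h5
  have h8 : 3 ^ 3 ≤ 3 ^ (2 * m + 1) := Nat.pow_le_pow_right (by norm_num) (by omega)
  omega

end Simple

end Cfsg.Agent.Lib.helper23
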