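import Cfsg.Agent.Lib.helper23.ChevRee

set_option autoImplicit false
set_option maxRecDepth 100000

/-! The twisting automorphism of `G₂` preserves `U`, `V`, `H`, `N` and `B`. -/

namespace Cfsg.Agent.Lib.helper23

open Cfsg.Lie Cfsg.Agent.Lib.helper41 Cfsg.Agent.Lib.helper22

theorem isoRt_lt : ∀ s, s < 12 → isoRtG2.getD s 0 < 12 := by decide

theorem isoRt_pos : ∀ s, s < 12 → chevG2.IsPosRoot s → chevG2.IsPosRoot (isoRtG2.getD s 0) := by
  decide +kernel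

theorem isoRt_neg : ∀ s, s < 12 → chevG2.IsNegRoot s → chevG2.IsNegRoot (isoRtG2.getD s 0) := by
  decide +kernel

theorem isoRt_negIdx : ∀ s, s < 12 → chevG2.neg s < 12 ∧
    isoRtG2.getD (chevG2.neg s) 0 = chevG2.neg (isoRtG2.getD s 0) ∧
    isoLmG2.getD (chevG2.neg s) 1 = isoLmG2.getD s 1 := by
  decide +kernel

theorem isoLm_cases : ∀ s, s < 12 → isoLmG2.getD s 1 = 1 ∨ isoLmG2.getD s 1 = 3 := by decide

section Tau

variable {K : Type*} [Field K] {e : ℕ} (R : ReeData K e)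

include R

theorem ReeData.tau_neg (s : ℕ) (hs : s < 12) (c : K) :
    ((-c) ^ e) ^ isoLmG2.getD s 1 = -((c ^ e) ^ isoLmG2.getD s 1) := by
  rw [R.neg_pow_e]
  rcases isoLm_cases s hs with h | h <;> rw [h]
  · rw [pow_one, pow_one]
  · exact Odd.neg_pow (by decide) _

theorem ReeData.tau_inv (s : ℕ) (c : K) :
    ((c⁻¹) ^ e) ^ isoLmG2.getD s 1 = ((c ^ e) ^ isoLmG2.getD s 1)⁻¹ := by
  rw [inv_pow, inv_pow]

theorem ReeData.tau_ne_zero (s : ℕ) {c : K} (hc : c ≠ 0) : (c ^ e) ^ isoLmG2.getD s 1 ≠ 0 :=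
  pow_ne_zero _ (pow_ne_zero _ hc)

theorem ReeData.tau_surj (s : ℕ) (hs : s < 12) (c : K) : ∃ t : K, (t ^ e) ^ isoLmG2.getD s 1 = c := by
  rcases isoLm_cases s hs with h | h <;> rw [h]
  · refine ⟨(c ^ e) ^ 3, ?_⟩
    rw [pow_one]
    have e3 : ((c ^ e) ^ 3) ^ e = ((c ^ e) ^ e) ^ 3 := by
      rw [← pow_mul, ← pow_mul, ← pow_mul, ← pow_mul]
      congr 1
      ring
    rw [e3]
    exact R.hφ c
  · exact ⟨c ^ e, R.hφ c⟩

theorem ReeData.sgWord_nWord (r : ℕ) (hr : r < 12) (t : K) :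
    sgWord e (chevG2.nWord r t) = chevG2.nWord (isoRtG2.getD r 0) ((t ^ e) ^ isoLmG2.getD r 1) := by
  obtain ⟨-, h1, h2⟩ := isoRt_negIdx r hr
  unfold sgWord ChevalleyDatum.nWord
  simp only [List.map_cons, List.map_nil]
  rw [h1, h2, R.tau_neg r hr, R.tau_inv]

theorem ReeData.sgWord_hWord (r : ℕ) (hr : r < 12) (t : K) :
    sgWord e (chevG2.hWord r t) = chevG2.hWord (isoRtG2.getD r 0) ((t ^ e) ^ isoLmG2.getD r 1) := by
  unfold ChevalleyDatum.hWord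
  have h1 : sgWord e (chevG2.nWord r t ++ chevG2.nWord r (-1)) =
      sgWord e (chevG2.nWord r t) ++ sgWord e (chevG2.nWord r (-1)) := List.map_append
  rw [h1, R.sgWord_nWord r hr, R.sgWord_nWord r hr, R.tau_neg r hr, one_pow, one_pow]

theorem nWord_lt (r : ℕ) (hr : r < 12) (t : K) : ∀ p ∈ chevG2.nWord r t, p.1 < 12 := by
  obtain ⟨h0, -, -⟩ := isoRt_negIdx r hr
  intro p hp
  unfold ChevalleyDatum.nWord at hp
  simp only [List.mem_cons, List.not_mem_nil, or_false] at hp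
  rcases hp with rfl | rfl | rfl
  · exact hr
  · exact h0
  · exact hr

theorem hWord_lt (r : ℕ) (hr : r < 12) (t : K) : ∀ p ∈ chevG2.hWord r t, p.1 < 12 := by
  intro p hp
  unfold ChevalleyDatum.hWord at hp
  rcases List.mem_append.mp hp with h | h
  · exact nWord_lt R r hr t p h
  · exact nWord_lt R r hr (-1) p h

/-- `σ` preserves `U`. -/
theorem ReeData.sg_pos : ∀ x ∈ chevG2.posUnipotent K,
    x ∈ chevG2.group K ∧ R.sg x ∈ chevG2.posUnipotent K := by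
  apply R.sg_closure
  rintro x ⟨r, t, hr, hx⟩
  have hr' : r < 12 := hr.1
  obtain ⟨h1, h2⟩ := R.sg_x hr' hx
  exact ⟨h1, Subgroup.subset_closure ⟨_, _, isoRt_pos r hr' hr, h2⟩⟩

/-- `σ` preserves `V`. -/
theorem ReeData.sg_neg : ∀ x ∈ chevG2.negUnipotent K,
    x ∈ chevG2.group K ∧ R.sg x ∈ chevG2.negUnipotent K := by
  apply R.sg_closure
  rintro x ⟨r, t, hr, hx⟩
  have hr' : r < 12 := hr.1
  obtain ⟨h1, h2⟩ := R.sg_x hr' hx
  exact ⟨h1, Subgroup.subset_closure ⟨_, _, isoRt_neg r hr' hr, h2⟩⟩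

/-- `σ` preserves `H`. -/
theorem ReeData.sg_diag : ∀ x ∈ chevG2.diagonalSubgroup K,
    x ∈ chevG2.group K ∧ R.sg x ∈ chevG2.diagonalSubgroup K := by
  apply R.sg_closure
  rintro x ⟨r, t, hr, ht, hx⟩
  have hr' : r < 12 := hr
  obtain ⟨h1, h2⟩ := R.sg_word (chevG2.hWord r t) (hWord_lt R r hr' t) x hx
  refine ⟨h1, Subgroup.subset_closure ⟨isoRtG2.getD r 0, (t ^ e) ^ isoLmG2.getD r 1, isoRt_lt r hr',
    R.tau_ne_zero r ht, ?_⟩⟩
  rw [h2, R.sgWord_hWord r hr']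
  rfl

/-- `σ` preserves `N`. -/
theorem ReeData.sg_mono : ∀ x ∈ chevG2.monomialSubgroup K,
    x ∈ chevG2.group K ∧ R.sg x ∈ chevG2.monomialSubgroup K := by
  intro x hx
  have h2 : chevG2.monomialSubgroup K = Subgroup.closure ((chevG2.diagonalSubgroup K : Set (GL chevG2.Idx K)) ∪
      {g | ∃ r : ℕ, r < chevG2.nroots ∧ (g : Matrix chevG2.Idx chevG2.Idx K) = chevG2.nMat K r 1}) := by
    rw [Subgroup.closure_union, Subgroup.closure_eq]
    rfl
  rw [h2] at hx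
  revert x
  apply R.sg_closure
  rintro x (hx | ⟨r, hr, hx⟩)
  · obtain ⟨h1, h3⟩ := R.sg_diag x hx
    exact ⟨h1, Subgroup.mem_sup_left h3⟩
  · have hr' : r < 12 := hr
    obtain ⟨h1, h3⟩ := R.sg_word (chevG2.nWord r 1) (nWord_lt R r hr' 1) x hx
    refine ⟨h1, Subgroup.mem_sup_right (Subgroup.subset_closure ⟨isoRtG2.getD r 0, isoRt_lt r hr', ?_⟩)⟩
    rw [h3, R.sgWord_nWord r hr', one_pow, one_pow]
    rfl

/-- `σ` preserves `B`. -/
theorem ReeData.sg_borel : ∀ x ∈ chevG2.borelSubgroup K,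
    x ∈ chevG2.group K ∧ R.sg x ∈ chevG2.borelSubgroup K := by
  intro x hx
  have h2 : chevG2.borelSubgroup K = Subgroup.closure ((chevG2.posUnipotent K : Set (GL chevG2.Idx K)) ∪
      (chevG2.diagonalSubgroup K : Set (GL chevG2.Idx K))) := by
    rw [Subgroup.closure_union, Subgroup.closure_eq, Subgroup.closure_eq]
    rfl
  rw [h2] at hx
  revert x
  apply R.sg_closure
  rintro x (hx | hx)
  · obtain ⟨h1, h3⟩ := R.sg_pos x hx
    exact ⟨h1, Subgroup.mem_sup_left h3⟩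
  · obtain ⟨h1, h3⟩ := R.sg_diag x hx
    exact ⟨h1, Subgroup.mem_sup_right h3⟩

end Tau

end Cfsg.Agent.Lib.helper23
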