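import Cfsg.Agent.Lib.helper23.ChevReeSub

set_option autoImplicit false
set_option maxRecDepth 100000

/-!
# The unipotent subgroup of `G₂` in characteristic 3, abstractly

Six one-parameter families `X 0, …, X 5` (the root elements of `b, a, a+b, 2a+b, 3a+b, 3a+2b`, or of their
negatives with negated parameters) with the commutator relations of characteristic 3.
-/

namespace Cfsg.Agent.Lib.helper23

open Cfsg.Lie Cfsg.Agent.Lib.helper41 Cfsg.Agent.Lib.helper22

/-- Six one-parameter families with the relations of the unipotent subgroup of `G₂` in characteristic 3. -/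
structure ReeSys (K : Type*) [Field K] (M : Type*) [Monoid M] where
  X : Fin 6 → K → M
  add : ∀ i s t, X i s * X i t = X i (s + t)
  zero : ∀ i, X i 0 = 1
  c23 : ∀ s t, Commute (X 2 s) (X 3 t)
  c24 : ∀ s t, Commute (X 2 s) (X 4 t)
  c25 : ∀ s t, Commute (X 2 s) (X 5 t)
  c34 : ∀ s t, Commute (X 3 s) (X 4 t)
  c35 : ∀ s t, Commute (X 3 s) (X 5 t)
  c45 : ∀ s t, Commute (X 4 s) (X 5 t)
  r2 : ∀ A B, X 1 A * X 0 B =
    X 0 B * X 1 A * (X 2 (-(A * B)) * X 3 (-(A ^ 2 * B)) * X 4 (A ^ 3 * B) * X 5 (A ^ 3 * B ^ 2))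

namespace ReeSys

variable {K : Type*} [Field K] {M : Type*} [Monoid M] (S : ReeSys K M)

/-- The product over the four commuting families. -/
def M4 (a b c d : K) : M := S.X 2 a * S.X 3 b * S.X 4 c * S.X 5 d

theorem M4_mul (a b c d a' b' c' d' : K) :
    S.M4 a b c d * S.M4 a' b' c' d' = S.M4 (a + a') (b + b') (c + c') (d + d') := by
  unfold M4
  have h5 : Commute (S.X 5 d) (S.X 2 a' * S.X 3 b' * S.X 4 c') :=
    ((S.c25 a' d).symm.mul_right (S.c35 b' d).symm).mul_right (S.c45 c' d).symm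
  rw [h5.mul_mul_mul_comm, S.add]
  have h4 : Commute (S.X 4 c) (S.X 2 a' * S.X 3 b') := (S.c24 a' c).symm.mul_right (S.c34 b' c).symm
  rw [h4.mul_mul_mul_comm, S.add]
  have h3 : Commute (S.X 3 b) (S.X 2 a') := (S.c23 a' b).symm
  rw [h3.mul_mul_mul_comm, S.add, S.add]

theorem M4_right (c d : K) : S.M4 0 0 c d = S.X 4 c * S.X 5 d := by
  unfold M4
  rw [S.zero, S.zero, one_mul, one_mul]

theorem M4_left (a b : K) : S.M4 a b 0 0 = S.X 2 a * S.X 3 b := by
  unfold M4
  rw [S.zero, S.zero, mul_one, mul_one]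

/-- Reordering `x_{3a+b} x_{3a+2b} x_{a+b} x_{2a+b}`. -/
theorem reorder (a b c d : K) : S.X 4 c * S.X 5 d * (S.X 2 a * S.X 3 b) = S.M4 a b c d := by
  rw [← S.M4_right, ← S.M4_left, S.M4_mul, zero_add, zero_add, add_zero, add_zero]

/-- Moving `x_a` to the right of `x_b`. -/
theorem swap (A B a b c d : K) :
    S.X 1 A * S.X 0 B * S.M4 a b c d =
      S.X 0 B * S.X 1 A * S.M4 (a - A * B) (b - A ^ 2 * B) (c + A ^ 3 * B) (d + A ^ 3 * B ^ 2) := by
  rw [S.r2 A B, mul_assoc (S.X 0 B * S.X 1 A)]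
  have h : S.X 2 (-(A * B)) * S.X 3 (-(A ^ 2 * B)) * S.X 4 (A ^ 3 * B) * S.X 5 (A ^ 3 * B ^ 2) =
      S.M4 (-(A * B)) (-(A ^ 2 * B)) (A ^ 3 * B) (A ^ 3 * B ^ 2) := rfl
  rw [h, S.M4_mul]
  congr 2 <;> ring

end ReeSys

/-! ### The two systems of `G₂` -/

theorem commTerms_6_7 : chevG2.commTerms 6 7 = [(8, 1, 1, 1), (9, 1, 1, 2), (10, -1, 1, 3), (11, -2, 2, 3)] := by
  decide +kernel

theorem commTerms_5_4 : chevG2.commTerms 5 4 = [(3, -1, 1, 1), (2, 1, 1, 2), (1, 1, 1, 3), (0, -2, 2, 3)] := by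
  decide +kernel

/-- Pairs of roots whose root elements commute in characteristic 3. -/
def commPairs : List (ℕ × ℕ) :=
  [(8, 9), (8, 10), (8, 11), (9, 10), (9, 11), (10, 11), (3, 2), (3, 1), (3, 0), (2, 1), (2, 0), (1, 0),
   (8, 1), (3, 10), (10, 8), (10, 3), (1, 8), (1, 3)]

theorem commTerms_dvd : ∀ p ∈ commPairs, p.1 < 12 ∧ p.2 < 12 ∧ p.2 ≠ p.1 ∧ p.2 ≠ chevG2.neg p.1 ∧
    ∀ c ∈ chevG2.commTerms p.1 p.2, c.2.1 % 3 = 0 := by
  decide +kernel

section Inst

variable {K : Type*} [Field K]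

/-- Root elements commute when the constants of the commutator formula vanish modulo 3. -/
theorem comm_x3 [CharP K 3] (r s : ℕ) (h : (r, s) ∈ commPairs) (t u : K) :
    Commute (chevG2.x K r t) (chevG2.x K s u) := by
  obtain ⟨η, I⟩ := bnInput_all chevG2 (by simp) K
  obtain ⟨hr, hs, hrs, h1, h2⟩ := commTerms_dvd (r, s) h
  have e := I.hcomm r s hr hs hrs h1 t u
  have hw : chevG2.wordMat K (chevG2.commWord K r s t u) = 1 := by
    apply wordMat_eq_one I.hSD'
    intro p hp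
    unfold ChevalleyDatum.commWord at hp
    rw [List.mem_map] at hp
    obtain ⟨c, hc, rfl⟩ := hp
    have : ((c.2.1 : ℤ) : K) = 0 :=
      (CharP.intCast_eq_zero_iff K 3 c.2.1).mpr (Int.dvd_of_emod_eq_zero (h2 c hc))
    show (c.2.1 : K) * (-t) ^ c.2.2.1 * u ^ c.2.2.2 = 0
    rw [this, zero_mul, zero_mul]
  rw [hw, mul_one] at e
  exact e.symm

theorem three_eq_zero [CharP K 3] : (3 : K) = 0 := by
  have := CharP.cast_eq_zero K 3
  exact_mod_cast this

/-- The system of the positive roots. -/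
def posSys (K : Type*) [Field K] [CharP K 3] : ReeSys K (Matrix chevG2.Idx chevG2.Idx K) where
  X i c := chevG2.x K (6 + i.val) c
  add i s t := x_add' stringData_G2 _ s t
  zero i := x_zero stringData_G2 _
  c23 s t := comm_x3 8 9 (by decide) s t
  c24 s t := comm_x3 8 10 (by decide) s t
  c25 s t := comm_x3 8 11 (by decide) s t
  c34 s t := comm_x3 9 10 (by decide) s t
  c35 s t := comm_x3 9 11 (by decide) s t
  c45 s t := comm_x3 10 11 (by decide) s t
  r2 A B := by
    obtain ⟨η, I⟩ := bnInput_all chevG2 (by simp) K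
    have e := I.hcomm 6 7 (by decide) (by decide) (by decide) (by decide) B A
    have h3 : (3 : K) = 0 := three_eq_zero
    show chevG2.x K 7 A * chevG2.x K 6 B = chevG2.x K 6 B * chevG2.x K 7 A *
      (chevG2.x K 8 (-(A * B)) * chevG2.x K 9 (-(A ^ 2 * B)) * chevG2.x K 10 (A ^ 3 * B) *
        chevG2.x K 11 (A ^ 3 * B ^ 2))
    rw [e]
    congr 1
    unfold ChevalleyDatum.commWord
    rw [commTerms_6_7]
    simp only [List.map_cons, List.map_nil, wordMat_cons, wordMat_nil, mul_one, Int.cast_one, Int.cast_neg,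
      Int.cast_ofNat, pow_one, one_mul]
    rw [← mul_assoc, ← mul_assoc]
    have p1 : (-B) * A = -(A * B) := by ring
    have p2 : (-B) * A ^ 2 = -(A ^ 2 * B) := by ring
    have p3 : (-1 : K) * (-B) * A ^ 3 = A ^ 3 * B := by ring
    have p4 : (-2 : K) * (-B) ^ 2 * A ^ 3 = A ^ 3 * B ^ 2 := by linear_combination (-(A ^ 3 * B ^ 2)) * h3
    rw [p1, p2, p3, p4]

/-- The system of the negative roots (with negated parameters). -/
def negSys (K : Type*) [Field K] [CharP K 3] : ReeSys K (Matrix chevG2.Idx chevG2.Idx K) where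
  X i c := chevG2.x K (5 - i.val) (-c)
  add i s t := by rw [x_add' stringData_G2, neg_add]
  zero i := by rw [neg_zero]; exact x_zero stringData_G2 _
  c23 s t := comm_x3 3 2 (by decide) _ _
  c24 s t := comm_x3 3 1 (by decide) _ _
  c25 s t := comm_x3 3 0 (by decide) _ _
  c34 s t := comm_x3 2 1 (by decide) _ _
  c35 s t := comm_x3 2 0 (by decide) _ _
  c45 s t := comm_x3 1 0 (by decide) _ _
  r2 A B := by
    obtain ⟨η, I⟩ := bnInput_all chevG2 (by simp) K
    have e := I.hcomm 5 4 (by decide) (by decide) (by decide) (by decide) (-B) (-A)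
    have h3 : (3 : K) = 0 := three_eq_zero
    show chevG2.x K 4 (-A) * chevG2.x K 5 (-B) = chevG2.x K 5 (-B) * chevG2.x K 4 (-A) *
      (chevG2.x K 3 (-(-(A * B))) * chevG2.x K 2 (-(-(A ^ 2 * B))) * chevG2.x K 1 (-(A ^ 3 * B)) *
        chevG2.x K 0 (-(A ^ 3 * B ^ 2)))
    rw [e]
    congr 1
    unfold ChevalleyDatum.commWord
    rw [commTerms_5_4]
    simp only [List.map_cons, List.map_nil, wordMat_cons, wordMat_nil, mul_one, Int.cast_one, Int.cast_neg,
      Int.cast_ofNat, pow_one, one_mul, neg_neg]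
    rw [← mul_assoc, ← mul_assoc]
    have p1 : (-1 : K) * B * (-A) = A * B := by ring
    have p2 : B * (-A) ^ 2 = A ^ 2 * B := by ring
    have p3 : B * (-A) ^ 3 = -(A ^ 3 * B) := by ring
    have p4 : (-2 : K) * B ^ 2 * (-A) ^ 3 = -(A ^ 3 * B ^ 2) := by linear_combination (A ^ 3 * B ^ 2) * h3
    rw [p1, p2, p3, p4]

end Inst

end Cfsg.Agent.Lib.helper23
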