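import Cfsg.Agent.Lib.helper23.ChevReeBN

set_option autoImplicit false
set_option maxRecDepth 100000

/-! # The torus `H¹ = H ∩ G¹` of the twisted group of type `G₂` is isomorphic to `Kˣ` -/

namespace Cfsg.Agent.Lib.helper23

open Cfsg Cfsg.Lie Cfsg.Agent.Lib.helper41 Cfsg.Agent.Lib.helper22

section Mu

variable {K : Type*} [Field K]

theorem diag_entry_ne_zero {g : GL chevG2.Idx K} (hg : g ∈ chevG2.diagonalSubgroup K) :
    (g : Matrix chevG2.Idx chevG2.Idx K) (Sum.inr ⟨11, by decide⟩) (Sum.inr ⟨11, by decide⟩) ≠ 0 := by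
  obtain ⟨c, hc, hv⟩ := diagonalSubgroup_le_torus (bnInput_G2 K).hSD' hg
  rw [hv, torusMat_entry]
  exact torusChar_ne_zero chevG2 K c hc _

theorem diag_entry_mul {g g' : GL chevG2.Idx K} (hg : g ∈ chevG2.diagonalSubgroup K)
    (hg' : g' ∈ chevG2.diagonalSubgroup K) :
    ((g * g' : GL chevG2.Idx K) : Matrix chevG2.Idx chevG2.Idx K) (Sum.inr ⟨11, by decide⟩)
        (Sum.inr ⟨11, by decide⟩) =
      (g : Matrix chevG2.Idx chevG2.Idx K) (Sum.inr ⟨11, by decide⟩) (Sum.inr ⟨11, by decide⟩) *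
        (g' : Matrix chevG2.Idx chevG2.Idx K) (Sum.inr ⟨11, by decide⟩) (Sum.inr ⟨11, by decide⟩) := by
  obtain ⟨c, hc, hv⟩ := diagonalSubgroup_le_torus (bnInput_G2 K).hSD' hg
  obtain ⟨c', hc', hv'⟩ := diagonalSubgroup_le_torus (bnInput_G2 K).hSD' hg'
  rw [Units.val_mul, hv, hv', torusMat_mul, torusMat_entry, torusMat_entry, torusMat_entry, torusChar_11,
    torusChar_11, torusChar_11]

/-- The value at the highest root, as a homomorphism `H → Kˣ`. -/
noncomputable def diagMu (K : Type*) [Field K] : ↥(chevG2.diagonalSubgroup K) →* Kˣ :=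
  MonoidHom.mk' (fun g => Units.mk0 _ (diag_entry_ne_zero g.2))
    (fun g g' => Units.ext (diag_entry_mul g.2 g'.2))

theorem diagMu_val (g : ↥(chevG2.diagonalSubgroup K)) :
    ((diagMu K g : Kˣ) : K) =
      ((g : GL chevG2.Idx K) : Matrix chevG2.Idx chevG2.Idx K) (Sum.inr ⟨11, by decide⟩)
        (Sum.inr ⟨11, by decide⟩) := rfl

variable {e : ℕ} (R : ReeData K e)

include R

/-- The value at the highest root, as an injective homomorphism `H¹ → Kˣ`. -/
theorem ReeData.mu_injective :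
    Function.Injective ((diagMu K).comp (Subgroup.inclusion
      (inf_le_left : chevG2.diagonalSubgroup K ⊓ twistedG2 K e ≤ chevG2.diagonalSubgroup K))) := by
  intro g g' hgg
  have h1 := congrArg Units.val hgg
  exact Subtype.ext (R.fix_diag_inj (Subgroup.mem_inf.mp g.2).1 (R.twisted_le_fix (Subgroup.mem_inf.mp g.2).2)
    (Subgroup.mem_inf.mp g'.2).1 (R.twisted_le_fix (Subgroup.mem_inf.mp g'.2).2) h1)

/-- `H¹` is cyclic. -/
theorem ReeData.diag_cyclic [Finite K] : IsCyclic ↥(chevG2.diagonalSubgroup K ⊓ twistedG2 K e) :=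
  isCyclic_of_injective _ R.mu_injective

end Mu

end Cfsg.Agent.Lib.helper23
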