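import Cfsg.Agent.Lib.helper23.ChevReeSys

set_option autoImplicit false
set_option maxRecDepth 100000

/-!
# The fixed points of the twisting automorphism in `U`

`U ∩ G^σ` consists of the elements `x_a(t^θ) x_b(t) x_{a+b}(t^{θ+1}+u^θ) x_{2a+b}(t^{2θ+1}+v^θ) x_{3a+b}(u) x_{3a+2b}(v)`,
and these (and their images under `x_r(c) ↦ x_{-r}(-c)`) are fixed by `σ`.
-/

namespace Cfsg.Agent.Lib.helper23

open Cfsg.Lie Cfsg.Agent.Lib.helper41 Cfsg.Agent.Lib.helper22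

namespace ReeSys

variable {K : Type*} [Field K] {M : Type*} [Monoid M] (S : ReeSys K M)

/-- The shape of the generators of the twisted group. -/
def reeForm (e : ℕ) (t u v : K) : M :=
  S.X 1 (t ^ e) * S.X 0 t * S.M4 (t ^ (e + 1) + u ^ e) (t ^ (2 * e + 1) + v ^ e) u v

/-- The same elements with `x_b` first. -/
def stdForm (e : ℕ) (t u v : K) : M :=
  S.X 0 t * S.X 1 (t ^ e) * S.M4 (u ^ e) (v ^ e) ((t ^ e) ^ 3 * t + u) ((t ^ e) ^ 3 * t ^ 2 + v)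

theorem ree_eq_std (e : ℕ) (t u v : K) : S.reeForm e t u v = S.stdForm e t u v := by
  unfold reeForm stdForm
  rw [S.swap]
  have h1 : t ^ (e + 1) + u ^ e - t ^ e * t = u ^ e := by rw [pow_succ]; ring
  have h2 : t ^ (2 * e + 1) + v ^ e - (t ^ e) ^ 2 * t = v ^ e := by rw [pow_succ, pow_mul']; ring
  have h3 : u + (t ^ e) ^ 3 * t = (t ^ e) ^ 3 * t + u := by ring
  have h4 : v + (t ^ e) ^ 3 * t ^ 2 = (t ^ e) ^ 3 * t ^ 2 + v := by ring
  rw [h1, h2, h3, h4]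

end ReeSys

section Field

variable {K : Type*} [Field K] {e : ℕ} (R : ReeData K e)

include R

theorem ReeData.add_cube (x y : K) : (x + y) ^ 3 = x ^ 3 + y ^ 3 := by
  haveI := R.char3
  exact add_pow_char ..

theorem ReeData.sub_pow_e (x y : K) : (x - y) ^ e = x ^ e - y ^ e := by
  rw [sub_eq_add_neg, R.hadd, R.neg_pow_e, ← sub_eq_add_neg]

theorem ReeData.pow_e_cube (x : K) : ((x ^ 3) ^ e) = (x ^ e) ^ 3 := by
  rw [← pow_mul, ← pow_mul, mul_comm]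

variable {M : Type*} [Monoid M] (S : ReeSys K M)

/-- The image under `σ` of a generator, brought to standard form. -/
theorem ReeData.sig_ree (t u v : K) :
    S.X 0 (((t ^ e) ^ e) ^ 3) * S.X 1 ((t ^ e) ^ 1) *
      (S.X 4 (((t ^ (e + 1) + u ^ e) ^ e) ^ 3) * S.X 5 (((t ^ (2 * e + 1) + v ^ e) ^ e) ^ 3) *
        (S.X 2 ((u ^ e) ^ 1) * S.X 3 ((v ^ e) ^ 1))) = S.stdForm e t u v := by
  rw [S.reorder, R.hφ t, pow_one, pow_one, pow_one]
  unfold ReeSys.stdForm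
  have h4 : ((t ^ (e + 1) + u ^ e) ^ e) ^ 3 = (t ^ e) ^ 3 * t + u := by
    rw [R.hadd, R.add_cube, R.hφ u]
    have a1 : t ^ (e + 1) = t ^ e * t := pow_succ t e
    have a2 : ((t ^ e * t) ^ e) ^ 3 = ((t ^ e) ^ e) ^ 3 * (t ^ e) ^ 3 := by ring
    rw [a1, a2, R.hφ t]
    ring
  have h5 : ((t ^ (2 * e + 1) + v ^ e) ^ e) ^ 3 = (t ^ e) ^ 3 * t ^ 2 + v := by
    rw [R.hadd, R.add_cube, R.hφ v]
    have a1 : t ^ (2 * e + 1) = (t ^ e) ^ 2 * t := by rw [pow_succ, pow_mul']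
    have a2 : (((t ^ e) ^ 2 * t) ^ e) ^ 3 = (((t ^ e) ^ e) ^ 3) ^ 2 * (t ^ e) ^ 3 := by ring
    rw [a1, a2, R.hφ t]
    ring
  rw [h4, h5]

/-- The image under `σ` of a general element of `U`, brought to standard form. -/
theorem ReeData.fix_coords (c0 c1 c2 c3 c4 c5 : K) :
    S.X 1 ((c0 ^ e) ^ 1) * S.X 0 ((c1 ^ e) ^ 3) *
      (S.X 4 ((c2 ^ e) ^ 3) * S.X 5 ((c3 ^ e) ^ 3) * (S.X 2 ((c4 ^ e) ^ 1) * S.X 3 ((c5 ^ e) ^ 1))) =
    S.X 0 ((c1 ^ e) ^ 3) * S.X 1 (c0 ^ e) *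
      S.M4 (c4 ^ e - c0 ^ e * (c1 ^ e) ^ 3) (c5 ^ e - (c0 ^ e) ^ 2 * (c1 ^ e) ^ 3)
        ((c2 ^ e) ^ 3 + (c0 ^ e) ^ 3 * (c1 ^ e) ^ 3) ((c3 ^ e) ^ 3 + (c0 ^ e) ^ 3 * ((c1 ^ e) ^ 3) ^ 2) := by
  rw [S.reorder, pow_one, pow_one, pow_one, S.swap]

/-- A standard product with `σ`-stable coordinates is a generator of the twisted group. -/
theorem ReeData.std_of_fix (c0 c1 c2 c3 c4 c5 : K) (h7 : c0 ^ e = c1)
    (h8 : c4 ^ e - c0 ^ e * (c1 ^ e) ^ 3 = c2) (h9 : c5 ^ e - (c0 ^ e) ^ 2 * (c1 ^ e) ^ 3 = c3) :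
    S.X 0 c0 * S.X 1 c1 * S.M4 c2 c3 c4 c5 =
      S.stdForm e c0 (c4 - (c0 ^ e) ^ 3 * c0) (c5 - (c0 ^ e) ^ 3 * c0 ^ 2) := by
  subst h7 h8 h9
  unfold ReeSys.stdForm
  have h1 : (c4 - (c0 ^ e) ^ 3 * c0) ^ e = c4 ^ e - c0 ^ e * ((c0 ^ e) ^ e) ^ 3 := by
    rw [R.sub_pow_e, mul_pow, R.pow_e_cube, R.hφ c0]
    ring
  have h2 : (c5 - (c0 ^ e) ^ 3 * c0 ^ 2) ^ e = c5 ^ e - (c0 ^ e) ^ 2 * ((c0 ^ e) ^ e) ^ 3 := by
    rw [R.sub_pow_e, mul_pow, R.pow_e_cube, R.hφ c0, ← pow_mul, ← pow_mul, mul_comm 2 e]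
    ring
  have h3 : (c0 ^ e) ^ 3 * c0 + (c4 - (c0 ^ e) ^ 3 * c0) = c4 := by ring
  have h4 : (c0 ^ e) ^ 3 * c0 ^ 2 + (c5 - (c0 ^ e) ^ 3 * c0 ^ 2) = c5 := by ring
  rw [h1, h2, h3, h4]

end Field

/-! ### Words and the two systems -/

section Concrete

variable {K : Type*} [Field K]

theorem wordMat_six (a b c d f g : ℕ × K) :
    chevG2.wordMat K [a, b, c, d, f, g] =
      chevG2.x K a.1 a.2 * chevG2.x K b.1 b.2 * (chevG2.x K c.1 c.2 * chevG2.x K d.1 d.2 *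
        (chevG2.x K f.1 f.2 * chevG2.x K g.1 g.2)) := by
  simp only [wordMat_cons, wordMat_nil, mul_one, mul_assoc]

theorem reeWordU_lt (e : ℕ) (t u v : K) : ∀ p ∈ reeWordU e t u v, p.1 < 12 := by
  intro p hp
  unfold reeWordU at hp
  simp only [List.mem_cons, List.not_mem_nil, or_false] at hp
  rcases hp with rfl | rfl | rfl | rfl | rfl | rfl <;> norm_num [g2a, g2b, g2ab, g2aab, g2aaab, g2aaabb]

theorem reeWordV_lt (e : ℕ) (t u v : K) : ∀ p ∈ reeWordV e t u v, p.1 < 12 := by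
  intro p hp
  unfold reeWordV reeWordU ChevalleyDatum.negWord at hp
  simp only [List.map_cons, List.map_nil, List.mem_cons, List.not_mem_nil, or_false] at hp
  rcases hp with rfl | rfl | rfl | rfl | rfl | rfl
  · exact (by decide : chevG2.negIdx.getD g2a 0 < 12)
  · exact (by decide : chevG2.negIdx.getD g2b 0 < 12)
  · exact (by decide : chevG2.negIdx.getD g2ab 0 < 12)
  · exact (by decide : chevG2.negIdx.getD g2aab 0 < 12)
  · exact (by decide : chevG2.negIdx.getD g2aaab 0 < 12)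
  · exact (by decide : chevG2.negIdx.getD g2aaabb 0 < 12)

variable [CharP K 3]

theorem wordMat_reeU (e : ℕ) (t u v : K) :
    chevG2.wordMat K (reeWordU e t u v) = (posSys K).reeForm e t u v := by
  unfold reeWordU
  rw [wordMat_six]
  unfold ReeSys.reeForm ReeSys.M4
  simp only [mul_assoc]
  rfl

theorem wordMat_reeV (e : ℕ) (t u v : K) :
    chevG2.wordMat K (reeWordV e t u v) = (negSys K).reeForm e t u v := by
  unfold reeWordV reeWordU ChevalleyDatum.negWord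
  simp only [List.map_cons, List.map_nil]
  rw [wordMat_six]
  unfold ReeSys.reeForm ReeSys.M4
  simp only [mul_assoc]
  rfl

end Concrete

section Fixed

variable {K : Type*} [Field K] {e : ℕ} (R : ReeData K e)

include R

/-- The generators `x_a(t^θ) x_b(t) ⋯` are fixed by `σ`. -/
theorem ReeData.sg_reeU (t u v : K) (g : GL chevG2.Idx K)
    (hg : (g : Matrix chevG2.Idx chevG2.Idx K) = chevG2.wordMat K (reeWordU e t u v)) :
    g ∈ R.fix := by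
  haveI := R.char3
  obtain ⟨h1, h2⟩ := R.sg_word _ (reeWordU_lt e t u v) g hg
  refine ⟨h1, Units.ext ?_⟩
  rw [h2, hg, wordMat_reeU, (posSys K).ree_eq_std, ← R.sig_ree (posSys K) t u v]
  unfold sgWord reeWordU
  simp only [List.map_cons, List.map_nil]
  rw [wordMat_six]
  rfl

/-- The generators `x_{-a}(-t^θ) x_{-b}(-t) ⋯` are fixed by `σ`. -/
theorem ReeData.sg_reeV (t u v : K) (g : GL chevG2.Idx K)
    (hg : (g : Matrix chevG2.Idx chevG2.Idx K) = chevG2.wordMat K (reeWordV e t u v)) :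
    g ∈ R.fix := by
  haveI := R.char3
  obtain ⟨h1, h2⟩ := R.sg_word _ (reeWordV_lt e t u v) g hg
  refine ⟨h1, Units.ext ?_⟩
  rw [h2, hg, wordMat_reeV, (negSys K).ree_eq_std, ← R.sig_ree (negSys K) t u v]
  unfold sgWord reeWordV reeWordU ChevalleyDatum.negWord
  simp only [List.map_cons, List.map_nil]
  rw [wordMat_six]
  have e7 := R.tau_neg 4 (by decide) (t ^ e)
  have e6 := R.tau_neg 5 (by decide) t
  have e8 := R.tau_neg 3 (by decide) (t ^ (e + 1) + u ^ e)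
  have e9 := R.tau_neg 2 (by decide) (t ^ (2 * e + 1) + v ^ e)
  have e10 := R.tau_neg 1 (by decide) u
  have e11 := R.tau_neg 0 (by decide) v
  show chevG2.x K 5 (((-t ^ e) ^ e) ^ isoLmG2.getD 4 1) * chevG2.x K 4 (((-t) ^ e) ^ isoLmG2.getD 5 1) *
      (chevG2.x K 1 (((-(t ^ (e + 1) + u ^ e)) ^ e) ^ isoLmG2.getD 3 1) *
        chevG2.x K 0 (((-(t ^ (2 * e + 1) + v ^ e)) ^ e) ^ isoLmG2.getD 2 1) *
        (chevG2.x K 3 (((-u) ^ e) ^ isoLmG2.getD 1 1) * chevG2.x K 2 (((-v) ^ e) ^ isoLmG2.getD 0 1))) = _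
  rw [e7, e6, e8, e9, e10, e11]
  rfl

end Fixed

end Cfsg.Agent.Lib.helper23
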