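import Cfsg.Agent.Lib.helper23.ChevReeU

set_option autoImplicit false
set_option maxRecDepth 100000

/-! `U ∩ G¹` for the twisted group `G¹ = ²G₂`: the elements fixed by `σ` in `U` are the generators. -/

namespace Cfsg.Agent.Lib.helper23

open Cfsg.Lie Cfsg.Agent.Lib.helper41 Cfsg.Agent.Lib.helper22

theorem posRoots_G2 : chevG2.posRoots = [6, 7, 8, 9, 10, 11] := by decide +kernel

section Coord

variable {K : Type*} [Field K]

/-- Coordinates on the positive roots. -/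
def coord6 (c0 c1 c2 c3 c4 c5 : K) : ℕ → K := fun r =>
  if r = 6 then c0 else if r = 7 then c1 else if r = 8 then c2 else if r = 9 then c3
  else if r = 10 then c4 else if r = 11 then c5 else 0

theorem isPos_G2 (K : Type*) [Field K] (r : ℕ) : chevG2.IsPosRoot r ↔ 6 ≤ r ∧ r < 12 := by
  obtain ⟨η, I⟩ := bnInput_all chevG2 (by simp) K
  exact I.hU.pos_iff r

theorem coord6_zero (c0 c1 c2 c3 c4 c5 : K) (r : ℕ) (hr : ¬ chevG2.IsPosRoot r) :
    coord6 c0 c1 c2 c3 c4 c5 r = 0 := by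
  rw [isPos_G2 K] at hr
  unfold coord6
  rw [if_neg (by omega), if_neg (by omega), if_neg (by omega), if_neg (by omega), if_neg (by omega),
    if_neg (by omega)]

theorem wordMat_std [CharP K 3] (c : ℕ → K) :
    chevG2.wordMat K (chevG2.posRoots.map fun r => (r, c r)) =
      (posSys K).X 0 (c 6) * (posSys K).X 1 (c 7) * (posSys K).M4 (c 8) (c 9) (c 10) (c 11) := by
  rw [posRoots_G2]
  simp only [List.map_cons, List.map_nil]
  rw [wordMat_six]
  unfold ReeSys.M4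
  simp only [mul_assoc]
  rfl

theorem wordMat_coord6 [CharP K 3] (c0 c1 c2 c3 c4 c5 : K) :
    chevG2.wordMat K (chevG2.posRoots.map fun r => (r, coord6 c0 c1 c2 c3 c4 c5 r)) =
      (posSys K).X 0 c0 * (posSys K).X 1 c1 * (posSys K).M4 c2 c3 c4 c5 :=
  wordMat_std _

end Coord

section Fixed

variable {K : Type*} [Field K] {e : ℕ} (R : ReeData K e)

include R

/-- The elements of `U` fixed by `σ` are generators of the twisted group. -/
theorem ReeData.fix_pos (g : GL chevG2.Idx K) (hg : g ∈ chevG2.posUnipotent K) (hfix : g ∈ R.fix) :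
    ∃ t u v : K, (g : Matrix chevG2.Idx chevG2.Idx K) = chevG2.wordMat K (reeWordU e t u v) := by
  haveI := R.char3
  obtain ⟨η, I⟩ := bnInput_all chevG2 (by simp) K
  obtain ⟨c, ⟨-, hc⟩, huniq⟩ := (posUnipotent_ordProd I.hSD' I.hU I.hcomm).1 g hg
  have hg1 := hc
  rw [wordMat_std] at hg1
  have hw : ∀ p ∈ (chevG2.posRoots.map fun r => (r, c r)), p.1 < 12 := by
    rw [posRoots_G2]
    intro p hp
    simp only [List.map_cons, List.map_nil, List.mem_cons, List.not_mem_nil, or_false] at hp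
    rcases hp with rfl | rfl | rfl | rfl | rfl | rfl <;> norm_num
  obtain ⟨-, h2⟩ := R.sg_word _ hw g hc
  have h3 : chevG2.wordMat K (sgWord e (chevG2.posRoots.map fun r => (r, c r))) =
      (posSys K).X 1 ((c 6 ^ e) ^ 1) * (posSys K).X 0 ((c 7 ^ e) ^ 3) *
        ((posSys K).X 4 ((c 8 ^ e) ^ 3) * (posSys K).X 5 ((c 9 ^ e) ^ 3) *
          ((posSys K).X 2 ((c 10 ^ e) ^ 1) * (posSys K).X 3 ((c 11 ^ e) ^ 1))) := by
    rw [posRoots_G2]
    unfold sgWord
    simp only [List.map_cons, List.map_nil]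
    rw [wordMat_six]
    rfl
  rw [h3, R.fix_coords, hfix.2] at h2
  have h5 : (g : Matrix chevG2.Idx chevG2.Idx K) = chevG2.wordMat K (chevG2.posRoots.map fun r =>
      (r, coord6 ((c 7 ^ e) ^ 3) (c 6 ^ e) (c 10 ^ e - c 6 ^ e * (c 7 ^ e) ^ 3)
        (c 11 ^ e - (c 6 ^ e) ^ 2 * (c 7 ^ e) ^ 3) ((c 8 ^ e) ^ 3 + (c 6 ^ e) ^ 3 * (c 7 ^ e) ^ 3)
        ((c 9 ^ e) ^ 3 + (c 6 ^ e) ^ 3 * ((c 7 ^ e) ^ 3) ^ 2) r)) := by
    rw [wordMat_coord6]
    exact h2
  have h6 := huniq _ ⟨fun r hr => coord6_zero _ _ _ _ _ _ r hr, h5⟩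
  have e7 : c 6 ^ e = c 7 := congrFun h6 7
  have e8 : c 10 ^ e - c 6 ^ e * (c 7 ^ e) ^ 3 = c 8 := congrFun h6 8
  have e9 : c 11 ^ e - (c 6 ^ e) ^ 2 * (c 7 ^ e) ^ 3 = c 9 := congrFun h6 9
  refine ⟨c 6, c 10 - (c 6 ^ e) ^ 3 * c 6, c 11 - (c 6 ^ e) ^ 3 * c 6 ^ 2, ?_⟩
  rw [wordMat_reeU, (posSys K).ree_eq_std,
    ← R.std_of_fix (posSys K) (c 6) (c 7) (c 8) (c 9) (c 10) (c 11) e7 e8 e9]
  exact hg1

/-- The parameters of a generator are determined by its matrix. -/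
theorem ReeData.reeU_inj {t u v t' u' v' : K}
    (h : chevG2.wordMat K (reeWordU e t u v) = chevG2.wordMat K (reeWordU e t' u' v')) :
    t = t' ∧ u = u' ∧ v = v' := by
  haveI := R.char3
  obtain ⟨η, I⟩ := bnInput_all chevG2 (by simp) K
  obtain ⟨g, hgU, hgv⟩ := (posUnipotent_ordProd I.hSD' I.hU I.hcomm).2
    (coord6 t (t ^ e) (u ^ e) (v ^ e) ((t ^ e) ^ 3 * t + u) ((t ^ e) ^ 3 * t ^ 2 + v))
  obtain ⟨c, -, huniq⟩ := (posUnipotent_ordProd I.hSD' I.hU I.hcomm).1 g hgU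
  have h1 := huniq _ ⟨fun r hr => coord6_zero _ _ _ _ _ _ r hr, hgv⟩
  have h2 := huniq (coord6 t' (t' ^ e) (u' ^ e) (v' ^ e) ((t' ^ e) ^ 3 * t' + u')
      ((t' ^ e) ^ 3 * t' ^ 2 + v')) ⟨fun r hr => coord6_zero _ _ _ _ _ _ r hr, by
    rw [hgv, wordMat_coord6, wordMat_coord6]
    have := h
    rw [wordMat_reeU, wordMat_reeU, (posSys K).ree_eq_std, (posSys K).ree_eq_std] at this
    exact this⟩
  rw [← h2] at h1
  have e6 : t = t' := congrFun h1 6
  subst e6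
  have e10 : (t ^ e) ^ 3 * t + u = (t ^ e) ^ 3 * t + u' := congrFun h1 10
  have e11 : (t ^ e) ^ 3 * t ^ 2 + v = (t ^ e) ^ 3 * t ^ 2 + v' := congrFun h1 11
  exact ⟨rfl, add_left_cancel e10, add_left_cancel e11⟩

/-- The twisted group consists of fixed points of `σ`. -/
theorem ReeData.twisted_le_fix : twistedG2 K e ≤ R.fix := by
  unfold twistedG2 ChevalleyDatum.genSubgroup
  rw [Subgroup.closure_le]
  rintro g ⟨w, ⟨t, u, v, hw | hw⟩, hg⟩
  · rw [hw] at hg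
    exact R.sg_reeU t u v g hg
  · rw [hw] at hg
    exact R.sg_reeV t u v g hg

/-- The generators lie in `U`. -/
theorem reeU_mem_pos (t u v : K) (g : GL chevG2.Idx K)
    (hg : (g : Matrix chevG2.Idx chevG2.Idx K) = chevG2.wordMat K (reeWordU e t u v)) :
    g ∈ chevG2.posUnipotent K := by
  obtain ⟨η, I⟩ := bnInput_all chevG2 (by simp) K
  obtain ⟨g', hg'U, hg'v⟩ := ordProd_mem_posUnipotent (F := K) I.hSD' (L := [7, 6, 8, 9, 10, 11])
    (fun r hr => by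
      rw [isPos_G2 K]
      simp only [List.mem_cons, List.not_mem_nil, or_false] at hr
      omega)
    (coord6 t (t ^ e) (t ^ (e + 1) + u ^ e) (t ^ (2 * e + 1) + v ^ e) u v)
  have : g = g' := Units.ext (by rw [hg, hg'v]; rfl)
  rw [this]
  exact hg'U

/-- `U ∩ G¹` consists exactly of the generators `x_a(t^θ) x_b(t) ⋯`. -/
theorem ReeData.pos_inf_twisted (g : GL chevG2.Idx K) :
    g ∈ chevG2.posUnipotent K ⊓ twistedG2 K e ↔
      ∃ t u v : K, (g : Matrix chevG2.Idx chevG2.Idx K) = chevG2.wordMat K (reeWordU e t u v) := by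
  constructor
  · rintro ⟨h1, h2⟩
    exact R.fix_pos g h1 (R.twisted_le_fix h2)
  · rintro ⟨t, u, v, hg⟩
    exact ⟨reeU_mem_pos R t u v g hg, Subgroup.subset_closure ⟨_, ⟨t, u, v, Or.inl rfl⟩, hg⟩⟩

/-- `|U ∩ G¹| = |K|³`. -/
theorem ReeData.card_pos_inf_twisted [Fintype K] :
    Nat.card ↥(chevG2.posUnipotent K ⊓ twistedG2 K e) = Fintype.card K ^ 3 := by
  have hex : ∀ p : K × K × K, ∃ g : ↥(chevG2.posUnipotent K ⊓ twistedG2 K e),
      ((g : GL chevG2.Idx K) : Matrix chevG2.Idx chevG2.Idx K) =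
        chevG2.wordMat K (reeWordU e p.1 p.2.1 p.2.2) := by
    intro p
    obtain ⟨g, hg⟩ := exists_word (reeWordU e p.1 p.2.1 p.2.2)
    exact ⟨⟨g, (R.pos_inf_twisted g).mpr ⟨_, _, _, hg⟩⟩, hg⟩
  choose f hf using hex
  have hbij : Function.Bijective f := by
    constructor
    · intro p q hpq
      have h1 := hf p
      rw [hpq, hf q] at h1
      obtain ⟨e1, e2, e3⟩ := R.reeU_inj h1
      exact (Prod.ext e1 (Prod.ext e2 e3)).symm
    · intro g
      obtain ⟨t, u, v, hg⟩ := (R.pos_inf_twisted g.1).mp g.2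
      exact ⟨(t, u, v), Subtype.ext (Units.ext (by rw [hf, hg]))⟩
  rw [← Nat.card_congr (Equiv.ofBijective f hbij), Nat.card_prod, Nat.card_prod, Nat.card_eq_fintype_card]
  ring

end Fixed

end Cfsg.Agent.Lib.helper23
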