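import Cfsg.Agent.Lib.helper23.ChevReeU2
import Cfsg.Agent.Lib.helper23.ChevNFB
import Cfsg.Agent.Lib.helper41.ChevOrderG2
import Cfsg.Agent.S1037
import Cfsg.Agent.S1040

set_option autoImplicit false
set_option maxRecDepth 100000

/-!
# Elements of `N` compatible with the twisting automorphism of `G₂`

An element `n ∈ N` with `n⁻¹ σ(n) ∈ H` permutes the roots through an element of the Weyl group commuting with the
permutation `ρ` of the roots induced by `σ`; the only such elements of `W(G₂)` are `1` and `-1`.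
-/

namespace Cfsg.Agent.Lib.helper23

open Cfsg Cfsg.Lie Cfsg.Agent.Lib.helper41 Cfsg.Agent.Lib.helper22

/-- Words representing the twelve elements of the Weyl group of `G₂`. -/
def weylWords : List (List ℕ) :=
  [[], [0], [1], [0, 1], [1, 0], [0, 1, 0], [1, 0, 1], [0, 1, 0, 1], [1, 0, 1, 0], [0, 1, 0, 1, 0],
    [1, 0, 1, 0, 1], [0, 1, 0, 1, 0, 1]]

/-- Two words act in the same way on the roots. -/
def sameAct (w w' : List ℕ) : Bool := allBelow 12 fun s => Nat.beq (actW chevG2 w s) (actW chevG2 w' s)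

theorem weyl_step : (weylWords.all fun w' => allBelow 2 fun i => weylWords.any fun w'' =>
    sameAct (i :: w') w'') = true := by decide +kernel

theorem weyl_comm : (weylWords.all fun w' =>
    (!(allBelow 12 fun s => Nat.beq (isoRtG2.getD (actW chevG2 w' s) 0) (actW chevG2 w' (isoRtG2.getD s 0))) ||
      (allBelow 12 fun s => Nat.beq (actW chevG2 w' s) s)) ||
      (allBelow 12 fun s => Nat.beq (actW chevG2 w' s) (11 - s))) = true := by decide +kernel

theorem weyl_reduce : ∀ w : List ℕ, (∀ i ∈ w, i < 2) →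
    ∃ w' ∈ weylWords, ∀ s, s < 12 → actW chevG2 w s = actW chevG2 w' s
  | [] => fun _ => ⟨[], by simp [weylWords], fun _ _ => rfl⟩
  | i :: w => fun hw => by
    obtain ⟨w', hw', h⟩ := weyl_reduce w (fun j hj => hw j (List.mem_cons_of_mem _ hj))
    have hi := hw i List.mem_cons_self
    have h1 := List.all_eq_true.mp weyl_step w' hw'
    have h2 := (allBelow_iff _ _).mp h1 i hi
    obtain ⟨w'', hw'', h3⟩ := List.any_eq_true.mp h2
    refine ⟨w'', hw'', fun s hs => ?_⟩
    have h4 := Nat.eq_of_beq_eq_true ((allBelow_iff _ _).mp h3 s hs)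
    show chevG2.reflectRoot i (actW chevG2 w s) = _
    rw [h s hs]
    exact h4

/-- The elements of the Weyl group commuting with `ρ` are `1` and `-1`. -/
theorem weyl_dichotomy (w : List ℕ) (hw : ∀ i ∈ w, i < 2)
    (hc : ∀ s, s < 12 → isoRtG2.getD (actW chevG2 w s) 0 = actW chevG2 w (isoRtG2.getD s 0)) :
    (∀ s, s < 12 → actW chevG2 w s = s) ∨ (∀ s, s < 12 → actW chevG2 w s = 11 - s) := by
  obtain ⟨w', hw', h⟩ := weyl_reduce w hw
  have h1 := List.all_eq_true.mp weyl_comm w' hw'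
  rw [Bool.or_eq_true, Bool.or_eq_true] at h1
  rcases h1 with (h1 | h1) | h1
  · exfalso
    have h2 : (allBelow 12 fun s => Nat.beq (isoRtG2.getD (actW chevG2 w' s) 0)
        (actW chevG2 w' (isoRtG2.getD s 0))) = true := by
      rw [allBelow_iff]
      intro s hs
      have e : isoRtG2.getD (actW chevG2 w' s) 0 = actW chevG2 w' (isoRtG2.getD s 0) := by
        rw [← h s hs, ← h _ (isoRt_lt s hs)]
        exact hc s hs
      rw [e]
      exact Nat.beq_refl _
    rw [h2] at h1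
    exact absurd h1 (by decide)
  · left
    intro s hs
    rw [h s hs]
    exact Nat.eq_of_beq_eq_true ((allBelow_iff _ _).mp h1 s hs)
  · right
    intro s hs
    rw [h s hs]
    exact Nat.eq_of_beq_eq_true ((allBelow_iff _ _).mp h1 s hs)

section Act

variable {K : Type*} [Field K] {e : ℕ} (R : ReeData K e)

theorem primHyp_G2 (K : Type*) [Field K] : PrimHyp chevG2 K := fun r hr δ h =>
  prim_of_corGcd chevG2 r (ordOK_spec chevG2 ordOK_G2 r hr).2.2 δ h

/-- Root elements are injective in the parameter. -/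
theorem x_inj_G2 {r : ℕ} (hr : r < 12) {a b : K} (h : chevG2.x K r a = chevG2.x K r b) : a = b := by
  have I := bnInput_G2 K
  have h1 : chevG2.x K r (a - b) = 1 := by
    rw [sub_eq_add_neg, ← x_add' I.hSD' r a (-b), h, x_add' I.hSD' r b (-b), add_neg_cancel, x_zero I.hSD']
  exact sub_eq_zero.mp (x_eq_one_all I (primHyp_G2 K) hr h1)

include R

/-- If `n⁻¹ σ(n) ∈ H`, the permutation of the roots induced by `n` commutes with `ρ`. -/
theorem ReeData.rootAct_comm {n : GL chevG2.Idx K} (hn : n ∈ chevG2.monomialSubgroup K)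
    (hh : n⁻¹ * R.sg n ∈ chevG2.diagonalSubgroup K) {π : ℕ → ℕ} {c : ℕ → K}
    (hπ : RootAct chevG2 K (n : Matrix chevG2.Idx chevG2.Idx K) π c) :
    ∀ s, s < 12 → isoRtG2.getD (π s) 0 = π (isoRtG2.getD s 0) := by
  intro s hs
  have I := bnInput_G2 K
  have hp := primHyp_G2 K
  obtain ⟨hBG, hNG, hG⟩ := Cfsg.Agent.S1043.result (F := K) chevG2 (by simp)
  have hρs := isoRt_lt s hs
  obtain ⟨hπs, -, hact⟩ := hπ s hs
  have hπs' : π s < 12 := hπs
  obtain ⟨x, hx⟩ := exists_x (F := K) stringData_G2 s hs 1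
  obtain ⟨y, hy⟩ := exists_x (F := K) stringData_G2 (π s) hπs (c s * 1)
  obtain ⟨hxG, hxs⟩ := R.sg_x hs hx
  obtain ⟨hyG, hys⟩ := R.sg_x hπs' hy
  have hnG := hNG hn
  have e1 : n * x = y * n := Units.ext (by rw [Units.val_mul, Units.val_mul, hx, hy]; exact hact 1)
  have e2 : R.sg n * R.sg x = R.sg y * R.sg n := by rw [← R.sg_mul hnG hxG, ← R.sg_mul hyG hnG, e1]
  have e3 := congrArg (fun g : GL chevG2.Idx K => (g : Matrix chevG2.Idx chevG2.Idx K)) e2
  simp only [Units.val_mul] at e3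
  rw [hxs, hys] at e3
  obtain ⟨c', hc'⟩ := rootAct_torus I.hSD (diagonalSubgroup_le_torus I.hSD' hh)
  have hsgv : ((R.sg n : GL chevG2.Idx K) : Matrix chevG2.Idx chevG2.Idx K) =
      (n : Matrix chevG2.Idx chevG2.Idx K) * ((n⁻¹ * R.sg n : GL chevG2.Idx K) : Matrix chevG2.Idx chevG2.Idx K) := by
    rw [← Units.val_mul, mul_inv_cancel_left]
  have hact2 := hπ.mul hc'
  rw [← hsgv] at hact2
  obtain ⟨-, -, hact3⟩ := hact2 _ hρs
  have e4 := hact3 (((1 : K) ^ e) ^ isoLmG2.getD s 1)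
  rw [e3] at e4
  have e5 := congrArg (fun M => M * ((R.sg n)⁻¹ : GL chevG2.Idx K).val) e4
  simp only [mul_assoc, gl_mul_inv_val, mul_one] at e5
  by_contra hne
  have hπρ : π (isoRtG2.getD s 0) < 12 := (hπ _ hρs).1
  have h0 := x_ne_of_ne I hp (isoRt_lt _ hπs') hπρ hne e5
  have h1 : c s ≠ 0 := rootAct_ne_zero_all I hp hπ hs
  exact R.tau_ne_zero (π s) h1 h0

omit R in
/-- An element of `N` acting trivially on the roots lies in `H`. -/
theorem mem_diag_of_id {n : GL chevG2.Idx K} (hn : n ∈ chevG2.monomialSubgroup K) {π : ℕ → ℕ} {c : ℕ → K}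
    (hπ : RootAct chevG2 K (n : Matrix chevG2.Idx chevG2.Idx K) π c) (hid : ∀ s, s < 12 → π s = s) :
    n ∈ chevG2.diagonalSubgroup K := by
  obtain ⟨hBG, hNG, hG⟩ := Cfsg.Agent.S1043.result (F := K) chevG2 (by simp)
  exact mem_diag_of_actsAs_one (bnInput_G2 K) (primHyp_G2 K) TabG2.wlink hBG hNG hG.ge n hn
    ⟨π, c, hπ, fun r => hid r.val r.isLt⟩

/-- An element of `N` with `n⁻¹ σ(n) ∈ H` lies in `H` or acts on the roots as `-1`. -/
theorem ReeData.mono_cases {n : GL chevG2.Idx K} (hn : n ∈ chevG2.monomialSubgroup K)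
    (hh : n⁻¹ * R.sg n ∈ chevG2.diagonalSubgroup K) :
    n ∈ chevG2.diagonalSubgroup K ∨ ∃ (π : ℕ → ℕ) (c : ℕ → K),
      RootAct chevG2 K (n : Matrix chevG2.Idx chevG2.Idx K) π c ∧ ∀ s, s < 12 → π s = 11 - s := by
  obtain ⟨w, hw, c, hc⟩ := wordAct_of_mem_monomial (bnInput_G2 K) hn
  rcases weyl_dichotomy w hw (R.rootAct_comm hn hh hc) with h | h
  · exact Or.inl (mem_diag_of_id hn hc h)
  · exact Or.inr ⟨_, c, hc, h⟩

omit R in
/-- The product of two elements of `N` acting as `-1` lies in `H`. -/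
theorem mul_mem_diag_of_neg {n n' : GL chevG2.Idx K} (hn : n ∈ chevG2.monomialSubgroup K)
    (hn' : n' ∈ chevG2.monomialSubgroup K) {π π' : ℕ → ℕ} {c c' : ℕ → K}
    (hπ : RootAct chevG2 K (n : Matrix chevG2.Idx chevG2.Idx K) π c) (hneg : ∀ s, s < 12 → π s = 11 - s)
    (hπ' : RootAct chevG2 K (n' : Matrix chevG2.Idx chevG2.Idx K) π' c') (hneg' : ∀ s, s < 12 → π' s = 11 - s) :
    n * n' ∈ chevG2.diagonalSubgroup K := by
  have h1 := hπ.mul hπ'
  rw [← Units.val_mul] at h1
  refine mem_diag_of_id (mul_mem hn hn') h1 fun s hs => ?_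
  show π (π' s) = s
  rw [hneg' s hs, hneg _ (by omega)]
  omega

end Act

end Cfsg.Agent.Lib.helper23
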