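import Cfsg.Agent.Lib.helper22.ChevN
import Cfsg.Agent.S0319

set_option autoImplicit false

/-!
# Simplicity of the Chevalley groups from their (B,N)-pair

Given the (B,N)-pair of the Chevalley group (with `B = UH` and `S = {n_{p_i}}`), the conjugation rule
`n_p x_s(t) n_p⁻¹ = x_{w_p s}(± t)`, `B ∩ V = 1`, `H ≤ N(U)`, solvability of `B`, perfectness and the triviality of the
core of `B`, the group is simple (Tits' criterion, statement S0319) and not commutative.  The irreducibility of the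
(B,N)-pair comes from a table condition: a walk through the Dynkin diagram along which consecutive fundamental
reflections do not commute modulo `B`.
-/

namespace Cfsg.Agent.Lib.helper23

open Cfsg Cfsg.Lie Cfsg.Agent.Lib.helper22

/-- Table condition for an ordered pair of fundamental roots `p_a`, `p_b`: `w_a w_b p_a` is positive and
`w_b w_a p_a` is negative. -/
def irrPairOK (D : ChevalleyDatum) (a b : ℕ) : Bool :=
  decide (a < D.rank) && decide (b < D.rank) && decide (D.simple a < D.nroots) &&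
    decide (D.simple b < D.nroots) && decide (D.reflectRoot b (D.simple a) < D.nroots) &&
    decide (D.IsPosRoot (D.reflectRoot a (D.reflectRoot b (D.simple a)))) &&
    decide (D.reflectRoot a (D.simple a) < D.nroots) &&
    decide (D.IsNegRoot (D.reflectRoot b (D.reflectRoot a (D.simple a))))

/-- Consecutive members of the list satisfy `irrPairOK` in both orders. -/
def walkChk (D : ChevalleyDatum) : List ℕ → Bool
  | a :: b :: l => irrPairOK D a b && irrPairOK D b a && walkChk D (b :: l)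
  | _ => true

/-- The walk visits every node of the Dynkin diagram; and `w_0 p_0` is negative. -/
def irrOK (D : ChevalleyDatum) (w : List ℕ) : Bool :=
  walkChk D w && (List.range D.rank).all (fun i => w.contains i) && decide (0 < D.rank) &&
    decide (D.IsPosRoot (D.simple 0)) && decide (D.IsNegRoot (D.reflectRoot 0 (D.simple 0)))

theorem walk_split (D : ChevalleyDatum) (I : Set ℕ) : ∀ w : List ℕ, walkChk D w = true →
    (∃ i ∈ w, i ∈ I) → (∃ j ∈ w, j ∉ I) → ∃ a b, irrPairOK D a b = true ∧ a ∈ I ∧ b ∉ I := by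
  intro w
  induction w with
  | nil => rintro - ⟨i, hi, -⟩; simp at hi
  | cons a l ih =>
    cases l with
    | nil =>
      rintro - ⟨i, hi, hiI⟩ ⟨j, hj, hjI⟩
      simp only [List.mem_singleton] at hi hj
      subst hi; subst hj
      exact absurd hiI hjI
    | cons b l =>
      intro hw hi hj
      unfold walkChk at hw
      rw [Bool.and_eq_true, Bool.and_eq_true] at hw
      obtain ⟨⟨hab, hba⟩, hw'⟩ := hw
      by_cases haI : a ∈ I
      · by_cases hbI : b ∈ I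
        · apply ih hw' ⟨b, List.mem_cons_self, hbI⟩
          obtain ⟨j, hj, hjI⟩ := hj
          rcases List.mem_cons.mp hj with rfl | hj'
          · exact absurd haI hjI
          · exact ⟨j, hj', hjI⟩
        · exact ⟨a, b, hab, haI, hbI⟩
      · by_cases hbI : b ∈ I
        · exact ⟨b, a, hba, hbI, haI⟩
        · refine ih hw' ?_ ⟨b, List.mem_cons_self, hbI⟩
          obtain ⟨i, hi, hiI⟩ := hi
          rcases List.mem_cons.mp hi with rfl | hi'
          · exact absurd hiI haI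
          · exact ⟨i, hi', hiI⟩

variable {D : ChevalleyDatum} {F : Type*} [Field F]

theorem borel_le_normalizer_pos
    (h36 : D.diagonalSubgroup F ≤ Subgroup.normalizer (D.posUnipotent F : Set (GL D.Idx F))) :
    D.borelSubgroup F ≤ Subgroup.normalizer (D.posUnipotent F : Set (GL D.Idx F)) := by
  unfold ChevalleyDatum.borelSubgroup
  exact sup_le Subgroup.le_normalizer h36

/-- For a pair satisfying `irrPairOK`, the commutator of `n_a` and `n_b` is not in `B`. -/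
theorem comm_not_mem_borel (hSD : ∀ r : Fin D.nroots, Nonempty (StringData D r))
    (hconj : ∀ i < D.rank, ∀ s < D.nroots, ∃ η : ℤ, (η = 1 ∨ η = -1) ∧ ∀ t : F,
      D.nMat F (D.simple i) 1 * D.x F s t =
        D.x F (D.reflectRoot i s) ((η : F) * t) * D.nMat F (D.simple i) 1)
    (h36 : D.diagonalSubgroup F ≤ Subgroup.normalizer (D.posUnipotent F : Set (GL D.Idx F)))
    (h37 : D.borelSubgroup F ⊓ D.negUnipotent F = ⊥)
    (h24 : ∀ r < D.nroots, ∀ t : F, D.x F r t = 1 → t = 0)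
    (a b : ℕ) (hab : irrPairOK D a b = true) (na nb : GL D.Idx F)
    (hna : (na : Matrix D.Idx D.Idx F) = D.nMat F (D.simple a) 1)
    (hnb : (nb : Matrix D.Idx D.Idx F) = D.nMat F (D.simple b) 1) :
    na * nb * na⁻¹ * nb⁻¹ ∉ D.borelSubgroup F := by
  unfold irrPairOK at hab
  simp only [Bool.and_eq_true, decide_eq_true_eq] at hab
  obtain ⟨⟨⟨⟨⟨⟨⟨ha, hb⟩, hr⟩, -⟩, hr1⟩, hpos⟩, hr3⟩, hneg⟩ := hab
  intro hc
  obtain ⟨η1, hη1, h1⟩ := hconj b hb _ hr
  obtain ⟨η2, hη2, h2⟩ := hconj a ha _ hr1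
  obtain ⟨η3, hη3, h3⟩ := hconj a ha _ hr
  obtain ⟨η4, hη4, h4⟩ := hconj b hb _ hr3
  obtain ⟨S⟩ := hSD ⟨_, hr⟩
  obtain ⟨S1⟩ := hSD ⟨_, hr1⟩
  obtain ⟨S2⟩ := hSD ⟨_, hpos.1⟩
  obtain ⟨S3⟩ := hSD ⟨_, hr3⟩
  obtain ⟨S4⟩ := hSD ⟨_, hneg.1⟩
  have e1 : nb * sl2Hom S (sl2u (1 : F)) = sl2Hom S1 (sl2u ((η1 : F) * 1)) * nb := by
    apply Units.ext
    rw [Units.val_mul, Units.val_mul, hnb, sl2Hom_sl2u S, sl2Hom_sl2u S1]
    exact h1 1
  have e2 : na * sl2Hom S1 (sl2u ((η1 : F) * 1)) = sl2Hom S2 (sl2u ((η2 : F) * ((η1 : F) * 1))) * na := by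
    apply Units.ext
    rw [Units.val_mul, Units.val_mul, hna, sl2Hom_sl2u S1, sl2Hom_sl2u S2]
    exact h2 _
  have e3 : na * sl2Hom S (sl2u (1 : F)) = sl2Hom S3 (sl2u ((η3 : F) * 1)) * na := by
    apply Units.ext
    rw [Units.val_mul, Units.val_mul, hna, sl2Hom_sl2u S, sl2Hom_sl2u S3]
    exact h3 1
  have e4 : nb * sl2Hom S3 (sl2u ((η3 : F) * 1)) = sl2Hom S4 (sl2u ((η4 : F) * ((η3 : F) * 1))) * nb := by
    apply Units.ext
    rw [Units.val_mul, Units.val_mul, hnb, sl2Hom_sl2u S3, sl2Hom_sl2u S4]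
    exact h4 _
  have f1 : na * nb * sl2Hom S (sl2u (1 : F)) =
      sl2Hom S2 (sl2u ((η2 : F) * ((η1 : F) * 1))) * (na * nb) := by
    rw [mul_assoc, e1, ← mul_assoc, e2, mul_assoc]
  have f2 : nb * na * sl2Hom S (sl2u (1 : F)) =
      sl2Hom S4 (sl2u ((η4 : F) * ((η3 : F) * 1))) * (nb * na) := by
    rw [mul_assoc, e3, ← mul_assoc, e4, mul_assoc]
  -- `X₄ = c⁻¹ X₂ c` with `c` the commutator
  have f3 : sl2Hom S4 (sl2u ((η4 : F) * ((η3 : F) * 1))) =
      (na * nb * na⁻¹ * nb⁻¹)⁻¹ * sl2Hom S2 (sl2u ((η2 : F) * ((η1 : F) * 1))) *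
        (na * nb * na⁻¹ * nb⁻¹)⁻¹⁻¹ := by
    have g1 : sl2Hom S2 (sl2u ((η2 : F) * ((η1 : F) * 1))) =
        na * nb * sl2Hom S (sl2u (1 : F)) * (na * nb)⁻¹ := by
      rw [f1, mul_inv_cancel_right]
    have g2 : sl2Hom S4 (sl2u ((η4 : F) * ((η3 : F) * 1))) =
        nb * na * sl2Hom S (sl2u (1 : F)) * (nb * na)⁻¹ := by
      rw [f2, mul_inv_cancel_right]
    rw [g1, g2]
    group
  have hU2 : sl2Hom S2 (sl2u ((η2 : F) * ((η1 : F) * 1))) ∈ D.posUnipotent F :=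
    Subgroup.subset_closure ⟨_, _, hpos, sl2Hom_sl2u S2 _⟩
  have hV4 : sl2Hom S4 (sl2u ((η4 : F) * ((η3 : F) * 1))) ∈ D.negUnipotent F :=
    Subgroup.subset_closure ⟨_, _, hneg, sl2Hom_sl2u S4 _⟩
  have hU4 : sl2Hom S4 (sl2u ((η4 : F) * ((η3 : F) * 1))) ∈ D.posUnipotent F := by
    rw [f3]
    exact (Subgroup.mem_normalizer_iff.mp
      (Subgroup.inv_mem _ (borel_le_normalizer_pos h36 hc)) _).mp hU2
  have hbot : sl2Hom S4 (sl2u ((η4 : F) * ((η3 : F) * 1))) ∈ D.borelSubgroup F ⊓ D.negUnipotent F :=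
    ⟨Subgroup.mem_sup_left hU4, hV4⟩
  rw [h37, Subgroup.mem_bot] at hbot
  have h0 := h24 _ hneg.1 ((η4 : F) * ((η3 : F) * 1)) (by rw [← sl2Hom_sl2u S4, hbot, Units.val_one])
  rcases hη3 with rfl | rfl <;> rcases hη4 with rfl | rfl <;> simp at h0

/-- Irreducibility of a (B,N)-pair of the Chevalley group with `B = UH` and `S = {n_{p_i}}`. -/
theorem bn_irreducible (hSD : ∀ r : Fin D.nroots, Nonempty (StringData D r)) (w : List ℕ)
    (hw : irrOK D w = true)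
    (hconj : ∀ i < D.rank, ∀ s < D.nroots, ∃ η : ℤ, (η = 1 ∨ η = -1) ∧ ∀ t : F,
      D.nMat F (D.simple i) 1 * D.x F s t =
        D.x F (D.reflectRoot i s) ((η : F) * t) * D.nMat F (D.simple i) 1)
    (h36 : D.diagonalSubgroup F ≤ Subgroup.normalizer (D.posUnipotent F : Set (GL D.Idx F)))
    (h37 : D.borelSubgroup F ⊓ D.negUnipotent F = ⊥)
    (h24 : ∀ r < D.nroots, ∀ t : F, D.x F r t = 1 → t = 0)
    (P : BNPair ↥(D.group F)) (hB : P.B = (D.borelSubgroup F).subgroupOf (D.group F))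
    (hS : P.S = {n : ↥(D.group F) | ∃ i < D.rank,
      ((n : GL D.Idx F) : Matrix D.Idx D.Idx F) = D.nMat F (D.simple i) 1}) :
    P.Irreducible := by
  unfold irrOK at hw
  simp only [Bool.and_eq_true, decide_eq_true_eq, List.all_eq_true, List.mem_range,
    List.contains_iff_mem] at hw
  obtain ⟨⟨⟨⟨hwalk, hall⟩, -⟩, -⟩, -⟩ := hw
  intro J hJ hJne hJc
  obtain ⟨n, hn⟩ := hJne
  obtain ⟨n', hn'S, hn'J⟩ := hJc
  have hnS := hJ hn
  rw [hS] at hnS hn'S
  obtain ⟨i, hi, hni⟩ := hnS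
  obtain ⟨j, hj, hn'j⟩ := hn'S
  -- the set of indices of `J`
  have hjI : j ∉ {k : ℕ | ∃ m ∈ J, ((m : GL D.Idx F) : Matrix D.Idx D.Idx F) = D.nMat F (D.simple k) 1} := by
    rintro ⟨m, hm, hmj⟩
    have : m = n' := Subtype.ext (Units.ext (by rw [hmj, hn'j]))
    exact hn'J (this ▸ hm)
  obtain ⟨a, b, hab, ⟨s, hsJ, hsa⟩, hbI⟩ := walk_split D
    {k : ℕ | ∃ m ∈ J, ((m : GL D.Idx F) : Matrix D.Idx D.Idx F) = D.nMat F (D.simple k) 1} w hwalk
    ⟨i, hall i hi, n, hn, hni⟩ ⟨j, hall j hj, hjI⟩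
  have hab' := hab
  unfold irrPairOK at hab'
  simp only [Bool.and_eq_true, decide_eq_true_eq] at hab'
  obtain ⟨⟨⟨⟨⟨⟨⟨-, hb⟩, -⟩, hbr⟩, -⟩, -⟩, -⟩, -⟩ := hab'
  obtain ⟨Sb⟩ := hSD ⟨D.simple b, hbr⟩
  refine ⟨s, hsJ, ⟨sl2Hom Sb (sl2n (1 : F) one_ne_zero), sl2Hom_mem_group Sb _⟩, ⟨?_, ?_⟩, ?_⟩
  · rw [hS]
    exact ⟨b, hb, sl2Hom_sl2n Sb 1 one_ne_zero⟩
  · intro hmem
    exact hbI ⟨_, hmem, sl2Hom_sl2n Sb 1 one_ne_zero⟩
  · rw [hB, Subgroup.mem_subgroupOf]
    exact comm_not_mem_borel hSD hconj h36 h37 h24 a b hab _ _ hsa (sl2Hom_sl2n Sb 1 one_ne_zero)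

/-- The Chevalley group is not commutative. -/
theorem chev_not_comm (hSD : ∀ r : Fin D.nroots, Nonempty (StringData D r)) (w : List ℕ)
    (hw : irrOK D w = true)
    (hconj : ∀ i < D.rank, ∀ s < D.nroots, ∃ η : ℤ, (η = 1 ∨ η = -1) ∧ ∀ t : F,
      D.nMat F (D.simple i) 1 * D.x F s t =
        D.x F (D.reflectRoot i s) ((η : F) * t) * D.nMat F (D.simple i) 1)
    (h37 : D.borelSubgroup F ⊓ D.negUnipotent F = ⊥)
    (h24 : ∀ r < D.nroots, ∀ t : F, D.x F r t = 1 → t = 0) :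
    ¬ IsMulCommutative ↥(D.group F) := by
  unfold irrOK at hw
  simp only [Bool.and_eq_true, decide_eq_true_eq] at hw
  obtain ⟨⟨⟨-, h0⟩, hpos⟩, hneg⟩ := hw
  intro hcomm
  obtain ⟨η, hη, h1⟩ := hconj 0 h0 _ hpos.1
  obtain ⟨S⟩ := hSD ⟨_, hpos.1⟩
  obtain ⟨S'⟩ := hSD ⟨_, hneg.1⟩
  have e1 : sl2Hom S (sl2n (1 : F) one_ne_zero) * sl2Hom S (sl2u (1 : F)) =
      sl2Hom S' (sl2u ((η : F) * 1)) * sl2Hom S (sl2n (1 : F) one_ne_zero) := by
    apply Units.ext
    rw [Units.val_mul, Units.val_mul, sl2Hom_sl2n S 1 one_ne_zero, sl2Hom_sl2u S, sl2Hom_sl2u S']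
    exact h1 1
  have e2 : sl2Hom S (sl2n (1 : F) one_ne_zero) * sl2Hom S (sl2u (1 : F)) =
      sl2Hom S (sl2u (1 : F)) * sl2Hom S (sl2n (1 : F) one_ne_zero) := by
    have := (isMulCommutative_iff.mp hcomm)
      (⟨sl2Hom S (sl2n (1 : F) one_ne_zero), sl2Hom_mem_group S _⟩ : ↥(D.group F))
      ⟨sl2Hom S (sl2u (1 : F)), sl2Hom_mem_group S _⟩
    exact congrArg Subtype.val this
  have e3 : sl2Hom S (sl2u (1 : F)) = sl2Hom S' (sl2u ((η : F) * 1)) :=
    mul_right_cancel (e2.symm.trans e1)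
  have hU : sl2Hom S' (sl2u ((η : F) * 1)) ∈ D.posUnipotent F := by
    rw [← e3]
    exact Subgroup.subset_closure ⟨_, _, hpos, sl2Hom_sl2u S _⟩
  have hV : sl2Hom S' (sl2u ((η : F) * 1)) ∈ D.negUnipotent F :=
    Subgroup.subset_closure ⟨_, _, hneg, sl2Hom_sl2u S' _⟩
  have hbot : sl2Hom S' (sl2u ((η : F) * 1)) ∈ D.borelSubgroup F ⊓ D.negUnipotent F :=
    ⟨Subgroup.mem_sup_left hU, hV⟩
  rw [h37, Subgroup.mem_bot] at hbot
  have h0' := h24 _ hneg.1 ((η : F) * 1) (by rw [← sl2Hom_sl2u S', hbot, Units.val_one])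
  rcases hη with rfl | rfl <;> simp at h0'

/-- Simplicity of the Chevalley group from its (B,N)-pair (Tits' criterion). -/
theorem chev_simple_of (hSD : ∀ r : Fin D.nroots, Nonempty (StringData D r)) (w : List ℕ)
    (hw : irrOK D w = true)
    (hconj : ∀ i < D.rank, ∀ s < D.nroots, ∃ η : ℤ, (η = 1 ∨ η = -1) ∧ ∀ t : F,
      D.nMat F (D.simple i) 1 * D.x F s t =
        D.x F (D.reflectRoot i s) ((η : F) * t) * D.nMat F (D.simple i) 1)
    (h36 : D.diagonalSubgroup F ≤ Subgroup.normalizer (D.posUnipotent F : Set (GL D.Idx F)))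
    (h37 : D.borelSubgroup F ⊓ D.negUnipotent F = ⊥)
    (h24 : ∀ r < D.nroots, ∀ t : F, D.x F r t = 1 → t = 0)
    (hBN : ∃ P : BNPair ↥(D.group F),
      P.B = (D.borelSubgroup F).subgroupOf (D.group F) ∧
      P.N = (D.monomialSubgroup F).subgroupOf (D.group F) ∧
      P.S = {n : ↥(D.group F) | ∃ i < D.rank,
        ((n : GL D.Idx F) : Matrix D.Idx D.Idx F) = D.nMat F (D.simple i) 1})
    (hBG : D.borelSubgroup F ≤ D.group F)
    (hsolv : Group.IsSolvable ↥(D.borelSubgroup F))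
    (hperf : commutator ↥(D.group F) = ⊤)
    (hcore : ((D.borelSubgroup F).subgroupOf (D.group F)).normalCore = ⊥) :
    IsSimpleGroup ↥(D.group F) ∧ ¬ IsMulCommutative ↥(D.group F) := by
  have hnc := chev_not_comm hSD w hw hconj h37 h24
  refine ⟨?_, hnc⟩
  have hnt : Nontrivial ↥(D.group F) := by
    by_contra hcon
    rw [not_nontrivial_iff_subsingleton] at hcon
    exact hnc (isMulCommutative_iff.mpr fun a b => Subsingleton.elim _ _)
  obtain ⟨P, hB, -, hS⟩ := hBN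
  have hirr := bn_irreducible hSD w hw hconj h36 h37 h24 P hB hS
  have hsolvB : Group.IsSolvable ↥P.B := by
    rw [hB]
    exact Group.isSolvable_of_isSolvable_injective (f := (Subgroup.subgroupOfEquivOfLe hBG).toMonoidHom)
      (Subgroup.subgroupOfEquivOfLe hBG).injective
  exact Cfsg.Agent.S0319.result P hirr hsolvB hperf (by rw [hB]; exact hcore)

end Cfsg.Agent.Lib.helper23
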