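import Cfsg.Agent.Lib.helper23.ChevSimple
import Cfsg.Agent.Lib.helper23.ChevStringAll

set_option autoImplicit false
set_option maxRecDepth 100000

/-! The Dynkin-diagram walks for the seven tabulated Chevalley data (table condition `irrOK` of `ChevSimple`). -/

namespace Cfsg.Agent.Lib.helper23

open Cfsg.Lie Cfsg.Agent.Lib.helper22

theorem irrOK_all (D : ChevalleyDatum)
    (hD : D ∈ [chevG2, chevB2, chevD4, chevF4, chevE6, chevE7, chevE8]) : ∃ w : List ℕ, irrOK D w = true := by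
  simp only [List.mem_cons, List.not_mem_nil, or_false] at hD
  rcases hD with rfl | rfl | rfl | rfl | rfl | rfl | rfl
  · exact ⟨[0, 1], by decide +kernel⟩
  · exact ⟨[0, 1], by decide +kernel⟩
  · exact ⟨[0, 1, 2, 1, 3], by decide +kernel⟩
  · exact ⟨[0, 1, 2, 3], by decide +kernel⟩
  · exact ⟨[0, 2, 3, 1, 3, 4, 5], by decide +kernel⟩
  · exact ⟨[0, 2, 3, 1, 3, 4, 5, 6], by decide +kernel⟩
  · exact ⟨[0, 2, 3, 1, 3, 4, 5, 6, 7], by decide +kernel⟩

end Cfsg.Agent.Lib.helper23
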