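import Cfsg.Agent.Lib.helper23.ChevSimpleMain
import Cfsg.Agent.Lib.helper22.ChevBNPair
import Cfsg.Agent.Lib.helper22.ChevBNAll

set_option autoImplicit false

/-! Simplicity of the Chevalley groups of the seven tabulated data: the (B,N)-pair of helper22's library supplies
the hypothesis of `chev_simple`. -/

namespace Cfsg.Agent.Lib.helper23

open Cfsg Cfsg.Lie Cfsg.Agent.Lib.helper22

/-- The (B,N)-pair of a Chevalley group of one of the seven tabulated data. -/
theorem chev_bn_all {F : Type*} [Field F] (D : ChevalleyDatum)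
    (hD : D ∈ [chevG2, chevB2, chevD4, chevF4, chevE6, chevE7, chevE8]) :
    ∃ P : BNPair ↥(D.group F),
      P.B = (D.borelSubgroup F).subgroupOf (D.group F) ∧
      P.N = (D.monomialSubgroup F).subgroupOf (D.group F) ∧
      P.S = {n : ↥(D.group F) | ∃ i < D.rank,
        ((n : GL D.Idx F) : Matrix D.Idx D.Idx F) = D.nMat F (D.simple i) 1} := by
  obtain ⟨η, I⟩ := bnInput_all D hD F
  obtain ⟨h1, h2, h3⟩ := Cfsg.Agent.S1043.result (F := F) D hD
  exact chev_bnPair I h1 h2 h3.ge

/-- Simplicity; the exceptions are `G₂` and `B₂` over the field with two elements. -/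
theorem chev_simple_all {F : Type*} [Field F] (D : ChevalleyDatum)
    (hD : D ∈ [chevG2, chevB2, chevD4, chevF4, chevE6, chevE7, chevE8])
    (h2 : D = chevG2 ∨ D = chevB2 → ∃ a : F, a ≠ 0 ∧ a ≠ 1) :
    IsSimpleGroup ↥(D.group F) ∧ ¬ IsMulCommutative ↥(D.group F) :=
  chev_simple D hD h2 (chev_bn_all D hD)

end Cfsg.Agent.Lib.helper23
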