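import Cfsg.Agent.Lib.helper23.ChevWord
import Cfsg.Agent.Lib.helper23.ChevStringAll
import Cfsg.Agent.Lib.helper23.ChevChunk

set_option autoImplicit false
set_option maxRecDepth 100000

/-! An element `n₀` of `N` with `n₀ U n₀⁻¹ = V`, for the seven tabulated Chevalley data (words of the longest
element of the Weyl group, checked on the certificates). -/

namespace Cfsg.Agent.Lib.helper23

open Cfsg.Lie Cfsg.Agent.Lib.helper22

/-- A reduced word of the longest element of the Weyl group of type G2. -/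
def w0G2 : List ℕ := [1, 0, 1, 0, 1, 0]

theorem w0_ltG2 : ∀ i ∈ w0G2, i < chevG2.rank := by decide

theorem posIffG2 : ∀ r < chevG2.nroots,
    (chevG2.IsPosRoot r ↔ chevG2.nroots ≤ 2 * r) ∧ (chevG2.IsNegRoot r ↔ 2 * r < chevG2.nroots) := by
  decide +kernel

theorem wordOKG2 : wordOK (wordC chevG2 (fun r => certsG2.getD r ⟨0, 0, 0, 0, 0⟩) w0G2)
    chevG2.nroots chevG2.nroots = true := by
  decide +kernel

/-- A reduced word of the longest element of the Weyl group of type B2. -/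
def w0B2 : List ℕ := [1, 0, 1, 0]

theorem w0_ltB2 : ∀ i ∈ w0B2, i < chevB2.rank := by decide

theorem posIffB2 : ∀ r < chevB2.nroots,
    (chevB2.IsPosRoot r ↔ chevB2.nroots ≤ 2 * r) ∧ (chevB2.IsNegRoot r ↔ 2 * r < chevB2.nroots) := by
  decide +kernel

theorem wordOKB2 : wordOK (wordC chevB2 (fun r => certsB2.getD r ⟨0, 0, 0, 0, 0⟩) w0B2)
    chevB2.nroots chevB2.nroots = true := by
  decide +kernel

/-- A reduced word of the longest element of the Weyl group of type D4. -/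
def w0D4 : List ℕ := [3, 1, 2, 0, 1, 3, 0, 1, 2, 0, 1, 0]

theorem w0_ltD4 : ∀ i ∈ w0D4, i < chevD4.rank := by decide

theorem posIffD4 : ∀ r < chevD4.nroots,
    (chevD4.IsPosRoot r ↔ chevD4.nroots ≤ 2 * r) ∧ (chevD4.IsNegRoot r ↔ 2 * r < chevD4.nroots) := by
  decide +kernel

theorem wordOKD4 : wordOK (wordC chevD4 (fun r => certsD4.getD r ⟨0, 0, 0, 0, 0⟩) w0D4)
    chevD4.nroots chevD4.nroots = true := by
  decide +kernel

/-- A reduced word of the longest element of the Weyl group of type F4. -/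
def w0F4 : List ℕ := [3, 2, 1, 2, 0, 1, 2, 3, 2, 1, 2, 0, 1, 2, 3, 2, 1, 2, 0, 1, 2, 0, 1, 0]

theorem w0_ltF4 : ∀ i ∈ w0F4, i < chevF4.rank := by decide

theorem posIffF4 : ∀ r < chevF4.nroots,
    (chevF4.IsPosRoot r ↔ chevF4.nroots ≤ 2 * r) ∧ (chevF4.IsNegRoot r ↔ 2 * r < chevF4.nroots) := by
  decide +kernel

theorem wordOKF4 : wordOK (wordC chevF4 (fun r => certsF4.getD r ⟨0, 0, 0, 0, 0⟩) w0F4)
    chevF4.nroots chevF4.nroots = true := by
  decide +kernel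

/-- A reduced word of the longest element of the Weyl group of type E6. -/
def w0E6 : List ℕ := [0, 2, 3, 4, 5, 1, 3, 4, 2, 3, 0, 2, 1, 3, 4, 5, 1, 3, 4, 2, 3, 0, 2, 1, 3, 4, 2, 3, 0, 2, 1, 3, 0, 2, 1, 0]

theorem w0_ltE6 : ∀ i ∈ w0E6, i < chevE6.rank := by decide

theorem posIffE6 : ∀ r < chevE6.nroots,
    (chevE6.IsPosRoot r ↔ chevE6.nroots ≤ 2 * r) ∧ (chevE6.IsNegRoot r ↔ 2 * r < chevE6.nroots) := by
  decide +kernel

theorem wordOKE6 : wordOK (wordC chevE6 (fun r => certsE6.getD r ⟨0, 0, 0, 0, 0⟩) w0E6)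
    chevE6.nroots chevE6.nroots = true := by
  decide +kernel

/-- A reduced word of the longest element of the Weyl group of type E7. -/
def w0E7 : List ℕ := [6, 5, 4, 3, 2, 1, 3, 4, 5, 6, 0, 2, 3, 4, 5, 1, 3, 4, 2, 3, 0, 2, 1, 3, 4, 5, 6, 0, 2, 3, 4, 5, 1, 3, 4, 2, 3, 0, 2, 1, 3, 4, 5, 1, 3, 4, 2, 3, 0, 2, 1, 3, 4, 2, 3, 0, 2, 1, 3, 0, 2, 1, 0]

theorem w0_ltE7 : ∀ i ∈ w0E7, i < chevE7.rank := by decide

theorem posIffE7 : ∀ r < chevE7.nroots,
    (chevE7.IsPosRoot r ↔ chevE7.nroots ≤ 2 * r) ∧ (chevE7.IsNegRoot r ↔ 2 * r < chevE7.nroots) := by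
  decide +kernel

theorem wordOKE7 : wordOK (wordC chevE7 (fun r => certsE7.getD r ⟨0, 0, 0, 0, 0⟩) w0E7)
    chevE7.nroots chevE7.nroots = true := by
  decide +kernel

/-- A reduced word of the longest element of the Weyl group of type E8. -/
def w0E8 : List ℕ := [7, 6, 5, 4, 3, 2, 1, 3, 4, 5, 6, 0, 2, 3, 4, 5, 1, 3, 4, 2, 3, 0, 2, 1, 3, 4, 5, 6, 7, 6, 5, 4, 3, 2, 1, 3, 4, 5, 6, 0, 2, 3, 4, 5, 1, 3, 4, 2, 3, 0, 2, 1, 3, 4, 5, 6, 7, 6, 5, 4, 3, 2, 1, 3, 4, 5, 6, 0, 2, 3, 4, 5, 1, 3, 4, 2, 3, 0, 2, 1, 3, 4, 5, 6, 0, 2, 3, 4, 5, 1, 3, 4, 2, 3, 0, 2, 1, 3, 4, 5, 1, 3, 4, 2, 3, 0, 2, 1, 3, 4, 2, 3, 0, 2, 1, 3, 0, 2, 1, 0]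

theorem w0_ltE8 : ∀ i ∈ w0E8, i < chevE8.rank := by decide

theorem posIffE8 : ∀ r < chevE8.nroots,
    (chevE8.IsPosRoot r ↔ chevE8.nroots ≤ 2 * r) ∧ (chevE8.IsNegRoot r ↔ 2 * r < chevE8.nroots) := by
  decide +kernel

/-- The step of the table condition `wordOK`. -/
def wordOKStep (wc : List (ℕ × ℕ × RootCert)) (N : ℕ) (r : ℕ) : Bool :=
  decide (actC wc r < N) &&
    (if N ≤ 2 * r then decide (2 * actC wc r < N) else decide (N ≤ 2 * actC wc r)) &&
    decide (actC wc (actC wc r) = r)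

theorem wordOK_of_all (wc : List (ℕ × ℕ × RootCert)) (N : ℕ) :
    ∀ n, (List.range n).all (wordOKStep wc N) = true → wordOK wc N n = true := by
  intro n
  induction n with
  | zero => intro _; rfl
  | succ n ih =>
    intro h
    rw [List.range_succ, List.all_append, Bool.and_eq_true] at h
    have h2 : wordOKStep wc N n = true := by simpa using h.2
    show (wordOKStep wc N n && wordOK wc N n) = true
    rw [h2, ih h.1]
    rfl

theorem wordOKE8_0 : (List.range' 0 60).all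
    (wordOKStep (wordC chevE8 (fun r => certsE8.getD r ⟨0, 0, 0, 0, 0⟩) w0E8) chevE8.nroots) = true := by
  decide +kernel

theorem wordOKE8_1 : (List.range' 60 60).all
    (wordOKStep (wordC chevE8 (fun r => certsE8.getD r ⟨0, 0, 0, 0, 0⟩) w0E8) chevE8.nroots) = true := by
  decide +kernel

theorem wordOKE8_2 : (List.range' (2 * 60) 60).all
    (wordOKStep (wordC chevE8 (fun r => certsE8.getD r ⟨0, 0, 0, 0, 0⟩) w0E8) chevE8.nroots) = true := by
  decide +kernel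

theorem wordOKE8_3 : (List.range' (3 * 60) 60).all
    (wordOKStep (wordC chevE8 (fun r => certsE8.getD r ⟨0, 0, 0, 0, 0⟩) w0E8) chevE8.nroots) = true := by
  decide +kernel

theorem wordOKE8 : wordOK (wordC chevE8 (fun r => certsE8.getD r ⟨0, 0, 0, 0, 0⟩) w0E8)
    chevE8.nroots chevE8.nroots = true :=
  wordOK_of_all _ _ _ (range_all_of_four _ chevE8.nroots 60 (by norm_num) (by decide)
    wordOKE8_0 wordOKE8_1 wordOKE8_2 wordOKE8_3)

/-- `n₀ U n₀⁻¹ = V` for some `n₀ ∈ N`, given the conjugation formula for the `n_p` (statement S1031). -/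
theorem exists_n0 {F : Type*} [Field F] (D : ChevalleyDatum)
    (hD : D ∈ [chevG2, chevB2, chevD4, chevF4, chevE6, chevE7, chevE8])
    (hconj : ∀ i < D.rank, ∀ s < D.nroots, ∃ η : ℤ, (η = 1 ∨ η = -1) ∧ ∀ t : F,
      D.nMat F (D.simple i) 1 * D.x F s t =
        D.x F (D.reflectRoot i s) ((η : F) * t) * D.nMat F (D.simple i) 1) :
    ∃ n ∈ D.monomialSubgroup F, (D.posUnipotent F).map (MulAut.conj n).toMonoidHom = D.negUnipotent F := by
  simp only [List.mem_cons, List.not_mem_nil, or_false] at hD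
  rcases hD with rfl | rfl | rfl | rfl | rfl | rfl | rfl
  · exact exists_n0_of_checks chevG2 negOKG2 cartPG2 cartOKG2 simpleOKG2 _ certsOKG2 w0G2 w0_ltG2
      posIffG2 wordOKG2 hconj
  · exact exists_n0_of_checks chevB2 negOKB2 cartPB2 cartOKB2 simpleOKB2 _ certsOKB2 w0B2 w0_ltB2
      posIffB2 wordOKB2 hconj
  · exact exists_n0_of_checks chevD4 negOKD4 cartPD4 cartOKD4 simpleOKD4 _ certsOKD4 w0D4 w0_ltD4
      posIffD4 wordOKD4 hconj
  · exact exists_n0_of_checks chevF4 negOKF4 cartPF4 cartOKF4 simpleOKF4 _ certsOKF4 w0F4 w0_ltF4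
      posIffF4 wordOKF4 hconj
  · exact exists_n0_of_checks chevE6 negOKE6 cartPE6 cartOKE6 simpleOKE6 _ certsOKE6 w0E6 w0_ltE6
      posIffE6 wordOKE6 hconj
  · exact exists_n0_of_checks chevE7 negOKE7 cartPE7 cartOKE7 simpleOKE7 _ certsOKE7 w0E7 w0_ltE7
      posIffE7 wordOKE7 hconj
  · exact exists_n0_of_checks chevE8 negOKE8 cartPE8 cartOKE8 simpleOKE8 _ certsOKE8 w0E8 w0_ltE8
      posIffE8 wordOKE8 hconj

end Cfsg.Agent.Lib.helper23
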