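import Cfsg.Agent.Lib.helper23.ChevSimpleAll
import Cfsg.Agent.Lib.helper23.ChevPerfectAll
import Cfsg.Agent.Lib.helper23.ChevConjAll
import Cfsg.Agent.S1024
import Cfsg.Agent.S1036
import Cfsg.Agent.S1037
import Cfsg.Agent.S1043
import Cfsg.Agent.S1050
import Cfsg.Agent.S1051

set_option autoImplicit false

/-! Simplicity of the Chevalley groups of the seven tabulated data, given the (B,N)-pair (the frozen statement
S1042, taken here as a hypothesis). -/

namespace Cfsg.Agent.Lib.helper23

open Cfsg Cfsg.Lie Cfsg.Agent.Lib.helper22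

/-- Simplicity, given the (B,N)-pair; the exceptions are `G₂` and `B₂` over the field with two elements. -/
theorem chev_simple {F : Type*} [Field F] (D : ChevalleyDatum)
    (hD : D ∈ [chevG2, chevB2, chevD4, chevF4, chevE6, chevE7, chevE8])
    (h2 : D = chevG2 ∨ D = chevB2 → ∃ a : F, a ≠ 0 ∧ a ≠ 1)
    (hBN : ∃ P : BNPair ↥(D.group F),
      P.B = (D.borelSubgroup F).subgroupOf (D.group F) ∧
      P.N = (D.monomialSubgroup F).subgroupOf (D.group F) ∧
      P.S = {n : ↥(D.group F) | ∃ i < D.rank,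
        ((n : GL D.Idx F) : Matrix D.Idx D.Idx F) = D.nMat F (D.simple i) 1}) :
    IsSimpleGroup ↥(D.group F) ∧ ¬ IsMulCommutative ↥(D.group F) := by
  obtain ⟨w, hw⟩ := irrOK_all D hD
  exact chev_simple_of (fun r => (exists_stringData D hD r).elim fun S _ => ⟨S⟩) w hw
    (fun i hi s hs => chev_conj_all D hD i hi s hs)
    (Cfsg.Agent.S1036.result D hD).1
    (Cfsg.Agent.S1037.result D hD).1
    (fun r hr t h => (Cfsg.Agent.S1024.result D hD r hr t).mp h)
    hBN
    (Cfsg.Agent.S1043.result D hD).1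
    (Cfsg.Agent.S1050.result D hD)
    (chev_perfect D hD h2)
    (Cfsg.Agent.S1051.result D hD)

end Cfsg.Agent.Lib.helper23
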