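import Cfsg.Agent.Lib.helper23.ChevMono
import Cfsg.Agent.Lib.helper22.ChevN

set_option autoImplicit false

/-!
Words in the fundamental reflections acting on root indices, and conjugation of root elements by the corresponding
products of the `n_p`: an element `n` of `N` with `n U n⁻¹ = V` from a word of the longest element.
-/

namespace Cfsg.Agent.Lib.helper23

open Cfsg.Lie Cfsg.Agent.Lib.helper22

/-- The reflection in the root `p` (with negative `nr`) on root indices, from the certificate of `p`. -/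
def reflC (c : RootCert) (p nr s : ℕ) : ℕ := if s = p then nr else if s = nr then p else mate c s

theorem reflectRoot_eq_reflC {D : ChevalleyDatum} {c : RootCert} (i : Fin D.rank)
    (F : RootFacts D (D.simple i.val) c) (hS : SimpleCorootOK D) {s : ℕ} (hs : s < D.nroots) :
    D.reflectRoot i.val s = reflC c (D.simple i.val) (D.negIdx.getD (D.simple i.val) 0) s ∧
      D.reflectRoot i.val s < D.nroots := by
  unfold reflC
  by_cases h1 : s = D.simple i.val
  · rw [if_pos h1, h1, reflectRoot_self i.val rfl]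
    exact ⟨rfl, F.nr_lt⟩
  · rw [if_neg h1]
    by_cases h2 : s = D.negIdx.getD (D.simple i.val) 0
    · rw [if_pos h2, h2, reflectRoot_nr F i.val rfl]
      exact ⟨rfl, (hS i).1⟩
    · rw [if_neg h2, reflectRoot_eq_mate F hS i rfl hs h1 h2]
      exact ⟨rfl, (mate_spec F hs h1 h2).1⟩

/-- The action of a word in the fundamental reflections on root indices (the head of the word acts last). -/
def actW (D : ChevalleyDatum) (w : List ℕ) (r : ℕ) : ℕ := w.foldr (fun i s => D.reflectRoot i s) r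

/-- The same action computed from certificates. -/
def actC (wc : List (ℕ × ℕ × RootCert)) (r : ℕ) : ℕ := wc.foldr (fun e s => reflC e.2.2 e.1 e.2.1 s) r

/-- The word with the certificates of its letters. -/
def wordC (D : ChevalleyDatum) (certs : ℕ → RootCert) (w : List ℕ) : List (ℕ × ℕ × RootCert) :=
  w.map fun i => (D.simple i, D.negIdx.getD (D.simple i) 0, certs (D.simple i))

theorem actW_eq_actC (D : ChevalleyDatum) (hD : cartanNegOK D = true) (P : ℕ) (hP : cartPackOK D P = true)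
    (hS : SimpleCorootOK D) (certs : ℕ → RootCert)
    (hc : ∀ r < D.nroots, rootCheck D P r (certs r) = true) :
    ∀ (w : List ℕ), (∀ i ∈ w, i < D.rank) → ∀ s < D.nroots,
      actW D w s = actC (wordC D certs w) s ∧ actW D w s < D.nroots := by
  intro w
  induction w with
  | nil => intro _ s hs; exact ⟨rfl, hs⟩
  | cons i w ih =>
    intro hw s hs
    have hi : i < D.rank := hw i (List.mem_cons_self ..)
    obtain ⟨e1, e2⟩ := ih (fun j hj => hw j (List.mem_cons_of_mem _ hj)) s hs
    have F := rootFacts_of_check D hD P hP (D.simple i) (hS ⟨i, hi⟩).1 (certs (D.simple i))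
      (hc _ (hS ⟨i, hi⟩).1)
    obtain ⟨g1, g2⟩ := reflectRoot_eq_reflC ⟨i, hi⟩ F hS e2
    show D.reflectRoot i (actW D w s) =
        reflC (certs (D.simple i)) (D.simple i) (D.negIdx.getD (D.simple i) 0) (actC (wordC D certs w) s) ∧
      D.reflectRoot i (actW D w s) < D.nroots
    rw [← e1]
    exact ⟨g1, g2⟩

/-- The word maps the upper half of the root indices into the lower half and conversely, and acts as an
involution (checked for the roots `r < n`). -/
def wordOK (wc : List (ℕ × ℕ × RootCert)) (N : ℕ) : ℕ → Bool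
  | 0 => true
  | r + 1 =>
      (decide (actC wc r < N) &&
        (if N ≤ 2 * r then decide (2 * actC wc r < N) else decide (N ≤ 2 * actC wc r)) &&
        decide (actC wc (actC wc r) = r)) && wordOK wc N r

theorem wordOK_spec (wc : List (ℕ × ℕ × RootCert)) (N : ℕ) : ∀ n, wordOK wc N n = true → ∀ r < n,
    actC wc r < N ∧ (N ≤ 2 * r → 2 * actC wc r < N) ∧ (2 * r < N → N ≤ 2 * actC wc r) ∧
      actC wc (actC wc r) = r := by
  intro n
  induction n with
  | zero => intro _ r hr; omega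
  | succ n ih =>
    intro h r hr
    rw [wordOK, Bool.and_eq_true, Bool.and_eq_true, Bool.and_eq_true, decide_eq_true_eq,
      decide_eq_true_eq] at h
    rcases Nat.lt_succ_iff_lt_or_eq.mp hr with h1 | rfl
    · exact ih h.2 r h1
    · obtain ⟨⟨⟨a1, a2⟩, a3⟩, -⟩ := h
      refine ⟨a1, ?_, ?_, a3⟩
      · intro hN; rw [if_pos hN, decide_eq_true_eq] at a2; exact a2
      · intro hN; rw [if_neg (by omega), decide_eq_true_eq] at a2; exact a2

section Conj

variable {F : Type*} [Field F] {D : ChevalleyDatum}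

/-- A root element as an element of the general linear group. -/
theorem exists_x (hSD : ∀ r : Fin D.nroots, Nonempty (StringData D r)) (r : ℕ) (hr : r < D.nroots) (t : F) :
    ∃ g : GL D.Idx F, (g : Matrix D.Idx D.Idx F) = D.x F r t := by
  obtain ⟨S⟩ := hSD ⟨r, hr⟩
  exact ⟨sl2Hom S (sl2u t), sl2Hom_sl2u S t⟩

/-- `n_r(1)` as an element of the monomial subgroup. -/
theorem exists_n (hSD : ∀ r : Fin D.nroots, Nonempty (StringData D r)) (r : ℕ) (hr : r < D.nroots) :
    ∃ n : GL D.Idx F, (n : Matrix D.Idx D.Idx F) = D.nMat F r 1 ∧ n ∈ D.monomialSubgroup F := by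
  obtain ⟨S⟩ := hSD ⟨r, hr⟩
  refine ⟨sl2Hom S (sl2n 1 one_ne_zero), sl2Hom_sl2n S 1 one_ne_zero, ?_⟩
  exact Subgroup.mem_sup_right (Subgroup.subset_closure ⟨r, hr, sl2Hom_sl2n S 1 one_ne_zero⟩)

theorem conj_step (hSD : ∀ r : Fin D.nroots, Nonempty (StringData D r)) (i s : ℕ)
    (hs' : D.reflectRoot i s < D.nroots)
    (hconj : ∃ η : ℤ, (η = 1 ∨ η = -1) ∧ ∀ t : F, D.nMat F (D.simple i) 1 * D.x F s t =
      D.x F (D.reflectRoot i s) ((η : F) * t) * D.nMat F (D.simple i) 1)
    (n : GL D.Idx F) (hn : (n : Matrix D.Idx D.Idx F) = D.nMat F (D.simple i) 1) :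
    ∃ η : ℤ, (η = 1 ∨ η = -1) ∧ ∀ (t : F) (g : GL D.Idx F), (g : Matrix D.Idx D.Idx F) = D.x F s t →
      ((n * g * n⁻¹ : GL D.Idx F) : Matrix D.Idx D.Idx F) = D.x F (D.reflectRoot i s) ((η : F) * t) := by
  obtain ⟨η, hη, h⟩ := hconj
  refine ⟨η, hη, fun t g hg => ?_⟩
  obtain ⟨g', hg'⟩ := exists_x hSD (D.reflectRoot i s) hs' ((η : F) * t)
  have e : n * g = g' * n := by
    apply Units.ext
    rw [Units.val_mul, Units.val_mul, hn, hg, hg', h t]
  rw [e, mul_inv_cancel_right, hg']

theorem conj_word (hSD : ∀ r : Fin D.nroots, Nonempty (StringData D r))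
    (hsimple : ∀ i < D.rank, D.simple i < D.nroots)
    (hlt : ∀ i < D.rank, ∀ s < D.nroots, D.reflectRoot i s < D.nroots)
    (hconj : ∀ i < D.rank, ∀ s < D.nroots, ∃ η : ℤ, (η = 1 ∨ η = -1) ∧ ∀ t : F,
      D.nMat F (D.simple i) 1 * D.x F s t =
        D.x F (D.reflectRoot i s) ((η : F) * t) * D.nMat F (D.simple i) 1) :
    ∀ (w : List ℕ), (∀ i ∈ w, i < D.rank) →
    ∃ n : GL D.Idx F, n ∈ D.monomialSubgroup F ∧ ∀ s < D.nroots, actW D w s < D.nroots ∧
      ∃ η : ℤ, (η = 1 ∨ η = -1) ∧ ∀ (t : F) (g : GL D.Idx F), (g : Matrix D.Idx D.Idx F) = D.x F s t →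
        ((n * g * n⁻¹ : GL D.Idx F) : Matrix D.Idx D.Idx F) = D.x F (actW D w s) ((η : F) * t) := by
  intro w
  induction w with
  | nil =>
    intro _
    refine ⟨1, Subgroup.one_mem _, fun s hs => ⟨hs, 1, Or.inl rfl, fun t g hg => ?_⟩⟩
    simp [actW, hg]
  | cons i w ih =>
    intro hw
    have hi : i < D.rank := hw i (List.mem_cons_self ..)
    obtain ⟨n', hn', h'⟩ := ih (fun j hj => hw j (List.mem_cons_of_mem _ hj))
    obtain ⟨ni, hni, hnim⟩ := exists_n (F := F) hSD (D.simple i) (hsimple i hi)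
    refine ⟨ni * n', Subgroup.mul_mem _ hnim hn', fun s hs => ?_⟩
    obtain ⟨hs1, η', hη', hc'⟩ := h' s hs
    obtain ⟨η, hη, hc⟩ := conj_step hSD i (actW D w s) (hlt i hi _ hs1) (hconj i hi _ hs1) ni hni
    refine ⟨hlt i hi _ hs1, η * η', ?_, fun t g hg => ?_⟩
    · rcases hη with rfl | rfl <;> rcases hη' with rfl | rfl <;> simp
    · have e : ni * n' * g * (ni * n')⁻¹ = ni * (n' * g * n'⁻¹) * ni⁻¹ := by group
      rw [e, hc _ _ (hc' t g hg)]
      show D.x F (D.reflectRoot i (actW D w s)) _ = D.x F (D.reflectRoot i (actW D w s)) _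
      congr 1
      push_cast
      ring

/-- If the word `w` maps positive roots to negative roots, negative roots to positive roots and acts as an
involution, then the corresponding product of the `n_p` conjugates `U` onto `V`. -/
theorem exists_conj_pos_neg (hSD : ∀ r : Fin D.nroots, Nonempty (StringData D r))
    (hsimple : ∀ i < D.rank, D.simple i < D.nroots)
    (hlt : ∀ i < D.rank, ∀ s < D.nroots, D.reflectRoot i s < D.nroots)
    (hconj : ∀ i < D.rank, ∀ s < D.nroots, ∃ η : ℤ, (η = 1 ∨ η = -1) ∧ ∀ t : F,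
      D.nMat F (D.simple i) 1 * D.x F s t =
        D.x F (D.reflectRoot i s) ((η : F) * t) * D.nMat F (D.simple i) 1)
    (w : List ℕ) (hw : ∀ i ∈ w, i < D.rank)
    (hpn : ∀ r, D.IsPosRoot r → D.IsNegRoot (actW D w r))
    (hnp : ∀ r, D.IsNegRoot r → D.IsPosRoot (actW D w r))
    (hinv : ∀ r < D.nroots, actW D w (actW D w r) = r) :
    ∃ n ∈ D.monomialSubgroup F, (D.posUnipotent F).map (MulAut.conj n).toMonoidHom = D.negUnipotent F := by
  obtain ⟨n, hn, h⟩ := conj_word hSD hsimple hlt hconj w hw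
  refine ⟨n, hn, le_antisymm ?_ ?_⟩
  · unfold ChevalleyDatum.posUnipotent
    rw [MonoidHom.map_closure, Subgroup.closure_le]
    rintro _ ⟨g, ⟨r, t, hr, hg⟩, rfl⟩
    obtain ⟨_, η, _, hc⟩ := h r hr.1
    exact Subgroup.subset_closure ⟨actW D w r, (η : F) * t, hpn r hr, hc t g hg⟩
  · unfold ChevalleyDatum.negUnipotent
    rw [Subgroup.closure_le]
    rintro g' ⟨r', t', hr', hg'⟩
    have hr := hnp r' hr'
    obtain ⟨_, η, hη, hc⟩ := h (actW D w r') hr.1
    obtain ⟨g, hg⟩ := exists_x hSD (actW D w r') hr.1 ((η : F) * t')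
    refine ⟨g, Subgroup.subset_closure ⟨actW D w r', (η : F) * t', hr, hg⟩, ?_⟩
    apply Units.ext
    show ((n * g * n⁻¹ : GL D.Idx F) : Matrix D.Idx D.Idx F) = _
    rw [hc _ g hg, hinv r' hr'.1, hg']
    congr 1
    rcases hη with rfl | rfl <;> simp

end Conj

/-- `n₀ U n₀⁻¹ = V` from a checked word of the longest element. -/
theorem exists_n0_of_checks {F : Type*} [Field F] (D : ChevalleyDatum) (hD : cartanNegOK D = true) (P : ℕ)
    (hP : cartPackOK D P = true) (hS : SimpleCorootOK D) (certs : ℕ → RootCert)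
    (hc : ∀ r < D.nroots, rootCheck D P r (certs r) = true)
    (w : List ℕ) (hw : ∀ i ∈ w, i < D.rank)
    (hpos : ∀ r < D.nroots, (D.IsPosRoot r ↔ D.nroots ≤ 2 * r) ∧ (D.IsNegRoot r ↔ 2 * r < D.nroots))
    (hword : wordOK (wordC D certs w) D.nroots D.nroots = true)
    (hconj : ∀ i < D.rank, ∀ s < D.nroots, ∃ η : ℤ, (η = 1 ∨ η = -1) ∧ ∀ t : F,
      D.nMat F (D.simple i) 1 * D.x F s t =
        D.x F (D.reflectRoot i s) ((η : F) * t) * D.nMat F (D.simple i) 1) :
    ∃ n ∈ D.monomialSubgroup F, (D.posUnipotent F).map (MulAut.conj n).toMonoidHom = D.negUnipotent F := by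
  have hSD : ∀ r : Fin D.nroots, Nonempty (StringData D r) := fun r =>
    ⟨mkStringData D hD P hP r (certs r.val) (hc r.val r.isLt)⟩
  have hsimple : ∀ i < D.rank, D.simple i < D.nroots := fun i hi => (hS ⟨i, hi⟩).1
  have hlt : ∀ i < D.rank, ∀ s < D.nroots, D.reflectRoot i s < D.nroots := by
    intro i hi s hs
    have F' := rootFacts_of_check D hD P hP (D.simple i) (hsimple i hi) (certs (D.simple i))
      (hc _ (hsimple i hi))
    exact (reflectRoot_eq_reflC ⟨i, hi⟩ F' hS hs).2
  have hact := actW_eq_actC D hD P hP hS certs hc w hw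
  have hspec := wordOK_spec _ _ _ hword
  refine exists_conj_pos_neg hSD hsimple hlt hconj w hw ?_ ?_ ?_
  · intro r hr
    obtain ⟨a1, a2, a3, a4⟩ := hspec r hr.1
    rw [(hact r hr.1).1]
    exact (hpos _ a1).2.mpr (a2 ((hpos r hr.1).1.mp hr))
  · intro r hr
    obtain ⟨a1, a2, a3, a4⟩ := hspec r hr.1
    rw [(hact r hr.1).1]
    exact (hpos _ a1).1.mpr (a3 ((hpos r hr.1).2.mp hr))
  · intro r hr
    obtain ⟨a1, a2, a3, a4⟩ := hspec r hr
    rw [(hact r hr).1, (hact _ a1).1]
    exact a4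

end Cfsg.Agent.Lib.helper23
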