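import Cfsg.Agent.Lib.helper41.ChevCalc
import Cfsg.Agent.Lib.helper22.ChevComm

set_option autoImplicit false

/-!
# Identities between words in root elements with monomial parameters

Words `∏ x_{r_i}(a_i t^{d_i})` (`a_i ∈ ℤ`) are compared column by column with helper41's symbolic column
calculus, modulo the characteristic.
-/

namespace Cfsg.Agent.Lib.helper23

open Cfsg Cfsg.Lie Cfsg.Agent.Lib.helper41 Cfsg.Agent.Lib.helper22
open scoped Matrix

/-- all coefficients vanish modulo `p` -/
def symIsZeroP (p : ℕ) (v : SV) : Bool := v.all fun e => e.2.1 % (p : ℤ) == 0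

/-- a sound equality test for symbolic vectors in characteristic `p` -/
def symEqSVp (p : ℕ) (v w : SV) : Bool := symIsZeroP p (norm (v ++ negSV w))

section SymEv

variable (D : ChevalleyDatum) {F : Type*} [Field F]

theorem ev_symIsZeroP (p : ℕ) [CharP F p] (t : F) (v : SV) (h : symIsZeroP p v = true) : ev D t v = 0 := by
  induction v with
  | nil => exact ev_nil D t
  | cons e v ih =>
    simp only [symIsZeroP, List.all_cons, Bool.and_eq_true, beq_iff_eq] at h ih
    rw [ev_cons, ih h.2]
    have h0 : ((e.2.1 : ℤ) : F) = 0 :=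
      (CharP.intCast_eq_zero_iff F p e.2.1).mpr (Int.dvd_of_emod_eq_zero h.1)
    funext row
    simp [ev, h0]

theorem ev_eq_of_symEqSVp (p : ℕ) [CharP F p] (t : F) (v w : SV) (h : symEqSVp p v w = true) :
    ev D t v = ev D t w := by
  have := ev_symIsZeroP D p t _ h
  rw [ev_norm, ev_append, ev_negSV] at this
  exact add_neg_eq_zero.mp this

end SymEv

section SymWords

variable (D : ChevalleyDatum)

/-- A word with monomial parameters applied to a symbolic vector. -/
def symWordSV (col : ℕ → ℕ → List (ℕ × ℤ × ℕ)) : List (ℕ × ℤ × ℕ) → SV → SV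
  | [], v => v
  | p :: w, v => norm (appT (colW D col p.1 p.2.1 p.2.2) (symWordSV col w v))

/-- A word with monomial parameters `a t^d` as a word over a field. -/
def symWord (F : Type*) [Field F] (t : F) (w : List (ℕ × ℤ × ℕ)) : List (ℕ × F) :=
  w.map fun p => (p.1, (p.2.1 : F) * t ^ p.2.2)

theorem symWord_append (F : Type*) [Field F] (t : F) (w w' : List (ℕ × ℤ × ℕ)) :
    symWord F t (w ++ w') = symWord F t w ++ symWord F t w' := List.map_append

variable {F : Type*} [Field F]

theorem wordMat_mulVec_ev_sym (col : ℕ → ℕ → List (ℕ × ℤ × ℕ)) (hcol : ColValid D col) (t : F)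
    (w : List (ℕ × ℤ × ℕ)) (hw : ∀ p ∈ w, p.1 < D.nroots) (v : SV) :
    D.wordMat F (symWord F t w) *ᵥ ev D t v = ev D t (symWordSV D col w v) := by
  induction w with
  | nil =>
    show D.wordMat F [] *ᵥ _ = ev D t v
    rw [Cfsg.Agent.Lib.helper22.wordMat_nil, Matrix.one_mulVec]
  | cons p w ih =>
    have hp := hw p List.mem_cons_self
    show D.wordMat F ((p.1, (p.2.1 : F) * t ^ p.2.2) :: symWord F t w) *ᵥ _ = _
    rw [Cfsg.Agent.Lib.helper22.wordMat_cons, ← Matrix.mulVec_mulVec,
      ih (fun q hq => hw q (List.mem_cons_of_mem _ hq))]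
    show _ = ev D t (norm (appT (colW D col p.1 p.2.1 p.2.2) (symWordSV D col w v)))
    rw [ev_norm]
    exact mulVec_ev D t _ _ (fun m => col_spec' D t col hcol p.1 hp p.2.1 p.2.2 m) _

/-- The check that two words with monomial parameters have the same matrix in characteristic `p`. -/
def symWordEqCheck (col : ℕ → ℕ → List (ℕ × ℤ × ℕ)) (p : ℕ) (w1 w2 : List (ℕ × ℤ × ℕ)) : Bool :=
  allBelow (D.rank + D.nroots) fun n =>
    symEqSVp p (symWordSV D col w1 [(n, 1, 0)]) (symWordSV D col w2 [(n, 1, 0)])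

theorem wordMat_eq_of_symCheck (col : ℕ → ℕ → List (ℕ × ℤ × ℕ)) (hcol : ColValid D col) (p : ℕ) [CharP F p]
    (t : F) (w1 w2 : List (ℕ × ℤ × ℕ)) (hw1 : ∀ q ∈ w1, q.1 < D.nroots) (hw2 : ∀ q ∈ w2, q.1 < D.nroots)
    (h : symWordEqCheck D col p w1 w2 = true) :
    D.wordMat F (symWord F t w1) = D.wordMat F (symWord F t w2) := by
  apply matrix_ext_ev D t
  intro n hn
  rw [wordMat_mulVec_ev_sym D col hcol t w1 hw1, wordMat_mulVec_ev_sym D col hcol t w2 hw2]
  exact ev_eq_of_symEqSVp D p t _ _ ((allBelow_iff _ _).mp h n hn)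

end SymWords

end Cfsg.Agent.Lib.helper23
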