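import Cfsg.Agent.Lib.helper23.D4Bridge

/-!
# S1082, piece AN: `dgc c` and `sw` normalise the set of root elements
-/

set_option autoImplicit false
set_option linter.unusedSimpArgs false

namespace Cfsg.Agent.Lib.helper23.D4

open Matrix Cfsg Cfsg.Lie Cfsg.Agent.Lib.helper95.D4 Cfsg.Agent.Lib.helper23.D4O

variable {F : Type*} [Field F]

/-- the diagonal of `dgc c` -/
def dv (c : F) : Fin 8 → F := ![1, 1, 1, c, 1, 1, 1, c⁻¹]

theorem dv_bar (c : F) (x : Fin 8) : dv c (bar x) = (dv c x)⁻¹ := by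
  fin_cases x <;> simp [dv, bar]

theorem dv_ne_zero (c : F) (hc : c ≠ 0) (x : Fin 8) : dv c x ≠ 0 := by
  fin_cases x <;> simp [dv, hc]

theorem dgc_mulVec (c : F) (u : Fin 8 → F) (x : Fin 8) : (dgc c *ᵥ u) x = dv c x * u x := by
  unfold dgc
  rw [Matrix.mulVec_diagonal]
  rfl

theorem dgc_conj_T (c : F) (hc : c ≠ 0) (a b : Fin 8) (t : F) :
    dgc c * T a b t = T a b (dv c a * (dv c b)⁻¹ * t) * dgc c := by
  rw [Matrix.ext_iff_mulVec]
  intro u
  funext x
  simp only [← Matrix.mulVec_mulVec, T_mulVec_apply, dgc_mulVec, dv_bar]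
  have hb := dv_ne_zero c hc b
  have ha := dv_ne_zero c hc a
  by_cases xa : x = a
  · subst xa
    by_cases xb : x = bar b
    · rw [if_pos rfl, if_pos xb, if_pos rfl, if_pos xb, xb, dv_bar]
      field_simp
    · rw [if_pos rfl, if_neg xb, if_pos rfl, if_neg xb]
      field_simp
      ring
  · by_cases xb : x = bar b
    · rw [if_neg xa, if_pos xb, if_neg xa, if_pos xb, xb, dv_bar]
      field_simp
      ring
    · rw [if_neg xa, if_neg xb, if_neg xa, if_neg xb]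
      ring

/-- Piece AN (1). -/
theorem dgc_conj (c : F) (hc : c ≠ 0) (r : Fin 24) (t : F) :
    ∃ s : F, dgc c * X8 r t = X8 r s * dgc c := by
  refine ⟨(sg r : F) * (dv c (ra r) * (dv c (rb r))⁻¹ * ((sg r : F) * t)), ?_⟩
  rw [X8_eq_T, X8_eq_T, dgc_conj_T c hc, ← mul_assoc (sg r : F) (sg r : F)]
  rcases sg_sq r with e | e <;> simp [e]

theorem sw_mulVec (u : Fin 8 → F) (x : Fin 8) :
    ((Cfsg.Agent.Lib.helper95.D4.sw : Matrix (Fin 8) (Fin 8) F) *ᵥ u) x = u (sp x) := by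
  fin_cases x <;>
    simp [Cfsg.Agent.Lib.helper95.D4.sw, Matrix.mulVec, dotProduct, Fin.sum_univ_eight, sp,
      Equiv.swap_apply_def]

theorem sp_bar : ∀ x : Fin 8, sp (bar x) = bar (sp x) := by decide

theorem sp_sp : ∀ x : Fin 8, sp (sp x) = x := by decide

theorem sw_conj_T (a b : Fin 8) (t : F) :
    (Cfsg.Agent.Lib.helper95.D4.sw : Matrix (Fin 8) (Fin 8) F) * T a b t =
      T (sp a) (sp b) t * Cfsg.Agent.Lib.helper95.D4.sw := by
  rw [Matrix.ext_iff_mulVec]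
  intro u
  funext x
  simp only [← Matrix.mulVec_mulVec, T_mulVec_apply, sw_mulVec, sp_bar, sp_sp]
  have e1 : (sp x = a) = (x = sp a) := by
    apply propext
    constructor
    · intro h; rw [← h, sp_sp]
    · intro h; rw [h, sp_sp]
  have e2 : (sp x = bar b) = (x = bar (sp b)) := by
    apply propext
    constructor
    · intro h; rw [← sp_bar, ← h, sp_sp]
    · intro h; rw [h, ← sp_bar, sp_sp]
  simp only [e1, e2]

/-- the action of `sw` on the roots -/
def swr : Fin 24 → Fin 24 :=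
  ![0, 1, 3, 2, 4, 5, 6, 8, 7, 9, 11, 10, 13, 12, 14, 16, 15, 17, 18, 19, 21, 20, 22, 23]

theorem swr_spec : ∀ r : Fin 24, ra (swr r) = sp (ra r) ∧ rb (swr r) = sp (rb r) ∧ sg (swr r) = sg r := by
  decide

/-- Piece AN (2). -/
theorem sw_conj (r : Fin 24) (t : F) :
    ∃ r' : Fin 24, (Cfsg.Agent.Lib.helper95.D4.sw : Matrix (Fin 8) (Fin 8) F) * X8 r t =
      X8 r' t * Cfsg.Agent.Lib.helper95.D4.sw := by
  refine ⟨swr r, ?_⟩
  obtain ⟨h1, h2, h3⟩ := swr_spec r
  rw [X8_eq_T, X8_eq_T, sw_conj_T, h1, h2, h3]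

end Cfsg.Agent.Lib.helper23.D4
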