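import Cfsg.Agent.Lib.helper23.O8Defs

/-!
# S1082: basic properties of the root elements `T a b t` of the orthogonal group of `qf`
-/

set_option autoImplicit false

namespace Cfsg.Agent.Lib.helper23.D4O

open Matrix Cfsg Cfsg.Lie

variable {F : Type*} [Field F]

theorem bar_bar (x : Fin 8) : bar (bar x) = x := by revert x; decide

theorem bar_ne (x : Fin 8) : bar x ≠ x := by revert x; decide

theorem bar_inj {x y : Fin 8} (h : bar x = bar y) : x = y := by
  have := congrArg bar h
  rwa [bar_bar, bar_bar] at this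

theorem bar_lvl (x : Fin 8) : (bar x).val % 4 = x.val % 4 := by revert x; decide

/-- The action of a root element on the coordinates. -/
theorem T_mulVec_apply (a b : Fin 8) (t : F) (u : Fin 8 → F) (x : Fin 8) :
    (T a b t *ᵥ u) x =
      u x + t * ((if x = a then u b else 0) - (if x = bar b then u (bar a) else 0)) := by
  simp only [T, Matrix.add_mulVec, Matrix.one_mulVec, Matrix.smul_mulVec, Matrix.sub_mulVec,
    Pi.add_apply, Pi.smul_apply, Pi.sub_apply, smul_eq_mul, Matrix.single_mulVec,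
    one_mul, Function.update_apply, Pi.zero_apply]

theorem T_zero (a b : Fin 8) : T a b (0 : F) = 1 := by
  simp [T]

theorem T_add (a b : Fin 8) (h1 : a ≠ b) (h2 : a ≠ bar b) (s t : F) :
    T a b s * T a b t = T a b (s + t) := by
  have hb : bar a ≠ b := fun h => h2 (by rw [← h, bar_bar])
  have hb' : bar a ≠ bar b := fun h => h1 (bar_inj h)
  have e1 : Matrix.single a b (1 : F) * Matrix.single a b (1 : F) = 0 :=
    Matrix.single_mul_single_of_ne _ _ _ _ (Ne.symm h1) _
  have e2 : Matrix.single a b (1 : F) * Matrix.single (bar b) (bar a) (1 : F) = 0 :=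
    Matrix.single_mul_single_of_ne _ _ _ _ (fun h => (bar_ne b) h.symm) _
  have e3 : Matrix.single (bar b) (bar a) (1 : F) * Matrix.single a b (1 : F) = 0 :=
    Matrix.single_mul_single_of_ne _ _ _ _ (bar_ne a) _
  have e4 : Matrix.single (bar b) (bar a) (1 : F) * Matrix.single (bar b) (bar a) (1 : F) = 0 :=
    Matrix.single_mul_single_of_ne _ _ _ _ hb' _
  simp only [T, mul_add, add_mul, mul_one, one_mul, Matrix.smul_mul, Matrix.mul_smul, mul_sub, sub_mul,
    e1, e2, e3, e4, sub_zero, smul_zero, add_zero, add_smul]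
  abel

/-- The root elements as units. -/
def TU (a b : Fin 8) (h1 : a ≠ b) (h2 : a ≠ bar b) (t : F) : GL (Fin 8) F :=
  ⟨T a b t, T a b (-t), by rw [T_add a b h1 h2, add_neg_cancel, T_zero],
    by rw [T_add a b h1 h2, neg_add_cancel, T_zero]⟩

theorem TU_val (a b : Fin 8) (h1 : a ≠ b) (h2 : a ≠ bar b) (t : F) :
    ((TU a b h1 h2 t : GL (Fin 8) F) : Matrix (Fin 8) (Fin 8) F) = T a b t := rfl

theorem TU_mem_EL (k : ℕ) (a b : Fin 8) (h1 : a ≠ b) (h2 : a ≠ bar b) (ha : k ≤ a.val % 4)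
    (hb : k ≤ b.val % 4) (t : F) : TU a b h1 h2 t ∈ EL F k :=
  Subgroup.subset_closure ⟨a, b, t, h1, h2, ha, hb, rfl⟩

theorem T_qf (a b : Fin 8) (h1 : a ≠ b) (h2 : a ≠ bar b) (t : F) (u : Fin 8 → F) :
    qf (T a b t *ᵥ u) = qf u := by
  simp only [qf, T_mulVec_apply]
  fin_cases a <;> fin_cases b <;>
    first
    | exact absurd rfl h1
    | exact absurd (by decide) h2
    | (simp [bar]; ring)

theorem EL_le_OG (k : ℕ) : EL F k ≤ OG F := by
  refine (Subgroup.closure_le _).mpr ?_
  rintro g ⟨a, b, t, h1, h2, -, -, hg⟩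
  refine (mem_OG g).mpr fun v => ?_
  rw [hg, T_qf a b h1 h2]

theorem EL_anti {k l : ℕ} (h : k ≤ l) : EL F l ≤ EL F k := by
  refine (Subgroup.closure_le _).mpr ?_
  rintro g ⟨a, b, t, h1, h2, ha, hb, hg⟩
  exact Subgroup.subset_closure ⟨a, b, t, h1, h2, h.trans ha, h.trans hb, hg⟩

theorem bf_eq (u v : Fin 8 → F) : bf u v = qf (u + v) - qf u - qf v := by
  simp only [bf, qf, Fin.sum_univ_eight, bar, Pi.add_apply]
  have e0 : (0 : Fin 8) + 4 = 4 := by decide
  have e1 : (1 : Fin 8) + 4 = 5 := by decide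
  have e2 : (2 : Fin 8) + 4 = 6 := by decide
  have e3 : (3 : Fin 8) + 4 = 7 := by decide
  have e4 : (4 : Fin 8) + 4 = 0 := by decide
  have e5 : (5 : Fin 8) + 4 = 1 := by decide
  have e6 : (6 : Fin 8) + 4 = 2 := by decide
  have e7 : (7 : Fin 8) + 4 = 3 := by decide
  rw [e0, e1, e2, e3, e4, e5, e6, e7]
  ring

/-- Isometries preserve the polar form. -/
theorem OG_bf (g : GL (Fin 8) F) (hg : g ∈ OG F) (u v : Fin 8 → F) :
    bf ((g : Matrix (Fin 8) (Fin 8) F) *ᵥ u) ((g : Matrix (Fin 8) (Fin 8) F) *ᵥ v) = bf u v := by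
  have h := (mem_OG g).mp hg
  rw [bf_eq, bf_eq, ← Matrix.mulVec_add, h, h, h]

theorem bf_single (u : Fin 8 → F) (x : Fin 8) : bf u (Pi.single x 1) = u (bar x) := by
  unfold bf
  rw [Finset.sum_eq_single (bar x)]
  · rw [bar_bar, Pi.single_eq_same, mul_one]
  · intro y _ hy
    have : bar y ≠ x := fun h => hy (by rw [← h, bar_bar])
    rw [Pi.single_eq_of_ne this, mul_zero]
  · intro h
    exact absurd (Finset.mem_univ _) h

theorem bf_single_left (u : Fin 8 → F) (x : Fin 8) : bf (Pi.single x 1) u = u (bar x) := by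
  unfold bf
  rw [Finset.sum_eq_single x]
  · rw [Pi.single_eq_same, one_mul]
  · intro y _ hy
    rw [Pi.single_eq_of_ne hy, zero_mul]
  · intro h
    exact absurd (Finset.mem_univ _) h

/-- The root elements of level `≥ k` do not change the coordinates of level `< k`. -/
theorem EL_coord (k : ℕ) (g : GL (Fin 8) F) (hg : g ∈ EL F k) (x : Fin 8) (hx : x.val % 4 < k)
    (u : Fin 8 → F) : ((g : Matrix (Fin 8) (Fin 8) F) *ᵥ u) x = u x := by
  revert u
  refine Subgroup.closure_induction (p := fun (g : GL (Fin 8) F) _ => ∀ u : Fin 8 → F,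
    ((g : Matrix (Fin 8) (Fin 8) F) *ᵥ u) x = u x) ?_ ?_ ?_ ?_ hg
  · rintro g ⟨a, b, t, h1, h2, ha, hb, hg⟩ u
    have hxa : x ≠ a := fun h => by subst h; omega
    have hxb : x ≠ bar b := fun h => by
      have := bar_lvl b
      subst h; omega
    rw [hg, T_mulVec_apply, if_neg hxa, if_neg hxb, sub_zero, mul_zero, add_zero]
  · intro u
    simp
  · intro g h _ _ ihg ihh u
    rw [Units.val_mul, ← Matrix.mulVec_mulVec, ihg, ihh]
  · intro g _ ih u
    have := ih ((g⁻¹ : GL (Fin 8) F).val *ᵥ u)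
    rw [Matrix.mulVec_mulVec, ← Units.val_mul, mul_inv_cancel, Units.val_one, Matrix.one_mulVec] at this
    exact this.symm

/-- The root elements of level `≥ k` fix the basis vectors of level `< k`. -/
theorem EL_fix (k : ℕ) (g : GL (Fin 8) F) (hg : g ∈ EL F k) (x : Fin 8) (hx : x.val % 4 < k) :
    (g : Matrix (Fin 8) (Fin 8) F) *ᵥ Pi.single x 1 = Pi.single x 1 := by
  refine Subgroup.closure_induction (p := fun (g : GL (Fin 8) F) _ =>
    (g : Matrix (Fin 8) (Fin 8) F) *ᵥ Pi.single x 1 = Pi.single x 1) ?_ ?_ ?_ ?_ hg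
  · rintro g ⟨a, b, t, h1, h2, ha, hb, hg⟩
    have hxb : b ≠ x := fun h => by subst h; omega
    have hxa : bar a ≠ x := fun h => by
      have := bar_lvl a
      subst h; omega
    funext y
    rw [hg, T_mulVec_apply, Pi.single_eq_of_ne hxb, Pi.single_eq_of_ne hxa]
    simp
  · rw [Units.val_one, Matrix.one_mulVec]
  · intro g h _ _ ihg ihh
    rw [Units.val_mul, ← Matrix.mulVec_mulVec, ihh, ihg]
  · intro g _ ih
    have := congrArg (fun w => (g⁻¹ : GL (Fin 8) F).val *ᵥ w) ih
    simp only [Matrix.mulVec_mulVec, ← Units.val_mul, inv_mul_cancel, Units.val_one,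
      Matrix.one_mulVec] at this
    exact this.symm

end Cfsg.Agent.Lib.helper23.D4O
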