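import Cfsg.Agent.Lib.helper95.D4Defs
import Cfsg.Agent.Lib.helper23.O8Basic

/-!
# S1082: the root elements `X8 r t` of helper95's `D4Defs` in the uniform form `T a b t`
-/

set_option autoImplicit false

namespace Cfsg.Agent.Lib.helper23.D4

open Matrix Cfsg Cfsg.Lie Cfsg.Agent.Lib.helper95.D4 Cfsg.Agent.Lib.helper23.D4O

variable {F : Type*} [Field F]

/-- first index of the root `r` -/
def ra : Fin 24 → Fin 8 :=
  ![5, 6, 3, 7, 2, 1, 6, 3, 7, 2, 3, 7, 2, 2, 1, 1, 1, 1, 0, 0, 0, 0, 0, 0]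

/-- second index of the root `r` -/
def rb : Fin 24 → Fin 8 :=
  ![0, 0, 0, 0, 0, 0, 1, 1, 1, 1, 2, 2, 7, 3, 2, 7, 3, 6, 1, 2, 7, 3, 6, 5]

/-- sign of the root vector `e_r` -/
def sg : Fin 24 → ℤ :=
  ![1, 1, 1, 1, -1, 1, -1, -1, -1, 1, 1, 1, 1, 1, 1, -1, -1, -1, 1, -1, 1, 1, 1, 1]

theorem ra_ne_rb : ∀ r : Fin 24, ra r ≠ rb r := by decide

theorem ra_ne_bar_rb : ∀ r : Fin 24, ra r ≠ bar (rb r) := by decide

theorem sg_sq : ∀ r : Fin 24, sg r = 1 ∨ sg r = -1 := by decide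

set_option maxHeartbeats 1600000 in
theorem X8_eq_T (r : Fin 24) (t : F) : X8 r t = T (ra r) (rb r) ((sg r : F) * t) := by
  fin_cases r <;>
  · ext i j
    fin_cases i <;> fin_cases j <;>
      simp [X8, T, ra, rb, sg, bar, Matrix.single_apply, Matrix.one_apply]

theorem T_bar (a b : Fin 8) (t : F) : T a b t = T (bar b) (bar a) (-t) := by
  simp only [T, bar_bar, neg_smul, smul_sub]
  abel

theorem exists_root : ∀ a b : Fin 8, a ≠ b → a ≠ bar b →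
    ∃ r : Fin 24, (ra r = a ∧ rb r = b) ∨ (ra r = bar b ∧ rb r = bar a) := by decide

theorem T_eq_X8 (a b : Fin 8) (h1 : a ≠ b) (h2 : a ≠ bar b) (t : F) :
    ∃ (r : Fin 24) (s : F), T a b t = X8 r s := by
  obtain ⟨r, h | h⟩ := exists_root a b h1 h2
  · refine ⟨r, (sg r : F) * t, ?_⟩
    rw [X8_eq_T, h.1, h.2, ← mul_assoc]
    rcases sg_sq r with e | e <;> simp [e]
  · refine ⟨r, (sg r : F) * (-t), ?_⟩
    rw [X8_eq_T, h.1, h.2, ← mul_assoc, T_bar a b t]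
    rcases sg_sq r with e | e <;> simp [e]

theorem Og8_eq : Og8 F = OG F := rfl

theorem EG_eq : EG F = Eg8 F := by
  apply le_antisymm
  · refine (Subgroup.closure_le _).mpr ?_
    rintro g ⟨a, b, t, h1, h2, -, -, hg⟩
    obtain ⟨r, s, e⟩ := T_eq_X8 a b h1 h2 t
    exact Subgroup.subset_closure ⟨r, s, hg.trans e⟩
  · refine (Subgroup.closure_le _).mpr ?_
    rintro g ⟨r, t, hg⟩
    exact Subgroup.subset_closure ⟨ra r, rb r, (sg r : F) * t, ra_ne_rb r, ra_ne_bar_rb r,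
      Nat.zero_le _, Nat.zero_le _, hg.trans (X8_eq_T r t)⟩

theorem EL_le_Eg8 (k : ℕ) : EL F k ≤ Eg8 F := by
  rw [← EG_eq]
  exact EL_anti (Nat.zero_le k)

end Cfsg.Agent.Lib.helper23.D4
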