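import Cfsg.Agent.Lib.helper23.D4Bridge

/-!
# S1082, piece E1: the root elements are commutators in the isometry group
-/

set_option autoImplicit false
set_option linter.unusedSimpArgs false

namespace Cfsg.Agent.Lib.helper23.D4

open Matrix Cfsg Cfsg.Lie Cfsg.Agent.Lib.helper95.D4 Cfsg.Agent.Lib.helper23.D4O

variable {F : Type*} [Field F]

/-- The commutator formula for root elements. -/
theorem T_comm (a b c : Fin 8) (h1 : a ≠ b) (h2 : a ≠ bar b) (hca : c ≠ a) (hca' : c ≠ bar a)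
    (hcb : c ≠ b) (hcb' : c ≠ bar b) (t : F) :
    T a c t * T c b 1 * T a c (-t) * T c b (-1) = T a b t := by
  have d1 : bar a ≠ b := fun h => h2 (by rw [← h, bar_bar])
  have d2 : bar a ≠ c := fun h => hca' h.symm
  have d3 : bar a ≠ bar b := fun h => h1 (bar_inj h)
  have d4 : bar a ≠ bar c := fun h => hca (bar_inj h).symm
  have d5 : bar b ≠ c := fun h => hcb' h.symm
  have d6 : bar b ≠ bar c := fun h => hcb (bar_inj h).symm
  have d7 : bar c ≠ a := fun h => hca' (by rw [← h, bar_bar])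
  have d8 : bar c ≠ b := fun h => hcb' (by rw [← h, bar_bar])
  have d9 : bar c ≠ c := bar_ne c
  have d10 : bar a ≠ a := bar_ne a
  have d11 : bar b ≠ b := bar_ne b
  have d12 : bar b ≠ a := fun h => h2 h.symm
  rw [Matrix.ext_iff_mulVec]
  intro u
  funext x
  simp only [← Matrix.mulVec_mulVec, T_mulVec_apply, bar_bar]
  simp only [h1, h2, hca, hca', hcb, hcb', d1, d2, d3, d4, d5, d6, d7, d8, d9, d10, d11, d12,
    h1.symm, h2.symm, hca.symm, hca'.symm, hcb.symm, hcb'.symm, d1.symm, d2.symm, d3.symm, d4.symm,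
    d5.symm, d6.symm, d7.symm, d8.symm, d9.symm, d10.symm, d11.symm, d12.symm, if_true, if_false]
  by_cases xa : x = a
  · subst xa
    simp [h1, h2, hca.symm, d7.symm, d12.symm]
    ring
  by_cases xb : x = bar b
  · subst xb
    simp [d12, d5, d6, d11]
    ring
  by_cases xc : x = c
  · subst xc
    simp [hca, hcb', d9.symm]
  by_cases xc' : x = bar c
  · subst xc'
    simp [d7, d6.symm, d9]
  simp [xa, xb, xc, xc']

theorem exists_third : ∀ a b : Fin 8, a ≠ b → a ≠ bar b →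
    ∃ c : Fin 8, c ≠ a ∧ c ≠ bar a ∧ c ≠ b ∧ c ≠ bar b := by decide

/-- Piece E1: the root elements are commutators in the isometry group. -/
theorem X8_mem_comm (r : Fin 24) (t : F) (n : ↥(Og8 F))
    (hn : ((n : GL (Fin 8) F) : Matrix (Fin 8) (Fin 8) F) = X8 r t) : n ∈ commutator ↥(Og8 F) := by
  obtain ⟨c, hca, hca', hcb, hcb'⟩ := exists_third (ra r) (rb r) (ra_ne_rb r) (ra_ne_bar_rb r)
  have hac' : ra r ≠ bar c := fun h => hca' (by rw [h, bar_bar])
  let g1 : ↥(Og8 F) := ⟨TU (ra r) c hca.symm hac' ((sg r : F) * t),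
    EL_le_OG 0 (TU_mem_EL 0 _ _ _ _ (Nat.zero_le _) (Nat.zero_le _) _)⟩
  let g2 : ↥(Og8 F) := ⟨TU c (rb r) hcb hcb' 1,
    EL_le_OG 0 (TU_mem_EL 0 _ _ _ _ (Nat.zero_le _) (Nat.zero_le _) _)⟩
  have e : n = g1 * g2 * g1⁻¹ * g2⁻¹ := by
    apply Subtype.ext
    apply Units.ext
    rw [hn, X8_eq_T, ← T_comm (ra r) (rb r) c (ra_ne_rb r) (ra_ne_bar_rb r) hca hca' hcb hcb']
    rfl
  rw [e, commutator_def]
  exact Subgroup.commutator_mem_commutator (H₁ := ⊤) (H₂ := ⊤) (Subgroup.mem_top g1)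
    (Subgroup.mem_top g2)

end Cfsg.Agent.Lib.helper23.D4
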