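/-
helper23: the fixed points of a graph automorphism of order 3 of the Chevalley group of type D4 over a finite
field form a group isomorphic to the Chevalley group of type G2.
-/
import Cfsg.Agent.Lib.helper23.D4G2Card
import Cfsg.Agent.Lib.helper41.ChevGraphD4

set_option autoImplicit false
set_option maxRecDepth 100000

namespace Cfsg.Agent.Lib.helper23.D4G2

open Cfsg.Lie Cfsg.Agent.Lib.helper41 Cfsg.Agent.Lib.helper22

universe u

section Main

variable {F : Type u} [Field F]

/-- `τ` acts on the fundamental root elements as the map `π` of the nodes. -/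
def GA (τ : ↥(chevD4.group F) ≃* ↥(chevD4.group F)) (π : Fin chevD4.rank → Fin chevD4.rank) : Prop :=
  ∀ (g : ↥(chevD4.group F)) (i : Fin chevD4.rank) (t : F),
    (((g : GL chevD4.Idx F) : Matrix chevD4.Idx chevD4.Idx F) = chevD4.x F (chevD4.simple i) t →
      ((τ g : GL chevD4.Idx F) : Matrix chevD4.Idx chevD4.Idx F) = chevD4.x F (chevD4.simple (π i)) t) ∧
    (((g : GL chevD4.Idx F) : Matrix chevD4.Idx chevD4.Idx F) = chevD4.x F (chevD4.neg (chevD4.simple i)) t →
      ((τ g : GL chevD4.Idx F) : Matrix chevD4.Idx chevD4.Idx F) =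
        chevD4.x F (chevD4.neg (chevD4.simple (π i))) t)

theorem GA.mul {τ τ' : MulAut ↥(chevD4.group F)} {π π' : Fin chevD4.rank → Fin chevD4.rank}
    (h : GA τ π) (h' : GA τ' π') : GA (τ * τ') (π ∘ π') :=
  fun g i t => ⟨fun hg => (h (τ' g) (π' i) t).1 ((h' g i t).1 hg),
    fun hg => (h (τ' g) (π' i) t).2 ((h' g i t).2 hg)⟩

theorem GA.congr {τ : MulAut ↥(chevD4.group F)} {π π' : Fin chevD4.rank → Fin chevD4.rank}
    (h : GA τ π) (e : ∀ i, (π i).val = (π' i).val) : GA τ π' := by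
  have : π = π' := funext fun i => Fin.ext (e i)
  rw [← this]
  exact h

theorem isLong_simple : ∀ j, j < 4 → chevD4.isLong (chevD4.simple j) = false := by decide +kernel

theorem ga_of_isGraphAut {τ : MulAut ↥(chevD4.group F)} (hτ : chevD4.IsGraphAut τ) :
    ∃ π : Equiv.Perm (Fin chevD4.rank), chevD4.IsDiagramSymmetry π ∧ GA τ π := by
  obtain ⟨π, hπ, h⟩ := hτ
  refine ⟨π, hπ, fun g i t => ?_⟩
  have hexp : chevD4.graphExp (ringChar F) i (π i) = 1 := by
    unfold ChevalleyDatum.graphExp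
    rw [isLong_simple _ (π i).isLt]
    rfl
  have h1 := h g i t
  rw [hexp, pow_one] at h1
  exact h1

theorem gen_top : Subgroup.closure ((Subtype.val : ↥(chevD4.group F) → GL chevD4.Idx F) ⁻¹'
    {g : GL chevD4.Idx F | ∃ i, i < chevD4.rank ∧ ∃ t : F,
      (g : Matrix chevD4.Idx chevD4.Idx F) = chevD4.x F (chevD4.simple i) t ∨
        (g : Matrix chevD4.Idx chevD4.Idx F) = chevD4.x F (chevD4.neg (chevD4.simple i)) t}) = ⊤ :=
  closure_preimage_eq_top (chevD4.group F) _
    (le_antisymm TabD4.group_le (fundClosure_le_group chevD4 TabD4.simple_lt))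

theorem eq_one_of_ga {τ : MulAut ↥(chevD4.group F)} (h : GA τ id) : τ = 1 := by
  have key : τ.toMonoidHom = MonoidHom.id _ := by
    apply MonoidHom.eq_of_eqOn_dense gen_top
    rintro z ⟨i, hi, t, hz | hz⟩
    · apply Subtype.ext
      apply Units.ext
      show ((τ z : GL chevD4.Idx F) : Matrix chevD4.Idx chevD4.Idx F) =
        ((z : GL chevD4.Idx F) : Matrix chevD4.Idx chevD4.Idx F)
      rw [(h z ⟨i, hi⟩ t).1 hz, hz]
      rfl
    · apply Subtype.ext
      apply Units.ext
      show ((τ z : GL chevD4.Idx F) : Matrix chevD4.Idx chevD4.Idx F) =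
        ((z : GL chevD4.Idx F) : Matrix chevD4.Idx chevD4.Idx F)
      rw [(h z ⟨i, hi⟩ t).2 hz, hz]
      rfl
  exact MulEquiv.ext fun g => DFunLike.congr_fun key g

theorem ga_sigma {τ : MulAut ↥(chevD4.group F)} {π : Fin chevD4.rank → Fin chevD4.rank} (h : GA τ π)
    (hπ : ∀ i : Fin chevD4.rank, (π i).val = d4tau i.val) (g : ↥(chevD4.group F)) :
    ((τ g : ↥(chevD4.group F)) : GL chevD4.Idx F) = d4sigma (RingHom.id F) (g : GL chevD4.Idx F) := by
  have T := twFacts_D4 (RingHom.id F)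
  have C := chevFacts_D4 F
  have key : (chevD4.group F).subtype.comp τ.toMonoidHom =
      (d4sigma (RingHom.id F)).comp (chevD4.group F).subtype := by
    apply MonoidHom.eq_of_eqOn_dense gen_top
    rintro z ⟨i, hi, t, hz | hz⟩
    · show ((τ z : ↥(chevD4.group F)) : GL chevD4.Idx F) = d4sigma (RingHom.id F) (z : GL chevD4.Idx F)
      rw [eq_xGL C.I.hSD' hz, T.sig_simple C hi t]
      apply Units.ext
      rw [helper22.xGL_coe, (h z ⟨i, hi⟩ t).1 hz, hπ]
      rfl
    · show ((τ z : ↥(chevD4.group F)) : GL chevD4.Idx F) = d4sigma (RingHom.id F) (z : GL chevD4.Idx F)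
      rw [eq_xGL C.I.hSD' hz, T.sig_simple_neg C hi t]
      apply Units.ext
      rw [helper22.xGL_coe, (h z ⟨i, hi⟩ t).2 hz, hπ]
      rfl
  exact DFunLike.congr_fun key g

theorem perm_cases :
    (∀ i : Fin 4, [0, 1, 2, 3].getD i.val 0 = i.val) ∧
    (∀ i : Fin 4, [0, 1, 3, 2].getD ([0, 1, 3, 2].getD i.val 0) 0 = i.val) ∧
    (∀ i : Fin 4, [2, 1, 0, 3].getD ([2, 1, 0, 3].getD i.val 0) 0 = i.val) ∧
    (∀ i : Fin 4, [3, 1, 2, 0].getD ([3, 1, 2, 0].getD i.val 0) 0 = i.val) ∧
    (∀ i : Fin 4, [2, 1, 3, 0].getD i.val 0 = d4tau i.val) ∧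
    (∀ i : Fin 4, [3, 1, 0, 2].getD ([3, 1, 0, 2].getD i.val 0) 0 = d4tau i.val) := by
  decide

/-- The fixed points of a graph automorphism of order 3 are the fixed points of `σ₀`. -/
theorem fix_iff (τ : MulAut ↥(chevD4.group F)) (hτ : chevD4.IsGraphAut τ) (hτ3 : orderOf τ = 3)
    (g : ↥(chevD4.group F)) :
    τ g = g ↔ d4sigma (RingHom.id F) (g : GL chevD4.Idx F) = g := by
  obtain ⟨π, hπ, hga⟩ := ga_of_isGraphAut hτ
  obtain ⟨l, hl, hπl⟩ := sym_mem chevD4 TabD4.syms TabD4.symOK π hπ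
  obtain ⟨c0, c1, c2, c3, c4, c5⟩ := perm_cases
  have h3 : τ ^ 3 = 1 := by
    rw [← hτ3]
    exact pow_orderOf_eq_one τ
  have hne : τ ≠ 1 := by
    intro h
    rw [h, orderOf_one] at hτ3
    omega
  have hsq : τ * τ ≠ 1 := by
    intro h
    have h2 : τ ^ 2 = 1 := by rw [pow_two]; exact h
    have hd := orderOf_dvd_of_pow_eq_one h2
    rw [hτ3] at hd
    omega
  have hinvol : (∀ i : Fin 4, l.getD (l.getD i.val 0) 0 = i.val) → False := by
    intro hc
    apply hsq
    apply eq_one_of_ga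
    refine (hga.mul hga).congr fun i => ?_
    show (π (π i)).val = i.val
    rw [hπl, hπl]
    exact hc i
  have hval : ∀ x : ↥(chevD4.group F), ((τ x : ↥(chevD4.group F)) : GL chevD4.Idx F) = x ↔ τ x = x :=
    fun x => ⟨fun h => Subtype.ext h, fun h => by rw [h]⟩
  simp only [TabD4.syms, List.mem_cons, List.not_mem_nil, or_false] at hl
  rcases hl with rfl | rfl | rfl | rfl | rfl | rfl
  · exfalso
    apply hne
    apply eq_one_of_ga
    refine hga.congr fun i => ?_
    rw [hπl]
    exact c0 i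
  · exact (hinvol c1).elim
  · exact (hinvol c2).elim
  · rw [← ga_sigma hga (fun i => by rw [hπl]; exact c4 i) g]
    exact (hval g).symm
  · have hs := ga_sigma (hga.mul hga) (fun i => by
      show (π (π i)).val = d4tau i.val
      rw [hπl, hπl]
      exact c5 i) g
    rw [← hs]
    have e3 : τ (τ (τ g)) = g := by
      have := congrArg (fun f : MulAut ↥(chevD4.group F) => f g) h3
      simpa [pow_succ, MulAut.mul_apply] using this
    constructor
    · intro h
      show (((τ * τ) g : ↥(chevD4.group F)) : GL chevD4.Idx F) = g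
      rw [MulAut.mul_apply, h, h]
    · intro h
      have h' : τ (τ g) = g := Subtype.ext h
      have := congrArg τ h'
      rw [e3] at this
      exact this.symm
  · exact (hinvol c3).elim

/-- The fixed points of a graph automorphism of order 3 of `D₄(F)` form a group isomorphic to `G₂(F)`. -/
theorem triality_fix [Fintype F] (τ : MulAut ↥(chevD4.group F)) (hτ : chevD4.IsGraphAut τ)
    (hτ3 : orderOf τ = 3) :
    Nonempty (↥(MonoidHom.eqLocus τ.toMonoidHom (MonoidHom.id ↥(chevD4.group F))) ≃*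
      ↥(chevG2.group F)) := by
  have hmap : (MonoidHom.eqLocus τ.toMonoidHom (MonoidHom.id ↥(chevD4.group F))).map
      (chevD4.group F).subtype = tw0 F := by
    ext x
    rw [mem_tw0_iff]
    constructor
    · rintro ⟨g, hg, rfl⟩
      exact ⟨g.2, (fix_iff τ hτ hτ3 g).mp hg⟩
    · rintro ⟨hx, hxfix⟩
      exact ⟨⟨x, hx⟩, (fix_iff τ hτ hτ3 ⟨x, hx⟩).mpr hxfix, rfl⟩
  obtain ⟨f, hf⟩ := exists_surj (K := F)
  have hbij : Function.Bijective f := hf.bijective_of_nat_card_le (le_of_eq card_tw0)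
  exact ⟨(((MonoidHom.eqLocus τ.toMonoidHom (MonoidHom.id ↥(chevD4.group F))).equivMapOfInjective _
    (Subgroup.subtype_injective _)).trans (MulEquiv.subgroupCongr hmap)).trans
    (MulEquiv.ofBijective f hbij)⟩

end Main

end Cfsg.Agent.Lib.helper23.D4G2
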