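import Cfsg.Agent.Lib.helper23.D4Bridge

/-!
# S1082, piece SQ: `dgc (c * c)` is a product of root elements
-/

set_option autoImplicit false
set_option linter.unusedSimpArgs false

namespace Cfsg.Agent.Lib.helper23.D4

open Matrix Cfsg Cfsg.Lie Cfsg.Agent.Lib.helper95.D4 Cfsg.Agent.Lib.helper23.D4O

variable {F : Type*} [Field F]

/-- the diagonal element `h_{(a,b)}(l)` as a product of six root elements -/
def hU (a b : Fin 8) (h1 : a ≠ b) (h2 : a ≠ bar b) (h3 : b ≠ bar a) (l : F) : GL (Fin 8) F :=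
  TU a b h1 h2 l * TU b a h1.symm h3 (-l⁻¹) * TU a b h1 h2 l *
    (TU a b h1 h2 (-1) * TU b a h1.symm h3 1 * TU a b h1 h2 (-1))

theorem hU_mem (a b : Fin 8) (h1 : a ≠ b) (h2 : a ≠ bar b) (h3 : b ≠ bar a) (l : F) :
    hU a b h1 h2 h3 l ∈ EG F := by
  have m1 : ∀ s : F, TU a b h1 h2 s ∈ EG F := fun s =>
    TU_mem_EL 0 _ _ _ _ (Nat.zero_le _) (Nat.zero_le _) _
  have m2 : ∀ s : F, TU b a h1.symm h3 s ∈ EG F := fun s =>
    TU_mem_EL 0 _ _ _ _ (Nat.zero_le _) (Nat.zero_le _) _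
  exact mul_mem (mul_mem (mul_mem (m1 _) (m2 _)) (m1 _)) (mul_mem (mul_mem (m1 _) (m2 _)) (m1 _))

theorem hU_32 (c : F) (hc : c ≠ 0) :
    ((hU 3 2 (by decide) (by decide) (by decide) c : GL (Fin 8) F) : Matrix (Fin 8) (Fin 8) F) =
      Matrix.diagonal ![1, 1, c⁻¹, c, 1, 1, c, c⁻¹] := by
  rw [Matrix.ext_iff_mulVec]
  intro u
  funext x
  simp only [hU, Units.val_mul, TU_val, ← Matrix.mulVec_mulVec, T_mulVec_apply, Matrix.mulVec_diagonal]
  fin_cases x <;> simp [bar] <;> field_simp <;> ring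

theorem hU_36 (c : F) (hc : c ≠ 0) :
    ((hU 3 6 (by decide) (by decide) (by decide) c : GL (Fin 8) F) : Matrix (Fin 8) (Fin 8) F) =
      Matrix.diagonal ![1, 1, c, c, 1, 1, c⁻¹, c⁻¹] := by
  rw [Matrix.ext_iff_mulVec]
  intro u
  funext x
  simp only [hU, Units.val_mul, TU_val, ← Matrix.mulVec_mulVec, T_mulVec_apply, Matrix.mulVec_diagonal]
  fin_cases x <;> simp [bar] <;> field_simp <;> ring

/-- Piece SQ. -/
theorem dgc_sq_mem (c : F) (hc : c ≠ 0) :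
    ∃ g ∈ Eg8 F, (g : Matrix (Fin 8) (Fin 8) F) = dgc (c * c) := by
  refine ⟨hU 3 2 (by decide) (by decide) (by decide) c * hU 3 6 (by decide) (by decide) (by decide) c,
    ?_, ?_⟩
  · rw [← EG_eq]
    exact mul_mem (hU_mem _ _ _ _ _ _) (hU_mem _ _ _ _ _ _)
  · rw [Units.val_mul, hU_32 c hc, hU_36 c hc, Matrix.diagonal_mul_diagonal, dgc]
    congr 1
    funext x
    fin_cases x <;> simp [hc]

end Cfsg.Agent.Lib.helper23.D4
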