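import Cfsg.Agent.Lib.helper23.F4N

set_option autoImplicit false
set_option maxRecDepth 100000

/-!
# Relations between the generators of `²F₄` (characteristic 2)

The groups `{x_{p₁}(t^θ) x_{p₄}(t)}` and `{x_a(t^θ) x_b(t) x_{a+b}(t^{θ+1} + u) x_{2a+b}(u^{2θ})}` and their
multiplication rules.
-/

namespace Cfsg.Agent.Lib.helper23

open Cfsg Cfsg.Lie Cfsg.Agent.Lib.helper41 Cfsg.Agent.Lib.helper22

universe u

/-- The exponent `e` of the twisting field automorphism `θ = (· ^ e)` in characteristic two: `2 θ² = 1`. -/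
structure TwoPow (K : Type u) [Field K] (e : ℕ) : Prop where
  char2 : CharP K 2
  hadd : ∀ x y : K, (x + y) ^ e = x ^ e + y ^ e
  hφ : ∀ x : K, ((x ^ e) ^ e) ^ 2 = x

theorem twoPow_of_card {K : Type u} [Field K] [Fintype K] {m : ℕ}
    (hK : Fintype.card K = 2 ^ (2 * m + 1)) : TwoPow K (2 ^ m) := by
  have := charP_two_of_card (K := K) (n := 2 * m + 1) (by omega) hK
  have : Fact (Nat.Prime 2) := ⟨Nat.prime_two⟩
  refine ⟨inferInstance, fun x y => add_pow_char_pow .., fun x => ?_⟩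
  rw [← pow_mul, ← pow_mul]
  have : 2 ^ m * (2 ^ m * 2) = 2 ^ (2 * m + 1) := by ring
  rw [this, ← hK, FiniteField.pow_card]

section Pow

variable {K : Type u} [Field K] {e : ℕ} (T : TwoPow K e)

include T

theorem TwoPow.e_ne_zero : e ≠ 0 := by
  rintro rfl
  have h := T.hφ 0
  simp at h

theorem TwoPow.neg_eq (x : K) : -x = x := by
  have := T.char2
  exact CharTwo.neg_eq x

theorem TwoPow.add_self (x : K) : x + x = 0 := by
  have := T.char2
  exact CharTwo.add_self_eq_zero x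

theorem TwoPow.pow_two_e (x : K) : (x ^ e) ^ (2 * e) = x := by
  rw [mul_comm 2 e, pow_mul]
  exact T.hφ x

theorem TwoPow.pow_e_two_e (x : K) : (x ^ (2 * e)) ^ e = x := by
  rw [mul_comm 2 e, pow_mul, pow_right_comm]
  exact T.hφ x

theorem TwoPow.pow_e_inj {x y : K} (h : x ^ e = y ^ e) : x = y := by
  rw [← T.hφ x, ← T.hφ y, h]

theorem TwoPow.sq_add (x y : K) : (x + y) ^ 2 = x ^ 2 + y ^ 2 := by
  have := T.char2
  have h2 : (2 : K) = 0 := CharTwo.two_eq_zero
  linear_combination (x * y) * h2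

theorem TwoPow.add_pow_two_e (x y : K) : (x + y) ^ (2 * e) = x ^ (2 * e) + y ^ (2 * e) := by
  rw [mul_comm, pow_mul, pow_mul, pow_mul, T.hadd]
  exact T.sq_add _ _

end Pow

section Rel

variable {K : Type u} [Field K]

theorem f4x_add (r : ℕ) (a b : K) : f4x r (a + b) = f4x r a * f4x r b := xGL_add _ r a b

theorem f4x_zero (r : ℕ) : f4x r (0 : K) = 1 := xGL_zero _ r

theorem f4x_inv (r : ℕ) (a : K) : (f4x r a)⁻¹ = f4x r (-a) := xGL_inv _ r a

theorem f4x_coe (r : ℕ) (a : K) :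
    ((f4x r a : GL chevF4.Idx K) : Matrix chevF4.Idx chevF4.Idx K) = chevF4.x K r a := rfl

/-- Commuting root elements (table condition: no terms in the commutator formula). -/
theorem f4x_comm {r s : ℕ} (hr : r < 48) (hs : s < 48) (h1 : s ≠ r) (h2 : s ≠ chevF4.neg r)
    (h : chevF4.commTerms r s = []) (a b : K) : f4x r a * f4x s b = f4x s b * f4x r a :=
  comm_of_terms_nil (chevFacts_F4 K).I hr hs h1 h2 h a b

/-- The commutator formula with two terms of coefficients `± 1`, in characteristic two. -/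
theorem f4x_comm2 (T2 : CharP K 2) {r s p q : ℕ} {c1 c2 : ℤ} (hr : r < 48) (hs : s < 48) (h1 : s ≠ r)
    (h2 : s ≠ chevF4.neg r) (h : chevF4.commTerms r s = [(p, c1, 1, 1), (q, c2, 2, 1)])
    (hc1 : c1 = 1 ∨ c1 = -1) (hc2 : c2 = 1 ∨ c2 = -1) (t u : K) :
    f4x s u * f4x r t = f4x r t * f4x s u * f4x p (t * u) * f4x q (t ^ 2 * u) := by
  apply Units.ext
  have e := (chevFacts_F4 K).I.hcomm r s hr hs h1 h2 t u
  unfold ChevalleyDatum.commWord at e
  rw [h] at e
  simp only [List.map_cons, List.map_nil] at e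
  rw [Cfsg.Agent.Lib.helper22.wordMat_cons, Cfsg.Agent.Lib.helper22.wordMat_cons,
    Cfsg.Agent.Lib.helper22.wordMat_nil, mul_one] at e
  have n1 : (-t : K) = t := CharTwo.neg_eq t
  have k1 : ((c1 : ℤ) : K) = 1 := by
    rcases hc1 with rfl | rfl
    · simp
    · simp [CharTwo.neg_eq]
  have k2 : ((c2 : ℤ) : K) = 1 := by
    rcases hc2 with rfl | rfl
    · simp
    · simp [CharTwo.neg_eq]
  rw [n1, k1, k2, one_mul, one_mul, pow_one, pow_one] at e
  simp only [Units.val_mul, xGL_coe]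
  rw [e, mul_assoc, mul_assoc, mul_assoc]

/-- The commutator formula with one term of even coefficient, in characteristic two. -/
theorem f4x_comm1 (T2 : CharP K 2) {r s q : ℕ} {c : ℤ} (hr : r < 48) (hs : s < 48) (h1 : s ≠ r)
    (h2 : s ≠ chevF4.neg r) (h : chevF4.commTerms r s = [(q, c, 1, 1)])
    (hc : c = 2 ∨ c = -2) (t u : K) :
    f4x s u * f4x r t = f4x r t * f4x s u := by
  apply Units.ext
  have e := (chevFacts_F4 K).I.hcomm r s hr hs h1 h2 t u
  unfold ChevalleyDatum.commWord at e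
  rw [h] at e
  simp only [List.map_cons, List.map_nil] at e
  rw [Cfsg.Agent.Lib.helper22.wordMat_cons, Cfsg.Agent.Lib.helper22.wordMat_nil, mul_one] at e
  have k : ((c : ℤ) : K) = 0 := by
    have h2 : (2 : K) = 0 := CharTwo.two_eq_zero
    rcases hc with rfl | rfl
    · simp [h2]
    · simp [h2]
  rw [k, zero_mul, zero_mul, x_zero (chevFacts_F4 K).I.hSD', mul_one] at e
  simp only [Units.val_mul, xGL_coe]
  exact e

end Rel

/-- The table facts on a class of roots of type `B₂`: `a` short, `b` long, `a + b`, `2a + b`. -/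
structure B2Rel (ra rb rab raab : ℕ) : Prop where
  la : ra < 48
  lb : rb < 48
  lab : rab < 48
  laab : raab < 48
  n_ab : rb ≠ ra ∧ rb ≠ chevF4.neg ra
  n_a_ab : rab ≠ ra ∧ rab ≠ chevF4.neg ra
  n_b_ab : rab ≠ rb ∧ rab ≠ chevF4.neg rb
  n_a_aab : raab ≠ ra ∧ raab ≠ chevF4.neg ra
  n_b_aab : raab ≠ rb ∧ raab ≠ chevF4.neg rb
  n_ab_aab : raab ≠ rab ∧ raab ≠ chevF4.neg rab
  c_ab : chevF4.commTerms ra rb = [(rab, 1, 1, 1), (raab, -1, 2, 1)] ∨
    chevF4.commTerms ra rb = [(rab, -1, 1, 1), (raab, -1, 2, 1)]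
  c_a_ab : chevF4.commTerms ra rab = [(raab, 2, 1, 1)] ∨ chevF4.commTerms ra rab = [(raab, -2, 1, 1)]
  c_b_ab : chevF4.commTerms rb rab = []
  c_a_aab : chevF4.commTerms ra raab = []
  c_b_aab : chevF4.commTerms rb raab = []
  c_ab_aab : chevF4.commTerms rab raab = []

theorem b2Rel_pos : B2Rel 27 25 28 30 :=
  ⟨by decide, by decide, by decide, by decide, by decide, by decide, by decide, by decide, by decide, by decide,
    by decide +kernel, by decide +kernel, by decide +kernel, by decide +kernel, by decide +kernel,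
    by decide +kernel⟩

theorem b2Rel_neg : B2Rel 20 22 19 17 :=
  ⟨by decide, by decide, by decide, by decide, by decide, by decide, by decide, by decide, by decide, by decide,
    by decide +kernel, by decide +kernel, by decide +kernel, by decide +kernel, by decide +kernel,
    by decide +kernel⟩

section B2

variable {K : Type u} [Field K] {ra rb rab raab : ℕ} (R : B2Rel ra rb rab raab) (T2 : CharP K 2)

include R T2

theorem B2Rel.ba (t u : K) :
    f4x rb u * f4x ra t = f4x ra t * (f4x rb u * (f4x rab (t * u) * f4x raab (t ^ 2 * u))) := by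
  rcases R.c_ab with h | h
  · rw [f4x_comm2 T2 R.la R.lb R.n_ab.1 R.n_ab.2 h (Or.inl rfl) (Or.inr rfl) t u, mul_assoc, mul_assoc]
  · rw [f4x_comm2 T2 R.la R.lb R.n_ab.1 R.n_ab.2 h (Or.inr rfl) (Or.inr rfl) t u, mul_assoc, mul_assoc]

theorem B2Rel.ab_a (c a : K) : f4x rab c * f4x ra a = f4x ra a * f4x rab c := by
  rcases R.c_a_ab with h | h
  · exact f4x_comm1 T2 R.la R.lab R.n_a_ab.1 R.n_a_ab.2 h (Or.inl rfl) a c
  · exact f4x_comm1 T2 R.la R.lab R.n_a_ab.1 R.n_a_ab.2 h (Or.inr rfl) a c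

omit T2 in
theorem B2Rel.ab_b (c b : K) : f4x rab c * f4x rb b = f4x rb b * f4x rab c :=
  (f4x_comm R.lb R.lab R.n_b_ab.1 R.n_b_ab.2 R.c_b_ab b c).symm

omit T2 in
theorem B2Rel.aab_a (d a : K) : f4x raab d * f4x ra a = f4x ra a * f4x raab d :=
  (f4x_comm R.la R.laab R.n_a_aab.1 R.n_a_aab.2 R.c_a_aab a d).symm

omit T2 in
theorem B2Rel.aab_b (d b : K) : f4x raab d * f4x rb b = f4x rb b * f4x raab d :=
  (f4x_comm R.lb R.laab R.n_b_aab.1 R.n_b_aab.2 R.c_b_aab b d).symm

omit T2 in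
theorem B2Rel.aab_ab (d c : K) : f4x raab d * f4x rab c = f4x rab c * f4x raab d :=
  (f4x_comm R.lab R.laab R.n_ab_aab.1 R.n_ab_aab.2 R.c_ab_aab c d).symm

/-- The product of two elements of the unipotent group of a class of type `B₂`. -/
theorem B2Rel.mul (a b c d a' b' c' d' : K) :
    (f4x ra a * f4x rb b * f4x rab c * f4x raab d) * (f4x ra a' * f4x rb b' * f4x rab c' * f4x raab d') =
      f4x ra (a + a') * f4x rb (b + b') * f4x rab (c + c' + a' * b) * f4x raab (d + d' + a' ^ 2 * b) := by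
  have hDa : ∀ x y : K, Commute (f4x raab x) (f4x ra y) := fun x y => R.aab_a x y
  have hDb : ∀ x y : K, Commute (f4x raab x) (f4x rb y) := fun x y => R.aab_b x y
  have hDc : ∀ x y : K, Commute (f4x raab x) (f4x rab y) := fun x y => R.aab_ab x y
  have hCa : ∀ x y : K, Commute (f4x rab x) (f4x ra y) := fun x y => R.ab_a T2 x y
  have hCb : ∀ x y : K, Commute (f4x rab x) (f4x rb y) := fun x y => R.ab_b x y
  have e1 : f4x raab d * (f4x ra a' * f4x rb b' * f4x rab c' * f4x raab d') =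
      f4x ra a' * f4x rb b' * f4x rab c' * f4x raab (d + d') := by
    have h : Commute (f4x raab d) (f4x ra a' * f4x rb b' * f4x rab c') :=
      ((hDa d a').mul_right (hDb d b')).mul_right (hDc d c')
    rw [← mul_assoc, h.eq, mul_assoc, ← f4x_add]
  have e2 : f4x rab c * (f4x ra a' * f4x rb b' * f4x rab c') = f4x ra a' * f4x rb b' * f4x rab (c + c') := by
    have h : Commute (f4x rab c) (f4x ra a' * f4x rb b') := (hCa c a').mul_right (hCb c b')
    rw [← mul_assoc, h.eq, mul_assoc, ← f4x_add]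
  have e3 : f4x rb b * (f4x ra a' * f4x rb b') =
      f4x ra a' * f4x rb (b + b') * (f4x rab (a' * b) * f4x raab (a' ^ 2 * b)) := by
    have h : Commute (f4x rab (a' * b) * f4x raab (a' ^ 2 * b)) (f4x rb b') :=
      (hCb _ b').mul_left (hDb _ b')
    calc f4x rb b * (f4x ra a' * f4x rb b')
        = f4x rb b * f4x ra a' * f4x rb b' := by rw [mul_assoc]
      _ = f4x ra a' * (f4x rb b * (f4x rab (a' * b) * f4x raab (a' ^ 2 * b))) * f4x rb b' := by rw [R.ba T2]
      _ = f4x ra a' * (f4x rb b * ((f4x rab (a' * b) * f4x raab (a' ^ 2 * b)) * f4x rb b')) := by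
        simp only [mul_assoc]
      _ = f4x ra a' * (f4x rb b * (f4x rb b' * (f4x rab (a' * b) * f4x raab (a' ^ 2 * b)))) := by rw [h.eq]
      _ = f4x ra a' * f4x rb (b + b') * (f4x rab (a' * b) * f4x raab (a' ^ 2 * b)) := by
        rw [f4x_add rb b b']
        simp only [mul_assoc]
  have e4 : f4x rab (a' * b) * f4x raab (a' ^ 2 * b) * (f4x rab (c + c') * f4x raab (d + d')) =
      f4x rab (c + c' + a' * b) * f4x raab (d + d' + a' ^ 2 * b) := by
    calc f4x rab (a' * b) * f4x raab (a' ^ 2 * b) * (f4x rab (c + c') * f4x raab (d + d'))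
        = f4x rab (a' * b) * (f4x raab (a' ^ 2 * b) * f4x rab (c + c')) * f4x raab (d + d') := by
          simp only [mul_assoc]
      _ = f4x rab (a' * b) * (f4x rab (c + c') * f4x raab (a' ^ 2 * b)) * f4x raab (d + d') := by
          rw [(hDc _ _).eq]
      _ = (f4x rab (a' * b) * f4x rab (c + c')) * (f4x raab (a' ^ 2 * b) * f4x raab (d + d')) := by
          simp only [mul_assoc]
      _ = f4x rab (c + c' + a' * b) * f4x raab (d + d' + a' ^ 2 * b) := by
          rw [← f4x_add, ← f4x_add, add_comm (a' * b), add_comm (a' ^ 2 * b)]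
  calc (f4x ra a * f4x rb b * f4x rab c * f4x raab d) * (f4x ra a' * f4x rb b' * f4x rab c' * f4x raab d')
      = f4x ra a * f4x rb b * f4x rab c * (f4x raab d * (f4x ra a' * f4x rb b' * f4x rab c' * f4x raab d')) := by
        simp only [mul_assoc]
    _ = f4x ra a * f4x rb b * (f4x rab c * (f4x ra a' * f4x rb b' * f4x rab c')) * f4x raab (d + d') := by
        rw [e1]
        simp only [mul_assoc]
    _ = f4x ra a * (f4x rb b * (f4x ra a' * f4x rb b')) * f4x rab (c + c') * f4x raab (d + d') := by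
        rw [e2]
        simp only [mul_assoc]
    _ = (f4x ra a * f4x ra a') * f4x rb (b + b') *
          (f4x rab (a' * b) * f4x raab (a' ^ 2 * b) * (f4x rab (c + c') * f4x raab (d + d'))) := by
        rw [e3]
        simp only [mul_assoc]
    _ = f4x ra (a + a') * f4x rb (b + b') * f4x rab (c + c' + a' * b) * f4x raab (d + d' + a' ^ 2 * b) := by
        rw [e4, ← f4x_add]
        simp only [mul_assoc]

end B2

section Laws

variable {K : Type u} [Field K] {e : ℕ} (T : TwoPow K e)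

include T

theorem f4uB_mul (t u t' u' : K) : f4uB e t u * f4uB e t' u' = f4uB e (t + t') (u + u' + t ^ e * t') := by
  unfold f4uB
  rw [b2Rel_pos.mul T.char2]
  have ha : t ^ e + t' ^ e = (t + t') ^ e := (T.hadd t t').symm
  have hc : t ^ (e + 1) + u + (t' ^ (e + 1) + u') + t' ^ e * t = (t + t') ^ (e + 1) + (u + u' + t ^ e * t') := by
    rw [pow_succ (t + t') e, T.hadd]
    linear_combination (-1 : K) * T.add_self (t ^ e * t')
  have hd : u ^ (2 * e) + u' ^ (2 * e) + (t' ^ e) ^ 2 * t = (u + u' + t ^ e * t') ^ (2 * e) := by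
    rw [T.add_pow_two_e, T.add_pow_two_e, mul_pow, T.pow_two_e, ← pow_mul, mul_comm e 2]
    ring
  rw [ha, hc, hd]

theorem f4vB_mul (t u t' u' : K) : f4vB e t u * f4vB e t' u' = f4vB e (t + t') (u + u' + t ^ e * t') := by
  unfold f4vB
  rw [b2Rel_neg.mul T.char2]
  have ha : t ^ e + t' ^ e = (t + t') ^ e := (T.hadd t t').symm
  have hc : t ^ (e + 1) + u + (t' ^ (e + 1) + u') + t' ^ e * t = (t + t') ^ (e + 1) + (u + u' + t ^ e * t') := by
    rw [pow_succ (t + t') e, T.hadd]
    linear_combination (-1 : K) * T.add_self (t ^ e * t')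
  have hd : u ^ (2 * e) + u' ^ (2 * e) + (t' ^ e) ^ 2 * t = (u + u' + t ^ e * t') ^ (2 * e) := by
    rw [T.add_pow_two_e, T.add_pow_two_e, mul_pow, T.pow_two_e, ← pow_mul, mul_comm e 2]
    ring
  rw [ha, hc, hd]

theorem f4uB_zero : f4uB e (0 : K) 0 = 1 := by
  unfold f4uB
  simp [T.e_ne_zero, f4x_zero]

theorem f4vB_zero : f4vB e (0 : K) 0 = 1 := by
  unfold f4vB
  simp [T.e_ne_zero, f4x_zero]

theorem f4uB_inv (t u : K) : (f4uB e t u)⁻¹ = f4uB e t (u + t ^ (e + 1)) := by
  rw [inv_eq_iff_mul_eq_one, f4uB_mul T, T.add_self]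
  have : u + (u + t ^ (e + 1)) + t ^ e * t = 0 := by
    linear_combination T.add_self u + T.add_self (t ^ e * t)
  rw [this, f4uB_zero T]

theorem f4vB_inv (t u : K) : (f4vB e t u)⁻¹ = f4vB e t (u + t ^ (e + 1)) := by
  rw [inv_eq_iff_mul_eq_one, f4vB_mul T, T.add_self]
  have : u + (u + t ^ (e + 1)) + t ^ e * t = 0 := by
    linear_combination T.add_self u + T.add_self (t ^ e * t)
  rw [this, f4vB_zero T]

theorem f4gP_mul (x y : K) : f4gP e x * f4gP e y = f4gP e (x + y) := by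
  unfold f4gP
  have h : Commute (f4x 24 x) (f4x 33 (y ^ e)) :=
    (f4x_comm (K := K) (r := 33) (s := 24) (by decide) (by decide) (by decide) (by decide) (by decide +kernel)
      (y ^ e) x).symm
  calc f4x 33 (x ^ e) * f4x 24 x * (f4x 33 (y ^ e) * f4x 24 y)
      = f4x 33 (x ^ e) * (f4x 24 x * f4x 33 (y ^ e)) * f4x 24 y := by simp only [mul_assoc]
    _ = f4x 33 (x ^ e) * (f4x 33 (y ^ e) * f4x 24 x) * f4x 24 y := by rw [h.eq]
    _ = f4x 33 ((x + y) ^ e) * f4x 24 (x + y) := by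
      rw [T.hadd, f4x_add, f4x_add]
      simp only [mul_assoc]

theorem f4gM_mul (x y : K) : f4gM e x * f4gM e y = f4gM e (x + y) := by
  unfold f4gM
  have h : Commute (f4x 23 x) (f4x 14 (y ^ e)) :=
    (f4x_comm (K := K) (r := 14) (s := 23) (by decide) (by decide) (by decide) (by decide) (by decide +kernel)
      (y ^ e) x).symm
  calc f4x 14 (x ^ e) * f4x 23 x * (f4x 14 (y ^ e) * f4x 23 y)
      = f4x 14 (x ^ e) * (f4x 23 x * f4x 14 (y ^ e)) * f4x 23 y := by simp only [mul_assoc]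
    _ = f4x 14 (x ^ e) * (f4x 14 (y ^ e) * f4x 23 x) * f4x 23 y := by rw [h.eq]
    _ = f4x 14 ((x + y) ^ e) * f4x 23 (x + y) := by
      rw [T.hadd, f4x_add, f4x_add]
      simp only [mul_assoc]

theorem f4gP_zero : f4gP e (0 : K) = 1 := by
  unfold f4gP
  simp [T.e_ne_zero, f4x_zero]

theorem f4gM_zero : f4gM e (0 : K) = 1 := by
  unfold f4gM
  simp [T.e_ne_zero, f4x_zero]

theorem f4gP_inv (x : K) : (f4gP e x)⁻¹ = f4gP e x := by
  rw [inv_eq_iff_mul_eq_one, f4gP_mul T, T.add_self, f4gP_zero T]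

theorem f4gM_inv (x : K) : (f4gM e x)⁻¹ = f4gM e x := by
  rw [inv_eq_iff_mul_eq_one, f4gM_mul T, T.add_self, f4gM_zero T]

end Laws

end Cfsg.Agent.Lib.helper23
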