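import Cfsg.Agent.Lib.helper23.F4Order
import Cfsg.Agent.Lib.helper22.ChevBNPair
import Cfsg.Agent.Lib.helper22.TwBN

set_option autoImplicit false
set_option maxRecDepth 100000

/-!
# The (B, N)-pair of `²F₄(q)`

The double coset condition from the canonical form in `F₄(K)`: the rank one computation is done in the
ambient group (an element of `X_{-j}` lies in a double coset of the rank two parabolic subgroup of the
class) and descends by uniqueness of the canonical form.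
-/

namespace Cfsg.Agent.Lib.helper23

open Cfsg Cfsg.Lie Cfsg.Agent.Lib.helper41 Cfsg.Agent.Lib.helper22

universe u

section Letters

variable {K : Type u} [Field K] {e : ℕ}

theorem f4letX_pos {j : ℕ} {y : GL chevF4.Idx K} (hy : y ∈ f4letX K e j) : y ∈ chevF4.posUnipotent K := by
  unfold f4letX at hy
  by_cases hj : j = 1
  · rw [if_pos hj] at hy
    obtain ⟨t, rfl⟩ := hy
    exact f4Y1_pos (f4gP_mem_Y1 e t)
  · rw [if_neg hj] at hy
    obtain ⟨p, rfl⟩ := hy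
    exact f4Y2_pos (f4uB_mem_Y2 e p.1 p.2)

theorem f4letX_tw {j : ℕ} {y : GL chevF4.Idx K} (hy : y ∈ f4letX K e j) : y ∈ twistedF4 K e := by
  unfold f4letX at hy
  by_cases hj : j = 1
  · rw [if_pos hj] at hy
    obtain ⟨t, rfl⟩ := hy
    exact f4gP_mem e t
  · rw [if_neg hj] at hy
    obtain ⟨p, rfl⟩ := hy
    exact f4uB_mem e p.1 p.2

theorem f4letX_conj_neg {j : ℕ} {n : GL chevF4.Idx K} {π : ℕ → ℕ} {c : ℕ → K}
    (hact : RootAct chevF4 K (n : Matrix chevF4.Idx chevF4.Idx K) π c)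
    (h : ∀ r ∈ f4letCls j, π r < 24) {y : GL chevF4.Idx K} (hy : y ∈ f4letX K e j) :
    n * y * n⁻¹ ∈ chevF4.negUnipotent K := by
  unfold f4letX at hy
  unfold f4letCls at h
  by_cases hj : j = 1
  · rw [if_pos hj] at hy h
    obtain ⟨t, rfl⟩ := hy
    exact f4_conj_Y1_neg hact (h 33 (by simp)) (h 24 (by simp)) (f4gP_mem_Y1 e t)
  · rw [if_neg hj] at hy h
    obtain ⟨p, rfl⟩ := hy
    exact f4_conj_Y2_neg hact (h 27 (by simp)) (h 25 (by simp)) (h 28 (by simp)) (h 30 (by simp))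
      (f4uB_mem_Y2 e p.1 p.2)

theorem f4letX_conj_pos {j : ℕ} {n : GL chevF4.Idx K} {π : ℕ → ℕ} {c : ℕ → K}
    (hact : RootAct chevF4 K (n : Matrix chevF4.Idx chevF4.Idx K) π c)
    (h : ∀ r ∈ f4letCls j, 24 ≤ π r) {y : GL chevF4.Idx K} (hy : y ∈ f4letX K e j) :
    n * y * n⁻¹ ∈ chevF4.posUnipotent K := by
  have C := chevFacts_F4 K
  unfold f4letX at hy
  unfold f4letCls at h
  by_cases hj : j = 1
  · rw [if_pos hj] at hy h
    obtain ⟨t, rfl⟩ := hy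
    unfold f4gP
    rw [conj_mul_two, f4_conj_x hact (by decide), f4_conj_x hact (by decide)]
    exact mul_mem (C.xGL_pos (hact 33 (by decide)).1 (h 33 (by simp)) _)
      (C.xGL_pos (hact 24 (by decide)).1 (h 24 (by simp)) _)
  · rw [if_neg hj] at hy h
    obtain ⟨p, rfl⟩ := hy
    unfold f4uB
    rw [conj_mul_four, f4_conj_x hact (by decide), f4_conj_x hact (by decide), f4_conj_x hact (by decide),
      f4_conj_x hact (by decide)]
    exact mul_mem (mul_mem (mul_mem (C.xGL_pos (hact 27 (by decide)).1 (h 27 (by simp)) _)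
      (C.xGL_pos (hact 25 (by decide)).1 (h 25 (by simp)) _))
      (C.xGL_pos (hact 28 (by decide)).1 (h 28 (by simp)) _))
      (C.xGL_pos (hact 30 (by decide)).1 (h 30 (by simp)) _)

theorem f4letCls_neg : ∀ r ∈ f4letCls 1, f4letPi 1 r < 24 := by decide +kernel

theorem f4letCls_neg' : ∀ r ∈ f4letCls 2, f4letPi 2 r < 24 := by decide +kernel

theorem f4letCls_pi (j : ℕ) : ∀ r ∈ f4letCls j, f4letPi j r < 24 := by
  by_cases hj : j = 1
  · rw [hj]
    exact f4letCls_neg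
  · have e1 : f4letCls j = f4letCls 2 := by
      unfold f4letCls
      rw [if_neg hj, if_neg (by decide)]
    have e2 : f4letPi j = f4letPi 2 := by
      funext s
      unfold f4letPi
      rw [if_neg hj, if_neg (by decide)]
    rw [e1, e2]
    exact f4letCls_neg'

/-- Splitting off a twisted root element of the class of a letter from a fixed element of `U`. -/
theorem F4Data.letter_split (R : F4Data K e) (j : ℕ) {u : GL chevF4.Idx K}
    (hu : u ∈ chevF4.posUnipotent K) (hfix : R.sg u = u) :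
    ∃ y ∈ f4letX K e j, f4letN K e j * (y⁻¹ * u) * (f4letN K e j)⁻¹ ∈ chevF4.posUnipotent K := by
  have T := R.T
  have := T.char2
  have he := T.e_ne_zero
  obtain ⟨cm, hactm⟩ := f4letN_rootAct (K := K) he j
  by_cases hj : j = 1
  · have e1 : f4letN K e j = f4n1 K e := if_pos hj
    have e2 : f4letPi j = f4pi1 := funext fun s => if_pos hj
    have e3 : f4letX K e j = Set.range (fun t : K => f4gP e t) := if_pos hj
    rw [e2, e1] at hactm
    rw [e1, e3]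
    obtain ⟨y, hy, hfy, hyu⟩ := R.class_split (f4n1_mem e) (f4Y1 K) (fun u hu => f4_split1 e hu)
      (fun y hy => f4Y1_pos hy) (fun y hy => f4_conj_Y1_neg hactm f4pi1_cls.1 f4pi1_cls.2 hy) hu hfix
    obtain ⟨t, rfl⟩ := R.fix_Y1 hy hfy
    exact ⟨_, ⟨t, rfl⟩, hyu⟩
  · have e1 : f4letN K e j = f4n2 K e := if_neg hj
    have e2 : f4letPi j = f4pi2 := funext fun s => if_neg hj
    have e3 : f4letX K e j = Set.range (fun p : K × K => f4uB e p.1 p.2) := if_neg hj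
    rw [e2, e1] at hactm
    rw [e1, e3]
    obtain ⟨y, hy, hfy, hyu⟩ := R.class_split (f4n2_mem e) (f4Y2 K) (fun u hu => f4_split2 he hu)
      (fun y hy => f4Y2_pos hy)
      (fun y hy => f4_conj_Y2_neg hactm f4pi2_cls.1 f4pi2_cls.2.1 f4pi2_cls.2.2.1 f4pi2_cls.2.2.2 hy) hu hfix
    obtain ⟨t, s, rfl⟩ := R.fix_Y2 hy hfy
    exact ⟨_, ⟨(t, s), rfl⟩, hyu⟩

/-- The inverse of an element of `N` inducing an involution of the roots induces the same involution. -/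
theorem f4_rootAct_inv {m : GL chevF4.Idx K} (hm : m ∈ chevF4.monomialSubgroup K) {π : ℕ → ℕ}
    {c : ℕ → K} (hact : RootAct chevF4 K (m : Matrix chevF4.Idx chevF4.Idx K) π c)
    (hinv : ∀ s, s < 48 → π (π s) = s) :
    ∃ c' : ℕ → K, RootAct chevF4 K ((m⁻¹ : GL chevF4.Idx K) : Matrix chevF4.Idx chevF4.Idx K) π c' := by
  have C := chevFacts_F4 K
  have hsq := sq_mem_diag_of_invol hm hact hinv
  obtain ⟨c₂, h₂⟩ := rootAct_diag C.I (inv_mem hsq)
  have h := hact.mul h₂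
  rw [← Units.val_mul] at h
  have e1 : m * (m * m)⁻¹ = m⁻¹ := by group
  rw [e1] at h
  exact ⟨_, h⟩

end Letters

section Ambient

variable {K : Type u} [Field K]

/-- `g ∈ B m B` with `m ∈ N` acting on the roots as a word in the fundamental reflections of `J`. -/
def f4InCell (K : Type u) [Field K] (J : List ℕ) (g : GL chevF4.Idx K) : Prop :=
  ∃ b₁ ∈ chevF4.borelSubgroup K, ∃ m ∈ chevF4.monomialSubgroup K, ∃ b₂ ∈ chevF4.borelSubgroup K,
    g = b₁ * m * b₂ ∧ ∃ w : List ℕ, (∀ i ∈ w, i ∈ J) ∧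
      ∃ c : ℕ → K, RootAct chevF4 K (m : Matrix chevF4.Idx chevF4.Idx K) (actW chevF4 w) c

theorem f4InCell_step {J : List ℕ} {i : ℕ} (hi : i < chevF4.rank) (hiJ : i ∈ J) {g : GL chevF4.Idx K}
    (hg : f4InCell K J g) : f4InCell K J (f4nS K i * g) := by
  obtain ⟨b₁, hb₁, m, hm, b₂, hb₂, rfl, w, hw, c, hc⟩ := hg
  have C := chevFacts_F4 K
  rcases simple_mul_borel_mul C.I hi (nGL_coe C.I.hSD' i) hb₁ hm with
    ⟨b₃, hb₃, b₄, hb₄, e1⟩ | ⟨b₃, hb₃, b₄, hb₄, e1⟩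
  · refine ⟨b₃, hb₃, f4nS K i * m, mul_mem (nGL_mem C.I hi) hm, b₄ * b₂, mul_mem hb₄ hb₂, ?_, i :: w, ?_, ?_⟩
    · have e2 : f4nS K i * (b₁ * m * b₂) = (f4nS K i * b₁ * m) * b₂ := by group
      rw [e2, e1]
      group
    · intro k hk
      rcases List.mem_cons.mp hk with rfl | hk
      · exact hiJ
      · exact hw k hk
    · have h := (rootAct_nGL C.I hi).mul hc
      rw [← Units.val_mul] at h
      exact ⟨_, h⟩
  · refine ⟨b₃, hb₃, m, hm, b₄ * b₂, mul_mem hb₄ hb₂, ?_, w, hw, c, hc⟩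
    have e2 : f4nS K i * (b₁ * m * b₂) = (f4nS K i * b₁ * m) * b₂ := by group
    rw [e2, e1]
    group

theorem f4InCell_letter1 [CharP K 2] (e : ℕ) {x : GL chevF4.Idx K} (hx : x ∈ chevF4.borelSubgroup K) :
    f4InCell K [0, 3] (f4n1 K e * x * (f4n1 K e)⁻¹) := by
  obtain ⟨c, hc⟩ := f4n1_rootAct (K := K) e
  obtain ⟨c', hc'⟩ := f4_rootAct_inv (f4n1_mono e) hc f4pi1_invol
  have h0 : f4InCell K [0, 3] (x * (f4n1 K e)⁻¹) :=
    ⟨x, hx, (f4n1 K e)⁻¹, inv_mem (f4n1_mono e), 1, one_mem _, by rw [mul_one], [0, 3], fun i hi => hi,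
      c', hc'⟩
  have h1 := f4InCell_step (i := 0) (by decide) (by decide) (f4InCell_step (i := 3) (by decide) (by decide) h0)
  have e1 : f4n1 K e * x * (f4n1 K e)⁻¹ = f4nS K 0 * (f4nS K 3 * (x * (f4n1 K e)⁻¹)) := by
    have e2 : f4n1 K e * x * (f4n1 K e)⁻¹ = f4n1 K e * (x * (f4n1 K e)⁻¹) := by group
    rw [e2]
    generalize x * (f4n1 K e)⁻¹ = z
    rw [f4n1_eq, mul_assoc]
  rw [e1]
  exact h1

theorem f4InCell_letter2 [CharP K 2] {e : ℕ} (he : e ≠ 0) {x : GL chevF4.Idx K}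
    (hx : x ∈ chevF4.borelSubgroup K) : f4InCell K [1, 2] (f4n2 K e * x * (f4n2 K e)⁻¹) := by
  obtain ⟨c, hc⟩ := f4n2_rootAct (K := K) he
  obtain ⟨c', hc'⟩ := f4_rootAct_inv (f4n2_mono he) hc f4pi2_invol
  have h0 : f4InCell K [1, 2] (x * (f4n2 K e)⁻¹) :=
    ⟨x, hx, (f4n2 K e)⁻¹, inv_mem (f4n2_mono he), 1, one_mem _, by rw [mul_one], [1, 2, 1, 2],
      fun i hi => by revert i; decide, c', hc'⟩
  have h1 := f4InCell_step (i := 1) (by decide) (by decide) (f4InCell_step (i := 2) (by decide) (by decide)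
    (f4InCell_step (i := 1) (by decide) (by decide) (f4InCell_step (i := 2) (by decide) (by decide) h0)))
  have e1 : f4n2 K e * x * (f4n2 K e)⁻¹ =
      f4nS K 1 * (f4nS K 2 * (f4nS K 1 * (f4nS K 2 * (x * (f4n2 K e)⁻¹)))) := by
    have e2 : f4n2 K e * x * (f4n2 K e)⁻¹ = f4n2 K e * (x * (f4n2 K e)⁻¹) := by group
    rw [e2]
    generalize x * (f4n2 K e)⁻¹ = z
    rw [f4n2_eq he]
    simp only [mul_assoc]
  rw [e1]
  exact h1

/-- The elements of the parabolic subgroup of the first class. -/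
def f4WJ1 : List (List ℕ) := [[], [0], [3], [0, 3]]

/-- The elements of the parabolic subgroup of the second class. -/
def f4WJ2 : List (List ℕ) := [[], [1], [2], [1, 2], [2, 1], [1, 2, 1], [2, 1, 2], [1, 2, 1, 2]]

theorem f4WJ1_closed : ∀ u ∈ f4WJ1, ∀ i ∈ [0, 3], ∃ u' ∈ f4WJ1, ∀ s, s < 48 →
    chevF4.reflectRoot i (actW chevF4 u s) = actW chevF4 u' s := by decide +kernel

theorem f4WJ2_closed : ∀ u ∈ f4WJ2, ∀ i ∈ [1, 2], ∃ u' ∈ f4WJ2, ∀ s, s < 48 →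
    chevF4.reflectRoot i (actW chevF4 u s) = actW chevF4 u' s := by decide +kernel

theorem f4WJ_mem (J : List ℕ) (WJ : List (List ℕ)) (hnil : [] ∈ WJ)
    (hcl : ∀ u ∈ WJ, ∀ i ∈ J, ∃ u' ∈ WJ, ∀ s, s < 48 →
      chevF4.reflectRoot i (actW chevF4 u s) = actW chevF4 u' s) :
    ∀ w : List ℕ, (∀ i ∈ w, i ∈ J) → ∃ u ∈ WJ, ∀ s, s < 48 → actW chevF4 w s = actW chevF4 u s
  | [], _ => ⟨[], hnil, fun _ _ => rfl⟩
  | i :: w, hw => by
    obtain ⟨u, hu, hus⟩ := f4WJ_mem J WJ hnil hcl w (fun k hk => hw k (List.mem_cons_of_mem _ hk))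
    obtain ⟨u', hu', hus'⟩ := hcl u hu i (hw i List.mem_cons_self)
    refine ⟨u', hu', fun s hs => ?_⟩
    show chevF4.reflectRoot i (actW chevF4 w s) = _
    rw [hus s hs, hus' s hs]

theorem f4WJ1_comm : ∀ u ∈ f4WJ1, ∀ j, j < 16 →
    (∀ s, s < 48 → actW chevF4 u s = (f4D16.getD j []).getD s 0) →
    (∀ s, s < 48 → actW chevF4 u s = s) ∨ (∀ s, s < 48 → actW chevF4 u s = f4pi1 s) := by decide +kernel

theorem f4WJ2_comm : ∀ u ∈ f4WJ2, ∀ j, j < 16 →
    (∀ s, s < 48 → actW chevF4 u s = (f4D16.getD j []).getD s 0) →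
    (∀ s, s < 48 → actW chevF4 u s = s) ∨ (∀ s, s < 48 → actW chevF4 u s = f4pi2 s) := by decide +kernel

end Ambient

section RankOne

variable {K : Type u} [Field K] {e : ℕ}

/-- The ambient double coset of a conjugate `s x s⁻¹`, `x ∈ B`, and the elements of the parabolic subgroup
of the class which lie in the twisted Weyl group. -/
theorem f4_letter_cell [CharP K 2] {e : ℕ} (he : e ≠ 0) (j : ℕ) {x : GL chevF4.Idx K}
    (hx : x ∈ chevF4.borelSubgroup K) :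
    ∃ b₁ ∈ chevF4.borelSubgroup K, ∃ m ∈ chevF4.monomialSubgroup K, ∃ b₂ ∈ chevF4.borelSubgroup K,
      f4letN K e j * x * (f4letN K e j)⁻¹ = b₁ * m * b₂ ∧ ∃ w : List ℕ, (∀ i ∈ w, i < 4) ∧
      (∃ c : ℕ → K, RootAct chevF4 K (m : Matrix chevF4.Idx chevF4.Idx K) (actW chevF4 w) c) ∧
      ∀ k, k < 16 → (∀ s, s < 48 → actW chevF4 w s = (f4D16.getD k []).getD s 0) →
        (∀ s, s < 48 → actW chevF4 w s = s) ∨ (∀ s, s < 48 → actW chevF4 w s = f4letPi j s) := by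
  by_cases hj : j = 1
  · have e1 : f4letN K e j = f4n1 K e := if_pos hj
    have e2 : f4letPi j = f4pi1 := funext fun s => if_pos hj
    rw [e1, e2]
    obtain ⟨b₁, hb₁, m, hm, b₂, hb₂, e3, w, hw, c, hc⟩ := f4InCell_letter1 e hx
    refine ⟨b₁, hb₁, m, hm, b₂, hb₂, e3, w, fun i hi => ?_, ⟨c, hc⟩, fun k hk hks => ?_⟩
    · have h1 := hw i hi
      simp only [List.mem_cons, List.mem_nil_iff, or_false] at h1
      omega
    · obtain ⟨u, hu, hus⟩ := f4WJ_mem [0, 3] f4WJ1 (by decide) f4WJ1_closed w hw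
      rcases f4WJ1_comm u hu k hk (fun s hs => by rw [← hus s hs, hks s hs]) with h | h
      · exact Or.inl fun s hs => by rw [hus s hs, h s hs]
      · exact Or.inr fun s hs => by rw [hus s hs, h s hs]
  · have e1 : f4letN K e j = f4n2 K e := if_neg hj
    have e2 : f4letPi j = f4pi2 := funext fun s => if_neg hj
    rw [e1, e2]
    obtain ⟨b₁, hb₁, m, hm, b₂, hb₂, e3, w, hw, c, hc⟩ := f4InCell_letter2 he hx
    refine ⟨b₁, hb₁, m, hm, b₂, hb₂, e3, w, fun i hi => ?_, ⟨c, hc⟩, fun k hk hks => ?_⟩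
    · have h1 := hw i hi
      simp only [List.mem_cons, List.mem_nil_iff, or_false] at h1
      omega
    · obtain ⟨u, hu, hus⟩ := f4WJ_mem [1, 2] f4WJ2 (by decide) f4WJ2_closed w hw
      rcases f4WJ2_comm u hu k hk (fun s hs => by rw [← hus s hs, hks s hs]) with h | h
      · exact Or.inl fun s hs => by rw [hus s hs, h s hs]
      · exact Or.inr fun s hs => by rw [hus s hs, h s hs]

/-- The twisted rank one computation: an element `s x s⁻¹` of `V ∩ ²F₄` is trivial or lies in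
`U¹ H¹ s U_s¹`. -/
theorem F4Data.rank_one (R : F4Data K e) (j : ℕ) {s x : GL chevF4.Idx K} (hs : s = f4letN K e j)
    (hxB : x ∈ chevF4.borelSubgroup K) (hxΓ : x ∈ twistedF4 K e)
    (hvV : s * x * s⁻¹ ∈ chevF4.negUnipotent K) :
    s * x * s⁻¹ = 1 ∨
    ∃ u₁ ∈ chevF4.posUnipotent K ⊓ twistedF4 K e, ∃ h ∈ chevF4.diagonalSubgroup K ⊓ twistedF4 K e,
      ∃ u ∈ Subgroup.closure (negSet chevF4 K s) ⊓ twistedF4 K e, s * x * s⁻¹ = u₁ * h * s * u := by
  have C := chevFacts_F4 K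
  have T := R.T
  have := T.char2
  have he := T.e_ne_zero
  have hsΓ : s ∈ twistedF4 K e := hs ▸ f4letN_mem (K := K) e j
  have hsN : s ∈ chevF4.monomialSubgroup K := hs ▸ f4letN_mono (K := K) he j
  obtain ⟨cs, hcs⟩ : ∃ c : ℕ → K, RootAct chevF4 K (s : Matrix chevF4.Idx chevF4.Idx K) (f4letPi j) c :=
    hs ▸ f4letN_rootAct (K := K) he j
  obtain ⟨b₁, hb₁, m, hm, b₂, hb₂, e1, w, hw, ⟨c, hc⟩, hdich⟩ := f4_letter_cell (K := K) he j hxB
  rw [← hs] at e1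
  have hvΓ : s * x * s⁻¹ ∈ twistedF4 K e := mul_mem (mul_mem hsΓ hxΓ) (inv_mem hsΓ)
  generalize s * x * s⁻¹ = v at hvV e1 hvΓ ⊢
  obtain ⟨u₁, hu₁, n', hn', u, hu, e2, f1, f2, f3⟩ := R.canon3_fixed (R.twisted_le_group hvΓ) (R.sg_fix hvΓ)
  have hu₁Γ := R.pos_fix_mem hu₁ f1
  have huU := negSet_le_pos n' hu
  have huΓ := R.pos_fix_mem huU f3
  have e3 : n' = u₁⁻¹ * v * u⁻¹ := by rw [e2]; group
  have hn'Γ : n' ∈ twistedF4 K e := by
    rw [e3]
    exact mul_mem (mul_mem (inv_mem hu₁Γ) hvΓ) (inv_mem huΓ)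
  have hU_B : ∀ g ∈ chevF4.posUnipotent K, g ∈ chevF4.borelSubgroup K :=
    fun g hg => Subgroup.mem_sup_left hg
  have e4 : n' = (u₁⁻¹ * b₁) * m * (b₂ * u⁻¹) := by
    rw [e3, e1]
    group
  have hd := C.bruhat_unique hn' hm (mul_mem (inv_mem (hU_B _ hu₁)) hb₁)
    (mul_mem hb₂ (inv_mem (hU_B _ huU))) e4
  obtain ⟨cd, hcd⟩ := rootAct_diag C.I hd
  have hact' := hc.mul hcd
  rw [← Units.val_mul, mul_inv_cancel_left] at hact'
  have hcomm := R.rootAct_comm hn'Γ hact'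
  obtain ⟨k, hk, hks⟩ := f4W_comm w hw hcomm
  rcases hdich k hk hks with hid | hpi
  · left
    have hn'H : n' ∈ chevF4.diagonalSubgroup K := by
      refine (rootHom_eq_one_iff C ⟨n', hn'⟩).mp ?_
      apply Equiv.ext
      intro r
      apply Fin.ext
      rw [rootHom_spec C ⟨n', hn'⟩ hact' r]
      exact hid r.val r.isLt
    have hvB : v ∈ chevF4.borelSubgroup K := by
      rw [e2]
      exact mul_mem (mul_mem (hU_B _ hu₁) (Subgroup.mem_sup_right hn'H)) (hU_B _ huU)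
    exact borel_inf_neg C.I C.hN hvB hvV
  · right
    have hh : n' * s⁻¹ ∈ chevF4.diagonalSubgroup K := by
      refine (rootHom_eq_one_iff C ⟨n' * s⁻¹, mul_mem hn' (inv_mem hsN)⟩).mp ?_
      have e5 : (⟨n' * s⁻¹, mul_mem hn' (inv_mem hsN)⟩ : ↥(chevF4.monomialSubgroup K)) =
          ⟨n', hn'⟩ * (⟨s, hsN⟩ : ↥(chevF4.monomialSubgroup K))⁻¹ := rfl
      rw [e5, map_mul, map_inv, mul_inv_eq_one]
      apply Equiv.ext
      intro r
      apply Fin.ext
      rw [rootHom_spec C ⟨n', hn'⟩ hact' r, rootHom_spec C ⟨s, hsN⟩ hcs r]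
      exact hpi r.val r.isLt
    have hhΓ : n' * s⁻¹ ∈ twistedF4 K e := mul_mem hn'Γ (inv_mem hsΓ)
    refine ⟨u₁, ⟨hu₁, hu₁Γ⟩, n' * s⁻¹, ⟨hh, hhΓ⟩, u, ⟨?_, huΓ⟩, ?_⟩
    · have e5 : n' = (n' * s⁻¹) * s := by group
      rw [e5, negSet_diag_mul_eq C.I hh] at hu
      exact hu
    · rw [e2]
      group

theorem f4words_dich1 : ∀ w ∈ f4words, (∀ r ∈ f4letCls 1, 24 ≤ f4wordPi w r) ∨
    (∀ r, 24 ≤ r → r < 48 → f4letPi 1 r < 24 → 24 ≤ f4wordPi w (f4letPi 1 r)) := by decide +kernel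

theorem f4words_dich2 : ∀ w ∈ f4words, (∀ r ∈ f4letCls 2, 24 ≤ f4wordPi w r) ∨
    (∀ r, 24 ≤ r → r < 48 → f4letPi 2 r < 24 → 24 ≤ f4wordPi w (f4letPi 2 r)) := by decide +kernel

/-- An element of the twisted Weyl group maps the roots of a class all to positive roots or all to negative
roots. -/
theorem f4words_dich (j : ℕ) : ∀ w ∈ f4words, (∀ r ∈ f4letCls j, 24 ≤ f4wordPi w r) ∨
    (∀ r, 24 ≤ r → r < 48 → f4letPi j r < 24 → 24 ≤ f4wordPi w (f4letPi j r)) := by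
  by_cases hj : j = 1
  · rw [hj]
    exact f4words_dich1
  · have e1 : f4letCls j = f4letCls 2 := by
      unfold f4letCls
      rw [if_neg hj, if_neg (by decide)]
    have e2 : f4letPi j = f4letPi 2 := by
      funext s
      unfold f4letPi
      rw [if_neg hj, if_neg (by decide)]
    rw [e1, e2]
    exact f4words_dich2

theorem f4letCls_lt (j : ℕ) : ∀ r ∈ f4letCls j, r < 48 := by
  unfold f4letCls
  by_cases hj : j = 1
  · rw [if_pos hj]
    decide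
  · rw [if_neg hj]
    decide

/-- The root permutation of an element of `N ∩ ²F₄` is that of one of the 16 words. -/
theorem F4Data.word_of_mem (R : F4Data K e) {n : GL chevF4.Idx K}
    (hn : n ∈ chevF4.monomialSubgroup K ⊓ twistedF4 K e) :
    ∃ w ∈ f4words, ∃ (π : ℕ → ℕ) (c : ℕ → K),
      RootAct chevF4 K (n : Matrix chevF4.Idx chevF4.Idx K) π c ∧ ∀ s, s < 48 → π s = f4wordPi w s := by
  have C := chevFacts_F4 K
  obtain ⟨w, hw, c, hc⟩ := wordAct_of_mem_monomial C.I hn.1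
  obtain ⟨k, hk, hks⟩ := f4W_comm w hw (R.rootAct_comm hn.2 hc)
  obtain ⟨w', hw', hs'⟩ := f4words_cover k hk
  exact ⟨w', hw', _, c, hc, fun s hs => by rw [hks s hs, hs' s hs]⟩

/-- The double coset condition of `²F₄`. -/
theorem F4Data.mul_borel_mul (R : F4Data K e) (j : ℕ) {s b n : GL chevF4.Idx K} (hs : s = f4letN K e j)
    (hb : b ∈ chevF4.borelSubgroup K ⊓ twistedF4 K e)
    (hn : n ∈ chevF4.monomialSubgroup K ⊓ twistedF4 K e) :
    (∃ b₁ ∈ chevF4.borelSubgroup K ⊓ twistedF4 K e, ∃ b₂ ∈ chevF4.borelSubgroup K ⊓ twistedF4 K e,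
      s * b * n = b₁ * (s * n) * b₂) ∨
    (∃ b₁ ∈ chevF4.borelSubgroup K ⊓ twistedF4 K e, ∃ b₂ ∈ chevF4.borelSubgroup K ⊓ twistedF4 K e,
      s * b * n = b₁ * n * b₂) := by
  have C := chevFacts_F4 K
  have T := R.T
  have := T.char2
  have he := T.e_ne_zero
  have hsΓ : s ∈ twistedF4 K e := hs ▸ f4letN_mem (K := K) e j
  have hsN : s ∈ chevF4.monomialSubgroup K := hs ▸ f4letN_mono (K := K) he j
  obtain ⟨cs, hcs⟩ : ∃ c : ℕ → K, RootAct chevF4 K (s : Matrix chevF4.Idx chevF4.Idx K) (f4letPi j) c :=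
    hs ▸ f4letN_rootAct (K := K) he j
  obtain ⟨cs', hcs'⟩ := f4_rootAct_inv hsN hcs (f4letPi_invol j)
  have hU_B : ∀ g ∈ chevF4.posUnipotent K, g ∈ chevF4.borelSubgroup K :=
    fun g hg => Subgroup.mem_sup_left hg
  have hH_B : ∀ g ∈ chevF4.diagonalSubgroup K, g ∈ chevF4.borelSubgroup K :=
    fun g hg => Subgroup.mem_sup_right hg
  -- the decomposition of `b⁻¹`
  have hbB : b ∈ chevF4.borelSubgroup K := hb.1
  obtain ⟨u, hu, h, hh, ebi⟩ := borel_decomp C.I (inv_mem hbB)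
  have hbΓ : b ∈ twistedF4 K e := hb.2
  have hnΓ : n ∈ twistedF4 K e := hn.2
  have hnN : n ∈ chevF4.monomialSubgroup K := hn.1
  have hbiΓ : b⁻¹ ∈ twistedF4 K e := inv_mem hbΓ
  have huG := f4_pos_le_group hu
  have hhG : h ∈ chevF4.group K := C.hBG (hH_B h hh)
  have hfix : R.sg u * R.sg h = u * h := by rw [← R.sg_mul huG hhG, ← ebi, R.sg_fix hbiΓ]
  have hufix : R.sg u = u := by
    have e1 : u⁻¹ * R.sg u = h * (R.sg h)⁻¹ := by
      rw [eq_mul_inv_iff_mul_eq, mul_assoc, hfix]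
      group
    have h1 : u⁻¹ * R.sg u = 1 := C.pos_inf_diag (mul_mem (inv_mem hu) (R.sg_pos hu)) (by
      rw [e1]
      exact mul_mem hh (inv_mem (R.sg_diag hh)))
    exact (inv_mul_eq_one.mp h1).symm
  have huΓ := R.pos_fix_mem hu hufix
  have hhΓ : h ∈ twistedF4 K e := by
    have e1 : h = u⁻¹ * b⁻¹ := by rw [ebi]; group
    rw [e1]
    exact mul_mem (inv_mem huΓ) hbiΓ
  obtain ⟨y, hy, hyu⟩ := R.letter_split j hu hufix
  rw [← hs] at hyu
  have hyU := f4letX_pos hy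
  have hyΓ := f4letX_tw hy
  have hb₀ : s * (y⁻¹ * u * h)⁻¹ * s⁻¹ ∈ chevF4.borelSubgroup K ⊓ twistedF4 K e := by
    have e1 : s * (y⁻¹ * u * h)⁻¹ * s⁻¹ = ((s * (y⁻¹ * u) * s⁻¹) * (s * h * s⁻¹))⁻¹ := by group
    rw [e1]
    have h1 : ((s * (y⁻¹ * u) * s⁻¹) * (s * h * s⁻¹))⁻¹ ∈ chevF4.borelSubgroup K :=
      inv_mem (mul_mem (hU_B _ hyu) (hH_B _ (conj_mem_diag C.I hsN hh)))
    have h2 : ((s * (y⁻¹ * u) * s⁻¹) * (s * h * s⁻¹))⁻¹ ∈ twistedF4 K e :=
      inv_mem (mul_mem (mul_mem (mul_mem hsΓ (mul_mem (inv_mem hyΓ) huΓ)) (inv_mem hsΓ))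
        (mul_mem (mul_mem hsΓ hhΓ) (inv_mem hsΓ)))
    exact ⟨h1, h2⟩
  have eb : b = (y⁻¹ * u * h)⁻¹ * y⁻¹ := by
    have e1 : b = (b⁻¹)⁻¹ := (inv_inv b).symm
    rw [e1, ebi]
    group
  have hvV : s * y⁻¹ * s⁻¹ ∈ chevF4.negUnipotent K := by
    have e1 : s * y⁻¹ * s⁻¹ = (s * y * s⁻¹)⁻¹ := by group
    rw [e1]
    exact inv_mem (f4letX_conj_neg hcs (f4letCls_pi j) hy)
  -- the root permutation of `n⁻¹`
  have hniN : n⁻¹ ∈ chevF4.monomialSubgroup K := inv_mem hnN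
  have hniΓ : n⁻¹ ∈ twistedF4 K e := inv_mem hnΓ
  obtain ⟨w, hw, ν, cν, hν, hνw⟩ := R.word_of_mem (n := n⁻¹) ⟨hniN, hniΓ⟩
  have e0 : s * b * n = (s * (y⁻¹ * u * h)⁻¹ * s⁻¹) * (s * y⁻¹ * s⁻¹) * (s * n) := by
    rw [eb]
    group
  rcases f4words_dich j w hw with hA | hB
  · left
    have hpos : n⁻¹ * y * n ∈ chevF4.posUnipotent K := by
      have h1 := f4letX_conj_pos hν (fun r hr => by
        rw [hνw r (f4letCls_lt j r hr)]
        exact hA r hr) hy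
      rwa [inv_inv] at h1
    have h1 : n⁻¹ * y⁻¹ * n ∈ chevF4.borelSubgroup K := by
      have e1 : n⁻¹ * y⁻¹ * n = (n⁻¹ * y * n)⁻¹ := by group
      rw [e1]
      exact hU_B _ (inv_mem hpos)
    have h2 : n⁻¹ * y⁻¹ * n ∈ twistedF4 K e := mul_mem (mul_mem hniΓ (inv_mem hyΓ)) hnΓ
    refine ⟨_, hb₀, n⁻¹ * y⁻¹ * n, ⟨h1, h2⟩, ?_⟩
    rw [e0]
    group
  · rcases R.rank_one j hs (x := y⁻¹) (hU_B _ (inv_mem hyU)) (inv_mem hyΓ) hvV with
      h1 | ⟨u₁, hu₁, h', hh', u', hu', e1⟩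
    · left
      refine ⟨_, hb₀, 1, one_mem _, ?_⟩
      rw [e0, h1]
      group
    · right
      have hsq := sq_mem_diag_of_invol hsN hcs (f4letPi_invol j)
      have hact2 := hν.mul hcs'
      rw [← Units.val_mul] at hact2
      have hb₂ : ∀ z ∈ Subgroup.closure (negSet chevF4 K s),
          (n⁻¹ * s⁻¹) * z * (n⁻¹ * s⁻¹)⁻¹ ∈ chevF4.posUnipotent K := by
        intro z hz
        induction hz using Subgroup.closure_induction with
        | mem x hx =>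
          obtain ⟨r, t, hr, hmap, hx⟩ := hx
          obtain ⟨hr1, hr2⟩ := (C.I.hU.pos_iff r).mp hr
          have hneg := C.neg_of_conj_le hcs hr2 hmap
          have hx' : x = f4x r t := Units.ext hx
          rw [hx', f4_conj_x hact2 hr2]
          refine C.xGL_pos (hact2 r hr2).1 ?_ _
          show 24 ≤ ν (f4letPi j r)
          rw [hνw _ (hcs r hr2).1]
          exact hB r hr1 hr2 hneg
        | one =>
          rw [mul_one, mul_inv_cancel]
          exact one_mem _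
        | mul a a' _ _ ha ha' =>
          have e2 : (n⁻¹ * s⁻¹) * (a * a') * (n⁻¹ * s⁻¹)⁻¹ =
              ((n⁻¹ * s⁻¹) * a * (n⁻¹ * s⁻¹)⁻¹) * ((n⁻¹ * s⁻¹) * a' * (n⁻¹ * s⁻¹)⁻¹) := by group
          rw [e2]
          exact mul_mem ha ha'
        | inv a _ ha =>
          have e2 : (n⁻¹ * s⁻¹) * a⁻¹ * (n⁻¹ * s⁻¹)⁻¹ = ((n⁻¹ * s⁻¹) * a * (n⁻¹ * s⁻¹)⁻¹)⁻¹ := by group
          rw [e2]
          exact inv_mem ha
      have hu₁B : u₁ ∈ chevF4.borelSubgroup K ⊓ twistedF4 K e := ⟨hU_B _ hu₁.1, hu₁.2⟩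
      have hh'B : h' ∈ chevF4.borelSubgroup K ⊓ twistedF4 K e := ⟨hH_B _ hh'.1, hh'.2⟩
      have hssΓ : s * s ∈ twistedF4 K e := mul_mem hsΓ hsΓ
      have hssB : s * s ∈ chevF4.borelSubgroup K ⊓ twistedF4 K e := ⟨hH_B _ hsq, hssΓ⟩
      have hu'Γ : u' ∈ twistedF4 K e := hu'.2
      have h3 : (n⁻¹ * s⁻¹) * u' * (n⁻¹ * s⁻¹)⁻¹ ∈ twistedF4 K e :=
        mul_mem (mul_mem (mul_mem hniΓ (inv_mem hsΓ)) hu'Γ) (inv_mem (mul_mem hniΓ (inv_mem hsΓ)))
      refine ⟨(s * (y⁻¹ * u * h)⁻¹ * s⁻¹) * u₁ * h' * (s * s),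
        mul_mem (mul_mem (mul_mem hb₀ hu₁B) hh'B) hssB, (n⁻¹ * s⁻¹) * u' * (n⁻¹ * s⁻¹)⁻¹,
        ⟨hU_B _ (hb₂ u' hu'.1), h3⟩, ?_⟩
      rw [e0, e1]
      group

end RankOne

section Pair

variable {K : Type u} [Field K] {e : ℕ}

/-- The distinguished generators `n₁`, `n₂`. -/
def f4Sg (K : Type u) [Field K] (e : ℕ) : Set (GL chevF4.Idx K) := {g | g = f4n1 K e ∨ g = f4n2 K e}

theorem f4Sg_letter {s : GL chevF4.Idx K} (hs : s ∈ f4Sg K e) : ∃ j, s = f4letN K e j := by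
  rcases hs with rfl | rfl
  · exact ⟨1, (if_pos rfl).symm⟩
  · exact ⟨2, (if_neg (by decide)).symm⟩

theorem f4letN_mem_Sg (j : ℕ) : f4letN K e j ∈ f4Sg K e := by
  unfold f4letN
  by_cases hj : j = 1
  · rw [if_pos hj]
    exact Or.inl rfl
  · rw [if_neg hj]
    exact Or.inr rfl

theorem f4wordN_mem_closure : ∀ w : List ℕ, f4wordN K e w ∈ Subgroup.closure (f4Sg K e)
  | [] => one_mem _
  | j :: r => mul_mem (f4wordN_mem_closure r) (Subgroup.subset_closure (f4letN_mem_Sg j))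

theorem f4pi_ne : f4pi1 33 ≠ f4pi2 33 := by decide +kernel

/-- `n₁` and `n₂` lie in different cosets of `H`. -/
theorem f4n1_n2_coset [CharP K 2] {e : ℕ} (he : e ≠ 0) :
    (f4n1 K e)⁻¹ * f4n2 K e ∉ chevF4.diagonalSubgroup K := by
  intro hmem
  have C := chevFacts_F4 K
  obtain ⟨c, hc⟩ := f4n1_rootAct (K := K) e
  obtain ⟨c', hc'⟩ := f4n2_rootAct (K := K) he
  have hN := f4n1_mono (K := K) e
  have hN' := f4n2_mono (K := K) he
  have h1 := (rootHom_eq_one_iff C ⟨_, mul_mem (inv_mem hN) hN'⟩).mpr hmem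
  have e1 : (⟨(f4n1 K e)⁻¹ * f4n2 K e, mul_mem (inv_mem hN) hN'⟩ : ↥(chevF4.monomialSubgroup K)) =
      (⟨f4n1 K e, hN⟩ : ↥(chevF4.monomialSubgroup K))⁻¹ * ⟨f4n2 K e, hN'⟩ := rfl
  rw [e1, map_mul, map_inv, inv_mul_eq_one] at h1
  have h2 := congrArg (fun p : Equiv.Perm (Fin chevF4.nroots) => (p ⟨33, by decide⟩).val) h1
  rw [rootHom_spec C _ hc, rootHom_spec C _ hc'] at h2
  exact f4pi_ne h2

theorem f4letX_ne_one (T : TwoPow K e) (j : ℕ) : ∃ y ∈ f4letX K e j, y ≠ 1 := by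
  unfold f4letX
  by_cases hj : j = 1
  · rw [if_pos hj]
    refine ⟨f4gP e 1, ⟨1, rfl⟩, fun h => ?_⟩
    rw [← f4gP_zero T] at h
    exact one_ne_zero (f4gP_inj e h)
  · rw [if_neg hj]
    refine ⟨f4uB e 1 0, ⟨(1, 0), rfl⟩, fun h => ?_⟩
    rw [← f4uB_zero T] at h
    have h2 := f4uB_inj e (a₁ := ((1 : K), (0 : K))) (a₂ := ((0 : K), (0 : K))) h
    exact one_ne_zero (congrArg Prod.fst h2)

/-- The (B, N)-pair of `²F₄`. -/
theorem F4Data.bnPair (R : F4Data K e) :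
    ∃ P : Cfsg.BNPair ↥(twistedF4 K e),
      P.B = (chevF4.borelSubgroup K ⊓ twistedF4 K e).subgroupOf (twistedF4 K e) ∧
      P.N = (chevF4.monomialSubgroup K ⊓ twistedF4 K e).subgroupOf (twistedF4 K e) ∧
      P.S = {n : ↥(twistedF4 K e) | (n : GL chevF4.Idx K) ∈ f4Sg K e} := by
  have C := chevFacts_F4 K
  have T := R.T
  have := T.char2
  have he := T.e_ne_zero
  have hBN := borelSubgroup_inf_monomialSubgroup C.I.hSD C.I.posOK (F := K)
  have hHN : chevF4.diagonalSubgroup K ≤ chevF4.monomialSubgroup K := le_sup_left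
  have hU_B : ∀ g ∈ chevF4.posUnipotent K, g ∈ chevF4.borelSubgroup K :=
    fun g hg => Subgroup.mem_sup_left hg
  have hH_B : ∀ g ∈ chevF4.diagonalSubgroup K, g ∈ chevF4.borelSubgroup K :=
    fun g hg => Subgroup.mem_sup_right hg
  apply exists_bnPair (twistedF4 K e) (chevF4.borelSubgroup K ⊓ twistedF4 K e)
    (chevF4.monomialSubgroup K ⊓ twistedF4 K e) (f4Sg K e) inf_le_right inf_le_right
  · -- generation
    intro g hg
    obtain ⟨u₁, hu₁, n, hn, u, hu, e1, f1, f2, f3⟩ := R.canon3_fixed (R.twisted_le_group hg) (R.sg_fix hg)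
    have hu₁Γ := R.pos_fix_mem hu₁ f1
    have huU := negSet_le_pos n hu
    have huΓ := R.pos_fix_mem huU f3
    have hnΓ : n ∈ twistedF4 K e := by
      have e2 : n = u₁⁻¹ * g * u⁻¹ := by rw [e1]; group
      rw [e2]
      exact mul_mem (mul_mem (inv_mem hu₁Γ) hg) (inv_mem huΓ)
    have h1 : u₁ ∈ chevF4.borelSubgroup K ⊓ twistedF4 K e := ⟨hU_B _ hu₁, hu₁Γ⟩
    have h2 : n ∈ chevF4.monomialSubgroup K ⊓ twistedF4 K e := ⟨hn, hnΓ⟩
    have h3 : u ∈ chevF4.borelSubgroup K ⊓ twistedF4 K e := ⟨hU_B _ huU, huΓ⟩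
    rw [e1]
    exact mul_mem (mul_mem (Subgroup.mem_sup_left h1) (Subgroup.mem_sup_right h2)) (Subgroup.mem_sup_left h3)
  · -- `B ∩ N` is normal in `N`
    intro n hn t ht
    have htB : t ∈ chevF4.borelSubgroup K := ht.1.1
    have htN : t ∈ chevF4.monomialSubgroup K := ht.2.1
    have htΓ : t ∈ twistedF4 K e := ht.1.2
    have hnN : n ∈ chevF4.monomialSubgroup K := hn.1
    have hnΓ : n ∈ twistedF4 K e := hn.2
    have htH : t ∈ chevF4.diagonalSubgroup K := by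
      rw [← hBN]
      exact ⟨htB, htN⟩
    have h1 : n * t * n⁻¹ ∈ twistedF4 K e := mul_mem (mul_mem hnΓ htΓ) (inv_mem hnΓ)
    exact ⟨hH_B _ (conj_mem_diag C.I hnN htH), h1⟩
  · -- the generators lie in `N`
    intro s hs
    obtain ⟨j, rfl⟩ := f4Sg_letter hs
    exact ⟨f4letN_mono he j, f4letN_mem e j⟩
  · -- squares
    intro s hs
    obtain ⟨j, rfl⟩ := f4Sg_letter hs
    obtain ⟨c, hc⟩ := f4letN_rootAct (K := K) he j
    have h1 : f4letN K e j * f4letN K e j ∈ twistedF4 K e := mul_mem (f4letN_mem e j) (f4letN_mem e j)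
    exact ⟨hH_B _ (sq_mem_diag_of_invol (f4letN_mono he j) hc (f4letPi_invol j)), h1⟩
  · -- distinct cosets
    have key : ∀ g : GL chevF4.Idx K, g ∈ chevF4.borelSubgroup K ⊓ twistedF4 K e →
        g ∈ chevF4.monomialSubgroup K → g ∈ chevF4.diagonalSubgroup K := by
      intro g hg hgN
      have hgB : g ∈ chevF4.borelSubgroup K := hg.1
      rw [← hBN]
      exact ⟨hgB, hgN⟩
    rintro s (rfl | rfl) s' (rfl | rfl) h
    · rfl
    · exact absurd (key _ h (mul_mem (inv_mem (f4n1_mono e)) (f4n2_mono he))) (f4n1_n2_coset he)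
    · have h1 := key _ h (mul_mem (inv_mem (f4n2_mono he)) (f4n1_mono e))
      have e1 : (f4n1 K e)⁻¹ * f4n2 K e = ((f4n2 K e)⁻¹ * f4n1 K e)⁻¹ := by group
      exact absurd (e1 ▸ inv_mem h1) (f4n1_n2_coset he)
    · rfl
  · -- `N` is generated by the generators and `H`
    intro n hn
    obtain ⟨w, hw, hh⟩ := R.words_rep hn
    have hnΓ : n ∈ twistedF4 K e := hn.2
    have hhΓ : n * (f4wordN K e w)⁻¹ ∈ twistedF4 K e := mul_mem hnΓ (inv_mem (f4wordN_mem e w))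
    have h1 : n * (f4wordN K e w)⁻¹ ∈ chevF4.borelSubgroup K ⊓ twistedF4 K e := ⟨hH_B _ hh, hhΓ⟩
    have h2 : n * (f4wordN K e w)⁻¹ ∈ chevF4.monomialSubgroup K ⊓ twistedF4 K e := ⟨hHN hh, hhΓ⟩
    have e1 : n = (n * (f4wordN K e w)⁻¹) * f4wordN K e w := by group
    rw [e1]
    exact mul_mem (Subgroup.mem_sup_right ⟨h1, h2⟩) (Subgroup.mem_sup_left (f4wordN_mem_closure w))
  · -- the double coset condition
    intro s hs n hn b hb
    obtain ⟨j, hj⟩ := f4Sg_letter hs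
    exact R.mul_borel_mul j hj hb hn
  · -- `s B s ≠ B`
    intro s hs
    obtain ⟨j, rfl⟩ := f4Sg_letter hs
    obtain ⟨c, hc⟩ := f4letN_rootAct (K := K) he j
    obtain ⟨y, hy, hy1⟩ := f4letX_ne_one T j
    have hyB : y ∈ chevF4.borelSubgroup K ⊓ twistedF4 K e := ⟨hU_B _ (f4letX_pos hy), f4letX_tw hy⟩
    refine ⟨y, hyB, fun hmem => hy1 ?_⟩
    have hmemB : f4letN K e j * y * f4letN K e j ∈ chevF4.borelSubgroup K := hmem.1
    have hsq := sq_mem_diag_of_invol (f4letN_mono he j) hc (f4letPi_invol j)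
    have h1 : f4letN K e j * y * (f4letN K e j)⁻¹ ∈ chevF4.borelSubgroup K := by
      have e1 : f4letN K e j * y * (f4letN K e j)⁻¹ =
          (f4letN K e j * y * f4letN K e j) * (f4letN K e j * f4letN K e j)⁻¹ := by group
      rw [e1]
      exact mul_mem hmemB (inv_mem (hH_B _ hsq))
    have h2 := borel_inf_neg C.I C.hN h1 (f4letX_conj_neg hc (f4letCls_pi j) hy)
    have e2 : y = (f4letN K e j)⁻¹ * (f4letN K e j * y * (f4letN K e j)⁻¹) * f4letN K e j := by group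
    rw [e2, h2]
    group

end Pair

end Cfsg.Agent.Lib.helper23
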