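import Cfsg.Agent.Lib.helper22.TwCore

set_option autoImplicit false

/-!
# The core of `B ∩ Γ` in a subgroup `Γ` of a Chevalley group

A version of helper22's `TwFacts.core` for an arbitrary subgroup `Γ` of `GL`: if `Γ` contains an element of `N`
mapping every positive root to a negative root and, for every fundamental root `p_i`, an element of `U` with
nonzero coordinate at `p_i`, then the normal core of `B ∩ Γ` in `Γ` is trivial.
-/

namespace Cfsg.Agent.Lib.helper23

open Cfsg.Lie Cfsg.Agent.Lib.helper22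

variable {D : ChevalleyDatum} {F : Type*} [Field F] {η : ℕ → ℕ → ℤ}

theorem core_trivial_of (C : ChevFacts D F η) (Γ : Subgroup (GL D.Idx F))
    {n₀ : GL D.Idx F} (hn₀N : n₀ ∈ D.monomialSubgroup F) (hn₀Γ : n₀ ∈ Γ)
    {π : ℕ → ℕ} {cw : ℕ → F} (hcw : RootAct D F (n₀ : Matrix D.Idx D.Idx F) π cw)
    (hlong : ∀ r, r < D.nroots → D.nroots / 2 ≤ r → π r < D.nroots / 2)
    (hx : ∀ i, i < D.rank → ∃ x ∈ D.posUnipotent F, x ∈ Γ ∧ coordU D F i x ≠ 0) :
    ((D.borelSubgroup F ⊓ Γ).subgroupOf Γ).normalCore = ⊥ := by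
  have hHT : D.diagonalSubgroup F ≤ torus D F := diagonalSubgroup_le_torus C.I.hSD'
  have hev := C.I.hU.even
  -- `n₀` maps `U` into `V`
  have hUV : ∀ u ∈ D.posUnipotent F, n₀ * u * n₀⁻¹ ∈ D.negUnipotent F := by
    have hle : D.posUnipotent F ≤ (D.negUnipotent F).comap (MulAut.conj n₀).toMonoidHom := by
      unfold ChevalleyDatum.posUnipotent
      rw [Subgroup.closure_le]
      rintro g ⟨r, t, hr, hg⟩
      have hrN := ((C.I.hU.pos_iff r).mp hr).1
      rw [SetLike.mem_coe, Subgroup.mem_comap]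
      show n₀ * g * n₀⁻¹ ∈ D.negUnipotent F
      rw [eq_xGL C.I.hSD' (rootAct_conj hcw hr.1 hg)]
      exact C.xGL_neg (hcw r hr.1).1 (hlong r hr.1 hrN) _
    intro u hu
    exact hle hu
  -- the core lies in `B`, and is normal
  have hKB : ∀ k : ↥Γ, k ∈ ((D.borelSubgroup F ⊓ Γ).subgroupOf Γ).normalCore →
      (k : GL D.Idx F) ∈ D.borelSubgroup F := by
    intro k hk
    exact inf_l (Subgroup.mem_subgroupOf.mp (Subgroup.normalCore_le _ hk))
  have hKn : ∀ (g k : ↥Γ), k ∈ ((D.borelSubgroup F ⊓ Γ).subgroupOf Γ).normalCore →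
      g * k * g⁻¹ ∈ ((D.borelSubgroup F ⊓ Γ).subgroupOf Γ).normalCore := by
    intro g k hk
    exact (Subgroup.normalCore_normal _).conj_mem k hk g
  -- the core lies in `H`
  have hKH : ∀ k : ↥Γ, k ∈ ((D.borelSubgroup F ⊓ Γ).subgroupOf Γ).normalCore →
      (k : GL D.Idx F) ∈ D.diagonalSubgroup F := by
    intro k hk
    obtain ⟨u, hu, h, hh, e⟩ := Cfsg.Agent.Lib.helper22.borel_decomp C.I (hKB k hk)
    have h2 := hKB _ (hKn ⟨n₀, hn₀Γ⟩ k hk)
    have h3 : n₀ * (k : GL D.Idx F) * n₀⁻¹ ∈ D.borelSubgroup F := by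
      simpa using h2
    have h4 : n₀ * u * n₀⁻¹ ∈ D.borelSubgroup F := by
      have : n₀ * u * n₀⁻¹ = (n₀ * (k : GL D.Idx F) * n₀⁻¹) * (n₀ * h * n₀⁻¹)⁻¹ := by
        rw [e]
        group
      rw [this]
      exact mul_mem h3 (inv_mem (Subgroup.mem_sup_right (conj_mem_diag C.I hn₀N hh)))
    have h5 := borel_inf_neg C.I C.hN h4 (hUV u hu)
    have hu1 : u = 1 := by
      have : u = n₀⁻¹ * (n₀ * u * n₀⁻¹) * n₀ := by group
      rw [this, h5]
      group
    rw [e, hu1, one_mul]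
    exact hh
  rw [Subgroup.eq_bot_iff_forall]
  intro k hk
  have hzH := hKH k hk
  obtain ⟨c0, hc0, hzc⟩ := hHT hzH
  have hχ := rootAct_torusMat C hc0 hzc
  -- `k` commutes with the elements of `U ∩ Γ`
  have hcommU : ∀ x : GL D.Idx F, x ∈ D.posUnipotent F → x ∈ Γ →
      (k : GL D.Idx F) * x * (k : GL D.Idx F)⁻¹ = x := by
    intro x hxU hxG
    have h1 : k * (⟨x, hxG⟩ * k⁻¹ * (⟨x, hxG⟩ : ↥Γ)⁻¹) ∈
        ((D.borelSubgroup F ⊓ Γ).subgroupOf Γ).normalCore :=
      mul_mem hk (hKn _ _ (inv_mem hk))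
    have h2 := hKH _ h1
    have h3 : (k : GL D.Idx F) * x * (k : GL D.Idx F)⁻¹ * x⁻¹ ∈ D.diagonalSubgroup F := by
      have : (k : GL D.Idx F) * x * (k : GL D.Idx F)⁻¹ * x⁻¹ =
          ((k * (⟨x, hxG⟩ * k⁻¹ * (⟨x, hxG⟩ : ↥Γ)⁻¹) : ↥Γ) : GL D.Idx F) := by
        simp [mul_assoc]
      rw [this]
      exact h2
    have h4 : (k : GL D.Idx F) * x * (k : GL D.Idx F)⁻¹ * x⁻¹ ∈ D.posUnipotent F :=
      mul_mem (diag_conj_mem_pos C.I hzH hxU) (inv_mem hxU)
    have h5 := C.pos_inf_diag h4 h3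
    exact mul_inv_eq_one.mp h5
  -- the characters of the fundamental roots are trivial
  have hsimple : ∀ i, i < D.rank → torusChar D F c0 (D.simple i) = 1 := by
    intro i hi
    obtain ⟨x, hxU, hxG, hne⟩ := hx i hi
    have e1 := coordU_torus_conj C hχ hi hxU
    rw [hcommU _ hxU hxG] at e1
    have e2 : (1 : F) * coordU D F i x = torusChar D F c0 (D.simple i) * coordU D F i x := by
      rw [one_mul]
      exact e1
    exact (mul_right_cancel₀ hne e2).symm
  have hsimple_neg : ∀ i, i < D.rank → torusChar D F c0 (D.neg (D.simple i)) = 1 := by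
    intro i hi
    obtain ⟨S⟩ := C.I.hSD' ⟨D.simple i, C.simple_lt hi⟩
    have h1 := torusChar_nr S c0 hc0
    have h2 : S.nr.val = D.neg (D.simple i) := S.nr_val
    rw [h2, hsimple i hi, mul_one] at h1
    exact h1
  -- all characters are trivial
  have hcomm_x : ∀ s, s < D.nroots → torusChar D F c0 s = 1 → ∀ t : F,
      (k : GL D.Idx F) * xGL C.I.hSD' s t = xGL C.I.hSD' s t * (k : GL D.Idx F) := by
    intro s hs h1 t
    apply Units.ext
    rw [Units.val_mul, Units.val_mul, xGL_coe]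
    have e := (hχ s hs).2.2 t
    simp only [h1, one_mul] at e
    exact e
  have hall : ∀ r, r < D.nroots → torusChar D F c0 r = 1 := by
    apply C.I.R.reach
    · exact hsimple
    · intro a ha hPa i hi
      have hp := C.simple_lt hi
      have hkn : (k : GL D.Idx F) * nGL C.I.hSD' i = nGL C.I.hSD' i * (k : GL D.Idx F) := by
        unfold nGL
        have e1 := hcomm_x _ hp (hsimple i hi)
        have e2 := hcomm_x _ (C.I.neg_lt hp) (hsimple_neg i hi)
        rw [← mul_assoc, ← mul_assoc, e1, mul_assoc _ (k : GL D.Idx F), e2, ← mul_assoc,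
          mul_assoc _ (k : GL D.Idx F), e1]
        simp only [mul_assoc]
      have hwlt := reflect_lt C.I hi ha
      have e3 : nGL C.I.hSD' i * xGL C.I.hSD' a 1 * (nGL C.I.hSD' i)⁻¹ =
          xGL C.I.hSD' (D.reflectRoot i a) ((η i a : F) * 1) :=
        Units.ext (rootAct_conj (rootAct_nGL C.I hi) ha (xGL_coe C.I.hSD' a 1))
      have e4 : (k : GL D.Idx F) * xGL C.I.hSD' (D.reflectRoot i a) ((η i a : F) * 1) =
          xGL C.I.hSD' (D.reflectRoot i a) ((η i a : F) * 1) * (k : GL D.Idx F) := by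
        rw [← e3]
        have e5 := hcomm_x a ha hPa 1
        have hkn' : (k : GL D.Idx F) * (nGL C.I.hSD' i)⁻¹ = (nGL C.I.hSD' i)⁻¹ * (k : GL D.Idx F) := by
          rw [eq_inv_mul_iff_mul_eq, ← mul_assoc, ← hkn, mul_assoc, mul_inv_cancel, mul_one]
        rw [← mul_assoc, ← mul_assoc, hkn, mul_assoc _ (k : GL D.Idx F), e5, ← mul_assoc,
          mul_assoc _ (k : GL D.Idx F), hkn']
        simp only [mul_assoc]
      have e6 : (k : GL D.Idx F) * xGL C.I.hSD' (D.reflectRoot i a) ((η i a : F) * 1) =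
          xGL C.I.hSD' (D.reflectRoot i a) (torusChar D F c0 (D.reflectRoot i a) * ((η i a : F) * 1)) *
            (k : GL D.Idx F) :=
        Units.ext (by rw [Units.val_mul, Units.val_mul, xGL_coe, xGL_coe]; exact (hχ _ hwlt).2.2 _)
      have e7 := xGL_inj C.I hwlt (mul_right_cancel (e4.symm.trans e6))
      have hη : (η i a : F) * 1 ≠ 0 := by
        rw [mul_one]
        exact eta_ne_zero C.I hi ha
      have := mul_right_cancel₀ hη ((one_mul _).trans e7)
      exact this.symm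
  -- hence `k = 1`
  apply Subtype.ext
  apply Units.ext
  rw [hzc]
  unfold torusMat
  have : (Sum.elim (fun _ => (1 : F)) (fun s : Fin D.nroots => torusChar D F c0 s.val) : D.Idx → F) =
      fun _ => 1 := by
    funext x
    rcases x with j | s
    · rfl
    · exact hall s.val s.isLt
  rw [this]
  exact Matrix.diagonal_one

end Cfsg.Agent.Lib.helper23
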