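import Cfsg.Agent.Lib.helper22.TwInst
import Cfsg.Agent.Lib.helper22.ChevBNCertF4
import Cfsg.Agent.Lib.helper23.ChevWordEq
import Cfsg.Agent.Lib.helper23.TwGenCore
import Cfsg.Agent.Lib.helper41.ChevTabF4
import Cfsg.Prelude.Def_LieTwisted

set_option autoImplicit false
set_option maxRecDepth 100000

/-!
# The twisted group `²F₄` inside `F₄(K)`: generators and the elements `n₁`, `n₂`
-/

namespace Cfsg.Agent.Lib.helper23

open Cfsg Cfsg.Lie Cfsg.Agent.Lib.helper41 Cfsg.Agent.Lib.helper22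

universe u

/-- The signs of the reflection table of type `F₄`. -/
abbrev f4eta : ℕ → ℕ → ℤ := fun i s => TabF4.tab.eta chevF4 i s

theorem triOK_F4_tw : triOK chevF4 = true := by decide +kernel

theorem chevFacts_F4 (K : Type u) [Field K] : ChevFacts chevF4 K f4eta :=
  chevFacts_of (bnInput_F4 K) (by decide +kernel) (negOK_of_triOK chevF4 triOK_F4_tw)

section Gens

variable {K : Type u} [Field K]

/-- The root element `x_r(t)` of `F₄(K)`. -/
abbrev f4x (r : ℕ) (t : K) : GL chevF4.Idx K := xGL (chevFacts_F4 K).I.hSD' r t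

/-- The generator `x_{p₁}(t^θ) x_{p₄}(t)`. -/
def f4gP (e : ℕ) (t : K) : GL chevF4.Idx K := f4x 33 (t ^ e) * f4x 24 t

/-- The generator `x_{-p₁}(t^θ) x_{-p₄}(t)`. -/
def f4gM (e : ℕ) (t : K) : GL chevF4.Idx K := f4x 14 (t ^ e) * f4x 23 t

/-- The generator `x_a(t^θ) x_b(t) x_{a+b}(t^{θ+1} + u) x_{2a+b}(u^{2θ})`. -/
def f4uB (e : ℕ) (t u : K) : GL chevF4.Idx K :=
  f4x 27 (t ^ e) * f4x 25 t * f4x 28 (t ^ (e + 1) + u) * f4x 30 (u ^ (2 * e))

/-- The generator `x_{-a}(t^θ) x_{-b}(t) x_{-a-b}(t^{θ+1} + u) x_{-2a-b}(u^{2θ})`. -/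
def f4vB (e : ℕ) (t u : K) : GL chevF4.Idx K :=
  f4x 20 (t ^ e) * f4x 22 t * f4x 19 (t ^ (e + 1) + u) * f4x 17 (u ^ (2 * e))

theorem f4gP_coe (e : ℕ) (t : K) : ((f4gP e t : GL chevF4.Idx K) : Matrix chevF4.Idx chevF4.Idx K) =
    chevF4.wordMat K (f4PairWord e f4p1 f4p4 t) := by
  unfold f4gP f4PairWord f4p1 f4p4
  rw [Cfsg.Agent.Lib.helper22.wordMat_cons, Cfsg.Agent.Lib.helper22.wordMat_cons,
    Cfsg.Agent.Lib.helper22.wordMat_nil, mul_one, Units.val_mul, xGL_coe, xGL_coe]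

theorem f4gM_coe (e : ℕ) (t : K) : ((f4gM e t : GL chevF4.Idx K) : Matrix chevF4.Idx chevF4.Idx K) =
    chevF4.wordMat K (f4PairWord e f4m1 f4m4 t) := by
  unfold f4gM f4PairWord f4m1 f4m4
  rw [Cfsg.Agent.Lib.helper22.wordMat_cons, Cfsg.Agent.Lib.helper22.wordMat_cons,
    Cfsg.Agent.Lib.helper22.wordMat_nil, mul_one, Units.val_mul, xGL_coe, xGL_coe]

theorem f4uB_coe (e : ℕ) (t u : K) : ((f4uB e t u : GL chevF4.Idx K) : Matrix chevF4.Idx chevF4.Idx K) =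
    chevF4.wordMat K (b2ClassWord e f4a f4b f4ab f4aab t u) := by
  unfold f4uB b2ClassWord f4a f4b f4ab f4aab
  rw [Cfsg.Agent.Lib.helper22.wordMat_cons, Cfsg.Agent.Lib.helper22.wordMat_cons,
    Cfsg.Agent.Lib.helper22.wordMat_cons, Cfsg.Agent.Lib.helper22.wordMat_cons,
    Cfsg.Agent.Lib.helper22.wordMat_nil, mul_one, Units.val_mul, Units.val_mul, Units.val_mul,
    xGL_coe, xGL_coe, xGL_coe, xGL_coe, mul_assoc, mul_assoc]

theorem f4vB_coe (e : ℕ) (t u : K) : ((f4vB e t u : GL chevF4.Idx K) : Matrix chevF4.Idx chevF4.Idx K) =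
    chevF4.wordMat K (b2ClassWord e f4ma f4mb f4mab f4maab t u) := by
  unfold f4vB b2ClassWord f4ma f4mb f4mab f4maab
  rw [Cfsg.Agent.Lib.helper22.wordMat_cons, Cfsg.Agent.Lib.helper22.wordMat_cons,
    Cfsg.Agent.Lib.helper22.wordMat_cons, Cfsg.Agent.Lib.helper22.wordMat_cons,
    Cfsg.Agent.Lib.helper22.wordMat_nil, mul_one, Units.val_mul, Units.val_mul, Units.val_mul,
    xGL_coe, xGL_coe, xGL_coe, xGL_coe, mul_assoc, mul_assoc]

theorem f4gP_mem (e : ℕ) (t : K) : f4gP e t ∈ twistedF4 K e :=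
  Subgroup.subset_closure ⟨_, Or.inl ⟨t, Or.inl rfl⟩, f4gP_coe e t⟩

theorem f4gM_mem (e : ℕ) (t : K) : f4gM e t ∈ twistedF4 K e :=
  Subgroup.subset_closure ⟨_, Or.inl ⟨t, Or.inr rfl⟩, f4gM_coe e t⟩

theorem f4uB_mem (e : ℕ) (t u : K) : f4uB e t u ∈ twistedF4 K e :=
  Subgroup.subset_closure ⟨_, Or.inr ⟨t, u, Or.inl rfl⟩, f4uB_coe e t u⟩

theorem f4vB_mem (e : ℕ) (t u : K) : f4vB e t u ∈ twistedF4 K e :=
  Subgroup.subset_closure ⟨_, Or.inr ⟨t, u, Or.inr rfl⟩, f4vB_coe e t u⟩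

/-- The twisted group is generated by the four families of generators. -/
theorem twistedF4_eq_closure (e : ℕ) : twistedF4 K e = Subgroup.closure
    ({g : GL chevF4.Idx K | ∃ t : K, g = f4gP e t ∨ g = f4gM e t} ∪
      {g : GL chevF4.Idx K | ∃ t u : K, g = f4uB e t u ∨ g = f4vB e t u}) := by
  apply le_antisymm
  · unfold twistedF4 ChevalleyDatum.genSubgroup
    rw [Subgroup.closure_le]
    rintro g ⟨w, hw, hg⟩
    apply Subgroup.subset_closure
    rcases hw with ⟨t, rfl | rfl⟩ | ⟨t, u, rfl | rfl⟩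
    · exact Or.inl ⟨t, Or.inl (Units.ext (hg.trans (f4gP_coe e t).symm))⟩
    · exact Or.inl ⟨t, Or.inr (Units.ext (hg.trans (f4gM_coe e t).symm))⟩
    · exact Or.inr ⟨t, u, Or.inl (Units.ext (hg.trans (f4uB_coe e t u).symm))⟩
    · exact Or.inr ⟨t, u, Or.inr (Units.ext (hg.trans (f4vB_coe e t u).symm))⟩
  · rw [Subgroup.closure_le]
    rintro g (⟨t, rfl | rfl⟩ | ⟨t, u, rfl | rfl⟩)
    · exact f4gP_mem e t
    · exact f4gM_mem e t
    · exact f4uB_mem e t u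
    · exact f4vB_mem e t u

end Gens

end Cfsg.Agent.Lib.helper23
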