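import Cfsg.Agent.Lib.helper23.F4SigmaDef

set_option autoImplicit false
set_option maxRecDepth 100000

/-!
# The diagonal subgroup of `²F₄`

A torus element fixed by the twisting automorphism is determined by its characters at the two long
fundamental roots; the elements `h(s)` and `n₂ h(s) n₂⁻¹` realise all the values.
-/

namespace Cfsg.Agent.Lib.helper23

open Cfsg Cfsg.Lie Cfsg.Agent.Lib.helper41 Cfsg.Agent.Lib.helper22

universe u

section Generic

variable {D : ChevalleyDatum} {F : Type*} [Field F] {η : ℕ → ℕ → ℤ}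

/-- A torus element with trivial characters at the fundamental roots is trivial. -/
theorem torus_eq_one_of_simple (C : ChevFacts D F η) {k : GL D.Idx F} {c0 : Fin D.rank → F}
    (hc0 : ∀ i, c0 i ≠ 0) (hzc : (k : Matrix D.Idx D.Idx F) = torusMat D F c0)
    (hsimple : ∀ i, i < D.rank → torusChar D F c0 (D.simple i) = 1) : k = 1 := by
  have hχ := rootAct_torusMat C hc0 hzc
  have hsimple_neg : ∀ i, i < D.rank → torusChar D F c0 (D.neg (D.simple i)) = 1 := by
    intro i hi
    obtain ⟨S⟩ := C.I.hSD' ⟨D.simple i, C.simple_lt hi⟩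
    have h1 := torusChar_nr S c0 hc0
    have h2 : S.nr.val = D.neg (D.simple i) := S.nr_val
    rw [h2, hsimple i hi, mul_one] at h1
    exact h1
  have hcomm_x : ∀ s, s < D.nroots → torusChar D F c0 s = 1 → ∀ t : F,
      k * xGL C.I.hSD' s t = xGL C.I.hSD' s t * k := by
    intro s hs h1 t
    apply Units.ext
    rw [Units.val_mul, Units.val_mul, xGL_coe]
    have e := (hχ s hs).2.2 t
    simp only [h1, one_mul] at e
    exact e
  have hall : ∀ r, r < D.nroots → torusChar D F c0 r = 1 := by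
    apply C.I.R.reach
    · exact hsimple
    · intro a ha hPa i hi
      have hp := C.simple_lt hi
      have hkn : k * nGL C.I.hSD' i = nGL C.I.hSD' i * k := by
        unfold nGL
        have e1 := hcomm_x _ hp (hsimple i hi)
        have e2 := hcomm_x _ (C.I.neg_lt hp) (hsimple_neg i hi)
        rw [← mul_assoc, ← mul_assoc, e1, mul_assoc _ k, e2, ← mul_assoc,
          mul_assoc _ k, e1]
        simp only [mul_assoc]
      have hwlt := reflect_lt C.I hi ha
      have e3 : nGL C.I.hSD' i * xGL C.I.hSD' a 1 * (nGL C.I.hSD' i)⁻¹ =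
          xGL C.I.hSD' (D.reflectRoot i a) ((η i a : F) * 1) :=
        Units.ext (rootAct_conj (rootAct_nGL C.I hi) ha (xGL_coe C.I.hSD' a 1))
      have e4 : k * xGL C.I.hSD' (D.reflectRoot i a) ((η i a : F) * 1) =
          xGL C.I.hSD' (D.reflectRoot i a) ((η i a : F) * 1) * k := by
        rw [← e3]
        have e5 := hcomm_x a ha hPa 1
        have hkn' : k * (nGL C.I.hSD' i)⁻¹ = (nGL C.I.hSD' i)⁻¹ * k := by
          rw [eq_inv_mul_iff_mul_eq, ← mul_assoc, ← hkn, mul_assoc, mul_inv_cancel, mul_one]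
        rw [← mul_assoc, ← mul_assoc, hkn, mul_assoc _ k, e5, ← mul_assoc,
          mul_assoc _ k, hkn']
        simp only [mul_assoc]
      have e6 : k * xGL C.I.hSD' (D.reflectRoot i a) ((η i a : F) * 1) =
          xGL C.I.hSD' (D.reflectRoot i a) (torusChar D F c0 (D.reflectRoot i a) * ((η i a : F) * 1)) * k :=
        Units.ext (by rw [Units.val_mul, Units.val_mul, xGL_coe, xGL_coe]; exact (hχ _ hwlt).2.2 _)
      have e7 := xGL_inj C.I hwlt (mul_right_cancel (e4.symm.trans e6))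
      have hη : (η i a : F) * 1 ≠ 0 := by
        rw [mul_one]
        exact eta_ne_zero C.I hi ha
      have := mul_right_cancel₀ hη ((one_mul _).trans e7)
      exact this.symm
  apply Units.ext
  rw [hzc]
  unfold torusMat
  have : (Sum.elim (fun _ => (1 : F)) (fun s : Fin D.nroots => torusChar D F c0 s.val) : D.Idx → F) =
      fun _ => 1 := by
    funext x
    rcases x with j | s
    · rfl
    · exact hall s.val s.isLt
  rw [this]
  exact Matrix.diagonal_one

end Generic

section F4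

variable {K : Type u} [Field K] {e : ℕ}

theorem f4hP_mem_diag [CharP K 2] (e : ℕ) {s : K} (hs : s ≠ 0) : f4hP e s ∈ chevF4.diagonalSubgroup K := by
  rw [f4hP_eq_phi e hs]
  unfold f4Phi
  refine mul_mem (Subgroup.subset_closure ⟨33, s ^ e, by decide, pow_ne_zero e hs, ?_⟩)
    (Subgroup.subset_closure ⟨24, s, by decide, hs, ?_⟩)
  · rw [sl2Hom_sl2h]; rfl
  · rw [sl2Hom_sl2h]; rfl

/-- The character of a conjugate of a torus element. -/
theorem conj_char_of_rootAct {n h : GL chevF4.Idx K} {π : ℕ → ℕ} {c : ℕ → K}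
    (hn : RootAct chevF4 K (n : Matrix chevF4.Idx chevF4.Idx K) π c) {r : ℕ} (hr : r < 48) {χ : K}
    (hh : ∀ t : K, h * f4x r t * h⁻¹ = f4x r (χ * t)) (u : K) :
    (n * h * n⁻¹) * f4x (π r) u * (n * h * n⁻¹)⁻¹ = f4x (π r) (χ * u) := by
  have hc : c r ≠ 0 := rootAct_ne_zero' (chevFacts_F4 K).I hn hr
  have e1 : ∀ t : K, n * f4x r t * n⁻¹ = f4x (π r) (c r * t) := fun t =>
    Units.ext (rootAct_conj hn hr (f4x_coe r t))
  obtain ⟨t, rfl⟩ : ∃ t, u = c r * t := ⟨u / c r, by field_simp⟩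
  rw [show χ * (c r * t) = c r * (χ * t) by ring, ← e1, ← e1, ← hh]
  group

/-- The second family of diagonal elements of the twisted group. -/
noncomputable def f4h2 (e : ℕ) (s : K) : GL chevF4.Idx K := f4n2 K e * f4hP e s * (f4n2 K e)⁻¹

theorem f4h2_mem (e : ℕ) (s : K) : f4h2 e s ∈ twistedF4 K e :=
  mul_mem (mul_mem (f4n2_mem e) (f4hP_mem e s)) (inv_mem (f4n2_mem e))

theorem f4h2_mem_diag [CharP K 2] {e : ℕ} (he : e ≠ 0) {s : K} (hs : s ≠ 0) :
    f4h2 e s ∈ chevF4.diagonalSubgroup K :=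
  conj_mem_diag (chevFacts_F4 K).I (f4n2_mono he) (f4hP_mem_diag e hs)

theorem f4chi_32_22 (e : ℕ) (s : K) :
    f4chi e s 32 = ((s ^ e) ^ 2)⁻¹ ∧ f4chi e s 22 = s := by
  have p1 : rootPairing chevF4 33 32 = -2 := by decide +kernel
  have p2 : rootPairing chevF4 24 32 = 0 := by decide +kernel
  have p3 : rootPairing chevF4 33 22 = 0 := by decide +kernel
  have p4 : rootPairing chevF4 24 22 = 1 := by decide +kernel
  unfold f4chi
  rw [p1, p2, p3, p4]
  refine ⟨?_, ?_⟩
  · simp only [zpow_neg, zpow_ofNat, pow_zero, mul_one]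
  · simp only [zpow_zero, one_mul, zpow_one]

theorem f4h2_conj [CharP K 2] {e : ℕ} (he : e ≠ 0) {s : K} (hs : s ≠ 0) (u : K) :
    f4h2 e s * f4x 24 u * (f4h2 e s)⁻¹ = f4x 24 (((s ^ e) ^ 2)⁻¹ * u) ∧
    f4h2 e s * f4x 25 u * (f4h2 e s)⁻¹ = f4x 25 (s * u) := by
  obtain ⟨c, hc⟩ := f4n2_rootAct (K := K) he
  obtain ⟨c1, c2⟩ := f4chi_32_22 e s
  have h1 := conj_char_of_rootAct hc (r := 32) (by decide) (fun t => f4hP_conj e hs (by decide) t) u
  have h2 := conj_char_of_rootAct hc (r := 22) (by decide) (fun t => f4hP_conj e hs (by decide) t) u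
  rw [c1] at h1
  rw [c2] at h2
  exact ⟨h1, h2⟩

/-- The product of the two families: its characters at the long fundamental roots. -/
theorem f4hh_conj (T : TwoPow K e) {a b : K} (ha : a ≠ 0) (hb : b ≠ 0) (u : K) :
    (f4hP e a * f4h2 e b) * f4x 24 u * (f4hP e a * f4h2 e b)⁻¹ = f4x 24 (a ^ 2 * (((b ^ e) ^ 2)⁻¹ * u)) ∧
    (f4hP e a * f4h2 e b) * f4x 25 u * (f4hP e a * f4h2 e b)⁻¹ = f4x 25 (a⁻¹ * (b * u)) := by
  have := T.char2
  obtain ⟨h1, h2⟩ := f4h2_conj T.e_ne_zero hb u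
  obtain ⟨-, c1, -, c2, -⟩ := f4chi_pos e ha
  have k1 := f4hP_conj e ha (r := 24) (by decide) (((b ^ e) ^ 2)⁻¹ * u)
  have k2 := f4hP_conj e ha (r := 25) (by decide) (b * u)
  rw [c1] at k1
  rw [c2] at k2
  constructor
  · rw [← k1, ← h1]; group
  · rw [← k2, ← h2]; group

theorem TwoPow.eq_of_mul_pow (T : TwoPow K e) {a a' : K} (ha : a ≠ 0) (ha' : a' ≠ 0)
    (h : a * a' ^ e = a' * a ^ e) : a = a' := by
  have hx : (a / a') ^ e = a / a' := by
    rw [div_pow, div_eq_div_iff (pow_ne_zero e ha') ha']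
    linear_combination -h
  have h3 := T.hφ (a / a')
  rw [hx, hx] at h3
  have h4 : (a / a') * (a / a' - 1) = 0 := by linear_combination h3
  rcases mul_eq_zero.mp h4 with h5 | h5
  · exact absurd h5 (div_ne_zero ha ha')
  · have h6 : a / a' = 1 := sub_eq_zero.mp h5
    exact (div_eq_one_iff_eq ha').mp h6

theorem TwoPow.sq_inj (T : TwoPow K e) {x y : K} (h : x ^ 2 = y ^ 2) : x = y := by
  have h1 : (x + y) ^ 2 = 0 := by
    rw [T.sq_add, h]
    exact T.add_self _
  have h2 : x + y = 0 := pow_eq_zero_iff (two_ne_zero) |>.mp h1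
  have h3 := T.add_self y
  linear_combination h2 - h3

/-- The parametrisation of the diagonal elements is injective. -/
theorem f4hh_inj (T : TwoPow K e) {a b a' b' : K} (ha : a ≠ 0) (hb : b ≠ 0) (ha' : a' ≠ 0) (hb' : b' ≠ 0)
    (h : f4hP e a * f4h2 e b = f4hP e a' * f4h2 e b') : a = a' ∧ b = b' := by
  have C := chevFacts_F4 K
  obtain ⟨h1, h2⟩ := f4hh_conj T ha hb 1
  obtain ⟨h1', h2'⟩ := f4hh_conj T ha' hb' 1
  rw [h] at h1 h2
  have e1 := xGL_inj C.I (by decide) (h1.symm.trans h1')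
  have e2 := xGL_inj C.I (by decide) (h2.symm.trans h2')
  rw [mul_one, mul_one] at e1 e2
  have hbe : b ^ e ≠ 0 := pow_ne_zero e hb
  have hbe' : b' ^ e ≠ 0 := pow_ne_zero e hb'
  -- `a b'^e = a' b^e` and `b a' = b' a`
  have e3 : (a * b' ^ e) ^ 2 = (a' * b ^ e) ^ 2 := by
    field_simp at e1
    linear_combination e1
  have e4 := T.sq_inj e3
  have e5 : b * a' = b' * a := by
    field_simp at e2
    linear_combination e2
  have e6 : b ^ e * a' ^ e = b' ^ e * a ^ e := by rw [← mul_pow, ← mul_pow, e5]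
  have e7 : a * a' ^ e = a' * a ^ e := by
    have : b ^ e * (a * a' ^ e) = b ^ e * (a' * a ^ e) := by
      linear_combination a * e6 + a ^ e * e4
    exact mul_left_cancel₀ hbe this
  have e8 := T.eq_of_mul_pow ha ha' e7
  subst e8
  exact ⟨rfl, mul_right_cancel₀ ha e5⟩

end F4

section Count

variable {K : Type u} [Field K] {e : ℕ} (R : F4Data K e)

include R

/-- The characters of a fixed torus element. -/
theorem F4Data.char_fix {h : GL chevF4.Idx K} {c0 : Fin chevF4.rank → K} (hc0 : ∀ i, c0 i ≠ 0)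
    (hzc : (h : Matrix chevF4.Idx chevF4.Idx K) = torusMat chevF4 K c0) (hG : h ∈ chevF4.group K)
    (hfix : R.sg h = h) {s : ℕ} (hs : s < 48) :
    torusChar chevF4 K c0 (f4rho.getD s 0) = (torusChar chevF4 K c0 s ^ e) ^ f4lam.getD s 1 := by
  have C := chevFacts_F4 K
  have hχ := rootAct_torusMat C hc0 hzc
  have e1 : h * f4x s 1 * h⁻¹ = f4x s (torusChar chevF4 K c0 s * 1) :=
    Units.ext (rootAct_conj hχ hs (f4x_coe s 1))
  have e2 : h * f4x (f4rho.getD s 0) ((1 ^ e) ^ f4lam.getD s 1) * h⁻¹ =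
      f4x (f4rho.getD s 0) (torusChar chevF4 K c0 (f4rho.getD s 0) * ((1 ^ e) ^ f4lam.getD s 1)) :=
    Units.ext (rootAct_conj hχ (f4rho_lt s hs) (f4x_coe _ _))
  have e3 := congrArg R.sg e1
  rw [R.sg_mul (mul_mem hG (f4x_mem_group hs 1)) (inv_mem hG), R.sg_mul hG (f4x_mem_group hs 1),
    R.sg_inv hG, hfix, R.sg_x hs, R.sg_x hs, e2] at e3
  have e4 := xGL_inj C.I (f4rho_lt s hs) e3
  simpa using e4

/-- A fixed torus element with trivial characters at the long fundamental roots is trivial. -/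
theorem F4Data.diag_eq_one {h : GL chevF4.Idx K} {c0 : Fin chevF4.rank → K} (hc0 : ∀ i, c0 i ≠ 0)
    (hzc : (h : Matrix chevF4.Idx chevF4.Idx K) = torusMat chevF4 K c0) (hΓ : h ∈ twistedF4 K e)
    (h24 : torusChar chevF4 K c0 24 = 1) (h25 : torusChar chevF4 K c0 25 = 1) : h = 1 := by
  have hG := R.twisted_le_group hΓ
  have hfix := R.sg_fix hΓ
  have h33 := R.char_fix hc0 hzc hG hfix (s := 24) (by decide)
  have h27 := R.char_fix hc0 hzc hG hfix (s := 25) (by decide)
  have r1 : f4rho.getD 24 0 = 33 := by decide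
  have r2 : f4rho.getD 25 0 = 27 := by decide
  rw [r1, h24, one_pow, one_pow] at h33
  rw [r2, h25, one_pow, one_pow] at h27
  apply torus_eq_one_of_simple (chevFacts_F4 K) hc0 hzc
  intro i hi
  have hi' : i < 4 := hi
  interval_cases i
  · exact h33
  · exact h27
  · exact h25
  · exact h24

/-- Two fixed torus elements with the same characters at the long fundamental roots are equal. -/
theorem F4Data.diag_ext {h h' : GL chevF4.Idx K} (hH : h ∈ chevF4.diagonalSubgroup K)
    (hΓ : h ∈ twistedF4 K e) (hH' : h' ∈ chevF4.diagonalSubgroup K) (hΓ' : h' ∈ twistedF4 K e)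
    (e24 : (h : Matrix chevF4.Idx chevF4.Idx K) (Sum.inr ⟨24, by decide⟩) (Sum.inr ⟨24, by decide⟩) =
      (h' : Matrix chevF4.Idx chevF4.Idx K) (Sum.inr ⟨24, by decide⟩) (Sum.inr ⟨24, by decide⟩))
    (e25 : (h : Matrix chevF4.Idx chevF4.Idx K) (Sum.inr ⟨25, by decide⟩) (Sum.inr ⟨25, by decide⟩) =
      (h' : Matrix chevF4.Idx chevF4.Idx K) (Sum.inr ⟨25, by decide⟩) (Sum.inr ⟨25, by decide⟩)) :
    h = h' := by
  have hHT := diagonalSubgroup_le_torus (chevFacts_F4 K).I.hSD' (F := K)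
  obtain ⟨c, hc, hzc⟩ := hHT hH
  obtain ⟨c', hc', hzc'⟩ := hHT hH'
  obtain ⟨c'', hc'', hzc''⟩ := hHT (mul_mem hH (inv_mem hH'))
  have hk : ((h * h'⁻¹ : GL chevF4.Idx K) : Matrix chevF4.Idx chevF4.Idx K) *
      (h' : Matrix chevF4.Idx chevF4.Idx K) = (h : Matrix chevF4.Idx chevF4.Idx K) := by
    rw [← Units.val_mul, inv_mul_cancel_right]
  have ent : ∀ (d : Fin chevF4.rank → K) (s : Fin chevF4.nroots),
      torusMat chevF4 K d (Sum.inr s) (Sum.inr s) = torusChar chevF4 K d s.val := by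
    intro d s
    unfold torusMat
    rw [Matrix.diagonal_apply_eq]
    rfl
  have key : ∀ s : Fin chevF4.nroots, torusChar chevF4 K c'' s.val * torusChar chevF4 K c' s.val =
      torusChar chevF4 K c s.val := by
    intro s
    have h1 := congrFun (congrFun hk (Sum.inr s)) (Sum.inr s)
    rw [hzc'', hzc', hzc, torusMat_mul, ent, ent] at h1
    rw [torusChar_mul]
    exact h1
  rw [hzc, hzc', ent, ent] at e24 e25
  have h24 : torusChar chevF4 K c'' 24 = 1 := by
    have h1 := key ⟨24, by decide⟩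
    have h2 : torusChar chevF4 K c' 24 ≠ 0 := torusChar_ne_zero chevF4 K c' hc' 24
    have h3 : torusChar chevF4 K c'' 24 * torusChar chevF4 K c' 24 = 1 * torusChar chevF4 K c' 24 := by
      rw [one_mul]
      exact h1.trans e24
    exact mul_right_cancel₀ h2 h3
  have h25 : torusChar chevF4 K c'' 25 = 1 := by
    have h1 := key ⟨25, by decide⟩
    have h2 : torusChar chevF4 K c' 25 ≠ 0 := torusChar_ne_zero chevF4 K c' hc' 25
    have h3 : torusChar chevF4 K c'' 25 * torusChar chevF4 K c' 25 = 1 * torusChar chevF4 K c' 25 := by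
      rw [one_mul]
      exact h1.trans e25
    exact mul_right_cancel₀ h2 h3
  have h1 : h * h'⁻¹ = 1 := R.diag_eq_one hc'' hzc'' (mul_mem hΓ (inv_mem hΓ')) h24 h25
  exact mul_inv_eq_one.mp h1

/-- The order of the diagonal subgroup of `²F₄(K)`. -/
theorem F4Data.card_diag [Fintype K] :
    Nat.card ↥(chevF4.diagonalSubgroup K ⊓ twistedF4 K e) = (Fintype.card K - 1) ^ 2 := by
  classical
  have T := R.T
  have := T.char2
  have hHT := diagonalSubgroup_le_torus (chevFacts_F4 K).I.hSD' (F := K)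
  have hcard : Nat.card (Kˣ × Kˣ) = (Fintype.card K - 1) ^ 2 := by
    rw [Nat.card_prod, Nat.card_eq_fintype_card, Fintype.card_units, sq]
  apply le_antisymm
  · rw [← hcard]
    have hne : ∀ (x : ↥(chevF4.diagonalSubgroup K ⊓ twistedF4 K e)) (s : Fin chevF4.nroots),
        ((x : GL chevF4.Idx K) : Matrix chevF4.Idx chevF4.Idx K) (Sum.inr s) (Sum.inr s) ≠ 0 := by
      intro x s
      obtain ⟨c, hc, hzc⟩ := hHT x.2.1
      rw [hzc]
      unfold torusMat
      rw [Matrix.diagonal_apply_eq]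
      exact torusChar_ne_zero chevF4 K c hc s.val
    let f : ↥(chevF4.diagonalSubgroup K ⊓ twistedF4 K e) → Kˣ × Kˣ := fun x =>
      (Units.mk0 _ (hne x ⟨24, by decide⟩), Units.mk0 _ (hne x ⟨25, by decide⟩))
    apply Nat.card_le_card_of_injective f
    intro x y hxy
    have h1 := congrArg (fun p : Kˣ × Kˣ => (p.1 : K)) hxy
    have h2 := congrArg (fun p : Kˣ × Kˣ => (p.2 : K)) hxy
    exact Subtype.ext (R.diag_ext x.2.1 x.2.2 y.2.1 y.2.2 h1 h2)
  · rw [← hcard]
    let g : Kˣ × Kˣ → ↥(chevF4.diagonalSubgroup K ⊓ twistedF4 K e) := fun p =>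
      ⟨f4hP e (p.1 : K) * f4h2 e (p.2 : K),
        ⟨mul_mem (f4hP_mem_diag e p.1.ne_zero) (f4h2_mem_diag T.e_ne_zero p.2.ne_zero),
          mul_mem (f4hP_mem e _) (f4h2_mem e _)⟩⟩
    apply Nat.card_le_card_of_injective g
    intro p q hpq
    have h1 := congrArg Subtype.val hpq
    obtain ⟨e1, e2⟩ := f4hh_inj T p.1.ne_zero p.2.ne_zero q.1.ne_zero q.2.ne_zero h1
    exact Prod.ext (Units.ext e1) (Units.ext e2)

end Count

end Cfsg.Agent.Lib.helper23
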