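import Cfsg.Agent.Lib.helper22.TwCell
import Cfsg.Agent.Lib.helper23.F4H

set_option autoImplicit false
set_option maxRecDepth 100000

/-!
# The fixed points of the twisting automorphism in `U ∩ n⁻¹ V n` (`F₄`)

Splitting off the twisted root elements of the two classes of roots along a reduced word.
-/

namespace Cfsg.Agent.Lib.helper23

open Cfsg Cfsg.Lie Cfsg.Agent.Lib.helper41 Cfsg.Agent.Lib.helper22

universe u

section Abstract

variable {𝔾 : Type*} [Group 𝔾]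

/-- The cell of `n`: the elements of `U ∩ Fx` conjugated into `V` by `n`. -/
def cellA (U V Fx : Subgroup 𝔾) (n : 𝔾) : Set 𝔾 := {u | u ∈ U ∧ u ∈ Fx ∧ n * u * n⁻¹ ∈ V}

/-- The step along a reduced word: the cell of `n' m` is the product of the set `X` of the twisted root
elements of the letter `m` and the conjugate by `m⁻¹` of the cell of `n'`. -/
theorem cell_step (U V Fx : Subgroup 𝔾) (hUV : ∀ g, g ∈ U → g ∈ V → g = 1) (X : Set 𝔾)
    (hXU : ∀ x ∈ X, x ∈ U) (hXF : ∀ x ∈ X, x ∈ Fx) {m n' : 𝔾} (hm : m ∈ Fx)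
    (hsplit : ∀ u, u ∈ U → u ∈ Fx → ∃ x ∈ X, m * (x⁻¹ * u) * m⁻¹ ∈ U)
    (hc1 : ∀ x ∈ X, (n' * m) * x * (n' * m)⁻¹ ∈ V) (hc2 : ∀ x ∈ X, m * x * m⁻¹ ∈ V)
    (hd : ∀ v, v ∈ U → n' * v * n'⁻¹ ∈ V → m⁻¹ * v * m ∈ U) :
    Nonempty (↥X × ↥(cellA U V Fx n') ≃ ↥(cellA U V Fx (n' * m))) ∧
    (∀ Γ : Subgroup 𝔾, m ∈ Γ → (∀ x ∈ X, x ∈ Γ) → (∀ v ∈ cellA U V Fx n', v ∈ Γ) →
      ∀ u ∈ cellA U V Fx (n' * m), u ∈ Γ) := by
  have hmem : ∀ (x : ↥X) (v : ↥(cellA U V Fx n')), x.1 * (m⁻¹ * v.1 * m) ∈ cellA U V Fx (n' * m) := by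
    rintro ⟨x, hx⟩ ⟨v, hv1, hv2, hv3⟩
    refine ⟨mul_mem (hXU x hx) (hd v hv1 hv3),
      mul_mem (hXF x hx) (mul_mem (mul_mem (inv_mem hm) hv2) hm), ?_⟩
    have e : n' * m * (x * (m⁻¹ * v * m)) * (n' * m)⁻¹ =
        ((n' * m) * x * (n' * m)⁻¹) * (n' * v * n'⁻¹) := by group
    rw [e]
    exact mul_mem (hc1 x hx) hv3
  have hsurj : ∀ u ∈ cellA U V Fx (n' * m), ∃ x ∈ X, ∃ v ∈ cellA U V Fx n', u = x * (m⁻¹ * v * m) := by
    rintro u ⟨hu1, hu2, hu3⟩
    obtain ⟨x, hx, hxu⟩ := hsplit u hu1 hu2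
    refine ⟨x, hx, m * (x⁻¹ * u) * m⁻¹,
      ⟨hxu, mul_mem (mul_mem hm (mul_mem (inv_mem (hXF x hx)) hu2)) (inv_mem hm), ?_⟩, by group⟩
    have e : n' * (m * (x⁻¹ * u) * m⁻¹) * n'⁻¹ =
        ((n' * m) * x * (n' * m)⁻¹)⁻¹ * ((n' * m) * u * (n' * m)⁻¹) := by group
    rw [e]
    exact mul_mem (inv_mem (hc1 x hx)) hu3
  constructor
  · refine ⟨Equiv.ofBijective (fun p => ⟨p.1.1 * (m⁻¹ * p.2.1 * m), hmem p.1 p.2⟩) ⟨?_, ?_⟩⟩
    · rintro ⟨⟨x, hx⟩, ⟨v, hv1, hv2, hv3⟩⟩ ⟨⟨x', hx'⟩, ⟨v', hv1', hv2', hv3'⟩⟩ h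
      have h1 : x * (m⁻¹ * v * m) = x' * (m⁻¹ * v' * m) := congrArg Subtype.val h
      have h2 : m * (x'⁻¹ * x) * m⁻¹ = v' * v⁻¹ := by
        have : x'⁻¹ * x = m⁻¹ * v' * m * (m⁻¹ * v * m)⁻¹ := by
          rw [eq_mul_inv_iff_mul_eq, mul_assoc, h1]
          group
        rw [this]
        group
      have h3 : m * (x'⁻¹ * x) * m⁻¹ ∈ V := by
        have e : m * (x'⁻¹ * x) * m⁻¹ = (m * x' * m⁻¹)⁻¹ * (m * x * m⁻¹) := by group
        rw [e]
        exact mul_mem (inv_mem (hc2 x' hx')) (hc2 x hx)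
      have h4 : m * (x'⁻¹ * x) * m⁻¹ = 1 :=
        hUV _ (by rw [h2]; exact mul_mem hv1' (inv_mem hv1)) h3
      have h5 : x' = x := by
        have : x'⁻¹ * x = 1 := by
          have e : x'⁻¹ * x = m⁻¹ * (m * (x'⁻¹ * x) * m⁻¹) * m := by group
          rw [e, h4]
          group
        exact inv_mul_eq_one.mp this
      have h6 : v' = v := by
        rw [h4] at h2
        exact mul_inv_eq_one.mp h2.symm
      subst h5
      subst h6
      rfl
    · rintro ⟨u, hu⟩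
      obtain ⟨x, hx, v, hv, e⟩ := hsurj u hu
      exact ⟨(⟨x, hx⟩, ⟨v, hv⟩), Subtype.ext e.symm⟩
  · intro Γ hmΓ hXΓ hvΓ u hu
    obtain ⟨x, hx, v, hv, e⟩ := hsurj u hu
    rw [e]
    exact mul_mem (hXΓ x hx) (mul_mem (mul_mem (inv_mem hmΓ) (hvΓ v hv)) hmΓ)

end Abstract

section F4

variable {K : Type u} [Field K] {e : ℕ}

theorem f4_neg_lt : ∀ r, r < 48 → chevF4.IsNegRoot r → r < 24 := by decide +kernel

theorem f4_pos_le_group : chevF4.posUnipotent K ≤ chevF4.group K :=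
  le_sup_left.trans (chevFacts_F4 K).hBG

theorem f4_pos_inf_neg {g : GL chevF4.Idx K} (hu : g ∈ chevF4.posUnipotent K)
    (hv : g ∈ chevF4.negUnipotent K) : g = 1 := (chevFacts_F4 K).pos_inf_neg hu hv

/-- The square of an element of `N` inducing an involution of the roots lies in `H`. -/
theorem sq_mem_diag_of_invol {m : GL chevF4.Idx K} (hm : m ∈ chevF4.monomialSubgroup K) {π : ℕ → ℕ}
    {c : ℕ → K} (hact : RootAct chevF4 K (m : Matrix chevF4.Idx chevF4.Idx K) π c)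
    (hinv : ∀ s, s < 48 → π (π s) = s) : m * m ∈ chevF4.diagonalSubgroup K := by
  have C := chevFacts_F4 K
  have h2 := hact.mul hact
  rw [← Units.val_mul] at h2
  have h3 := (rootHom_eq_one_iff C ⟨m * m, mul_mem hm hm⟩).mp (by
    apply Equiv.ext
    intro s
    apply Fin.ext
    rw [rootHom_spec C ⟨m * m, mul_mem hm hm⟩ h2 s]
    exact hinv s.val s.isLt)
  exact h3

/-- Conjugation of a root element. -/
theorem f4_conj_x {n : GL chevF4.Idx K} {π : ℕ → ℕ} {c : ℕ → K}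
    (hact : RootAct chevF4 K (n : Matrix chevF4.Idx chevF4.Idx K) π c) {r : ℕ} (hr : r < 48) (t : K) :
    n * f4x r t * n⁻¹ = f4x (π r) (c r * t) := Units.ext (rootAct_conj hact hr (f4x_coe r t))

/-- Conjugation by the inverse. -/
theorem f4_conj_inv_x {n : GL chevF4.Idx K} {π : ℕ → ℕ} {c : ℕ → K}
    (hact : RootAct chevF4 K (n : Matrix chevF4.Idx chevF4.Idx K) π c) {r : ℕ} (hr : r < 48) (t : K) :
    n⁻¹ * f4x (π r) t * n = f4x r (t / c r) := by
  have hc : c r ≠ 0 := rootAct_ne_zero' (chevFacts_F4 K).I hact hr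
  have h := f4_conj_x hact hr (t / c r)
  rw [mul_div_cancel₀ t hc] at h
  rw [← h]
  group

/-- The elements of `U ∩ n'⁻¹ V n'` are conjugated into `U` by `m⁻¹`, when `m` induces an involution of the
roots mapping to positive roots the positive roots which `n'` maps to negative roots. -/
theorem f4_conj_inv_pos {n' m : GL chevF4.Idx K} (hn'N : n' ∈ chevF4.monomialSubgroup K)
    (hmN : m ∈ chevF4.monomialSubgroup K) {π' πm : ℕ → ℕ} {c' cm : ℕ → K}
    (hact' : RootAct chevF4 K (n' : Matrix chevF4.Idx chevF4.Idx K) π' c')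
    (hactm : RootAct chevF4 K (m : Matrix chevF4.Idx chevF4.Idx K) πm cm)
    (hinv : ∀ s, s < 48 → πm (πm s) = s)
    (hred : ∀ r, 24 ≤ r → r < 48 → π' r < 24 → 24 ≤ πm r)
    {v : GL chevF4.Idx K} (hv : v ∈ chevF4.posUnipotent K)
    (hvneg : n' * v * n'⁻¹ ∈ chevF4.negUnipotent K) : m⁻¹ * v * m ∈ chevF4.posUnipotent K := by
  have C := chevFacts_F4 K
  have hvc := C.mem_negSet_of_conj hn'N hv hvneg
  have h1 : ∀ w ∈ Subgroup.closure (negSet chevF4 K n'), m * w * m⁻¹ ∈ chevF4.posUnipotent K := by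
    intro w hw
    induction hw using Subgroup.closure_induction with
    | mem x hx =>
      obtain ⟨r, t, hr, hmap, hx⟩ := hx
      obtain ⟨hrpos, hrlt⟩ := (C.I.hU.pos_iff r).mp hr
      have hneg := C.neg_of_conj_le hact' hrlt hmap
      have hx' : x = f4x r t := Units.ext hx
      rw [hx', f4_conj_x hactm hrlt]
      exact C.xGL_pos (hactm r hrlt).1 (hred r hrpos hrlt hneg) _
    | one =>
      rw [mul_one, mul_inv_cancel]
      exact one_mem _
    | mul x y _ _ hx hy =>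
      have e : m * (x * y) * m⁻¹ = (m * x * m⁻¹) * (m * y * m⁻¹) := by group
      rw [e]
      exact mul_mem hx hy
    | inv x _ hx =>
      have e : m * x⁻¹ * m⁻¹ = (m * x * m⁻¹)⁻¹ := by group
      rw [e]
      exact inv_mem hx
  have hsq := sq_mem_diag_of_invol hmN hactm hinv
  have e : m⁻¹ * v * m = (m * m)⁻¹ * (m * v * m⁻¹) * ((m * m)⁻¹)⁻¹ := by group
  rw [e]
  exact diag_conj_mem_pos C.I (inv_mem hsq) (h1 v hvc)

variable (R : F4Data K e)

include R

theorem F4Data.sg_pos {u : GL chevF4.Idx K} (hu : u ∈ chevF4.posUnipotent K) :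
    R.sg u ∈ chevF4.posUnipotent K := by
  have C := chevFacts_F4 K
  refine (R.sg_closure {g | ∃ (r : ℕ) (t : K), chevF4.IsPosRoot r ∧
    (g : Matrix chevF4.Idx chevF4.Idx K) = chevF4.x K r t} (chevF4.posUnipotent K) ?_ u hu).2
  rintro x ⟨r, t, hr, hx⟩
  obtain ⟨hr1, hr2⟩ := (C.I.hU.pos_iff r).mp hr
  have hx' : x = f4x r t := Units.ext hx
  rw [hx']
  refine ⟨f4x_mem_group hr2 t, ?_⟩
  rw [R.sg_x hr2]
  exact C.xGL_pos (f4rho_lt r hr2) ((f4rho_pos r hr2).mpr hr1) _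

theorem F4Data.sg_neg {u : GL chevF4.Idx K} (hu : u ∈ chevF4.negUnipotent K) :
    R.sg u ∈ chevF4.negUnipotent K := by
  have C := chevFacts_F4 K
  refine (R.sg_closure {g | ∃ (r : ℕ) (t : K), chevF4.IsNegRoot r ∧
    (g : Matrix chevF4.Idx chevF4.Idx K) = chevF4.x K r t} (chevF4.negUnipotent K) ?_ u hu).2
  rintro x ⟨r, t, hr, hx⟩
  have hr2 : r < 48 := hr.1
  have hr1 := f4_neg_lt r hr2 hr
  have hx' : x = f4x r t := Units.ext hx
  rw [hx']
  refine ⟨f4x_mem_group hr2 t, ?_⟩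
  rw [R.sg_x hr2]
  refine C.xGL_neg (f4rho_lt r hr2) ?_ _
  have := (f4rho_pos r hr2).not.mpr (by omega)
  show f4rho.getD r 0 < 24
  omega

/-- Splitting off a fixed element of a class of roots from a fixed element of `U`. -/
theorem F4Data.class_split {m : GL chevF4.Idx K} (hmΓ : m ∈ twistedF4 K e) (Y : Set (GL chevF4.Idx K))
    (hY : ∀ u ∈ chevF4.posUnipotent K, ∃ y ∈ Y, m * (y⁻¹ * u) * m⁻¹ ∈ chevF4.posUnipotent K)
    (hYU : ∀ y ∈ Y, y ∈ chevF4.posUnipotent K)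
    (hYV : ∀ y ∈ Y, m * y * m⁻¹ ∈ chevF4.negUnipotent K)
    {u : GL chevF4.Idx K} (hu : u ∈ chevF4.posUnipotent K) (hfix : R.sg u = u) :
    ∃ y ∈ Y, R.sg y = y ∧ m * (y⁻¹ * u) * m⁻¹ ∈ chevF4.posUnipotent K := by
  obtain ⟨y, hy, hyu⟩ := hY u hu
  refine ⟨y, hy, ?_, hyu⟩
  have hmG := R.twisted_le_group hmΓ
  have hmfix := R.sg_fix hmΓ
  have hyU := hYU y hy
  have hyG := f4_pos_le_group hyU
  have huG := f4_pos_le_group hu
  have hsy := R.sg_pos hyU
  -- `z = y⁻¹ σ(y)` is conjugated by `m` into `U ∩ V`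
  have hconj : ∀ g ∈ chevF4.group K, R.sg (m * g * m⁻¹) = m * R.sg g * m⁻¹ := by
    intro g hg
    rw [R.sg_mul (mul_mem hmG hg) (inv_mem hmG), R.sg_mul hmG hg, R.sg_inv hmG, hmfix]
  have h1 : m * (y⁻¹ * R.sg y) * m⁻¹ ∈ chevF4.negUnipotent K := by
    have e : m * (y⁻¹ * R.sg y) * m⁻¹ = (m * y * m⁻¹)⁻¹ * (m * R.sg y * m⁻¹) := by group
    rw [e, ← hconj y hyG]
    exact mul_mem (inv_mem (hYV y hy)) (R.sg_neg (hYV y hy))
  have h2 : m * (y⁻¹ * R.sg y) * m⁻¹ ∈ chevF4.posUnipotent K := by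
    have e0 : R.sg (y⁻¹ * u) = (R.sg y)⁻¹ * u := by
      rw [R.sg_mul (inv_mem hyG) huG, R.sg_inv hyG, hfix]
    have e : m * (y⁻¹ * R.sg y) * m⁻¹ = (m * (y⁻¹ * u) * m⁻¹) * (m * R.sg (y⁻¹ * u) * m⁻¹)⁻¹ := by
      rw [e0]
      group
    rw [e, ← hconj _ (mul_mem (inv_mem hyG) huG)]
    exact mul_mem hyu (inv_mem (R.sg_pos hyu))
  have h3 := f4_pos_inf_neg h2 h1
  have h4 : y⁻¹ * R.sg y = 1 := by
    have e : y⁻¹ * R.sg y = m⁻¹ * (m * (y⁻¹ * R.sg y) * m⁻¹) * m := by group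
    rw [e, h3]
    group
  exact (inv_mul_eq_one.mp h4).symm

end F4

section Class1

variable {K : Type u} [Field K] {e : ℕ}

/-- The products of root elements of the first class of roots (`p₁`, `p₄`). -/
def f4Y1 (K : Type u) [Field K] : Set (GL chevF4.Idx K) := {y | ∃ α β : K, y = f4x 33 α * f4x 24 β}

theorem f4Y1_pos {y : GL chevF4.Idx K} (hy : y ∈ f4Y1 K) : y ∈ chevF4.posUnipotent K := by
  obtain ⟨α, β, rfl⟩ := hy
  have C := chevFacts_F4 K
  exact mul_mem (C.xGL_pos (by decide) (by decide) _) (C.xGL_pos (by decide) (by decide) _)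

theorem f4Y1_coord (α β : K) : coordU chevF4 K 0 (f4x 33 α * f4x 24 β) = α ∧
    coordU chevF4 K 3 (f4x 33 α * f4x 24 β) = β := by
  have C := chevFacts_F4 K
  have s0 : chevF4.simple 0 = 33 := by decide
  have s3 : chevF4.simple 3 = 24 := by decide
  have p33 : f4x 33 α ∈ chevF4.posUnipotent K := C.xGL_pos (by decide) (by decide) _
  have p24 : f4x 24 β ∈ chevF4.posUnipotent K := C.xGL_pos (by decide) (by decide) _
  have e1 := coordU_x_self C (i := 0) (by decide) α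
  rw [s0] at e1
  have e2 := coordU_x_other C (i := 0) (by decide) (s := 24) (by decide) (by decide) (by decide) β
  have e3 := coordU_x_other C (i := 3) (by decide) (s := 33) (by decide) (by decide) (by decide) α
  have e4 := coordU_x_self C (i := 3) (by decide) β
  rw [s3] at e4
  constructor
  · rw [coordU_mul C (by decide) p33 p24, e1, e2, add_zero]
  · rw [coordU_mul C (by decide) p33 p24, e3, e4, zero_add]

theorem f4_orth_30 : Orth chevF4 3 0 := by decide +kernel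

/-- Splitting off the part of the first class. -/
theorem f4_split1 [CharP K 2] (e : ℕ) {u : GL chevF4.Idx K} (hu : u ∈ chevF4.posUnipotent K) :
    ∃ y ∈ f4Y1 K, f4n1 K e * (y⁻¹ * u) * (f4n1 K e)⁻¹ ∈ chevF4.posUnipotent K := by
  have C := chevFacts_F4 K
  obtain ⟨c0, c3⟩ := f4Y1_coord (coordU chevF4 K 0 u) (coordU chevF4 K 3 u)
  have hyU : f4x 33 (coordU chevF4 K 0 u) * f4x 24 (coordU chevF4 K 3 u) ∈ chevF4.posUnipotent K :=
    f4Y1_pos ⟨_, _, rfl⟩
  refine ⟨f4x 33 (coordU chevF4 K 0 u) * f4x 24 (coordU chevF4 K 3 u), ⟨_, _, rfl⟩, ?_⟩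
  generalize f4x 33 (coordU chevF4 K 0 u) * f4x 24 (coordU chevF4 K 3 u) = y at c0 c3 hyU ⊢
  have hzU : y⁻¹ * u ∈ chevF4.posUnipotent K := mul_mem (inv_mem hyU) hu
  have z0 : coordU chevF4 K 0 (y⁻¹ * u) = 0 := by
    rw [coordU_mul C (by decide) (inv_mem hyU) hu, coordU_inv C (by decide) hyU, c0, neg_add_cancel]
  have z3 : coordU chevF4 K 3 (y⁻¹ * u) = 0 := by
    rw [coordU_mul C (by decide) (inv_mem hyU) hu, coordU_inv C (by decide) hyU, c3, neg_add_cancel]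
  have h3 := mem_up_of_coordU C (i := 3) (by decide) hzU z3
  have h3' := up_conj_n C (i := 3) (by decide) h3
  have h0 : coordU chevF4 K 0 (f4nS K 3 * (y⁻¹ * u) * (f4nS K 3)⁻¹) = 0 := by
    rw [coordU_conj_n C (i := 3) (k := 0) (by decide) (by decide) f4_orth_30 h3, z0]
  have h0' := mem_up_of_coordU C (i := 0) (by decide) (upSub_le chevF4 K 3 h3') h0
  have h0'' := up_conj_n C (i := 0) (by decide) h0'
  rw [f4n1_eq]
  have e1 : f4nS K 0 * f4nS K 3 * (y⁻¹ * u) * (f4nS K 0 * f4nS K 3)⁻¹ =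
      f4nS K 0 * (f4nS K 3 * (y⁻¹ * u) * (f4nS K 3)⁻¹) * (f4nS K 0)⁻¹ := by group
  rw [e1]
  exact upSub_le chevF4 K 0 h0''

/-- The elements of the first class are conjugated into `V` by an element of `N` mapping the roots of the
class to negative roots. -/
theorem f4_conj_Y1_neg {n : GL chevF4.Idx K} {π : ℕ → ℕ} {c : ℕ → K}
    (hact : RootAct chevF4 K (n : Matrix chevF4.Idx chevF4.Idx K) π c) (h33 : π 33 < 24) (h24 : π 24 < 24)
    {y : GL chevF4.Idx K} (hy : y ∈ f4Y1 K) : n * y * n⁻¹ ∈ chevF4.negUnipotent K := by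
  obtain ⟨α, β, rfl⟩ := hy
  have C := chevFacts_F4 K
  rw [conj_mul_two, f4_conj_x hact (by decide), f4_conj_x hact (by decide)]
  exact mul_mem (C.xGL_neg (hact 33 (by decide)).1 h33 _) (C.xGL_neg (hact 24 (by decide)).1 h24 _)

theorem f4gP_mem_Y1 (e : ℕ) (t : K) : f4gP e t ∈ f4Y1 K := ⟨t ^ e, t, rfl⟩

/-- The fixed elements of the first class. -/
theorem F4Data.fix_Y1 (R : F4Data K e) {y : GL chevF4.Idx K} (hy : y ∈ f4Y1 K) (hfix : R.sg y = y) :
    ∃ t : K, y = f4gP e t := by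
  obtain ⟨α, β, rfl⟩ := hy
  have e1 : R.sg (f4x 33 α * f4x 24 β) = f4x 24 ((α ^ e) ^ 2) * f4x 33 (β ^ e) := by
    rw [R.sg_mul (f4x_mem_group (by decide) _) (f4x_mem_group (by decide) _), R.sg_x (by decide),
      R.sg_x (by decide)]
    show f4x 24 ((α ^ e) ^ 2) * f4x 33 ((β ^ e) ^ 1) = _
    rw [pow_one]
  have e2 : f4x 24 ((α ^ e) ^ 2) * f4x 33 (β ^ e) = f4x 33 (β ^ e) * f4x 24 ((α ^ e) ^ 2) :=
    f4x_comm (K := K) (r := 24) (s := 33) (by decide) (by decide) (by decide) (by decide)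
      (by decide +kernel) _ _
  rw [e1, e2] at hfix
  have h0 := congrArg (coordU chevF4 K 0) hfix
  rw [(f4Y1_coord _ _).1, (f4Y1_coord _ _).1] at h0
  refine ⟨β, ?_⟩
  unfold f4gP
  rw [h0]

theorem f4gP_inj (e : ℕ) : Function.Injective (fun t : K => f4gP e t) := by
  intro t t' h
  have h3 := congrArg (coordU chevF4 K 3) h
  unfold f4gP at h3
  rw [(f4Y1_coord _ _).2, (f4Y1_coord _ _).2] at h3
  exact h3

end Class1

section Class2

variable {K : Type u} [Field K] {e : ℕ}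

/-- The products of root elements of the second class of roots (`a = p₂`, `b = p₃`, `a + b`, `2a + b`). -/
def f4Y2 (K : Type u) [Field K] : Set (GL chevF4.Idx K) :=
  {y | ∃ α β γ δ : K, y = f4x 27 α * f4x 25 β * f4x 28 γ * f4x 30 δ}

theorem f4Y2_pos {y : GL chevF4.Idx K} (hy : y ∈ f4Y2 K) : y ∈ chevF4.posUnipotent K := by
  obtain ⟨α, β, γ, δ, rfl⟩ := hy
  have C := chevFacts_F4 K
  exact mul_mem (mul_mem (mul_mem (C.xGL_pos (by decide) (by decide) _) (C.xGL_pos (by decide) (by decide) _))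
    (C.xGL_pos (by decide) (by decide) _)) (C.xGL_pos (by decide) (by decide) _)

theorem f4Y2_mul [T2 : CharP K 2] {y y' : GL chevF4.Idx K} (hy : y ∈ f4Y2 K) (hy' : y' ∈ f4Y2 K) :
    y * y' ∈ f4Y2 K := by
  obtain ⟨a, b, c, d, rfl⟩ := hy
  obtain ⟨a', b', c', d', rfl⟩ := hy'
  exact ⟨_, _, _, _, b2Rel_pos.mul T2 a b c d a' b' c' d'⟩

theorem f4Y2_27 (t : K) : f4x 27 t ∈ f4Y2 K :=
  ⟨t, 0, 0, 0, by rw [f4x_zero, f4x_zero, f4x_zero, mul_one, mul_one, mul_one]⟩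

theorem f4Y2_25 (t : K) : f4x 25 t ∈ f4Y2 K :=
  ⟨0, t, 0, 0, by rw [f4x_zero, f4x_zero, f4x_zero, mul_one, mul_one, one_mul]⟩

theorem f4Y2_28 (t : K) : f4x 28 t ∈ f4Y2 K :=
  ⟨0, 0, t, 0, by rw [f4x_zero, f4x_zero, f4x_zero, mul_one, mul_one, one_mul]⟩

theorem f4Y2_30 (t : K) : f4x 30 t ∈ f4Y2 K :=
  ⟨0, 0, 0, t, by rw [f4x_zero, f4x_zero, f4x_zero, mul_one, mul_one, one_mul]⟩

/-- Peeling off a fundamental root element. -/
theorem f4_peel {i : ℕ} (hi : i < chevF4.rank) {u : GL chevF4.Idx K} (hu : u ∈ chevF4.posUnipotent K) :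
    ∃ c : K, ∃ v ∈ chevF4.posUnipotent K,
      u = f4x (chevF4.simple i) c * ((f4nS K i)⁻¹ * v * f4nS K i) := by
  have C := chevFacts_F4 K
  obtain ⟨u', hu', e1⟩ := coordU_spec C hi hu
  refine ⟨coordU chevF4 K i u, f4nS K i * u' * (f4nS K i)⁻¹, upSub_le chevF4 K i (up_conj_n C hi hu'), ?_⟩
  have e2 : (f4nS K i)⁻¹ * (f4nS K i * u' * (f4nS K i)⁻¹) * f4nS K i = u' := by group
  rw [e2]
  exact e1

theorem f4_refl_a : chevF4.reflectRoot 2 28 = 27 := by decide +kernel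

theorem f4_refl_b : chevF4.reflectRoot 1 (chevF4.reflectRoot 2 30) = 25 := by decide +kernel

theorem f4_refl_c : chevF4.reflectRoot 2 (chevF4.reflectRoot 1 (chevF4.reflectRoot 2 27)) = 27 := by
  decide +kernel

/-- Splitting off the part of the second class. -/
theorem f4_split2 [CharP K 2] {e : ℕ} (he : e ≠ 0) {u : GL chevF4.Idx K}
    (hu : u ∈ chevF4.posUnipotent K) :
    ∃ y ∈ f4Y2 K, f4n2 K e * (y⁻¹ * u) * (f4n2 K e)⁻¹ ∈ chevF4.posUnipotent K := by
  have C := chevFacts_F4 K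
  obtain ⟨c1, v1, hv1, e1⟩ := f4_peel (i := 2) (by decide) hu
  obtain ⟨c2, v2, hv2, e2⟩ := f4_peel (i := 1) (by decide) hv1
  obtain ⟨c3, v3, hv3, e3⟩ := f4_peel (i := 2) (by decide) hv2
  obtain ⟨c4, v4, hv4, e4⟩ := f4_peel (i := 1) (by decide) hv3
  have s1 : chevF4.simple 1 = 27 := by decide
  have s2 : chevF4.simple 2 = 25 := by decide
  rw [s2] at e1 e3
  rw [s1] at e2 e4
  have h2 : RootAct chevF4 K ((f4nS K 2 : GL chevF4.Idx K) : Matrix chevF4.Idx chevF4.Idx K) _ _ :=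
    rootAct_nGL C.I (i := 2) (by decide)
  have h1 : RootAct chevF4 K ((f4nS K 1 : GL chevF4.Idx K) : Matrix chevF4.Idx chevF4.Idx K) _ _ :=
    rootAct_nGL C.I (i := 1) (by decide)
  have h12 := h1.mul h2
  rw [← Units.val_mul] at h12
  have h212 := h2.mul h12
  rw [← Units.val_mul] at h212
  obtain ⟨d2, k1⟩ : ∃ d : K, (f4nS K 2)⁻¹ * f4x 27 c2 * f4nS K 2 = f4x 28 d := by
    have h := f4_conj_inv_x h2 (r := 28) (by decide) c2
    rw [f4_refl_a] at h
    exact ⟨_, h⟩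
  obtain ⟨d3, k2⟩ : ∃ d : K, (f4nS K 1 * f4nS K 2)⁻¹ * f4x 25 c3 * (f4nS K 1 * f4nS K 2) = f4x 30 d := by
    have h := f4_conj_inv_x h12 (r := 30) (by decide) c3
    simp only [f4_refl_b] at h
    exact ⟨_, h⟩
  obtain ⟨d4, k3⟩ : ∃ d : K, (f4nS K 2 * (f4nS K 1 * f4nS K 2))⁻¹ * f4x 27 c4 *
      (f4nS K 2 * (f4nS K 1 * f4nS K 2)) = f4x 27 d := by
    have h := f4_conj_inv_x h212 (r := 27) (by decide) c4
    simp only [f4_refl_c] at h
    exact ⟨_, h⟩
  have hu_eq : u = f4x 25 c1 * ((f4nS K 2)⁻¹ * f4x 27 c2 * f4nS K 2) *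
      ((f4nS K 1 * f4nS K 2)⁻¹ * f4x 25 c3 * (f4nS K 1 * f4nS K 2)) *
      ((f4nS K 2 * (f4nS K 1 * f4nS K 2))⁻¹ * f4x 27 c4 * (f4nS K 2 * (f4nS K 1 * f4nS K 2))) *
      ((f4nS K 1 * f4nS K 2 * (f4nS K 1 * f4nS K 2))⁻¹ * v4 *
        (f4nS K 1 * f4nS K 2 * (f4nS K 1 * f4nS K 2))) := by
    rw [e1, e2, e3, e4]
    group
  rw [k1, k2, k3] at hu_eq
  refine ⟨f4x 25 c1 * f4x 28 d2 * f4x 30 d3 * f4x 27 d4,
    f4Y2_mul (f4Y2_mul (f4Y2_mul (f4Y2_25 _) (f4Y2_28 _)) (f4Y2_30 _)) (f4Y2_27 _), ?_⟩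
  rw [f4n2_eq he]
  have e5 : f4nS K 1 * f4nS K 2 * (f4nS K 1 * f4nS K 2) *
      ((f4x 25 c1 * f4x 28 d2 * f4x 30 d3 * f4x 27 d4)⁻¹ * u) *
      (f4nS K 1 * f4nS K 2 * (f4nS K 1 * f4nS K 2))⁻¹ = v4 := by
    rw [hu_eq]
    group
  rw [e5]
  exact hv4

/-- The elements of the second class are conjugated into `V` by an element of `N` mapping the roots of the
class to negative roots. -/
theorem f4_conj_Y2_neg {n : GL chevF4.Idx K} {π : ℕ → ℕ} {c : ℕ → K}
    (hact : RootAct chevF4 K (n : Matrix chevF4.Idx chevF4.Idx K) π c) (h27 : π 27 < 24) (h25 : π 25 < 24)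
    (h28 : π 28 < 24) (h30 : π 30 < 24)
    {y : GL chevF4.Idx K} (hy : y ∈ f4Y2 K) : n * y * n⁻¹ ∈ chevF4.negUnipotent K := by
  obtain ⟨α, β, γ, δ, rfl⟩ := hy
  have C := chevFacts_F4 K
  rw [conj_mul_four, f4_conj_x hact (by decide), f4_conj_x hact (by decide), f4_conj_x hact (by decide),
    f4_conj_x hact (by decide)]
  exact mul_mem (mul_mem (mul_mem (C.xGL_neg (hact 27 (by decide)).1 h27 _)
    (C.xGL_neg (hact 25 (by decide)).1 h25 _)) (C.xGL_neg (hact 28 (by decide)).1 h28 _))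
    (C.xGL_neg (hact 30 (by decide)).1 h30 _)

theorem f4Y2_coord (α β γ δ : K) :
    coordU chevF4 K 1 (f4x 27 α * f4x 25 β * f4x 28 γ * f4x 30 δ) = α ∧
    coordU chevF4 K 2 (f4x 27 α * f4x 25 β * f4x 28 γ * f4x 30 δ) = β := by
  have C := chevFacts_F4 K
  have s1 : chevF4.simple 1 = 27 := by decide
  have s2 : chevF4.simple 2 = 25 := by decide
  have p27 : f4x 27 α ∈ chevF4.posUnipotent K := C.xGL_pos (by decide) (by decide) _
  have p25 : f4x 25 β ∈ chevF4.posUnipotent K := C.xGL_pos (by decide) (by decide) _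
  have p28 : f4x 28 γ ∈ chevF4.posUnipotent K := C.xGL_pos (by decide) (by decide) _
  have p30 : f4x 30 δ ∈ chevF4.posUnipotent K := C.xGL_pos (by decide) (by decide) _
  have a1 := coordU_x_self C (i := 1) (by decide) α
  rw [s1] at a1
  have a2 := coordU_x_other C (i := 1) (by decide) (s := 25) (by decide) (by decide) (by decide) β
  have a3 := coordU_x_other C (i := 1) (by decide) (s := 28) (by decide) (by decide) (by decide) γ
  have a4 := coordU_x_other C (i := 1) (by decide) (s := 30) (by decide) (by decide) (by decide) δ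
  have b1 := coordU_x_other C (i := 2) (by decide) (s := 27) (by decide) (by decide) (by decide) α
  have b2 := coordU_x_self C (i := 2) (by decide) β
  rw [s2] at b2
  have b3 := coordU_x_other C (i := 2) (by decide) (s := 28) (by decide) (by decide) (by decide) γ
  have b4 := coordU_x_other C (i := 2) (by decide) (s := 30) (by decide) (by decide) (by decide) δ
  constructor
  · rw [coordU_mul C (by decide) (mul_mem (mul_mem p27 p25) p28) p30,
      coordU_mul C (by decide) (mul_mem p27 p25) p28, coordU_mul C (by decide) p27 p25, a1, a2, a3, a4,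
      add_zero, add_zero, add_zero]
  · rw [coordU_mul C (by decide) (mul_mem (mul_mem p27 p25) p28) p30,
      coordU_mul C (by decide) (mul_mem p27 p25) p28, coordU_mul C (by decide) p27 p25, b1, b2, b3, b4,
      add_zero, add_zero, zero_add]

theorem f4Y2_inj {α β γ δ α' β' γ' δ' : K}
    (h : f4x 27 α * f4x 25 β * f4x 28 γ * f4x 30 δ = f4x 27 α' * f4x 25 β' * f4x 28 γ' * f4x 30 δ') :
    α = α' ∧ β = β' ∧ γ = γ' ∧ δ = δ' := by
  have C := chevFacts_F4 K
  have ha := congrArg (coordU chevF4 K 1) h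
  rw [(f4Y2_coord _ _ _ _).1, (f4Y2_coord _ _ _ _).1] at ha
  have hb := congrArg (coordU chevF4 K 2) h
  rw [(f4Y2_coord _ _ _ _).2, (f4Y2_coord _ _ _ _).2] at hb
  subst ha
  subst hb
  have h2 : f4x 28 γ * f4x 30 δ = f4x 28 γ' * f4x 30 δ' := by
    simp only [mul_assoc] at h
    exact mul_left_cancel (mul_left_cancel h)
  have h3 : f4x 28 (-γ' + γ) = f4x 30 (δ' + -δ) := by
    rw [f4x_add, f4x_add, ← f4x_inv, ← f4x_inv, inv_mul_eq_iff_eq_mul, ← mul_assoc, eq_mul_inv_iff_mul_eq]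
    exact h2
  have hγ : -γ' + γ = 0 := by
    by_contra hne
    have := xGL_label_inj C.I (a := 28) (b := 30) (by decide) (by decide) hne h3
    omega
  rw [hγ, f4x_zero, ← f4x_zero 30] at h3
  have hδ := xGL_inj C.I (a := 30) (by decide) h3
  refine ⟨rfl, rfl, ?_, ?_⟩
  · linear_combination hγ
  · linear_combination hδ

/-- Reordering a product of root elements of the second class. -/
theorem f4Y2_swap [T2 : CharP K 2] (A B C D : K) :
    f4x 25 A * f4x 27 B * f4x 30 C * f4x 28 D =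
      f4x 27 B * f4x 25 A * f4x 28 (B * A + D) * f4x 30 (B ^ 2 * A + C) := by
  calc f4x 25 A * f4x 27 B * f4x 30 C * f4x 28 D
      = f4x 25 A * f4x 27 B * (f4x 30 C * f4x 28 D) := by rw [mul_assoc]
    _ = f4x 27 B * (f4x 25 A * (f4x 28 (B * A) * f4x 30 (B ^ 2 * A))) * (f4x 28 D * f4x 30 C) := by
        rw [b2Rel_pos.ba T2, b2Rel_pos.aab_ab]
    _ = f4x 27 B * f4x 25 A * f4x 28 (B * A) * (f4x 30 (B ^ 2 * A) * f4x 28 D) * f4x 30 C := by
        simp only [mul_assoc]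
    _ = f4x 27 B * f4x 25 A * f4x 28 (B * A) * (f4x 28 D * f4x 30 (B ^ 2 * A)) * f4x 30 C := by
        rw [b2Rel_pos.aab_ab]
    _ = f4x 27 B * f4x 25 A * (f4x 28 (B * A) * f4x 28 D) * (f4x 30 (B ^ 2 * A) * f4x 30 C) := by
        simp only [mul_assoc]
    _ = f4x 27 B * f4x 25 A * f4x 28 (B * A + D) * f4x 30 (B ^ 2 * A + C) := by
        rw [← f4x_add, ← f4x_add]

theorem f4uB_mem_Y2 (e : ℕ) (t s : K) : f4uB e t s ∈ f4Y2 K := ⟨_, _, _, _, rfl⟩

/-- The fixed elements of the second class. -/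
theorem F4Data.fix_Y2 (R : F4Data K e) {y : GL chevF4.Idx K} (hy : y ∈ f4Y2 K) (hfix : R.sg y = y) :
    ∃ t s : K, y = f4uB e t s := by
  obtain ⟨α, β, γ, δ, rfl⟩ := hy
  have T := R.T
  have T2 := T.char2
  have g27 : f4x 27 α ∈ chevF4.group K := f4x_mem_group (by decide) _
  have g25 : f4x 25 β ∈ chevF4.group K := f4x_mem_group (by decide) _
  have g28 : f4x 28 γ ∈ chevF4.group K := f4x_mem_group (by decide) _
  have g30 : f4x 30 δ ∈ chevF4.group K := f4x_mem_group (by decide) _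
  have e1 : R.sg (f4x 27 α * f4x 25 β * f4x 28 γ * f4x 30 δ) =
      f4x 25 ((α ^ e) ^ 2) * f4x 27 (β ^ e) * f4x 30 ((γ ^ e) ^ 2) * f4x 28 (δ ^ e) := by
    rw [R.sg_mul (mul_mem (mul_mem g27 g25) g28) g30, R.sg_mul (mul_mem g27 g25) g28, R.sg_mul g27 g25,
      R.sg_x (by decide), R.sg_x (by decide), R.sg_x (by decide), R.sg_x (by decide)]
    show f4x 25 ((α ^ e) ^ 2) * f4x 27 ((β ^ e) ^ 1) * f4x 30 ((γ ^ e) ^ 2) * f4x 28 ((δ ^ e) ^ 1) = _
    rw [pow_one, pow_one]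
  rw [e1, f4Y2_swap] at hfix
  obtain ⟨h1, h2, h3, -⟩ := f4Y2_inj hfix
  refine ⟨β, δ ^ e, ?_⟩
  unfold f4uB
  rw [T.pow_two_e, h1]
  congr 3
  rw [← h3, h2, pow_succ]

theorem f4uB_inj (e : ℕ) : Function.Injective (fun p : K × K => f4uB e p.1 p.2) := by
  rintro ⟨t, s⟩ ⟨t', s'⟩ h
  unfold f4uB at h
  obtain ⟨-, h2, h3, -⟩ := f4Y2_inj h
  simp only at h2 h3
  subst h2
  rw [Prod.mk.injEq]
  exact ⟨rfl, add_left_cancel h3⟩

end Class2

section Words

variable {K : Type u} [Field K] {e : ℕ}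

/-- The letter `1` stands for `n₁`, any other letter for `n₂`. -/
def f4letN (K : Type u) [Field K] (e : ℕ) (j : ℕ) : GL chevF4.Idx K := if j = 1 then f4n1 K e else f4n2 K e

/-- The permutation of the roots of a letter. -/
def f4letPi (j : ℕ) (s : ℕ) : ℕ := if j = 1 then f4pi1 s else f4pi2 s

/-- The positive roots of the class of a letter. -/
def f4letCls (j : ℕ) : List ℕ := if j = 1 then [33, 24] else [27, 25, 28, 30]

/-- The dimension of the twisted root subgroup of a letter. -/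
def f4letLen (j : ℕ) : ℕ := if j = 1 then 1 else 2

/-- The element of `N ∩ ²F₄` of a word, the head of the list being the rightmost letter. -/
def f4wordN (K : Type u) [Field K] (e : ℕ) : List ℕ → GL chevF4.Idx K
  | [] => 1
  | j :: r => f4wordN K e r * f4letN K e j

/-- The permutation of the roots of a word. -/
def f4wordPi : List ℕ → ℕ → ℕ
  | [], s => s
  | j :: r, s => f4wordPi r (f4letPi j s)

/-- The length of a word as an element of `W(F₄)`, halved. -/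
def f4wordLen : List ℕ → ℕ
  | [] => 0
  | j :: r => f4wordLen r + f4letLen j

/-- The word is reduced: each letter is applied to an element mapping the roots of its class to
positive roots. -/
def f4RedB : List ℕ → Bool
  | [] => true
  | j :: r => f4RedB r && (f4letCls j).all (fun s => decide (f4wordPi (j :: r) s < 24)) &&
      (List.range 48).all (fun s => !(decide (24 ≤ s)) || !(decide (f4wordPi r s < 24)) ||
        decide (24 ≤ f4letPi j s))

theorem f4pi1_invol : ∀ s, s < 48 → f4pi1 (f4pi1 s) = s := by decide +kernel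

theorem f4pi2_invol : ∀ s, s < 48 → f4pi2 (f4pi2 s) = s := by decide +kernel

theorem f4letPi_invol (j : ℕ) : ∀ s, s < 48 → f4letPi j (f4letPi j s) = s := by
  intro s hs
  unfold f4letPi
  by_cases hj : j = 1
  · rw [if_pos hj, if_pos hj]
    exact f4pi1_invol s hs
  · rw [if_neg hj, if_neg hj]
    exact f4pi2_invol s hs

theorem f4letN_mem (e : ℕ) (j : ℕ) : f4letN K e j ∈ twistedF4 K e := by
  unfold f4letN
  by_cases hj : j = 1
  · rw [if_pos hj]
    exact f4n1_mem e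
  · rw [if_neg hj]
    exact f4n2_mem e

theorem f4letN_mono [CharP K 2] {e : ℕ} (he : e ≠ 0) (j : ℕ) : f4letN K e j ∈ chevF4.monomialSubgroup K := by
  unfold f4letN
  by_cases hj : j = 1
  · rw [if_pos hj]
    exact f4n1_mono e
  · rw [if_neg hj]
    exact f4n2_mono he

theorem f4letN_rootAct [CharP K 2] {e : ℕ} (he : e ≠ 0) (j : ℕ) :
    ∃ c : ℕ → K, RootAct chevF4 K ((f4letN K e j : GL chevF4.Idx K) : Matrix chevF4.Idx chevF4.Idx K)
      (f4letPi j) c := by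
  by_cases hj : j = 1
  · have e1 : f4letN K e j = f4n1 K e := if_pos hj
    have e2 : f4letPi j = f4pi1 := funext fun s => if_pos hj
    rw [e1, e2]
    exact f4n1_rootAct e
  · have e1 : f4letN K e j = f4n2 K e := if_neg hj
    have e2 : f4letPi j = f4pi2 := funext fun s => if_neg hj
    rw [e1, e2]
    exact f4n2_rootAct he

theorem f4wordN_mem (e : ℕ) : ∀ w : List ℕ, f4wordN K e w ∈ twistedF4 K e
  | [] => one_mem _
  | j :: r => mul_mem (f4wordN_mem e r) (f4letN_mem e j)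

theorem f4wordN_mono [CharP K 2] {e : ℕ} (he : e ≠ 0) :
    ∀ w : List ℕ, f4wordN K e w ∈ chevF4.monomialSubgroup K
  | [] => one_mem _
  | j :: r => mul_mem (f4wordN_mono he r) (f4letN_mono he j)

theorem f4wordN_rootAct [CharP K 2] {e : ℕ} (he : e ≠ 0) : ∀ w : List ℕ,
    ∃ c : ℕ → K, RootAct chevF4 K ((f4wordN K e w : GL chevF4.Idx K) : Matrix chevF4.Idx chevF4.Idx K)
      (f4wordPi w) c
  | [] => ⟨_, rootAct_one⟩
  | j :: r => by
    obtain ⟨c', h'⟩ := f4wordN_rootAct he r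
    obtain ⟨cm, hm⟩ := f4letN_rootAct (K := K) he j
    have h := h'.mul hm
    rw [← Units.val_mul] at h
    exact ⟨_, h⟩

/-- The twisted root elements of a letter. -/
def f4letX (K : Type u) [Field K] (e : ℕ) (j : ℕ) : Set (GL chevF4.Idx K) :=
  if j = 1 then Set.range (fun t : K => f4gP e t) else Set.range (fun p : K × K => f4uB e p.1 p.2)

theorem f4letX_card (e : ℕ) (j : ℕ) : Nat.card ↥(f4letX K e j) = Nat.card K ^ f4letLen j := by
  unfold f4letX f4letLen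
  by_cases hj : j = 1
  · rw [if_pos hj, if_pos hj, pow_one]
    exact Nat.card_congr (Equiv.ofInjective _ (f4gP_inj e)).symm
  · rw [if_neg hj, if_neg hj, pow_two, ← Nat.card_prod]
    exact Nat.card_congr (Equiv.ofInjective _ (f4uB_inj e)).symm

/-- An element of `N` mapping the positive roots to negative roots conjugates `U` into `V`. -/
theorem f4_conj_pos_neg {n : GL chevF4.Idx K} {π : ℕ → ℕ} {c : ℕ → K}
    (hact : RootAct chevF4 K (n : Matrix chevF4.Idx chevF4.Idx K) π c)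
    (hπ : ∀ s, 24 ≤ s → s < 48 → π s < 24) :
    ∀ u ∈ chevF4.posUnipotent K, n * u * n⁻¹ ∈ chevF4.negUnipotent K := by
  have C := chevFacts_F4 K
  have key : ∀ w ∈ Subgroup.closure {g : GL chevF4.Idx K | ∃ (r : ℕ) (t : K), chevF4.IsPosRoot r ∧
      (g : Matrix chevF4.Idx chevF4.Idx K) = chevF4.x K r t}, n * w * n⁻¹ ∈ chevF4.negUnipotent K := by
    intro w hw
    induction hw using Subgroup.closure_induction with
    | mem x hx =>
      obtain ⟨r, t, hr, hx⟩ := hx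
      obtain ⟨hr1, hr2⟩ := (C.I.hU.pos_iff r).mp hr
      have hx' : x = f4x r t := Units.ext hx
      rw [hx', f4_conj_x hact hr2]
      exact C.xGL_neg (hact r hr2).1 (hπ r hr1 hr2) _
    | one =>
      rw [mul_one, mul_inv_cancel]
      exact one_mem _
    | mul x y _ _ hx hy =>
      have e1 : n * (x * y) * n⁻¹ = (n * x * n⁻¹) * (n * y * n⁻¹) := by group
      rw [e1]
      exact mul_mem hx hy
    | inv x _ hx =>
      have e1 : n * x⁻¹ * n⁻¹ = (n * x * n⁻¹)⁻¹ := by group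
      rw [e1]
      exact inv_mem hx
  exact fun u hu => key u hu

/-- The step of the cell decomposition, for a class of roots. -/
theorem F4Data.cell_class (R : F4Data K e) {m n' : GL chevF4.Idx K} {πm π' : ℕ → ℕ} {cm c' : ℕ → K}
    (hmΓ : m ∈ twistedF4 K e) (hmN : m ∈ chevF4.monomialSubgroup K)
    (hn'N : n' ∈ chevF4.monomialSubgroup K)
    (hactm : RootAct chevF4 K (m : Matrix chevF4.Idx chevF4.Idx K) πm cm)
    (hact' : RootAct chevF4 K (n' : Matrix chevF4.Idx chevF4.Idx K) π' c')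
    (hinv : ∀ s, s < 48 → πm (πm s) = s)
    (hred : ∀ s, 24 ≤ s → s < 48 → π' s < 24 → 24 ≤ πm s)
    (Y X : Set (GL chevF4.Idx K))
    (hY : ∀ u ∈ chevF4.posUnipotent K, ∃ y ∈ Y, m * (y⁻¹ * u) * m⁻¹ ∈ chevF4.posUnipotent K)
    (hYU : ∀ y ∈ Y, y ∈ chevF4.posUnipotent K)
    (hYV : ∀ y ∈ Y, m * y * m⁻¹ ∈ chevF4.negUnipotent K)
    (hYV' : ∀ y ∈ Y, (n' * m) * y * (n' * m)⁻¹ ∈ chevF4.negUnipotent K)
    (hXY : ∀ x ∈ X, x ∈ Y) (hXΓ : ∀ x ∈ X, x ∈ twistedF4 K e)
    (hfixY : ∀ y ∈ Y, R.sg y = y → y ∈ X) :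
    Nonempty (↥X × ↥(cellA (chevF4.posUnipotent K) (chevF4.negUnipotent K) R.fix n') ≃
      ↥(cellA (chevF4.posUnipotent K) (chevF4.negUnipotent K) R.fix (n' * m))) ∧
    ((∀ v ∈ cellA (chevF4.posUnipotent K) (chevF4.negUnipotent K) R.fix n', v ∈ twistedF4 K e) →
      ∀ u ∈ cellA (chevF4.posUnipotent K) (chevF4.negUnipotent K) R.fix (n' * m), u ∈ twistedF4 K e) := by
  obtain ⟨h1, h2⟩ := cell_step (chevF4.posUnipotent K) (chevF4.negUnipotent K) R.fix
    (fun g hu hv => f4_pos_inf_neg hu hv) X (fun x hx => hYU x (hXY x hx))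
    (fun x hx => R.twisted_le_fix (hXΓ x hx)) (R.twisted_le_fix hmΓ)
    (fun u hu hfix => by
      obtain ⟨y, hy, hfy, hyu⟩ := R.class_split hmΓ Y hY hYU hYV hu hfix.2
      exact ⟨y, hfixY y hy hfy, hyu⟩)
    (fun x hx => hYV' x (hXY x hx)) (fun x hx => hYV x (hXY x hx))
    (fun v hv hvneg => f4_conj_inv_pos hn'N hmN hact' hactm hinv hred hv hvneg)
  exact ⟨h1, fun hv => h2 (twistedF4 K e) hmΓ hXΓ hv⟩

theorem f4pi1_cls : f4pi1 33 < 24 ∧ f4pi1 24 < 24 := by decide +kernel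

theorem f4pi2_cls : f4pi2 27 < 24 ∧ f4pi2 25 < 24 ∧ f4pi2 28 < 24 ∧ f4pi2 30 < 24 := by decide +kernel

/-- The step of the cell decomposition along a reduced word. -/
theorem F4Data.cell_letter (R : F4Data K e) (j : ℕ) (r : List ℕ)
    (h1 : ∀ s ∈ f4letCls j, f4wordPi (j :: r) s < 24)
    (h2 : ∀ s, 24 ≤ s → s < 48 → f4wordPi r s < 24 → 24 ≤ f4letPi j s) :
    Nonempty (↥(f4letX K e j) ×
        ↥(cellA (chevF4.posUnipotent K) (chevF4.negUnipotent K) R.fix (f4wordN K e r)) ≃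
      ↥(cellA (chevF4.posUnipotent K) (chevF4.negUnipotent K) R.fix (f4wordN K e (j :: r)))) ∧
    ((∀ v ∈ cellA (chevF4.posUnipotent K) (chevF4.negUnipotent K) R.fix (f4wordN K e r),
        v ∈ twistedF4 K e) →
      ∀ u ∈ cellA (chevF4.posUnipotent K) (chevF4.negUnipotent K) R.fix (f4wordN K e (j :: r)),
        u ∈ twistedF4 K e) := by
  have T := R.T
  have := T.char2
  have he := T.e_ne_zero
  obtain ⟨c', hact'⟩ := f4wordN_rootAct (K := K) he r
  obtain ⟨cm, hactm⟩ := f4letN_rootAct (K := K) he j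
  obtain ⟨c'', hact''⟩ := f4wordN_rootAct (K := K) he (j :: r)
  have hn'N := f4wordN_mono (K := K) he r
  by_cases hj : j = 1
  · have e1 : f4letN K e j = f4n1 K e := if_pos hj
    have e2 : f4letPi j = f4pi1 := funext fun s => if_pos hj
    have e3 : f4letX K e j = Set.range (fun t : K => f4gP e t) := if_pos hj
    have e4 : f4letCls j = [33, 24] := if_pos hj
    have e5 : f4wordN K e (j :: r) = f4wordN K e r * f4n1 K e := by
      show f4wordN K e r * f4letN K e j = _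
      rw [e1]
    rw [e4] at h1
    rw [e2] at h2 hactm
    rw [e1] at hactm
    rw [e5] at hact'' ⊢
    rw [e3]
    refine R.cell_class (f4n1_mem e) (f4n1_mono e) hn'N hactm hact' f4pi1_invol h2 (f4Y1 K) _
      (fun u hu => f4_split1 e hu) (fun y hy => f4Y1_pos hy)
      (fun y hy => f4_conj_Y1_neg hactm f4pi1_cls.1 f4pi1_cls.2 hy)
      (fun y hy => f4_conj_Y1_neg hact'' (h1 33 (by simp)) (h1 24 (by simp)) hy) ?_ ?_ ?_
    · rintro x ⟨t, rfl⟩
      exact f4gP_mem_Y1 e t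
    · rintro x ⟨t, rfl⟩
      exact f4gP_mem e t
    · intro y hy hfy
      obtain ⟨t, rfl⟩ := R.fix_Y1 hy hfy
      exact ⟨t, rfl⟩
  · have e1 : f4letN K e j = f4n2 K e := if_neg hj
    have e2 : f4letPi j = f4pi2 := funext fun s => if_neg hj
    have e3 : f4letX K e j = Set.range (fun p : K × K => f4uB e p.1 p.2) := if_neg hj
    have e4 : f4letCls j = [27, 25, 28, 30] := if_neg hj
    have e5 : f4wordN K e (j :: r) = f4wordN K e r * f4n2 K e := by
      show f4wordN K e r * f4letN K e j = _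
      rw [e1]
    rw [e4] at h1
    rw [e2] at h2 hactm
    rw [e1] at hactm
    rw [e5] at hact'' ⊢
    rw [e3]
    refine R.cell_class (f4n2_mem e) (f4n2_mono he) hn'N hactm hact' f4pi2_invol h2 (f4Y2 K) _
      (fun u hu => f4_split2 he hu) (fun y hy => f4Y2_pos hy)
      (fun y hy => f4_conj_Y2_neg hactm f4pi2_cls.1 f4pi2_cls.2.1 f4pi2_cls.2.2.1 f4pi2_cls.2.2.2 hy)
      (fun y hy => f4_conj_Y2_neg hact'' (h1 27 (by simp)) (h1 25 (by simp)) (h1 28 (by simp))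
        (h1 30 (by simp)) hy) ?_ ?_ ?_
    · rintro x ⟨p, rfl⟩
      exact f4uB_mem_Y2 e p.1 p.2
    · rintro x ⟨p, rfl⟩
      exact f4uB_mem e p.1 p.2
    · intro y hy hfy
      obtain ⟨t, s, rfl⟩ := R.fix_Y2 hy hfy
      exact ⟨(t, s), rfl⟩

/-- The cell of a reduced word lies in `²F₄` and has `q ^ ℓ` elements. -/
theorem F4Data.cell_word (R : F4Data K e) : ∀ w : List ℕ, f4RedB w = true →
    Nat.card ↥(cellA (chevF4.posUnipotent K) (chevF4.negUnipotent K) R.fix (f4wordN K e w)) =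
        Nat.card K ^ f4wordLen w ∧
      ∀ u ∈ cellA (chevF4.posUnipotent K) (chevF4.negUnipotent K) R.fix (f4wordN K e w),
        u ∈ twistedF4 K e
  | [], _ => by
    have hc : cellA (chevF4.posUnipotent K) (chevF4.negUnipotent K) R.fix (f4wordN K e []) = {1} := by
      ext u
      constructor
      · rintro ⟨hu, -, hv⟩
        have e1 : f4wordN K e [] * u * (f4wordN K e [])⁻¹ = u := by
          show 1 * u * 1⁻¹ = u
          group
        rw [e1] at hv
        exact f4_pos_inf_neg hu hv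
      · rintro rfl
        refine ⟨one_mem _, one_mem _, ?_⟩
        rw [mul_one, mul_inv_cancel]
        exact one_mem _
    rw [hc]
    refine ⟨?_, ?_⟩
    · show Nat.card ↥({1} : Set (GL chevF4.Idx K)) = Nat.card K ^ 0
      rw [pow_zero, Nat.card_coe_set_eq, Set.ncard_singleton]
    · rintro u rfl
      exact one_mem _
  | j :: r, h => by
    have h' : (f4RedB r && (f4letCls j).all (fun s => decide (f4wordPi (j :: r) s < 24)) &&
      (List.range 48).all (fun s => !(decide (24 ≤ s)) || !(decide (f4wordPi r s < 24)) ||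
        decide (24 ≤ f4letPi j s))) = true := h
    rw [Bool.and_eq_true, Bool.and_eq_true, List.all_eq_true, List.all_eq_true] at h'
    obtain ⟨⟨hr, hA⟩, hB⟩ := h'
    obtain ⟨ih1, ih2⟩ := R.cell_word r hr
    obtain ⟨⟨E⟩, hΓ⟩ := R.cell_letter j r (fun s hs => of_decide_eq_true (hA s hs)) (by
      intro s hs1 hs2 hs3
      have := hB s (List.mem_range.mpr hs2)
      simpa [hs1, hs3] using this)
    refine ⟨?_, hΓ ih2⟩
    rw [← Nat.card_congr E, Nat.card_prod, f4letX_card, ih1, ← pow_add]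
    show Nat.card K ^ (f4letLen j + f4wordLen r) = Nat.card K ^ (f4wordLen r + f4letLen j)
    rw [add_comm]

/-- The word of the longest element. -/
def f4w0 : List ℕ := [2, 1, 2, 1, 2, 1, 2, 1]

theorem f4w0_red : f4RedB f4w0 = true := by decide +kernel

theorem f4w0_pi : ∀ s, 24 ≤ s → s < 48 → f4wordPi f4w0 s < 24 := by decide +kernel

theorem f4w0_len : f4wordLen f4w0 = 12 := by decide

/-- `|U ∩ ²F₄| = q ^ 12`. -/
theorem F4Data.card_pos (R : F4Data K e) :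
    Nat.card ↥(chevF4.posUnipotent K ⊓ twistedF4 K e) = Nat.card K ^ 12 := by
  have T := R.T
  have := T.char2
  have he := T.e_ne_zero
  obtain ⟨h1, h2⟩ := R.cell_word f4w0 f4w0_red
  obtain ⟨c, hact⟩ := f4wordN_rootAct (K := K) he f4w0
  rw [f4w0_len] at h1
  rw [← h1]
  refine Nat.card_congr (Equiv.subtypeEquivRight fun u => ⟨?_, ?_⟩)
  · rintro ⟨hu, hΓ⟩
    exact ⟨hu, R.twisted_le_fix hΓ, f4_conj_pos_neg hact f4w0_pi u hu⟩
  · intro hu
    exact ⟨hu.1, h2 u hu⟩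

end Words

end Cfsg.Agent.Lib.helper23
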