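import Cfsg.Agent.Lib.helper22.ChevTri
import Cfsg.Prelude.Def_ChevF4
import Mathlib.LinearAlgebra.Matrix.CharP

set_option autoImplicit false
set_option maxRecDepth 100000

/-!
# The exponent of the unipotent subgroup of `F₄` in characteristic 2

The adjoint module is graded by the height of the roots (23 levels), and the positive root elements raise
the level, so `(u - 1) ^ 23 = 0` and `u ^ 32 = 1` for `u ∈ U`.
-/

namespace Cfsg.Agent.Lib.helper23

open Cfsg Cfsg.Lie Cfsg.Agent.Lib.helper22

universe u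

/-- The heights of the roots of `F₄`, shifted by 11. -/
def f4lvlL : List ℕ :=
  [0, 1, 2, 3, 4, 5, 6, 4, 5, 6, 7, 7, 8, 9, 10, 6, 7, 8, 8, 9, 10, 9, 10, 10, 12, 12, 13, 12, 13, 14, 14, 15,
    16, 12, 13, 14, 15, 15, 16, 17, 18, 16, 17, 18, 19, 20, 21, 22]

/-- The level of a coordinate of the adjoint module. -/
def f4lvl : chevF4.Idx → ℕ
  | Sum.inl _ => 11
  | Sum.inr s => f4lvlL.getD s.val 0

theorem f4lvlL_le : ∀ s, s < 48 → f4lvlL.getD s 0 ≤ 22 := by decide

theorem f4lvl_le (x : chevF4.Idx) : f4lvl x ≤ 22 := by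
  rcases x with i | s
  · show 11 ≤ 22
    omega
  · exact f4lvlL_le s.val s.isLt

/-- The table condition making `x_r(t) - 1` raise the level. -/
theorem f4lvlOK : ∀ r, r < 48 → chevF4.IsPosRoot r →
    11 < f4lvlL.getD r 0 ∧ f4lvlL.getD (chevF4.neg r) 0 < 11 ∧
      ∀ e ∈ (chevF4.chain.getD r #[]).toList, ∀ q ∈ e.2.toList,
        f4lvlL.getD e.1 0 < f4lvlL.getD q.1 0 := by decide +kernel

section Exp

variable {K : Type u} [Field K]

theorem f4_xMat_sub_one_triK (r : Fin chevF4.nroots) (hr : chevF4.IsPosRoot r.val) (t : K) :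
    TriK f4lvl 1 (chevF4.xMat K r t - 1) := by
  obtain ⟨h1, h2, h3⟩ := f4lvlOK r.val r.isLt hr
  intro x z hne
  rw [Matrix.sub_apply, Matrix.one_apply] at hne
  rcases z with i₀ | s₀ <;> rcases x with i₁ | u
  · exfalso
    apply hne
    rw [xMat_inl_inl]
    by_cases h : i₁ = i₀
    · simp [h]
    · have h' : (Sum.inl i₁ : chevF4.Idx) ≠ Sum.inl i₀ := fun hh => h (Sum.inl.inj hh)
      simp [h, h']
  · rw [xMat_inr_inl] at hne
    by_cases hu : u = r
    · subst hu
      show 11 + 1 ≤ f4lvlL.getD u.val 0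
      omega
    · exfalso; apply hne; simp [hu]
  · rw [xMat_inl_inr] at hne
    by_cases hs1 : s₀ = r
    · exfalso; apply hne; simp [hs1]
    · by_cases hs2 : s₀.val = chevF4.neg r.val
      · show f4lvlL.getD s₀.val 0 + 1 ≤ 11
        rw [hs2]
        omega
      · exfalso; apply hne; simp [hs1, hs2]
  · rw [xMat_inr_inr] at hne
    by_cases hs1 : s₀ = r
    · exfalso
      apply hne
      rw [if_pos hs1]
      by_cases hu : u = r
      · simp [hu, hs1]
      · have h' : (Sum.inr u : chevF4.Idx) ≠ Sum.inr s₀ := fun hh => hu ((Sum.inr.inj hh).trans hs1)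
        simp [hu, h']
    · rw [if_neg hs1] at hne
      by_cases hs2 : s₀.val = chevF4.neg r.val
      · rw [if_pos hs2] at hne
        by_cases hu : u = s₀
        · exfalso; apply hne; simp [hu]
        · have h' : (Sum.inr u : chevF4.Idx) ≠ Sum.inr s₀ := fun hh => hu (Sum.inr.inj hh)
          rw [if_neg hu, if_neg h', sub_zero] at hne
          by_cases hu2 : u = r
          · show f4lvlL.getD s₀.val 0 + 1 ≤ f4lvlL.getD u.val 0
            rw [hs2, hu2]
            omega
          · exfalso; apply hne; simp [hu2]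
      · rw [if_neg hs2] at hne
        by_cases hu : u = s₀
        · exfalso
          apply hne
          have hnil : chevF4.chainCoeff r.val s₀.val u.val = [] := by
            by_contra hc
            obtain ⟨e, he, hes, q, hq, hqu⟩ := chainCoeff_ne_nil chevF4 hc
            have := h3 e he q hq
            rw [hes, hqu, hu] at this
            exact lt_irrefl _ this
          subst hu
          simp [hnil]
        · have h' : (Sum.inr u : chevF4.Idx) ≠ Sum.inr s₀ := fun hh => hu (Sum.inr.inj hh)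
          rw [if_neg hu, if_neg h', sub_zero, zero_add] at hne
          obtain ⟨e, he, hes, q, hq, hqu⟩ := chainCoeff_ne_nil chevF4 (sum_chainCoeff_ne_zero hne)
          have := h3 e he q hq
          rw [hes, hqu] at this
          exact Nat.succ_le_of_lt this

/-- The elements of `U` raise the level. -/
theorem f4_pos_le_lvl : chevF4.posUnipotent K ≤ uniK K f4lvl 0 := by
  unfold ChevalleyDatum.posUnipotent
  rw [Subgroup.closure_le]
  rintro g ⟨r, t, hr, hg⟩
  show TriK f4lvl 1 ((g : Matrix chevF4.Idx chevF4.Idx K) - 1)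
  rw [hg, x_eq chevF4 K ⟨r, hr.1⟩ t]
  exact f4_xMat_sub_one_triK ⟨r, hr.1⟩ hr t

/-- In characteristic 2, the elements of `U` have order dividing 32. -/
theorem f4_pos_pow32 [CharP K 2] {u : GL chevF4.Idx K} (hu : u ∈ chevF4.posUnipotent K) : u ^ 32 = 1 := by
  have h1 : TriK f4lvl 1 ((u : Matrix chevF4.Idx chevF4.Idx K) - 1) := f4_pos_le_lvl hu
  have h23 := h1.pow 23
  have hz : ((u : Matrix chevF4.Idx chevF4.Idx K) - 1) ^ 23 = 0 := by
    ext x z
    by_contra hne
    have h2 := h23 x z hne
    have hx := f4lvl_le x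
    omega
  have : Fact (Nat.Prime 2) := ⟨Nat.prime_two⟩
  have : Nonempty chevF4.Idx := ⟨Sum.inr ⟨0, by decide⟩⟩
  apply Units.ext
  rw [Units.val_pow_eq_pow_val, Units.val_one]
  have e1 : (u : Matrix chevF4.Idx chevF4.Idx K) = ((u : Matrix chevF4.Idx chevF4.Idx K) - 1) + 1 :=
    (sub_add_cancel _ _).symm
  have e2 : (32 : ℕ) = 2 ^ 5 := by norm_num
  have e3 : ((u : Matrix chevF4.Idx chevF4.Idx K) - 1) ^ 2 ^ 5 = 0 := by
    have e4 : (2 : ℕ) ^ 5 = 23 + 9 := by norm_num
    rw [e4, pow_add, hz, zero_mul]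
  rw [e1, e2, add_pow_char_pow_of_commute _ _ (Commute.one_right _), e3, one_pow, zero_add]

end Exp

end Cfsg.Agent.Lib.helper23
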