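import Mathlib.GroupTheory.Sylow
import Mathlib.GroupTheory.SpecificGroups.Alternating
import Mathlib.GroupTheory.Perm.ViaEmbedding
import Mathlib.Tactic.NormNum.Prime

set_option autoImplicit false

/-!
# Sections of a group in which the normalizers of the 7-subgroups act on them with exponent 8

If, in a finite group `G`, the 8th power of every element normalizing a 7-subgroup centralizes it, then no section
of `G` contains a Frobenius group of order 21; in particular no section of `G` is an alternating group of degree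
at least 7.
-/

namespace Cfsg.Agent.Lib.helper23

/-- The normalizer of every `p`-subgroup acts on it with exponent dividing `k`. -/
def NormExp (G : Type*) [Group G] (p k : ℕ) : Prop :=
  ∀ P : Subgroup G, IsPGroup p P → ∀ x : G, (∀ h ∈ P, x * h * x⁻¹ ∈ P) →
    ∀ h ∈ P, x ^ k * h * (x ^ k)⁻¹ = h

theorem NormExp.subgroup {G : Type*} [Group G] {p k : ℕ} (hG : NormExp G p k) (H : Subgroup G) :
    NormExp ↥H p k := by
  intro P hP x hx h hh
  have h1 := hG (P.map H.subtype) (hP.map H.subtype) (x : G) (by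
    rintro _ ⟨z, hz, rfl⟩
    exact ⟨x * z * x⁻¹, hx z hz, rfl⟩) (h : G) ⟨h, hh, rfl⟩
  exact Subtype.ext h1

theorem conj_pow_two_iter {A : Type*} [Group A] {α c : A} (h : α * c * α⁻¹ = c ^ 2) :
    ∀ k : ℕ, α ^ k * c * (α ^ k)⁻¹ = c ^ (2 ^ k) := by
  intro k
  induction k with
  | zero => simp
  | succ k ih =>
    have e1 : α ^ (k + 1) * c * (α ^ (k + 1))⁻¹ = α * (α ^ k * c * (α ^ k)⁻¹) * α⁻¹ := by
      rw [pow_succ']
      group
    rw [e1, ih, ← conj_pow, h, ← pow_mul, pow_succ']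

/-- The key step, when the image normalizes `⟨c⟩`. -/
theorem no_frob_aux {G A : Type*} [Group G] [Finite G] [Group A] (hG : NormExp G 7 8)
    (φ : G →* A) (c : A) (hnorm : ∀ g : G, ∀ a ∈ Subgroup.zpowers c, φ g * a * (φ g)⁻¹ ∈ Subgroup.zpowers c)
    (y x : G) (hy : φ y = c) (hc7 : c ^ 7 = 1) (hx : φ x * c * (φ x)⁻¹ = c ^ 2) : c = 1 := by
  classical
  by_contra hc1
  have : Fact (Nat.Prime 7) := ⟨by norm_num⟩
  have hord : orderOf c = 7 := orderOf_eq_prime hc7 hc1
  let Q : Subgroup G := (Subgroup.zpowers c).comap φ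
  have hQn : Q.Normal := ⟨fun n hn g => by
    show φ (g * n * g⁻¹) ∈ Subgroup.zpowers c
    rw [map_mul, map_mul, map_inv]
    exact hnorm g _ hn⟩
  -- the 7-part of `y`
  have hoy : orderOf y ≠ 0 := (orderOf_pos y).ne'
  obtain ⟨a, b, hb, hab⟩ := Nat.exists_eq_pow_mul_and_not_dvd hoy 7 (by norm_num)
  have hyb : (y ^ b) ^ 7 ^ a = 1 := by
    rw [← pow_mul, mul_comm, ← hab]
    exact pow_orderOf_eq_one y
  have hφyb : φ (y ^ b) = c ^ b := by rw [map_pow, hy]
  have hybQ : y ^ b ∈ Q := by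
    show φ (y ^ b) ∈ Subgroup.zpowers c
    rw [hφyb]
    exact Subgroup.pow_mem _ (Subgroup.mem_zpowers c) b
  obtain ⟨j, -, hj⟩ := (Nat.dvd_prime_pow (by norm_num : Nat.Prime 7)).mp (orderOf_dvd_of_pow_eq_one hyb)
  have hz : IsPGroup 7 ↥(Subgroup.zpowers (⟨y ^ b, hybQ⟩ : ↥Q)) :=
    IsPGroup.of_card (n := j) (by
      rw [Nat.card_zpowers, ← hj]
      exact (Subgroup.orderOf_mk (y ^ b) hybQ))
  obtain ⟨P, hP⟩ := hz.exists_le_sylow
  have hF := Sylow.normalizer_sup_eq_top P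
  have hxmem : x ∈ Subgroup.normalizer (((P : Subgroup ↥Q).map Q.subtype : Subgroup G) : Set G) ⊔ Q := by
    rw [hF]
    exact Subgroup.mem_top x
  obtain ⟨α, hα, β, hβ, hαβ⟩ := Subgroup.mem_sup_of_normal_right.mp hxmem
  have hP7 : IsPGroup 7 ↥((P : Subgroup ↥Q).map Q.subtype) := P.isPGroup'.map Q.subtype
  have hαn : ∀ h ∈ (P : Subgroup ↥Q).map Q.subtype, α * h * α⁻¹ ∈ (P : Subgroup ↥Q).map Q.subtype :=
    fun h hh => (Subgroup.mem_normalizer_iff.mp hα h).mp hh
  have hyP : y ^ b ∈ (P : Subgroup ↥Q).map Q.subtype :=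
    ⟨⟨y ^ b, hybQ⟩, hP (Subgroup.mem_zpowers _), rfl⟩
  have h8 := hG _ hP7 α hαn (y ^ b) hyP
  have h8' := congrArg φ h8
  rw [map_mul, map_mul, map_inv, map_pow, hφyb] at h8'
  -- `φ α` acts on `c` as `φ x`
  obtain ⟨i, hi⟩ := Subgroup.mem_zpowers_iff.mp (show φ β ∈ Subgroup.zpowers c from hβ)
  have hφα : φ α = φ x * (c ^ i)⁻¹ := by
    rw [← hαβ, map_mul, ← hi]
    group
  have hαc : φ α * c * (φ α)⁻¹ = c ^ 2 := by
    rw [hφα, ← hx]
    have e1 : (c ^ i)⁻¹ * c * c ^ i = c := by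
      rw [mul_assoc, (Commute.self_zpow c i).eq, inv_mul_cancel_left]
    calc φ x * (c ^ i)⁻¹ * c * (φ x * (c ^ i)⁻¹)⁻¹ = φ x * ((c ^ i)⁻¹ * c * c ^ i) * (φ x)⁻¹ := by group
      _ = φ x * c * (φ x)⁻¹ := by rw [e1]
  have h9 := conj_pow_two_iter hαc 8
  rw [← conj_pow, h9, ← pow_mul] at h8'
  have h10 : c ^ (2 ^ 8 * b - b) = 1 := by
    have hle : b ≤ 2 ^ 8 * b := Nat.le_mul_of_pos_left b (by norm_num)
    have e2 : c ^ (2 ^ 8 * b) = c ^ (2 ^ 8 * b - b) * c ^ b := by
      rw [← pow_add, Nat.sub_add_cancel hle]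
    rw [e2] at h8'
    exact mul_right_cancel (h8'.trans (one_mul _).symm)
  have h11 := orderOf_dvd_of_pow_eq_one h10
  rw [hord] at h11
  have e3 : 2 ^ 8 * b - b = 255 * b := by omega
  rw [e3] at h11
  rcases (Nat.Prime.dvd_mul (by norm_num : Nat.Prime 7)).mp h11 with h | h
  · norm_num at h
  · exact hb h

/-- No section of `G` contains elements `c ≠ 1`, `d` with `c ^ 7 = 1` and `d c d⁻¹ = c ^ 2`. -/
theorem no_frob_section {G A : Type*} [Group G] [Finite G] [Group A] (hG : NormExp G 7 8)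
    (φ : G →* A) (c d : A) (y x : G) (hy : φ y = c) (hx : φ x = d) (hc7 : c ^ 7 = 1)
    (hd : d * c * d⁻¹ = c ^ 2) : c = 1 := by
  let M : Subgroup G := (Subgroup.normalizer (Subgroup.zpowers c : Set A)).comap φ
  have hyM : y ∈ M := by
    show φ y ∈ Subgroup.normalizer (Subgroup.zpowers c : Set A)
    rw [hy]
    exact Subgroup.le_normalizer (Subgroup.mem_zpowers c)
  have hdc4 : d⁻¹ * c * d = c ^ 4 := by
    have e1 : d * c ^ 4 * d⁻¹ = c := by
      rw [← conj_pow, hd, ← pow_mul]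
      have : c ^ (2 * 4) = c ^ 7 * c := by rw [← pow_succ]
      rw [this, hc7, one_mul]
    have e2 : d⁻¹ * c * d = d⁻¹ * (d * c ^ 4 * d⁻¹) * d := by rw [e1]
    rw [e2]
    group
  have hxM : x ∈ M := by
    show φ x ∈ Subgroup.normalizer (Subgroup.zpowers c : Set A)
    rw [hx, Subgroup.mem_normalizer_iff]
    intro h
    constructor
    · intro hh
      obtain ⟨i, rfl⟩ := Subgroup.mem_zpowers_iff.mp hh
      have e1 : d * c ^ i * d⁻¹ = (c ^ 2) ^ i := by
        rw [← hd, conj_zpow]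
      rw [e1]
      exact Subgroup.zpow_mem _ (Subgroup.pow_mem _ (Subgroup.mem_zpowers c) 2) i
    · intro hh
      obtain ⟨i, hi⟩ := Subgroup.mem_zpowers_iff.mp hh
      have e1 : h = (c ^ 4) ^ i := by
        rw [← hdc4]
        have e2 : (d⁻¹ * c * d) ^ i = d⁻¹ * c ^ i * d := by
          have := conj_zpow (a := d⁻¹) (b := c) (i := i)
          rw [inv_inv] at this
          exact this
        rw [e2, hi]
        group
      rw [e1]
      exact Subgroup.zpow_mem _ (Subgroup.pow_mem _ (Subgroup.mem_zpowers c) 4) i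
  refine no_frob_aux (hG.subgroup M) (φ.comp M.subtype) c ?_ ⟨y, hyM⟩ ⟨x, hxM⟩ hy hc7 ?_
  · intro g a ha
    have hg : φ (g : G) ∈ Subgroup.normalizer (Subgroup.zpowers c : Set A) := g.2
    exact (Subgroup.mem_normalizer_iff.mp hg a).mp ha
  · show φ x * c * (φ x)⁻¹ = c ^ 2
    rw [hx, hd]

/-- Multiplication by 2 on `Fin 7`. -/
def frobD : Equiv.Perm (Fin 7) := ⟨fun i => 2 * i, fun i => 4 * i, by decide, by decide⟩

theorem frobD_conj : frobD * finRotate 7 * frobD⁻¹ = finRotate 7 ^ 2 := by decide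

theorem frobC_pow : finRotate 7 ^ 7 = 1 := by decide

theorem frobC_ne : finRotate 7 ≠ 1 := by decide

theorem frobC_sq : finRotate 7 = (finRotate 7 ^ 4) ^ 2 := by decide

theorem frobD_sq : frobD = (frobD ^ 2) ^ 2 := by decide

theorem sq_mem_alt {α : Type*} [Fintype α] [DecidableEq α] (g : Equiv.Perm α) : g ^ 2 ∈ alternatingGroup α := by
  rw [Equiv.Perm.mem_alternatingGroup, map_pow, Int.units_sq]

/-- The alternating groups of degree at least 7 contain a Frobenius group of order 21. -/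
theorem alt_frob_elts {r : ℕ} (hr : 7 ≤ r) :
    ∃ c d : ↥(alternatingGroup (Fin r)), c ^ 7 = 1 ∧ c ≠ 1 ∧ d * c * d⁻¹ = c ^ 2 := by
  let ι : Equiv.Perm (Fin 7) →* Equiv.Perm (Fin r) := Equiv.Perm.viaEmbeddingHom (Fin.castLEEmb hr)
  have hι : Function.Injective ι := Equiv.Perm.viaEmbeddingHom_injective _
  have hc : ι (finRotate 7) ∈ alternatingGroup (Fin r) := by
    rw [frobC_sq, map_pow]
    exact sq_mem_alt _
  have hd : ι frobD ∈ alternatingGroup (Fin r) := by
    rw [frobD_sq, map_pow]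
    exact sq_mem_alt _
  refine ⟨⟨_, hc⟩, ⟨_, hd⟩, ?_, ?_, ?_⟩
  · apply Subtype.ext
    show ι (finRotate 7) ^ 7 = 1
    rw [← map_pow, frobC_pow, map_one]
  · intro h
    have h1 : ι (finRotate 7) = 1 := congrArg Subtype.val h
    rw [← map_one ι] at h1
    exact frobC_ne (hι h1)
  · apply Subtype.ext
    show ι frobD * ι (finRotate 7) * (ι frobD)⁻¹ = ι (finRotate 7) ^ 2
    rw [← map_inv, ← map_mul, ← map_mul, ← map_pow, frobD_conj]


/-- No section of a finite group with `NormExp G 7 8` is an alternating group of degree at least 7. -/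
theorem NormExp.alt_section {G : Type*} [Group G] [Finite G] (hG : NormExp G 7 8) (H : Subgroup G)
    (N : Subgroup ↥H) [N.Normal] {r : ℕ} (h : Nonempty (↥H ⧸ N ≃* ↥(alternatingGroup (Fin r)))) : r ≤ 6 := by
  by_contra hr
  obtain ⟨e⟩ := h
  obtain ⟨c, d, hc7, hc1, hd⟩ := alt_frob_elts (r := r) (by omega)
  let φ : ↥H →* ↥(alternatingGroup (Fin r)) := e.toMonoidHom.comp (QuotientGroup.mk' N)
  have hφ : Function.Surjective φ := e.surjective.comp (QuotientGroup.mk'_surjective N)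
  obtain ⟨y, hy⟩ := hφ c
  obtain ⟨x, hx⟩ := hφ d
  exact hc1 (no_frob_section (hG.subgroup H) φ c d y x hy hx hc7 hd)

end Cfsg.Agent.Lib.helper23
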