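import Cfsg.Agent.Lib.helper23.F4Order
import Cfsg.Agent.Lib.helper23.SecFrob

set_option autoImplicit false
set_option maxRecDepth 100000

/-!
# Fusion of the diagonal elements of `²F₄(q)` is controlled by `N`

Two diagonal elements conjugate in a Chevalley group are conjugate by the `N`-part of the canonical form of the
conjugating element.  In `²F₄(q)` that `N`-part has its 8th power in `H`, and `H ∩ ²F₄` has index prime to 7:
the normalizers of the 7-subgroups act on them with exponent 8.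
-/

namespace Cfsg.Agent.Lib.helper23

open Cfsg Cfsg.Lie Cfsg.Agent.Lib.helper41 Cfsg.Agent.Lib.helper22

universe u

section Fusion

variable {D : ChevalleyDatum} {F : Type*} [Field F] {η : ℕ → ℕ → ℤ}

/-- `H` normalizes `U_n⁻`. -/
theorem diag_conj_negSet (I : BNInput D F η) {h : GL D.Idx F} (hh : h ∈ D.diagonalSubgroup F)
    (n : GL D.Idx F) :
    ∀ u ∈ Subgroup.closure (negSet D F n), h * u * h⁻¹ ∈ Subgroup.closure (negSet D F n) := by
  obtain ⟨c, hc⟩ := rootAct_diag I hh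
  intro u hu
  induction hu using Subgroup.closure_induction with
  | mem x hx =>
    obtain ⟨r, t, hr, hmap, hx⟩ := hx
    have hr' := ((I.hU.pos_iff r).mp hr).2
    exact Subgroup.subset_closure ⟨r, c r * t, hr, hmap, rootAct_conj hc hr' hx⟩
  | one => simp
  | mul x y _ _ hx hy =>
    have : h * (x * y) * h⁻¹ = (h * x * h⁻¹) * (h * y * h⁻¹) := by group
    rw [this]
    exact mul_mem hx hy
  | inv x _ hx =>
    have : h * x⁻¹ * h⁻¹ = (h * x * h⁻¹)⁻¹ := by group
    rw [this]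
    exact inv_mem hx

/-- Fusion of diagonal elements is controlled by `N`. -/
theorem chev_diag_fusion (C : ChevFacts D F η) {u₁ n u h h' : GL D.Idx F}
    (hu₁ : u₁ ∈ D.posUnipotent F) (hn : n ∈ D.monomialSubgroup F)
    (hu : u ∈ Subgroup.closure (negSet D F n)) (hh : h ∈ D.diagonalSubgroup F)
    (hh' : h' ∈ D.diagonalSubgroup F) (e : (u₁ * n * u) * h * (u₁ * n * u)⁻¹ = h') :
    n * h * n⁻¹ = h' := by
  have hle : D.diagonalSubgroup F ≤ D.monomialSubgroup F := le_sup_left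
  have e1 : u₁ * (n * h) * (h⁻¹ * u * h⁻¹⁻¹) = (h' * u₁ * h'⁻¹) * (h' * n) * u := by
    have e0 : u₁ * (n * h) * (h⁻¹ * u * h⁻¹⁻¹) = ((u₁ * n * u) * h * (u₁ * n * u)⁻¹) * (u₁ * n * u) := by
      group
    rw [e0, e]
    group
  have hk := conj_mem_diag C.I hn hh
  have en : n * h = (n * h * n⁻¹) * n := by group
  have h1 : h⁻¹ * u * h⁻¹⁻¹ ∈ Subgroup.closure (negSet D F (n * h)) := by
    rw [en, negSet_diag_mul_eq C.I hk]
    exact diag_conj_negSet C.I (inv_mem hh) n u hu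
  have h2 : u ∈ Subgroup.closure (negSet D F (h' * n)) := by
    rw [negSet_diag_mul_eq C.I hh']
    exact hu
  obtain ⟨-, e2, -⟩ := C.canon3_unique hu₁ (diag_conj_mem_pos C.I hh' hu₁) (mul_mem hn (hle hh))
    (mul_mem (hle hh') hn) h1 h2 e1
  rw [e2]
  group

/-- If `x` and `n` act in the same way on a set stable under `x`, so do their powers. -/
theorem conj_iter_eq {G : Type*} [Group G] (S : Set G) (x n : G) (hS : ∀ z ∈ S, x * z * x⁻¹ ∈ S)
    (hn : ∀ z ∈ S, x * z * x⁻¹ = n * z * n⁻¹) :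
    ∀ k : ℕ, ∀ z ∈ S, x ^ k * z * (x ^ k)⁻¹ = n ^ k * z * (n ^ k)⁻¹ := by
  intro k
  induction k with
  | zero => intro z _; simp
  | succ k ih =>
    intro z hz
    have e1 : x ^ (k + 1) * z * (x ^ (k + 1))⁻¹ = x ^ k * (x * z * x⁻¹) * (x ^ k)⁻¹ := by
      rw [pow_succ]
      group
    rw [e1, ih _ (hS z hz), hn z hz, pow_succ]
    group

end Fusion

section F4

variable {K : Type u} [Field K] {e : ℕ}

/-- Iteration of a function on `ℕ`, strict in the argument (for kernel evaluation). -/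
def strictIter (f : ℕ → ℕ) : ℕ → ℕ → ℕ
  | 0, s => s
  | k + 1, s => match f s with
    | 0 => strictIter f k 0
    | v + 1 => strictIter f k (v + 1)

theorem strictIter_succ (f : ℕ → ℕ) (k s : ℕ) : strictIter f (k + 1) s = strictIter f k (f s) := by
  rw [strictIter]
  cases f s <;> rfl

/-- The permutation of the roots of the `j`-th element of the dihedral group of order 16. -/
def f4D16fn (j s : ℕ) : ℕ := (f4D16.getD j []).getD s 0

theorem f4D16_pow8 : ∀ j, j < 16 → ∀ s, s < 48 → strictIter (f4D16fn j) 8 s = s := by decide +kernel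

/-- In `²F₄`, fusion of diagonal elements is controlled by an element whose 8th power is diagonal. -/
theorem F4Data.diag_fusion (R : F4Data K e) {x : GL chevF4.Idx K} (hx : x ∈ twistedF4 K e) :
    ∃ n : GL chevF4.Idx K, n ^ 8 ∈ chevF4.diagonalSubgroup K ∧
      ∀ h ∈ chevF4.diagonalSubgroup K, x * h * x⁻¹ ∈ chevF4.diagonalSubgroup K →
        x * h * x⁻¹ = n * h * n⁻¹ := by
  have C := chevFacts_F4 K
  have T := R.T
  have := T.char2
  have he := T.e_ne_zero
  obtain ⟨u₁, hu₁, n, hn, u, hu, e1, f1, f2, f3⟩ := R.canon3_fixed (R.twisted_le_group hx) (R.sg_fix hx)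
  have hu₁Γ := R.pos_fix_mem hu₁ f1
  have huΓ := R.pos_fix_mem (negSet_le_pos n hu) f3
  have hnΓ : n ∈ twistedF4 K e := by
    have e0 : n = u₁⁻¹ * x * u⁻¹ := by
      rw [e1]
      group
    rw [e0]
    exact mul_mem (mul_mem (inv_mem hu₁Γ) hx) (inv_mem huΓ)
  refine ⟨n, ?_, ?_⟩
  · obtain ⟨w, hw, c, hc⟩ := wordAct_of_mem_monomial C.I hn
    obtain ⟨j, hj, hjs⟩ := f4W_comm w hw (R.rootAct_comm hnΓ hc)
    have h3 : ∀ nn : ↥(chevF4.monomialSubgroup K),
        (∀ s : Fin chevF4.nroots, (rootHom C nn s).val = f4D16fn j s.val) →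
        (nn : GL chevF4.Idx K) ^ 8 ∈ chevF4.diagonalSubgroup K := by
      intro nn hspec
      have key : ∀ (k : ℕ) (s : Fin chevF4.nroots),
          (((rootHom C nn) ^ k) s).val = strictIter (f4D16fn j) k s.val := by
        intro k
        induction k with
        | zero =>
          intro s
          rw [pow_zero]
          rfl
        | succ k ih =>
          intro s
          rw [pow_succ, Equiv.Perm.mul_apply, ih, hspec, strictIter_succ]
      have h2 : rootHom C (nn ^ 8) = 1 := by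
        rw [map_pow]
        apply Equiv.ext
        intro s
        apply Fin.ext
        rw [key 8 s]
        exact f4D16_pow8 j hj s.val s.isLt
      have h4 := (rootHom_eq_one_iff C (nn ^ 8)).mp h2
      rw [SubgroupClass.coe_pow] at h4
      exact h4
    refine h3 ⟨n, hn⟩ (fun s => ?_)
    rw [rootHom_spec C ⟨n, hn⟩ hc s]
    exact hjs s.val s.isLt
  · intro h hh hh'
    have e3 : (u₁ * n * u) * h * (u₁ * n * u)⁻¹ = x * h * x⁻¹ := by rw [← e1]
    exact (chev_diag_fusion C hu₁ hn hu hh hh' e3).symm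

end F4

section F4b

variable {K : Type u} [Field K] [Fintype K] {e : ℕ}

/-- `H ∩ ²F₄` as a subgroup of `²F₄`. -/
def f4H1 (K : Type u) [Field K] (e : ℕ) : Subgroup ↥(twistedF4 K e) :=
  (chevF4.diagonalSubgroup K ⊓ twistedF4 K e).subgroupOf (twistedF4 K e)

theorem F4Data.card_H1 (R : F4Data K e) : Nat.card ↥(f4H1 K e) = (Fintype.card K - 1) ^ 2 := by
  unfold f4H1
  rw [Nat.card_congr (Subgroup.subgroupOfEquivOfLe inf_le_right).toEquiv, R.card_diag]

theorem two_pow_odd_mod7 (m : ℕ) :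
    2 ^ (2 * m + 1) % 7 = 1 ∨ 2 ^ (2 * m + 1) % 7 = 2 ∨ 2 ^ (2 * m + 1) % 7 = 4 := by
  induction m with
  | zero => norm_num
  | succ k ih =>
    have e1 : 2 ^ (2 * (k + 1) + 1) = 4 * 2 ^ (2 * k + 1) := by ring
    rw [e1]
    omega

theorem F4Data.index_H1 (R : F4Data K e) {m : ℕ} (hq : Fintype.card K = 2 ^ (2 * m + 1)) :
    ¬ 7 ∣ (f4H1 K e).index := by
  have h1 := (f4H1 K e).card_mul_index
  rw [R.card_H1, R.card_group] at h1
  have hmod := two_pow_odd_mod7 m
  rw [← hq] at hmod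
  have hq2 : 2 ≤ Fintype.card K := by
    rw [hq]
    calc 2 = 2 ^ 1 := by norm_num
      _ ≤ 2 ^ (2 * m + 1) := Nat.pow_le_pow_right (by norm_num) (by omega)
  have hpos : 0 < (Fintype.card K - 1) ^ 2 := pow_pos (by omega) 2
  have h2 : (f4H1 K e).index = Fintype.card K ^ 12 * ((1 + Fintype.card K) *
      (1 + Fintype.card K ^ 2) * (1 + Fintype.card K ^ 3) * (1 + Fintype.card K ^ 6)) := by
    apply Nat.eq_of_mul_eq_mul_left hpos
    rw [h1]
    ring
  rw [h2, Nat.dvd_iff_mod_eq_zero]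
  generalize Fintype.card K = q at hmod
  rcases hmod with h | h | h <;> simp [Nat.mul_mod, Nat.pow_mod, Nat.add_mod, h]

/-- The normalizers of the 7-subgroups of `²F₄(q)` act on them with exponent 8. -/
theorem F4Data.normExp (R : F4Data K e) {m : ℕ} (hq : Fintype.card K = 2 ^ (2 * m + 1)) :
    NormExp ↥(twistedF4 K e) 7 8 := by
  classical
  intro P hP x hx h hh
  have C := chevFacts_F4 K
  have : Fact (Nat.Prime 7) := ⟨by norm_num⟩
  have hfix := hP.nonempty_fixed_point_of_prime_not_dvd_card (↥(twistedF4 K e) ⧸ f4H1 K e)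
    (R.index_H1 hq)
  obtain ⟨z, hz⟩ := hfix
  obtain ⟨g, rfl⟩ := QuotientGroup.mk_surjective z
  have hconj : ∀ p ∈ P, g⁻¹ * p * g ∈ f4H1 K e := by
    intro p hp
    have h1 := hz ⟨p⁻¹, inv_mem hp⟩
    have h2 : ((p⁻¹ * g : ↥(twistedF4 K e)) : ↥(twistedF4 K e) ⧸ f4H1 K e) = (g : ↥(twistedF4 K e) ⧸ f4H1 K e) := h1
    have h3 := QuotientGroup.eq.mp h2
    have e1 : g⁻¹ * p * g = (p⁻¹ * g)⁻¹ * g := by group
    rw [e1]
    exact h3
  have hdiag : ∀ p ∈ P, ((g⁻¹ * p * g : ↥(twistedF4 K e)) : GL chevF4.Idx K) ∈ chevF4.diagonalSubgroup K :=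
    fun p hp => (Subgroup.mem_subgroupOf.mp (hconj p hp)).1
  obtain ⟨n, hn8, hn⟩ := R.diag_fusion (g⁻¹ * x * g).2
  let S : Set (GL chevF4.Idx K) := {z | ∃ p ∈ P, z = ((g⁻¹ * p * g : ↥(twistedF4 K e)) : GL chevF4.Idx K)}
  have hS : ∀ z ∈ S, ((g⁻¹ * x * g : ↥(twistedF4 K e)) : GL chevF4.Idx K) * z *
      ((g⁻¹ * x * g : ↥(twistedF4 K e)) : GL chevF4.Idx K)⁻¹ ∈ S := by
    rintro _ ⟨p, hp, rfl⟩
    refine ⟨x * p * x⁻¹, hx p hp, ?_⟩
    rw [← Subgroup.coe_inv, ← Subgroup.coe_mul, ← Subgroup.coe_mul]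
    congr 1
    group
  have hSn : ∀ z ∈ S, ((g⁻¹ * x * g : ↥(twistedF4 K e)) : GL chevF4.Idx K) * z *
      ((g⁻¹ * x * g : ↥(twistedF4 K e)) : GL chevF4.Idx K)⁻¹ = n * z * n⁻¹ := by
    intro z hz
    obtain ⟨p', hp', e2⟩ := hS z hz
    obtain ⟨p, hp, rfl⟩ := hz
    exact hn _ (hdiag p hp) (e2 ▸ hdiag p' hp')
  have h8 := conj_iter_eq S _ n hS hSn 8 _ ⟨h, hh, rfl⟩
  have hHT := diagonalSubgroup_le_torus C.I.hSD' (F := K)
  have hcomm := torus_comm (hHT hn8) (hHT (hdiag h hh))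
  have h9 : n ^ 8 * ((g⁻¹ * h * g : ↥(twistedF4 K e)) : GL chevF4.Idx K) * (n ^ 8)⁻¹ =
      ((g⁻¹ * h * g : ↥(twistedF4 K e)) : GL chevF4.Idx K) := by
    rw [hcomm, mul_inv_cancel_right]
  rw [h9] at h8
  have h10 : (g⁻¹ * x * g) ^ 8 * (g⁻¹ * h * g) * ((g⁻¹ * x * g) ^ 8)⁻¹ = g⁻¹ * h * g := by
    apply Subtype.ext
    rw [Subgroup.coe_mul, Subgroup.coe_mul, Subgroup.coe_inv, SubgroupClass.coe_pow]
    exact h8
  have e3 : (g⁻¹ * x * g) ^ 8 = g⁻¹ * x ^ 8 * g := by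
    have := conj_pow (a := g⁻¹) (b := x) (i := 8)
    rw [inv_inv] at this
    exact this
  rw [e3] at h10
  have e4 : x ^ 8 * h * (x ^ 8)⁻¹ = g * (g⁻¹ * x ^ 8 * g * (g⁻¹ * h * g) * (g⁻¹ * x ^ 8 * g)⁻¹) * g⁻¹ := by
    group
  rw [e4, h10]
  group

end F4b

end Cfsg.Agent.Lib.helper23
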