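import Cfsg.Agent.Lib.helper23.F4Order
import Cfsg.Agent.Lib.helper23.F4Exp
import Mathlib.GroupTheory.Sylow

set_option autoImplicit false
set_option maxRecDepth 100000

/-!
# `U ∩ ²F₄` is a Sylow 2-subgroup of `²F₄(q)`; the 2-elements have order at most 32
-/

namespace Cfsg.Agent.Lib.helper23

open Cfsg Cfsg.Lie Cfsg.Agent.Lib.helper41 Cfsg.Agent.Lib.helper22

universe u

section Syl

variable {K : Type u} [Field K] [Fintype K] {e : ℕ}

/-- `U ∩ ²F₄` as a subgroup of `²F₄`. -/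
def f4U1 (K : Type u) [Field K] (e : ℕ) : Subgroup ↥(twistedF4 K e) :=
  (chevF4.posUnipotent K ⊓ twistedF4 K e).subgroupOf (twistedF4 K e)

theorem F4Data.card_U1 (R : F4Data K e) : Nat.card ↥(f4U1 K e) = Fintype.card K ^ 12 := by
  unfold f4U1
  rw [Nat.card_congr (Subgroup.subgroupOfEquivOfLe inf_le_right).toEquiv, R.card_pos,
    Nat.card_eq_fintype_card]

theorem F4Data.index_U1 (R : F4Data K e) {k : ℕ} (hk : k ≠ 0) (hq : Fintype.card K = 2 ^ k) :
    ¬ 2 ∣ (f4U1 K e).index := by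
  have h1 := (f4U1 K e).card_mul_index
  rw [R.card_U1, R.card_group] at h1
  have hqpos : 0 < Fintype.card K ^ 12 := pow_pos Fintype.card_pos 12
  have h2 : (f4U1 K e).index = (Fintype.card K - 1) ^ 2 * ((1 + Fintype.card K) *
      (1 + Fintype.card K ^ 2) * (1 + Fintype.card K ^ 3) * (1 + Fintype.card K ^ 6)) := by
    apply Nat.eq_of_mul_eq_mul_left hqpos
    rw [h1]
    ring
  rw [h2, hq]
  obtain ⟨j, rfl⟩ : ∃ j, k = j + 1 := ⟨k - 1, by omega⟩
  intro hdvd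
  have hodd : ∀ i, i ≠ 0 → ¬ 2 ∣ 1 + (2 ^ (j + 1)) ^ i := by
    intro i hi h
    have h3 : 2 ∣ (2 ^ (j + 1)) ^ i := dvd_pow (dvd_pow_self 2 (by omega)) hi
    omega
  have hodd1 : ¬ 2 ∣ 2 ^ (j + 1) - 1 := by
    have h3 : 2 ∣ 2 ^ (j + 1) := dvd_pow_self 2 (by omega)
    have h4 : 1 ≤ 2 ^ (j + 1) := Nat.one_le_two_pow
    omega
  rcases (Nat.Prime.dvd_mul Nat.prime_two).mp hdvd with h | h
  · exact hodd1 (Nat.Prime.dvd_of_dvd_pow Nat.prime_two h)
  · rcases (Nat.Prime.dvd_mul Nat.prime_two).mp h with h | h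
    · rcases (Nat.Prime.dvd_mul Nat.prime_two).mp h with h | h
      · rcases (Nat.Prime.dvd_mul Nat.prime_two).mp h with h | h
        · have h5 := hodd 1 one_ne_zero
          rw [pow_one] at h5
          exact h5 h
        · exact hodd 2 (by norm_num) h
      · exact hodd 3 (by norm_num) h
    · exact hodd 6 (by norm_num) h

/-- The 2-elements of `²F₄(q)` have order dividing 32. -/
theorem F4Data.two_elt_pow32 (R : F4Data K e) {k : ℕ} (hk : k ≠ 0) (hq : Fintype.card K = 2 ^ k)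
    (x : ↥(twistedF4 K e)) (hx : ∃ j : ℕ, orderOf x = 2 ^ j) : x ^ 32 = 1 := by
  classical
  have T := R.T
  have := T.char2
  have : Fact (Nat.Prime 2) := ⟨Nat.prime_two⟩
  have hP : IsPGroup 2 ↥(f4U1 K e) :=
    IsPGroup.of_card (n := 12 * k) (by rw [R.card_U1, hq, ← pow_mul, mul_comm])
  let S₀ : Sylow 2 ↥(twistedF4 K e) := hP.toSylow (R.index_U1 hk hq)
  obtain ⟨j, hj⟩ := hx
  have hz : IsPGroup 2 ↥(Subgroup.zpowers x) := IsPGroup.of_card (n := j) (by rw [Nat.card_zpowers, hj])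
  obtain ⟨Q, hQ⟩ := hz.exists_le_sylow
  obtain ⟨g, hg⟩ := MulAction.exists_smul_eq ↥(twistedF4 K e) Q S₀
  have hxQ : x ∈ Q := hQ (Subgroup.mem_zpowers x)
  have hy : g * x * g⁻¹ ∈ S₀ := by
    rw [← hg]
    exact Subgroup.smul_mem_pointwise_smul x (MulAut.conj g) (Q : Subgroup ↥(twistedF4 K e)) hxQ
  have hyU : ((g * x * g⁻¹ : ↥(twistedF4 K e)) : GL chevF4.Idx K) ∈ chevF4.posUnipotent K :=
    (Subgroup.mem_subgroupOf.mp hy).1
  have h32 := f4_pos_pow32 hyU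
  have h32' : (g * x * g⁻¹) ^ 32 = 1 := Subtype.ext (by
    rw [SubgroupClass.coe_pow]
    exact h32)
  have e1 : x ^ 32 = g⁻¹ * (g * x * g⁻¹) ^ 32 * g := by
    rw [conj_pow]
    group
  rw [e1, h32']
  group

end Syl

end Cfsg.Agent.Lib.helper23
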