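import Cfsg.Agent.Lib.helper23.F4BN
import Cfsg.Agent.Lib.helper23.F4Syl
import Cfsg.Agent.Lib.helper23.BNEuler

set_option autoImplicit false
set_option maxRecDepth 100000

/-!
# Elements of `²F₄(q)` commuting with an involution

An involution of `U ∩ ²F₄` fixes no chamber of the top cell of the building.  An element of prime order `r` not
dividing `q (q ^ 4 - 1)` has no conjugate in a proper parabolic subgroup, so by the count of fixed chambers and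
panels (`BNEuler`) it does not commute with an involution.
-/

namespace Cfsg.Agent.Lib.helper23

open Cfsg Cfsg.Lie Cfsg.Agent.Lib.helper41 Cfsg.Agent.Lib.helper22 Cfsg.Agent.Lib.helper8

universe u

section Inv

variable {K : Type u} [Field K] {e : ℕ}

/-- `B ∩ ²F₄ = (U ∩ ²F₄) (H ∩ ²F₄)`. -/
theorem F4Data.borel_split (R : F4Data K e) {b : GL chevF4.Idx K}
    (hb : b ∈ chevF4.borelSubgroup K ⊓ twistedF4 K e) :
    ∃ u ∈ chevF4.posUnipotent K ⊓ twistedF4 K e, ∃ h ∈ chevF4.diagonalSubgroup K ⊓ twistedF4 K e,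
      b = u * h := by
  have C := chevFacts_F4 K
  have hH_B : ∀ g ∈ chevF4.diagonalSubgroup K, g ∈ chevF4.borelSubgroup K :=
    fun g hg => Subgroup.mem_sup_right hg
  obtain ⟨u, hu, h, hh, eb⟩ := borel_decomp C.I hb.1
  have hbΓ : b ∈ twistedF4 K e := hb.2
  have huG := f4_pos_le_group hu
  have hhG : h ∈ chevF4.group K := C.hBG (hH_B h hh)
  have hfix : R.sg u * R.sg h = u * h := by rw [← R.sg_mul huG hhG, ← eb, R.sg_fix hbΓ]
  have hufix : R.sg u = u := by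
    have e1 : u⁻¹ * R.sg u = h * (R.sg h)⁻¹ := by
      rw [eq_mul_inv_iff_mul_eq, mul_assoc, hfix]
      group
    have h1 : u⁻¹ * R.sg u = 1 := C.pos_inf_diag (mul_mem (inv_mem hu) (R.sg_pos hu)) (by
      rw [e1]
      exact mul_mem hh (inv_mem (R.sg_diag hh)))
    exact (inv_mul_eq_one.mp h1).symm
  have huΓ := R.pos_fix_mem hu hufix
  have hhΓ : h ∈ twistedF4 K e := by
    have e1 : h = u⁻¹ * b := by rw [eb]; group
    rw [e1]
    exact mul_mem (inv_mem huΓ) hbΓ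
  exact ⟨u, ⟨hu, huΓ⟩, h, ⟨hh, hhΓ⟩, eb⟩

/-- `|B ∩ ²F₄| = q ^ 12 (q - 1) ^ 2`. -/
theorem F4Data.card_borel [Fintype K] (R : F4Data K e) :
    Nat.card ↥(chevF4.borelSubgroup K ⊓ twistedF4 K e) =
      Fintype.card K ^ 12 * (Fintype.card K - 1) ^ 2 := by
  have C := chevFacts_F4 K
  have h1 : Nat.card (↥(chevF4.posUnipotent K ⊓ twistedF4 K e) ×
      ↥(chevF4.diagonalSubgroup K ⊓ twistedF4 K e)) =
      Fintype.card K ^ 12 * (Fintype.card K - 1) ^ 2 := by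
    rw [Nat.card_prod, R.card_pos, R.card_diag, Nat.card_eq_fintype_card]
  rw [← h1]
  symm
  let f : ↥(chevF4.posUnipotent K ⊓ twistedF4 K e) × ↥(chevF4.diagonalSubgroup K ⊓ twistedF4 K e) →
      ↥(chevF4.borelSubgroup K ⊓ twistedF4 K e) := fun p =>
    ⟨(p.1 : GL chevF4.Idx K) * (p.2 : GL chevF4.Idx K),
      ⟨mul_mem (Subgroup.mem_sup_left p.1.2.1) (Subgroup.mem_sup_right p.2.2.1), mul_mem p.1.2.2 p.2.2.2⟩⟩
  apply Nat.card_congr (Equiv.ofBijective f ⟨?_, ?_⟩)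
  · rintro ⟨⟨u, hu⟩, ⟨h, hh⟩⟩ ⟨⟨u', hu'⟩, ⟨h', hh'⟩⟩ heq
    have h2 : u * h = u' * h' := congrArg Subtype.val heq
    have h3 : u'⁻¹ * u = h' * h⁻¹ := by
      rw [eq_mul_inv_iff_mul_eq, mul_assoc, h2]
      group
    have h4 : u'⁻¹ * u = 1 := C.pos_inf_diag (mul_mem (inv_mem hu'.1) hu.1) (by
      rw [h3]
      exact mul_mem hh'.1 (inv_mem hh.1))
    have h5 : u' = u := inv_mul_eq_one.mp h4
    subst h5
    have h6 : h = h' := mul_left_cancel h2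
    subst h6
    rfl
  · rintro ⟨b, hb⟩
    obtain ⟨u, hu, h, hh, rfl⟩ := R.borel_split hb
    exact ⟨(⟨u, hu⟩, ⟨h, hh⟩), rfl⟩

/-- The double coset condition when the inverse of `n` maps the class of the letter to positive roots. -/
theorem F4Data.mul_borel_pos (R : F4Data K e) (j : ℕ) {s b n : GL chevF4.Idx K} (hs : s = f4letN K e j)
    (hb : b ∈ chevF4.borelSubgroup K ⊓ twistedF4 K e)
    (hn : n ∈ chevF4.monomialSubgroup K ⊓ twistedF4 K e) {ν : ℕ → ℕ} {cν : ℕ → K}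
    (hν : RootAct chevF4 K ((n⁻¹ : GL chevF4.Idx K) : Matrix chevF4.Idx chevF4.Idx K) ν cν)
    (hpos : ∀ r ∈ f4letCls j, 24 ≤ ν r) :
    ∃ b₁ ∈ chevF4.borelSubgroup K ⊓ twistedF4 K e, ∃ b₂ ∈ chevF4.borelSubgroup K ⊓ twistedF4 K e,
      s * b * n = b₁ * (s * n) * b₂ := by
  have C := chevFacts_F4 K
  have T := R.T
  have := T.char2
  have he := T.e_ne_zero
  have hsΓ : s ∈ twistedF4 K e := hs ▸ f4letN_mem (K := K) e j
  have hsN : s ∈ chevF4.monomialSubgroup K := hs ▸ f4letN_mono (K := K) he j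
  have hU_B : ∀ g ∈ chevF4.posUnipotent K, g ∈ chevF4.borelSubgroup K :=
    fun g hg => Subgroup.mem_sup_left hg
  have hH_B : ∀ g ∈ chevF4.diagonalSubgroup K, g ∈ chevF4.borelSubgroup K :=
    fun g hg => Subgroup.mem_sup_right hg
  obtain ⟨u, hu, h, hh, ebi⟩ := R.borel_split (inv_mem hb)
  obtain ⟨y, hy, hyu⟩ := R.letter_split j hu.1 (R.sg_fix hu.2)
  rw [← hs] at hyu
  have hyΓ := f4letX_tw hy
  have hb₀ : s * (y⁻¹ * u * h)⁻¹ * s⁻¹ ∈ chevF4.borelSubgroup K ⊓ twistedF4 K e := by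
    have e1 : s * (y⁻¹ * u * h)⁻¹ * s⁻¹ = ((s * (y⁻¹ * u) * s⁻¹) * (s * h * s⁻¹))⁻¹ := by group
    rw [e1]
    have h1 : ((s * (y⁻¹ * u) * s⁻¹) * (s * h * s⁻¹))⁻¹ ∈ chevF4.borelSubgroup K :=
      inv_mem (mul_mem (hU_B _ hyu) (hH_B _ (conj_mem_diag C.I hsN hh.1)))
    have h2 : ((s * (y⁻¹ * u) * s⁻¹) * (s * h * s⁻¹))⁻¹ ∈ twistedF4 K e :=
      inv_mem (mul_mem (mul_mem (mul_mem hsΓ (mul_mem (inv_mem hyΓ) hu.2)) (inv_mem hsΓ))
        (mul_mem (mul_mem hsΓ hh.2) (inv_mem hsΓ)))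
    exact ⟨h1, h2⟩
  have eb : b = (y⁻¹ * u * h)⁻¹ * y⁻¹ := by
    have e1 : b = (b⁻¹)⁻¹ := (inv_inv b).symm
    rw [e1, ebi]
    group
  have hnΓ : n ∈ twistedF4 K e := hn.2
  have hniΓ : n⁻¹ ∈ twistedF4 K e := inv_mem hnΓ
  have e0 : s * b * n = (s * (y⁻¹ * u * h)⁻¹ * s⁻¹) * (s * y⁻¹ * s⁻¹) * (s * n) := by
    rw [eb]
    group
  have hpos' : n⁻¹ * y * n ∈ chevF4.posUnipotent K := by
    have h1 := f4letX_conj_pos hν hpos hy
    rwa [inv_inv] at h1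
  have h1 : n⁻¹ * y⁻¹ * n ∈ chevF4.borelSubgroup K := by
    have e1 : n⁻¹ * y⁻¹ * n = (n⁻¹ * y * n)⁻¹ := by group
    rw [e1]
    exact hU_B _ (inv_mem hpos')
  have h2 : n⁻¹ * y⁻¹ * n ∈ twistedF4 K e := mul_mem (mul_mem hniΓ (inv_mem hyΓ)) hnΓ
  refine ⟨_, hb₀, n⁻¹ * y⁻¹ * n, ⟨h1, h2⟩, ?_⟩
  rw [e0]
  group

/-- A word other than the longest one maps the roots of the class of a letter to positive roots. -/
theorem f4words_top : ∀ w ∈ f4words, (∀ r ∈ f4letCls 1, 24 ≤ f4wordPi w r) ∨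
    (∀ r ∈ f4letCls 2, 24 ≤ f4wordPi w r) ∨ w = f4w0 := by decide +kernel

theorem f4w0_eq : ∀ s, s < 48 → f4wordPi f4w0 s = 47 - s := by decide +kernel

/-- An element of `N ∩ ²F₄` which is not the nearest element of its cosets `⟨n_j⟩ n` conjugates `U` into `V`. -/
theorem F4Data.top_conj_neg (R : F4Data K e) {n : GL chevF4.Idx K}
    (hn : n ∈ chevF4.monomialSubgroup K ⊓ twistedF4 K e)
    (h1 : ¬ ∀ b ∈ chevF4.borelSubgroup K ⊓ twistedF4 K e,
      ∃ b₁ ∈ chevF4.borelSubgroup K ⊓ twistedF4 K e, ∃ b₂ ∈ chevF4.borelSubgroup K ⊓ twistedF4 K e,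
        f4letN K e 1 * b * n = b₁ * (f4letN K e 1 * n) * b₂)
    (h2 : ¬ ∀ b ∈ chevF4.borelSubgroup K ⊓ twistedF4 K e,
      ∃ b₁ ∈ chevF4.borelSubgroup K ⊓ twistedF4 K e, ∃ b₂ ∈ chevF4.borelSubgroup K ⊓ twistedF4 K e,
        f4letN K e 2 * b * n = b₁ * (f4letN K e 2 * n) * b₂) :
    ∀ z ∈ chevF4.posUnipotent K, n * z * n⁻¹ ∈ chevF4.negUnipotent K := by
  have C := chevFacts_F4 K
  have hnN : n ∈ chevF4.monomialSubgroup K := hn.1
  have hnΓ : n ∈ twistedF4 K e := hn.2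
  have hniN : n⁻¹ ∈ chevF4.monomialSubgroup K := inv_mem hnN
  have hniΓ : n⁻¹ ∈ twistedF4 K e := inv_mem hnΓ
  obtain ⟨w, hw, ν, cν, hν, hνw⟩ := R.word_of_mem (n := n⁻¹) ⟨hniN, hniΓ⟩
  have hw0 : w = f4w0 := by
    rcases f4words_top w hw with hA | hA | hA
    · exfalso
      apply h1
      intro b hb
      exact R.mul_borel_pos 1 rfl hb hn hν (fun r hr => by
        rw [hνw r (f4letCls_lt 1 r hr)]
        exact hA r hr)
    · exfalso
      apply h2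
      intro b hb
      exact R.mul_borel_pos 2 rfl hb hn hν (fun r hr => by
        rw [hνw r (f4letCls_lt 2 r hr)]
        exact hA r hr)
    · exact hA
  subst hw0
  obtain ⟨π, c, hπ⟩ := rootAct_of_mem_monomial C.I hnN
  refine f4_conj_pos_neg hπ ?_
  intro s hs1 hs2
  have h3 := rootAct_inv_comp C.I hπ hν hs2
  have h4 : π s < 48 := (hπ s hs2).1
  rw [hνw _ h4, f4w0_eq _ h4] at h3
  omega

/-- `U` is normalized by `B`. -/
theorem f4_borel_conj_pos {y u : GL chevF4.Idx K} (hy : y ∈ chevF4.borelSubgroup K)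
    (hu : u ∈ chevF4.posUnipotent K) : y * u * y⁻¹ ∈ chevF4.posUnipotent K := by
  have C := chevFacts_F4 K
  obtain ⟨v, hv, h, hh, rfl⟩ := borel_decomp C.I hy
  have e1 : v * h * u * (v * h)⁻¹ = v * (h * u * h⁻¹) * v⁻¹ := by group
  rw [e1]
  exact mul_mem (mul_mem hv (diag_conj_mem_pos C.I hh hu)) (inv_mem hv)

/-- The cosets of `B` in `B n_j B` are represented by the twisted root elements. -/
theorem F4Data.letter_coset (R : F4Data K e) (j : ℕ) {s x : GL chevF4.Idx K} (hs : s = f4letN K e j)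
    (hx : x ∈ chevF4.borelSubgroup K ⊓ twistedF4 K e) :
    ∃ y ∈ f4letX K e j, (y * s)⁻¹ * (x * s) ∈ chevF4.borelSubgroup K ⊓ twistedF4 K e := by
  have C := chevFacts_F4 K
  have T := R.T
  have := T.char2
  have he := T.e_ne_zero
  have hsΓ : s ∈ twistedF4 K e := hs ▸ f4letN_mem (K := K) e j
  have hsN : s ∈ chevF4.monomialSubgroup K := hs ▸ f4letN_mono (K := K) he j
  obtain ⟨cs, hcs⟩ : ∃ c : ℕ → K, RootAct chevF4 K (s : Matrix chevF4.Idx chevF4.Idx K) (f4letPi j) c :=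
    hs ▸ f4letN_rootAct (K := K) he j
  have hsq := sq_mem_diag_of_invol hsN hcs (f4letPi_invol j)
  have hU_B : ∀ g ∈ chevF4.posUnipotent K, g ∈ chevF4.borelSubgroup K :=
    fun g hg => Subgroup.mem_sup_left hg
  have hH_B : ∀ g ∈ chevF4.diagonalSubgroup K, g ∈ chevF4.borelSubgroup K :=
    fun g hg => Subgroup.mem_sup_right hg
  obtain ⟨u, hu, h, hh, rfl⟩ := R.borel_split hx
  obtain ⟨y, hy, hyu⟩ := R.letter_split j hu.1 (R.sg_fix hu.2)
  rw [← hs] at hyu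
  have hhH : h ∈ chevF4.diagonalSubgroup K := hh.1
  have hhΓ : h ∈ twistedF4 K e := hh.2
  have huΓ : u ∈ twistedF4 K e := hu.2
  have g1 : (y * s)⁻¹ * (u * h * s) ∈ chevF4.borelSubgroup K := by
    have e1 : (y * s)⁻¹ * (u * h * s) =
        (s * s)⁻¹ * (s * (y⁻¹ * u) * s⁻¹) * (s * s) * (s⁻¹ * h * s⁻¹⁻¹) := by group
    rw [e1]
    exact mul_mem (mul_mem (mul_mem (inv_mem (hH_B _ hsq)) (hU_B _ hyu)) (hH_B _ hsq))
      (hH_B _ (conj_mem_diag C.I (inv_mem hsN) hhH))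
  have g2 : (y * s)⁻¹ * (u * h * s) ∈ twistedF4 K e :=
    mul_mem (inv_mem (mul_mem (f4letX_tw hy) hsΓ)) (mul_mem (mul_mem huΓ hhΓ) hsΓ)
  exact ⟨y, hy, g1, g2⟩

theorem F4Data.letter_coset_inj (R : F4Data K e) (j : ℕ) {s y y' : GL chevF4.Idx K}
    (hs : s = f4letN K e j) (hy : y ∈ f4letX K e j) (hy' : y' ∈ f4letX K e j)
    (h : (y * s)⁻¹ * (y' * s) ∈ chevF4.borelSubgroup K) : y = y' := by
  have C := chevFacts_F4 K
  have T := R.T
  have := T.char2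
  have he := T.e_ne_zero
  have hsN : s ∈ chevF4.monomialSubgroup K := hs ▸ f4letN_mono (K := K) he j
  obtain ⟨cs, hcs⟩ : ∃ c : ℕ → K, RootAct chevF4 K (s : Matrix chevF4.Idx chevF4.Idx K) (f4letPi j) c :=
    hs ▸ f4letN_rootAct (K := K) he j
  obtain ⟨cs', hcs'⟩ := f4_rootAct_inv hsN hcs (f4letPi_invol j)
  have h1 := f4letX_conj_neg hcs' (f4letCls_pi j) hy
  have h2 := f4letX_conj_neg hcs' (f4letCls_pi j) hy'
  rw [inv_inv] at h1 h2
  have e1 : (y * s)⁻¹ * (y' * s) = (s⁻¹ * y * s)⁻¹ * (s⁻¹ * y' * s) := by group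
  rw [e1] at h
  have h3 := borel_inf_neg C.I C.hN h (mul_mem (inv_mem h1) h2)
  have h4 : s⁻¹ * y * s = s⁻¹ * y' * s := inv_mul_eq_one.mp h3
  exact mul_left_cancel (mul_right_cancel h4)

end Inv

section Count

variable {K : Type u} [Field K] [Fintype K] {e : ℕ}

/-- A `2`-element of `²F₄(q)` is conjugate to an element of `U ∩ ²F₄(q)`. -/
theorem F4Data.two_conj_U1 (R : F4Data K e) {k : ℕ} (hk : k ≠ 0) (hq : Fintype.card K = 2 ^ k)
    (x : ↥(twistedF4 K e)) (hx : ∃ j : ℕ, orderOf x = 2 ^ j) :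
    ∃ g : ↥(twistedF4 K e), g * x * g⁻¹ ∈ f4U1 K e := by
  classical
  have : Fact (Nat.Prime 2) := ⟨Nat.prime_two⟩
  have hP : IsPGroup 2 ↥(f4U1 K e) :=
    IsPGroup.of_card (n := 12 * k) (by rw [R.card_U1, hq, ← pow_mul, mul_comm])
  let S₀ : Sylow 2 ↥(twistedF4 K e) := hP.toSylow (R.index_U1 hk hq)
  obtain ⟨j, hj⟩ := hx
  have hz : IsPGroup 2 ↥(Subgroup.zpowers x) := IsPGroup.of_card (n := j) (by rw [Nat.card_zpowers, hj])
  obtain ⟨Q, hQ⟩ := hz.exists_le_sylow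
  obtain ⟨g, hg⟩ := MulAction.exists_smul_eq ↥(twistedF4 K e) Q S₀
  have hxQ : x ∈ Q := hQ (Subgroup.mem_zpowers x)
  have hy : g * x * g⁻¹ ∈ S₀ := by
    rw [← hg]
    exact Subgroup.smul_mem_pointwise_smul x (MulAut.conj g) (Q : Subgroup ↥(twistedF4 K e)) hxQ
  exact ⟨g, hy⟩

/-- `|P_j| = (q ^ len j + 1) |B|`. -/
theorem F4Data.card_parabolic (R : F4Data K e) (P : Cfsg.BNPair ↥(twistedF4 K e))
    (hPB : P.B = (chevF4.borelSubgroup K ⊓ twistedF4 K e).subgroupOf (twistedF4 K e)) (j : ℕ)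
    {s : ↥(twistedF4 K e)} (hsv : (s : GL chevF4.Idx K) = f4letN K e j) (hs : s ∈ P.S) :
    Nat.card ↥(P.parabolic {s}) =
      (Fintype.card K ^ f4letLen j + 1) * (Fintype.card K ^ 12 * (Fintype.card K - 1) ^ 2) := by
  have hcB : Nat.card ↥P.B = Fintype.card K ^ 12 * (Fintype.card K - 1) ^ 2 := by
    rw [hPB, Nat.card_congr (Subgroup.subgroupOfEquivOfLe inf_le_right).toEquiv, R.card_borel]
  have hX : ∀ y ∈ f4letX K e j, y ∈ chevF4.borelSubgroup K ⊓ twistedF4 K e :=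
    fun y hy => ⟨Subgroup.mem_sup_left (f4letX_pos hy), f4letX_tw hy⟩
  have hXB : ∀ (y : GL chevF4.Idx K) (hy : y ∈ f4letX K e j),
      (⟨y, f4letX_tw hy⟩ : ↥(twistedF4 K e)) ∈ P.B := by
    intro y hy
    rw [hPB]
    exact Subgroup.mem_subgroupOf.mpr (hX y hy)
  have hsP : s ∈ P.parabolic {s} := subset_parabolic P _ (Set.mem_singleton s)
  have hBP : ∀ g ∈ P.B, g ∈ P.parabolic {s} := fun g hg => B_le_parabolic P _ hg
  have hcard : Nat.card (Option ↥(f4letX K e j) × ↥P.B) =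
      (Fintype.card K ^ f4letLen j + 1) * (Fintype.card K ^ 12 * (Fintype.card K - 1) ^ 2) := by
    rw [Nat.card_prod, Finite.card_option, f4letX_card, hcB, Nat.card_eq_fintype_card]
  rw [← hcard]
  symm
  let f : Option ↥(f4letX K e j) × ↥P.B → ↥(P.parabolic {s}) := fun p =>
    match p with
    | (none, β) => ⟨β, hBP _ β.2⟩
    | (some y, β) => ⟨⟨y, f4letX_tw y.2⟩ * s * β, mul_mem (mul_mem (hBP _ (hXB y y.2)) hsP) (hBP _ β.2)⟩
  apply Nat.card_congr (Equiv.ofBijective f ⟨?_, ?_⟩)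
  · rintro ⟨_ | ⟨y, hy⟩, ⟨β, hβ⟩⟩ ⟨_ | ⟨y', hy'⟩, ⟨β', hβ'⟩⟩ heq
    · have h1 : β = β' := congrArg Subtype.val heq
      subst h1
      rfl
    · exfalso
      have h1 : β = ⟨y', f4letX_tw hy'⟩ * s * β' := congrArg Subtype.val heq
      apply S_not_mem_B P hs
      have e1 : s = (⟨y', f4letX_tw hy'⟩ : ↥(twistedF4 K e))⁻¹ * β * β'⁻¹ := by
        rw [h1]
        group
      rw [e1]
      exact mul_mem (mul_mem (inv_mem (hXB y' hy')) hβ) (inv_mem hβ')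
    · exfalso
      have h1 : ⟨y, f4letX_tw hy⟩ * s * β = β' := congrArg Subtype.val heq
      apply S_not_mem_B P hs
      have e1 : s = (⟨y, f4letX_tw hy⟩ : ↥(twistedF4 K e))⁻¹ * β' * β⁻¹ := by
        rw [← h1]
        group
      rw [e1]
      exact mul_mem (mul_mem (inv_mem (hXB y hy)) hβ') (inv_mem hβ)
    · have h1 : (⟨y, f4letX_tw hy⟩ : ↥(twistedF4 K e)) * s * β = ⟨y', f4letX_tw hy'⟩ * s * β' :=
        congrArg Subtype.val heq
      have h2 : ((⟨y, f4letX_tw hy⟩ : ↥(twistedF4 K e)) * s)⁻¹ * (⟨y', f4letX_tw hy'⟩ * s) = β * β'⁻¹ := by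
        have e1 : (⟨y', f4letX_tw hy'⟩ : ↥(twistedF4 K e)) * s = ⟨y, f4letX_tw hy⟩ * s * β * β'⁻¹ := by
          rw [h1]
          group
        rw [e1]
        group
      have h3 : ((⟨y, f4letX_tw hy⟩ : ↥(twistedF4 K e)) * s)⁻¹ * (⟨y', f4letX_tw hy'⟩ * s) ∈ P.B := by
        rw [h2]
        exact mul_mem hβ (inv_mem hβ')
      rw [hPB, Subgroup.mem_subgroupOf] at h3
      have h4 : (y * (s : GL chevF4.Idx K))⁻¹ * (y' * (s : GL chevF4.Idx K)) ∈ chevF4.borelSubgroup K :=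
        h3.1
      have h5 : y = y' := R.letter_coset_inj j hsv hy hy' h4
      subst h5
      have h6 : β = β' := mul_left_cancel h1
      subst h6
      rfl
  · rintro ⟨p, hp⟩
    rcases (mem_parabolic_singleton P hs p).1 hp with h | h
    · exact ⟨(none, ⟨p, h⟩), rfl⟩
    · obtain ⟨x, hx, z, hz, rfl⟩ := (mem_dc_iff P).1 h
      have hx' : (x : GL chevF4.Idx K) ∈ chevF4.borelSubgroup K ⊓ twistedF4 K e := by
        rw [hPB] at hx
        exact Subgroup.mem_subgroupOf.mp hx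
      obtain ⟨y, hy, hyx⟩ := R.letter_coset j hsv hx'
      have h1 : ((⟨y, f4letX_tw hy⟩ : ↥(twistedF4 K e)) * s)⁻¹ * (x * s) ∈ P.B := by
        rw [hPB]
        exact Subgroup.mem_subgroupOf.mpr hyx
      refine ⟨(some ⟨y, hy⟩, ⟨((⟨y, f4letX_tw hy⟩ : ↥(twistedF4 K e)) * s)⁻¹ * (x * s) * z,
        mul_mem h1 hz⟩), ?_⟩
      apply Subtype.ext
      show (⟨y, f4letX_tw hy⟩ : ↥(twistedF4 K e)) * s *
        (((⟨y, f4letX_tw hy⟩ : ↥(twistedF4 K e)) * s)⁻¹ * (x * s) * z) = x * s * z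
      group

/-- An element of prime order `r` not dividing `|B| (q ^ len j + 1)` lies in no conjugate of `P_j`. -/
theorem F4Data.not_mem_parabolic (R : F4Data K e) (P : Cfsg.BNPair ↥(twistedF4 K e))
    (hPB : P.B = (chevF4.borelSubgroup K ⊓ twistedF4 K e).subgroupOf (twistedF4 K e)) (j : ℕ)
    {s : ↥(twistedF4 K e)} (hsv : (s : GL chevF4.Idx K) = f4letN K e j) (hs : s ∈ P.S)
    {r : ℕ} [hr : Fact r.Prime] {b : ↥(twistedF4 K e)} (hb : b ^ r = 1) (hb1 : b ≠ 1)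
    (hrB : ¬ r ∣ Fintype.card K ^ 12 * (Fintype.card K - 1) ^ 2)
    (hrj : ¬ r ∣ Fintype.card K ^ f4letLen j + 1) : b ∉ P.parabolic {s} := by
  intro hmem
  have h1 : orderOf b = r := orderOf_eq_prime hb hb1
  have h2 : orderOf (⟨b, hmem⟩ : ↥(P.parabolic {s})) ∣ Nat.card ↥(P.parabolic {s}) :=
    orderOf_dvd_natCard _
  rw [Subgroup.orderOf_mk, h1, R.card_parabolic P hPB j hsv hs] at h2
  rcases (Nat.Prime.dvd_mul hr.out).mp h2 with h | h
  · exact hrj h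
  · exact hrB h

/-- In `²F₄(q)`, an element of prime order `r` not dividing `q (q - 1) (q + 1) (q ^ 2 + 1)` does not commute
with a nontrivial element of `U`. -/
theorem F4Data.no_commute (R : F4Data K e) {a b : ↥(twistedF4 K e)}
    (ha : (a : GL chevF4.Idx K) ∈ chevF4.posUnipotent K) (ha1 : a ≠ 1) (hab : Commute a b)
    {r : ℕ} [hr : Fact r.Prime] (hb : b ^ r = 1) (hb1 : b ≠ 1)
    (hrB : ¬ r ∣ Fintype.card K ^ 12 * (Fintype.card K - 1) ^ 2)
    (hr1 : ¬ r ∣ Fintype.card K + 1) (hr2 : ¬ r ∣ Fintype.card K ^ 2 + 1) : False := by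
  have C := chevFacts_F4 K
  obtain ⟨P, hPB, hPN, hPS⟩ := R.bnPair
  have hs₁ : (⟨f4letN K e 1, f4letN_mem e 1⟩ : ↥(twistedF4 K e)) ∈ P.S := by
    rw [hPS]
    exact f4letN_mem_Sg 1
  have hs₂ : (⟨f4letN K e 2, f4letN_mem e 2⟩ : ↥(twistedF4 K e)) ∈ P.S := by
    rw [hPS]
    exact f4letN_mem_Sg 2
  have hS : ∀ t ∈ P.S, t = ⟨f4letN K e 1, f4letN_mem e 1⟩ ∨ t = ⟨f4letN K e 2, f4letN_mem e 2⟩ := by
    intro t ht
    rw [hPS] at ht
    have e1 : f4letN K e 1 = f4n1 K e := if_pos rfl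
    have e2 : f4letN K e 2 = f4n2 K e := if_neg (by decide)
    rcases ht with h | h
    · exact Or.inl (Subtype.ext (h.trans e1.symm))
    · exact Or.inr (Subtype.ext (h.trans e2.symm))
  have haB : a ∈ P.B := by
    rw [hPB]
    exact Subgroup.mem_subgroupOf.mpr ⟨Subgroup.mem_sup_left ha, a.2⟩
  have hconj : ∀ g : ↥(twistedF4 K e), (g⁻¹ * b * g) ^ r = 1 ∧ g⁻¹ * b * g ≠ 1 := by
    intro g
    constructor
    · have e1 : g⁻¹ * b * g = g⁻¹ * b * g⁻¹⁻¹ := by rw [inv_inv]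
      rw [e1, conj_pow, hb, mul_one, mul_inv_cancel]
    · intro h
      apply hb1
      have e1 : b = g * (g⁻¹ * b * g) * g⁻¹ := by group
      rw [e1, h]
      group
  have hl1 : f4letLen 1 = 1 := by decide
  have hl2 : f4letLen 2 = 2 := by decide
  refine bn_rank2_no_commute P hS hs₁ hs₂ haB hab hb ?_ ?_ ?_
  · intro g
    exact R.not_mem_parabolic P hPB 1 rfl hs₁ (hconj g).1 (hconj g).2 hrB (by
      rw [hl1, pow_one]
      exact hr1)
  · intro g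
    exact R.not_mem_parabolic P hPB 2 rfl hs₂ (hconj g).1 (hconj g).2 hrB (by
      rw [hl2]
      exact hr2)
  · intro g hg n hn hdc
    by_contra hcon
    rw [not_or] at hcon
    obtain ⟨hc1, hc2⟩ := hcon
    have hnN : (n : GL chevF4.Idx K) ∈ chevF4.monomialSubgroup K ⊓ twistedF4 K e := by
      rw [hPN] at hn
      exact Subgroup.mem_subgroupOf.mp hn
    have tr : ∀ j : ℕ, ¬ Ps P ⟨f4letN K e j, f4letN_mem e j⟩ n →
        ¬ ∀ b ∈ chevF4.borelSubgroup K ⊓ twistedF4 K e,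
          ∃ b₁ ∈ chevF4.borelSubgroup K ⊓ twistedF4 K e, ∃ b₂ ∈ chevF4.borelSubgroup K ⊓ twistedF4 K e,
            f4letN K e j * b * (n : GL chevF4.Idx K) = b₁ * (f4letN K e j * (n : GL chevF4.Idx K)) * b₂ := by
      intro j hc hall
      apply hc
      intro β hβ
      have hβ' : (β : GL chevF4.Idx K) ∈ chevF4.borelSubgroup K ⊓ twistedF4 K e := by
        rw [hPB] at hβ
        exact Subgroup.mem_subgroupOf.mp hβ
      obtain ⟨b₁, hb₁, b₂, hb₂, e1⟩ := hall β hβ'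
      have hb₁Γ : b₁ ∈ twistedF4 K e := hb₁.2
      have hb₂Γ : b₂ ∈ twistedF4 K e := hb₂.2
      refine (mem_dc_iff P).2 ⟨⟨b₁, hb₁Γ⟩, ?_, ⟨b₂, hb₂Γ⟩, ?_, Subtype.ext e1⟩
      · rw [hPB]
        exact Subgroup.mem_subgroupOf.mpr hb₁
      · rw [hPB]
        exact Subgroup.mem_subgroupOf.mpr hb₂
    have key := R.top_conj_neg hnN (tr 1 hc1) (tr 2 hc2)
    obtain ⟨x, hx, y, hy, e1⟩ := (mem_dc_iff P).1 hdc
    have e3 : g = (x * n * y)⁻¹ := by rw [← e1, inv_inv]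
    have h3 : n * (y * a * y⁻¹) * n⁻¹ ∈ P.B := by
      have e2 : n * (y * a * y⁻¹) * n⁻¹ = x⁻¹ * (g⁻¹ * a * g) * x := by
        rw [e3]
        group
      rw [e2]
      exact mul_mem (mul_mem (inv_mem hx) hg) hx
    have hy' : (y : GL chevF4.Idx K) ∈ chevF4.borelSubgroup K := by
      rw [hPB] at hy
      exact (Subgroup.mem_subgroupOf.mp hy).1
    have h4 : (n : GL chevF4.Idx K) * ((y : GL chevF4.Idx K) * (a : GL chevF4.Idx K) *
        (y : GL chevF4.Idx K)⁻¹) * (n : GL chevF4.Idx K)⁻¹ ∈ chevF4.borelSubgroup K := by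
      rw [hPB] at h3
      exact (Subgroup.mem_subgroupOf.mp h3).1
    have h5 := borel_inf_neg C.I C.hN h4 (key _ (f4_borel_conj_pos hy' ha))
    have h6 : (y : GL chevF4.Idx K) * (a : GL chevF4.Idx K) * (y : GL chevF4.Idx K)⁻¹ = 1 := by
      have e4 : (y : GL chevF4.Idx K) * (a : GL chevF4.Idx K) * (y : GL chevF4.Idx K)⁻¹ =
          (n : GL chevF4.Idx K)⁻¹ * ((n : GL chevF4.Idx K) * ((y : GL chevF4.Idx K) *
            (a : GL chevF4.Idx K) * (y : GL chevF4.Idx K)⁻¹) * (n : GL chevF4.Idx K)⁻¹) *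
            (n : GL chevF4.Idx K) := by group
      rw [e4, h5]
      group
    apply ha1
    apply Subtype.ext
    have e5 : (a : GL chevF4.Idx K) = (y : GL chevF4.Idx K)⁻¹ * ((y : GL chevF4.Idx K) *
        (a : GL chevF4.Idx K) * (y : GL chevF4.Idx K)⁻¹) * (y : GL chevF4.Idx K) := by group
    rw [e5, h6, mul_one, inv_mul_cancel]
    rfl

end Count

end Cfsg.Agent.Lib.helper23
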