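import Cfsg.Agent.Lib.helper23.F4Torus

set_option autoImplicit false
set_option maxRecDepth 100000

/-!
# The twisting automorphism of `F₄` in characteristic 2 (interface)

`σ` maps `x_s(t)` to `x_{ρ s}((t ^ e) ^ λ_s)`; the generators of the twisted group are fixed.
-/

namespace Cfsg.Agent.Lib.helper23

open Cfsg Cfsg.Lie Cfsg.Agent.Lib.helper41 Cfsg.Agent.Lib.helper22

universe u

/-- The permutation of the roots of `F₄` induced by the exceptional isogeny. -/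
def f4rho : List ℕ :=
  [3, 7, 8, 0, 9, 11, 18, 1, 2, 4, 15, 5, 16, 21, 23, 10, 12, 19, 6, 17, 22, 13, 20, 14, 33, 27, 34, 25, 30, 41, 28, 35, 37, 24, 26, 31, 42, 32, 43, 45, 46, 29, 36, 38, 47, 39, 40, 44]

/-- The exponents of the exceptional isogeny of `F₄` (`2` on the short roots, `1` on the long roots). -/
def f4lam : List ℕ :=
  [1, 1, 1, 2, 1, 1, 1, 2, 2, 2, 2, 2, 2, 2, 2, 1, 1, 1, 2, 2, 2, 1, 1, 1, 1, 1, 1, 2, 2, 2, 1, 1, 1, 2, 2, 2, 2, 2, 2, 2, 2, 1, 1, 1, 2, 1, 1, 1]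

theorem f4rho_lt : ∀ s, s < 48 → f4rho.getD s 0 < 48 := by decide

theorem f4rho_invol : ∀ s, s < 48 → f4rho.getD (f4rho.getD s 0) 0 = s := by decide

theorem f4rho_pos : ∀ s, s < 48 → (24 ≤ f4rho.getD s 0 ↔ 24 ≤ s) := by decide

theorem f4rho_neg : ∀ s, s < 48 → f4rho.getD (47 - s) 0 = 47 - f4rho.getD s 0 := by decide

theorem f4lam_mul : ∀ s, s < 48 → f4lam.getD s 1 * f4lam.getD (f4rho.getD s 0) 1 = 2 := by decide

theorem f4lam_cases : ∀ s, s < 48 → f4lam.getD s 1 = 1 ∨ f4lam.getD s 1 = 2 := by decide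

/-- The data of the twisting automorphism of `F₄(K)`, `θ = (· ^ e)`. -/
structure F4Data (K : Type u) [Field K] (e : ℕ) where
  T : TwoPow K e
  σ : ↥(chevF4.group K) ≃* ↥(chevF4.group K)
  hσ : ∀ (g : ↥(chevF4.group K)) (s : ℕ) (t : K), s < 48 →
    ((g : GL chevF4.Idx K) : Matrix chevF4.Idx chevF4.Idx K) = chevF4.x K s t →
    ((σ g : GL chevF4.Idx K) : Matrix chevF4.Idx chevF4.Idx K) =
      chevF4.x K (f4rho.getD s 0) ((t ^ e) ^ f4lam.getD s 1)

section Sigma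

variable {K : Type u} [Field K] {e : ℕ} (R : F4Data K e)

theorem f4x_mem_group {s : ℕ} (hs : s < 48) (t : K) : f4x s t ∈ chevF4.group K :=
  Subgroup.subset_closure ⟨⟨s, hs⟩, t, by rw [f4x_coe, x_eq chevF4 K ⟨s, hs⟩]⟩

include R

/-- The twisting automorphism as a map of the general linear group (trivial outside `F₄(K)`). -/
noncomputable def F4Data.sg (g : GL chevF4.Idx K) : GL chevF4.Idx K :=
  open Classical in if hg : g ∈ chevF4.group K then (R.σ ⟨g, hg⟩ : GL chevF4.Idx K) else 1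

theorem F4Data.sg_of_mem {g : GL chevF4.Idx K} (hg : g ∈ chevF4.group K) :
    R.sg g = (R.σ ⟨g, hg⟩ : GL chevF4.Idx K) := by
  unfold F4Data.sg
  exact dif_pos hg

theorem F4Data.sg_mem (g : GL chevF4.Idx K) : R.sg g ∈ chevF4.group K := by
  by_cases hg : g ∈ chevF4.group K
  · rw [R.sg_of_mem hg]
    exact (R.σ ⟨g, hg⟩).2
  · unfold F4Data.sg
    rw [dif_neg hg]
    exact one_mem _

theorem F4Data.sg_one : R.sg 1 = 1 := by
  rw [R.sg_of_mem (one_mem _)]
  have : (⟨1, one_mem _⟩ : ↥(chevF4.group K)) = 1 := rfl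
  rw [this, map_one]
  rfl

theorem F4Data.sg_mul {g h : GL chevF4.Idx K} (hg : g ∈ chevF4.group K) (hh : h ∈ chevF4.group K) :
    R.sg (g * h) = R.sg g * R.sg h := by
  rw [R.sg_of_mem (mul_mem hg hh), R.sg_of_mem hg, R.sg_of_mem hh]
  have : (⟨g * h, mul_mem hg hh⟩ : ↥(chevF4.group K)) = ⟨g, hg⟩ * ⟨h, hh⟩ := rfl
  rw [this, map_mul]
  rfl

theorem F4Data.sg_inv {g : GL chevF4.Idx K} (hg : g ∈ chevF4.group K) : R.sg g⁻¹ = (R.sg g)⁻¹ := by
  rw [R.sg_of_mem (inv_mem hg), R.sg_of_mem hg]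
  have : (⟨g⁻¹, inv_mem hg⟩ : ↥(chevF4.group K)) = (⟨g, hg⟩ : ↥(chevF4.group K))⁻¹ := rfl
  rw [this, map_inv]
  rfl

theorem F4Data.sg_inj {g h : GL chevF4.Idx K} (hg : g ∈ chevF4.group K) (hh : h ∈ chevF4.group K)
    (e1 : R.sg g = R.sg h) : g = h := by
  rw [R.sg_of_mem hg, R.sg_of_mem hh] at e1
  have := R.σ.injective (Subtype.ext e1)
  exact congrArg Subtype.val this

/-- The image of a root element. -/
theorem F4Data.sg_x {s : ℕ} (hs : s < 48) (t : K) :
    R.sg (f4x s t) = f4x (f4rho.getD s 0) ((t ^ e) ^ f4lam.getD s 1) := by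
  apply Units.ext
  rw [R.sg_of_mem (f4x_mem_group hs t)]
  exact R.hσ ⟨f4x s t, f4x_mem_group hs t⟩ s t hs rfl

/-- The subgroup of the fixed points of the twisting automorphism. -/
def F4Data.fix : Subgroup (GL chevF4.Idx K) where
  carrier := {g | g ∈ chevF4.group K ∧ R.sg g = g}
  mul_mem' := by
    rintro a b ⟨ha, ha'⟩ ⟨hb, hb'⟩
    exact ⟨mul_mem ha hb, by rw [R.sg_mul ha hb, ha', hb']⟩
  one_mem' := ⟨one_mem _, R.sg_one⟩
  inv_mem' := by
    rintro a ⟨ha, ha'⟩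
    exact ⟨inv_mem ha, by rw [R.sg_inv ha, ha']⟩

theorem F4Data.mem_fix {g : GL chevF4.Idx K} : g ∈ R.fix ↔ g ∈ chevF4.group K ∧ R.sg g = g := Iff.rfl

/-- The twisting automorphism maps a subgroup generated by a set into a subgroup containing the images of
the generators. -/
theorem F4Data.sg_closure (S : Set (GL chevF4.Idx K)) (T : Subgroup (GL chevF4.Idx K))
    (hS : ∀ x ∈ S, x ∈ chevF4.group K ∧ R.sg x ∈ T) :
    ∀ x ∈ Subgroup.closure S, x ∈ chevF4.group K ∧ R.sg x ∈ T := by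
  intro x hx
  induction hx using Subgroup.closure_induction with
  | mem y hy => exact hS y hy
  | one => exact ⟨one_mem _, by rw [R.sg_one]; exact one_mem _⟩
  | mul a b _ _ ha hb => exact ⟨mul_mem ha.1 hb.1, by rw [R.sg_mul ha.1 hb.1]; exact mul_mem ha.2 hb.2⟩
  | inv a _ ha => exact ⟨inv_mem ha.1, by rw [R.sg_inv ha.1]; exact inv_mem ha.2⟩

theorem F4Data.sg_gP (t : K) : R.sg (f4gP e t) = f4gP e t := by
  unfold f4gP
  rw [R.sg_mul (f4x_mem_group (by decide) _) (f4x_mem_group (by decide) _), R.sg_x (by decide),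
    R.sg_x (by decide)]
  show f4x 24 (((t ^ e) ^ e) ^ 2) * f4x 33 ((t ^ e) ^ 1) = _
  rw [R.T.hφ, pow_one]
  exact f4x_comm (K := K) (r := 24) (s := 33) (by decide) (by decide) (by decide) (by decide)
    (by decide +kernel) t (t ^ e)

theorem F4Data.sg_gM (t : K) : R.sg (f4gM e t) = f4gM e t := by
  unfold f4gM
  rw [R.sg_mul (f4x_mem_group (by decide) _) (f4x_mem_group (by decide) _), R.sg_x (by decide),
    R.sg_x (by decide)]
  show f4x 23 (((t ^ e) ^ e) ^ 2) * f4x 14 ((t ^ e) ^ 1) = _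
  rw [R.T.hφ, pow_one]
  exact f4x_comm (K := K) (r := 23) (s := 14) (by decide) (by decide) (by decide) (by decide)
    (by decide +kernel) t (t ^ e)

/-- The elements of the twisted root subgroups of type `B₂` are fixed. -/
theorem F4Data.sg_b2 {ra rb rab raab : ℕ} (B : B2Rel ra rb rab raab)
    (h1 : f4rho.getD ra 0 = rb) (h2 : f4rho.getD rb 0 = ra) (h3 : f4rho.getD rab 0 = raab)
    (h4 : f4rho.getD raab 0 = rab) (l1 : f4lam.getD ra 1 = 2) (l2 : f4lam.getD rb 1 = 1)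
    (l3 : f4lam.getD rab 1 = 2) (l4 : f4lam.getD raab 1 = 1) (t u : K) :
    R.sg (f4x ra (t ^ e) * f4x rb t * f4x rab (t ^ (e + 1) + u) * f4x raab (u ^ (2 * e))) =
      f4x ra (t ^ e) * f4x rb t * f4x rab (t ^ (e + 1) + u) * f4x raab (u ^ (2 * e)) := by
  have ga := f4x_mem_group (K := K) B.la (t ^ e)
  have gb := f4x_mem_group (K := K) B.lb t
  have gab := f4x_mem_group (K := K) B.lab (t ^ (e + 1) + u)
  have gaab := f4x_mem_group (K := K) B.laab (u ^ (2 * e))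
  rw [R.sg_mul (mul_mem (mul_mem ga gb) gab) gaab, R.sg_mul (mul_mem ga gb) gab, R.sg_mul ga gb,
    R.sg_x B.la, R.sg_x B.lb, R.sg_x B.lab, R.sg_x B.laab, h1, h2, h3, h4, l1, l2, l3, l4, R.T.hφ, pow_one,
    pow_one, R.T.pow_e_two_e]
  have hd : ((t ^ (e + 1) + u) ^ e) ^ 2 = (t ^ e) ^ 2 * t + u ^ (2 * e) := by
    rw [R.T.hadd, R.T.sq_add]
    congr 1
    · have h := R.T.hφ t
      calc ((t ^ (e + 1)) ^ e) ^ 2 = (t ^ e) ^ 2 * ((t ^ e) ^ e) ^ 2 := by ring
        _ = (t ^ e) ^ 2 * t := by rw [h]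
    · ring
  rw [hd]
  have k1 := B.ba R.T.char2 (t ^ e) t
  have k2 := B.aab_ab (K := K) ((t ^ e) ^ 2 * t + u ^ (2 * e)) u
  have k3 := B.aab_ab (K := K) ((t ^ e) ^ 2 * t) u
  have k4 : (t ^ e) ^ 2 * t + ((t ^ e) ^ 2 * t + u ^ (2 * e)) = u ^ (2 * e) := by
    linear_combination R.T.add_self ((t ^ e) ^ 2 * t)
  have k5 : t ^ e * t + u = t ^ (e + 1) + u := by ring
  calc f4x rb t * f4x ra (t ^ e) * f4x raab ((t ^ e) ^ 2 * t + u ^ (2 * e)) * f4x rab u
      = (f4x rb t * f4x ra (t ^ e)) * (f4x raab ((t ^ e) ^ 2 * t + u ^ (2 * e)) * f4x rab u) := by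
        simp only [mul_assoc]
    _ = f4x ra (t ^ e) * (f4x rb t * (f4x rab (t ^ e * t) * f4x raab ((t ^ e) ^ 2 * t))) *
          (f4x rab u * f4x raab ((t ^ e) ^ 2 * t + u ^ (2 * e))) := by rw [k1, k2]
    _ = f4x ra (t ^ e) * f4x rb t * f4x rab (t ^ e * t) * (f4x raab ((t ^ e) ^ 2 * t) * f4x rab u) *
          f4x raab ((t ^ e) ^ 2 * t + u ^ (2 * e)) := by simp only [mul_assoc]
    _ = f4x ra (t ^ e) * f4x rb t * f4x rab (t ^ e * t) * (f4x rab u * f4x raab ((t ^ e) ^ 2 * t)) *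
          f4x raab ((t ^ e) ^ 2 * t + u ^ (2 * e)) := by rw [k3]
    _ = f4x ra (t ^ e) * f4x rb t * (f4x rab (t ^ e * t) * f4x rab u) * (f4x raab ((t ^ e) ^ 2 * t) *
          f4x raab ((t ^ e) ^ 2 * t + u ^ (2 * e))) := by simp only [mul_assoc]
    _ = f4x ra (t ^ e) * f4x rb t * f4x rab (t ^ (e + 1) + u) * f4x raab (u ^ (2 * e)) := by
        rw [← f4x_add, ← f4x_add, k4, k5]

theorem F4Data.sg_uB (t u : K) : R.sg (f4uB e t u) = f4uB e t u :=
  R.sg_b2 b2Rel_pos (by decide) (by decide) (by decide) (by decide) (by decide) (by decide) (by decide)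
    (by decide) t u

theorem F4Data.sg_vB (t u : K) : R.sg (f4vB e t u) = f4vB e t u :=
  R.sg_b2 b2Rel_neg (by decide) (by decide) (by decide) (by decide) (by decide) (by decide) (by decide)
    (by decide) t u

omit R in
theorem f4gP_mem_group (t : K) : f4gP e t ∈ chevF4.group K :=
  mul_mem (f4x_mem_group (by decide) _) (f4x_mem_group (by decide) _)

omit R in
theorem f4gM_mem_group (t : K) : f4gM e t ∈ chevF4.group K :=
  mul_mem (f4x_mem_group (by decide) _) (f4x_mem_group (by decide) _)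

omit R in
theorem f4uB_mem_group (t u : K) : f4uB e t u ∈ chevF4.group K :=
  mul_mem (mul_mem (mul_mem (f4x_mem_group (by decide) _) (f4x_mem_group (by decide) _))
    (f4x_mem_group (by decide) _)) (f4x_mem_group (by decide) _)

omit R in
theorem f4vB_mem_group (t u : K) : f4vB e t u ∈ chevF4.group K :=
  mul_mem (mul_mem (mul_mem (f4x_mem_group (by decide) _) (f4x_mem_group (by decide) _))
    (f4x_mem_group (by decide) _)) (f4x_mem_group (by decide) _)

/-- The twisted group consists of fixed points of the twisting automorphism. -/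
theorem F4Data.twisted_le_fix : twistedF4 K e ≤ R.fix := by
  rw [twistedF4_eq_closure, Subgroup.closure_le]
  rintro g (⟨t, rfl | rfl⟩ | ⟨t, u, rfl | rfl⟩)
  · exact ⟨f4gP_mem_group t, R.sg_gP t⟩
  · exact ⟨f4gM_mem_group t, R.sg_gM t⟩
  · exact ⟨f4uB_mem_group t u, R.sg_uB t u⟩
  · exact ⟨f4vB_mem_group t u, R.sg_vB t u⟩

theorem F4Data.sg_fix {g : GL chevF4.Idx K} (hg : g ∈ twistedF4 K e) : R.sg g = g :=
  (R.twisted_le_fix hg).2

theorem F4Data.twisted_le_group : twistedF4 K e ≤ chevF4.group K := fun _ hg => (R.twisted_le_fix hg).1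

end Sigma

end Cfsg.Agent.Lib.helper23
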