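import Cfsg.Agent.Lib.helper23.F4Base

set_option autoImplicit false
set_option maxRecDepth 100000

/-!
# The elements `n₁`, `n₂` of `N ∩ ²F₄` and the core of `B ∩ ²F₄`
-/

namespace Cfsg.Agent.Lib.helper23

open Cfsg Cfsg.Lie Cfsg.Agent.Lib.helper41 Cfsg.Agent.Lib.helper22

universe u

/-- The word of `g₊(1) g₋(1) g₊(1)`. -/
def f4n1W : List (ℕ × ℤ × ℕ) := [(33, 1, 0), (24, 1, 0), (14, 1, 0), (23, 1, 0), (33, 1, 0), (24, 1, 0)]

/-- The word of `n_{p₁} n_{p₄}`. -/
def f4n1W' : List (ℕ × ℤ × ℕ) := [(33, 1, 0), (14, -1, 0), (33, 1, 0), (24, 1, 0), (23, -1, 0), (24, 1, 0)]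

/-- The word of `U₂(1,0) V₂(0,1) U₂(1,1)`. -/
def f4n2W : List (ℕ × ℤ × ℕ) :=
  [(27, 1, 0), (25, 1, 0), (28, 1, 0), (30, 0, 0), (20, 0, 0), (22, 0, 0), (19, 1, 0), (17, 1, 0),
    (27, 1, 0), (25, 1, 0), (28, 2, 0), (30, 1, 0)]

/-- The word of `(n_a n_b)²`. -/
def f4n2W' : List (ℕ × ℤ × ℕ) :=
  [(27, 1, 0), (20, -1, 0), (27, 1, 0), (25, 1, 0), (22, -1, 0), (25, 1, 0),
    (27, 1, 0), (20, -1, 0), (27, 1, 0), (25, 1, 0), (22, -1, 0), (25, 1, 0)]

theorem f4n1Check : symWordEqCheck chevF4 TabF4.tab.col 2 f4n1W f4n1W' = true := by decide +kernel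

theorem f4n2Check : symWordEqCheck chevF4 TabF4.tab.col 2 f4n2W f4n2W' = true := by decide +kernel

section N

variable {K : Type u} [Field K]

/-- `n₁ = g₊(1) g₋(1) g₊(1)`. -/
def f4n1 (K : Type u) [Field K] (e : ℕ) : GL chevF4.Idx K := f4gP e 1 * f4gM e 1 * f4gP e 1

/-- `n₂ = U₂(1,0) V₂(0,1) U₂(1,1)`. -/
def f4n2 (K : Type u) [Field K] (e : ℕ) : GL chevF4.Idx K := f4uB e 1 0 * f4vB e 0 1 * f4uB e 1 1

theorem f4n1_mem (e : ℕ) : f4n1 K e ∈ twistedF4 K e :=
  mul_mem (mul_mem (f4gP_mem e 1) (f4gM_mem e 1)) (f4gP_mem e 1)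

theorem f4n2_mem (e : ℕ) : f4n2 K e ∈ twistedF4 K e :=
  mul_mem (mul_mem (f4uB_mem e 1 0) (f4vB_mem e 0 1)) (f4uB_mem e 1 1)

/-- The simple reflection `n_{p_i}` of `F₄(K)`. -/
abbrev f4nS (K : Type u) [Field K] (i : ℕ) : GL chevF4.Idx K := nGL (chevFacts_F4 K).I.hSD' i

theorem f4n1_eq [CharP K 2] (e : ℕ) : f4n1 K e = f4nS K 0 * f4nS K 3 := by
  apply Units.ext
  have h := wordMat_eq_of_symCheck (F := K) chevF4 TabF4.tab.col TabF4.colValid 2 1 f4n1W f4n1W'
    (by decide) (by decide) f4n1Check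
  have e1 : ((f4n1 K e : GL chevF4.Idx K) : Matrix chevF4.Idx chevF4.Idx K) =
      chevF4.wordMat K (symWord K 1 f4n1W) := by
    unfold f4n1 f4gP f4gM
    simp [symWord, f4n1W, Cfsg.Agent.Lib.helper22.wordMat_cons, Cfsg.Agent.Lib.helper22.wordMat_nil, xGL_coe,
      mul_assoc]
  have e2 : ((f4nS K 0 * f4nS K 3 : GL chevF4.Idx K) : Matrix chevF4.Idx chevF4.Idx K) =
      chevF4.wordMat K (symWord K 1 f4n1W') := by
    rw [Units.val_mul, nGL_coe, nGL_coe, nMat_eq_three, nMat_eq_three]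
    have s0 : chevF4.simple 0 = 33 := by decide
    have s3 : chevF4.simple 3 = 24 := by decide
    have n0 : chevF4.neg 33 = 14 := by decide
    have n3 : chevF4.neg 24 = 23 := by decide
    rw [s0, s3, n0, n3]
    simp [symWord, f4n1W', Cfsg.Agent.Lib.helper22.wordMat_cons, Cfsg.Agent.Lib.helper22.wordMat_nil, mul_assoc]
  rw [e1, e2, h]

theorem f4n2_eq [CharP K 2] {e : ℕ} (he : e ≠ 0) :
    f4n2 K e = (f4nS K 1 * f4nS K 2) * (f4nS K 1 * f4nS K 2) := by
  apply Units.ext
  have h := wordMat_eq_of_symCheck (F := K) chevF4 TabF4.tab.col TabF4.colValid 2 1 f4n2W f4n2W'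
    (by decide) (by decide) f4n2Check
  have e1 : ((f4n2 K e : GL chevF4.Idx K) : Matrix chevF4.Idx chevF4.Idx K) =
      chevF4.wordMat K (symWord K 1 f4n2W) := by
    unfold f4n2 f4uB f4vB
    have h2 : (1 : K) + 1 = 2 := one_add_one_eq_two
    simp [symWord, f4n2W, Cfsg.Agent.Lib.helper22.wordMat_cons, Cfsg.Agent.Lib.helper22.wordMat_nil, xGL_coe,
      mul_assoc, he, h2]
  have e2 : ((f4nS K 1 * f4nS K 2 * (f4nS K 1 * f4nS K 2) : GL chevF4.Idx K) :
      Matrix chevF4.Idx chevF4.Idx K) = chevF4.wordMat K (symWord K 1 f4n2W') := by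
    rw [Units.val_mul, Units.val_mul, nGL_coe, nGL_coe, nMat_eq_three, nMat_eq_three]
    have s1 : chevF4.simple 1 = 27 := by decide
    have s2 : chevF4.simple 2 = 25 := by decide
    have n1 : chevF4.neg 27 = 20 := by decide
    have n2 : chevF4.neg 25 = 22 := by decide
    rw [s1, s2, n1, n2]
    simp [symWord, f4n2W', Cfsg.Agent.Lib.helper22.wordMat_cons, Cfsg.Agent.Lib.helper22.wordMat_nil, mul_assoc]
  rw [e1, e2, h]

/-- The permutation of the roots induced by `n₁`. -/
def f4pi1 (s : ℕ) : ℕ := chevF4.reflectRoot 0 (chevF4.reflectRoot 3 s)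

/-- The permutation of the roots induced by `n₂`. -/
def f4pi2 (s : ℕ) : ℕ :=
  chevF4.reflectRoot 1 (chevF4.reflectRoot 2 (chevF4.reflectRoot 1 (chevF4.reflectRoot 2 s)))

theorem f4n1_mono [CharP K 2] (e : ℕ) : f4n1 K e ∈ chevF4.monomialSubgroup K := by
  rw [f4n1_eq]
  exact mul_mem (nGL_mem (chevFacts_F4 K).I (by decide)) (nGL_mem (chevFacts_F4 K).I (by decide))

theorem f4n2_mono [CharP K 2] {e : ℕ} (he : e ≠ 0) : f4n2 K e ∈ chevF4.monomialSubgroup K := by
  rw [f4n2_eq he]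
  have h := mul_mem (nGL_mem (chevFacts_F4 K).I (i := 1) (by decide))
    (nGL_mem (chevFacts_F4 K).I (i := 2) (by decide))
  exact mul_mem h h

theorem f4n1_rootAct [CharP K 2] (e : ℕ) :
    ∃ c : ℕ → K, RootAct chevF4 K ((f4n1 K e : GL chevF4.Idx K) : Matrix chevF4.Idx chevF4.Idx K) f4pi1 c := by
  rw [f4n1_eq, Units.val_mul]
  exact ⟨_, (rootAct_nGL (chevFacts_F4 K).I (i := 0) (by decide)).mul
    (rootAct_nGL (chevFacts_F4 K).I (i := 3) (by decide))⟩

theorem f4n2_rootAct [CharP K 2] {e : ℕ} (he : e ≠ 0) :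
    ∃ c : ℕ → K, RootAct chevF4 K ((f4n2 K e : GL chevF4.Idx K) : Matrix chevF4.Idx chevF4.Idx K) f4pi2 c := by
  rw [f4n2_eq he, Units.val_mul, Units.val_mul]
  have h1 := rootAct_nGL (chevFacts_F4 K).I (i := 1) (by decide)
  have h2 := rootAct_nGL (chevFacts_F4 K).I (i := 2) (by decide)
  have h := (h1.mul h2).mul (h1.mul h2)
  exact ⟨_, h⟩

/-- The longest element `n₀ = (n₁ n₂)⁴`. -/
def f4n0 (K : Type u) [Field K] (e : ℕ) : GL chevF4.Idx K :=
  (f4n1 K e * f4n2 K e) * (f4n1 K e * f4n2 K e) * ((f4n1 K e * f4n2 K e) * (f4n1 K e * f4n2 K e))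

/-- The permutation of the roots induced by `n₀`. -/
def f4pi0 (s : ℕ) : ℕ := f4pi1 (f4pi2 (f4pi1 (f4pi2 (f4pi1 (f4pi2 (f4pi1 (f4pi2 s)))))))

theorem f4pi0_eq : ∀ s, s < 48 → f4pi0 s = 47 - s := by decide +kernel

theorem f4n0_mem (e : ℕ) : f4n0 K e ∈ twistedF4 K e := by
  have h := mul_mem (f4n1_mem (K := K) e) (f4n2_mem (K := K) e)
  exact mul_mem (mul_mem h h) (mul_mem h h)

theorem f4n0_mono [CharP K 2] {e : ℕ} (he : e ≠ 0) : f4n0 K e ∈ chevF4.monomialSubgroup K := by
  have h := mul_mem (f4n1_mono (K := K) e) (f4n2_mono (K := K) he)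
  exact mul_mem (mul_mem h h) (mul_mem h h)

theorem f4n0_rootAct [CharP K 2] {e : ℕ} (he : e ≠ 0) :
    ∃ c : ℕ → K, RootAct chevF4 K ((f4n0 K e : GL chevF4.Idx K) : Matrix chevF4.Idx chevF4.Idx K) f4pi0 c := by
  obtain ⟨c1, h1⟩ := f4n1_rootAct (K := K) e
  obtain ⟨c2, h2⟩ := f4n2_rootAct (K := K) he
  have h12 := h1.mul h2
  have h := (h12.mul h12).mul (h12.mul h12)
  unfold f4n0
  rw [Units.val_mul, Units.val_mul, Units.val_mul]
  exact ⟨_, h⟩

/-- The normal core of `B ∩ ²F₄` in `²F₄` is trivial. -/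
theorem f4_core [CharP K 2] {e : ℕ} (he : e ≠ 0) :
    ((chevF4.borelSubgroup K ⊓ twistedF4 K e).subgroupOf (twistedF4 K e)).normalCore = ⊥ := by
  have C := chevFacts_F4 K
  obtain ⟨c0, h0⟩ := f4n0_rootAct (K := K) he
  have s0 : chevF4.simple 0 = 33 := by decide
  have s1 : chevF4.simple 1 = 27 := by decide
  have s2 : chevF4.simple 2 = 25 := by decide
  have s3 : chevF4.simple 3 = 24 := by decide
  have hP : ∀ t : K, f4gP e t ∈ chevF4.posUnipotent K := fun t =>
    mul_mem (C.xGL_pos (by decide) (by decide) _) (C.xGL_pos (by decide) (by decide) _)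
  have hU : ∀ t u : K, f4uB e t u ∈ chevF4.posUnipotent K := fun t u =>
    mul_mem (mul_mem (mul_mem (C.xGL_pos (by decide) (by decide) _) (C.xGL_pos (by decide) (by decide) _))
      (C.xGL_pos (by decide) (by decide) _)) (C.xGL_pos (by decide) (by decide) _)
  apply core_trivial_of C (twistedF4 K e) (f4n0_mono he) (f4n0_mem e) h0
  · intro r hr hpos
    have hr' : r < 48 := hr
    rw [f4pi0_eq r hr']
    have : chevF4.nroots / 2 = 24 := by decide
    omega
  · intro i hi
    have hi' : i < 4 := hi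
    interval_cases i
    · refine ⟨f4gP e 1, hP 1, f4gP_mem e 1, ?_⟩
      unfold f4gP
      rw [coordU_mul C (by decide) (C.xGL_pos (by decide) (by decide) _) (C.xGL_pos (by decide) (by decide) _)]
      have e1 := coordU_x_self C (i := 0) (by decide) ((1 : K) ^ e)
      rw [s0] at e1
      have e2 := coordU_x_other C (i := 0) (by decide) (s := 24) (by decide) (by decide) (by decide) (1 : K)
      rw [e1, e2, one_pow, add_zero]
      exact one_ne_zero
    · refine ⟨f4uB e 1 0, hU 1 0, f4uB_mem e 1 0, ?_⟩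
      unfold f4uB
      rw [coordU_mul C (by decide) (mul_mem (mul_mem (C.xGL_pos (by decide) (by decide) _)
        (C.xGL_pos (by decide) (by decide) _)) (C.xGL_pos (by decide) (by decide) _))
        (C.xGL_pos (by decide) (by decide) _),
        coordU_mul C (by decide) (mul_mem (C.xGL_pos (by decide) (by decide) _)
        (C.xGL_pos (by decide) (by decide) _)) (C.xGL_pos (by decide) (by decide) _),
        coordU_mul C (by decide) (C.xGL_pos (by decide) (by decide) _) (C.xGL_pos (by decide) (by decide) _)]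
      have e1 := coordU_x_self C (i := 1) (by decide) ((1 : K) ^ e)
      rw [s1] at e1
      have e2 := coordU_x_other C (i := 1) (by decide) (s := 25) (by decide) (by decide) (by decide) (1 : K)
      have e3 := coordU_x_other C (i := 1) (by decide) (s := 28) (by decide) (by decide) (by decide)
        ((1 : K) ^ (e + 1) + 0)
      have e4 := coordU_x_other C (i := 1) (by decide) (s := 30) (by decide) (by decide) (by decide)
        ((0 : K) ^ (2 * e))
      rw [e1, e2, e3, e4, one_pow, add_zero, add_zero, add_zero]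
      exact one_ne_zero
    · refine ⟨f4uB e 1 0, hU 1 0, f4uB_mem e 1 0, ?_⟩
      unfold f4uB
      rw [coordU_mul C (by decide) (mul_mem (mul_mem (C.xGL_pos (by decide) (by decide) _)
        (C.xGL_pos (by decide) (by decide) _)) (C.xGL_pos (by decide) (by decide) _))
        (C.xGL_pos (by decide) (by decide) _),
        coordU_mul C (by decide) (mul_mem (C.xGL_pos (by decide) (by decide) _)
        (C.xGL_pos (by decide) (by decide) _)) (C.xGL_pos (by decide) (by decide) _),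
        coordU_mul C (by decide) (C.xGL_pos (by decide) (by decide) _) (C.xGL_pos (by decide) (by decide) _)]
      have e1 := coordU_x_other C (i := 2) (by decide) (s := 27) (by decide) (by decide) (by decide)
        ((1 : K) ^ e)
      have e2 := coordU_x_self C (i := 2) (by decide) (1 : K)
      rw [s2] at e2
      have e3 := coordU_x_other C (i := 2) (by decide) (s := 28) (by decide) (by decide) (by decide)
        ((1 : K) ^ (e + 1) + 0)
      have e4 := coordU_x_other C (i := 2) (by decide) (s := 30) (by decide) (by decide) (by decide)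
        ((0 : K) ^ (2 * e))
      rw [e1, e2, e3, e4, zero_add, add_zero, add_zero]
      exact one_ne_zero
    · refine ⟨f4gP e 1, hP 1, f4gP_mem e 1, ?_⟩
      unfold f4gP
      rw [coordU_mul C (by decide) (C.xGL_pos (by decide) (by decide) _) (C.xGL_pos (by decide) (by decide) _)]
      have e1 := coordU_x_other C (i := 3) (by decide) (s := 33) (by decide) (by decide) (by decide)
        ((1 : K) ^ e)
      have e2 := coordU_x_self C (i := 3) (by decide) (1 : K)
      rw [s3] at e2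
      rw [e1, e2, zero_add]
      exact one_ne_zero

end N

/-- A field with `2 ^ n` elements, `n ≠ 0`, has characteristic two. -/
theorem charP_two_of_card {K : Type u} [Field K] [Fintype K] {n : ℕ} (hn : n ≠ 0)
    (hK : Fintype.card K = 2 ^ n) : CharP K 2 := by
  obtain ⟨p, hp⟩ := CharP.exists K
  haveI := hp
  haveI hpp : Fact p.Prime := ⟨CharP.char_is_prime K p⟩
  obtain ⟨k, -, hk⟩ := FiniteField.card K p
  have h2 : p = 2 := by
    have h1 : p ∣ 2 ^ n := by
      rw [← hK, hk]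
      exact dvd_pow_self p k.ne_zero
    exact (Nat.prime_dvd_prime_iff_eq hpp.out Nat.prime_two).mp (hpp.out.dvd_of_dvd_pow h1)
  subst h2
  exact hp

end Cfsg.Agent.Lib.helper23
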