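import Cfsg.Agent.Lib.helper23.F4Cell

set_option autoImplicit false
set_option maxRecDepth 100000

/-!
# The normal form of the elements of `U ∩ ²F₄`

Every element of `U ∩ ²F₄` is a nested product of twisted root elements along the word of the longest
element.
-/

namespace Cfsg.Agent.Lib.helper23

open Cfsg Cfsg.Lie Cfsg.Agent.Lib.helper41 Cfsg.Agent.Lib.helper22

universe u

section NF

variable {K : Type u} [Field K] {e : ℕ}

/-- The twisted root element of a letter with parameters `p`. -/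
def f4letE (K : Type u) [Field K] (e : ℕ) (j : ℕ) (p : K × K) : GL chevF4.Idx K :=
  if j = 1 then f4gP e p.1 else f4uB e p.1 p.2

theorem f4letE_mem (e : ℕ) (j : ℕ) (p : K × K) : f4letE K e j p ∈ twistedF4 K e := by
  unfold f4letE
  by_cases hj : j = 1
  · rw [if_pos hj]
    exact f4gP_mem e _
  · rw [if_neg hj]
    exact f4uB_mem e _ _

/-- The nested product of twisted root elements along a word. -/
def f4nest (K : Type u) [Field K] (e : ℕ) : List ℕ → List (K × K) → GL chevF4.Idx K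
  | j :: r, p :: ps => f4letE K e j p * ((f4letN K e j)⁻¹ * f4nest K e r ps * f4letN K e j)
  | _, _ => 1

/-- The step of the cell decomposition along a reduced word, as a factorisation. -/
theorem F4Data.cell_letter_surj (R : F4Data K e) (j : ℕ) (r : List ℕ)
    (h1 : ∀ s ∈ f4letCls j, f4wordPi (j :: r) s < 24) {u : GL chevF4.Idx K}
    (hu : u ∈ cellA (chevF4.posUnipotent K) (chevF4.negUnipotent K) R.fix (f4wordN K e (j :: r))) :
    ∃ p : K × K, ∃ v ∈ cellA (chevF4.posUnipotent K) (chevF4.negUnipotent K) R.fix (f4wordN K e r),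
      u = f4letE K e j p * ((f4letN K e j)⁻¹ * v * f4letN K e j) := by
  have T := R.T
  have := T.char2
  have he := T.e_ne_zero
  obtain ⟨cm, hactm⟩ := f4letN_rootAct (K := K) he j
  obtain ⟨c'', hact''⟩ := f4wordN_rootAct (K := K) he (j :: r)
  obtain ⟨hu1, hu2, hu3⟩ := hu
  have hufix : R.sg u = u := (R.mem_fix.mp hu2).2
  have hmΓ : f4letN K e j ∈ twistedF4 K e := f4letN_mem e j
  have hmF := R.twisted_le_fix hmΓ
  have key : ∃ p : K × K,
      f4letN K e j * ((f4letE K e j p)⁻¹ * u) * (f4letN K e j)⁻¹ ∈ chevF4.posUnipotent K ∧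
      f4wordN K e (j :: r) * f4letE K e j p * (f4wordN K e (j :: r))⁻¹ ∈ chevF4.negUnipotent K := by
    by_cases hj : j = 1
    · have e1 : f4letN K e j = f4n1 K e := if_pos hj
      have e2 : f4letPi j = f4pi1 := funext fun s => if_pos hj
      have e4 : f4letCls j = [33, 24] := if_pos hj
      rw [e4] at h1
      rw [e2] at hactm
      rw [e1] at hactm hmΓ ⊢
      obtain ⟨y, hy, hfy, hyu⟩ := R.class_split hmΓ (f4Y1 K) (fun u hu => f4_split1 e hu)
        (fun y hy => f4Y1_pos hy) (fun y hy => f4_conj_Y1_neg hactm f4pi1_cls.1 f4pi1_cls.2 hy)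
        hu1 hufix
      obtain ⟨t, rfl⟩ := R.fix_Y1 hy hfy
      have e5 : f4letE K e j (t, 0) = f4gP e t := if_pos hj
      refine ⟨(t, 0), ?_, ?_⟩
      · rw [e5]
        exact hyu
      · rw [e5]
        exact f4_conj_Y1_neg hact'' (h1 33 (by simp)) (h1 24 (by simp)) hy
    · have e1 : f4letN K e j = f4n2 K e := if_neg hj
      have e2 : f4letPi j = f4pi2 := funext fun s => if_neg hj
      have e4 : f4letCls j = [27, 25, 28, 30] := if_neg hj
      rw [e4] at h1
      rw [e2] at hactm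
      rw [e1] at hactm hmΓ ⊢
      obtain ⟨y, hy, hfy, hyu⟩ := R.class_split hmΓ (f4Y2 K) (fun u hu => f4_split2 he hu)
        (fun y hy => f4Y2_pos hy)
        (fun y hy => f4_conj_Y2_neg hactm f4pi2_cls.1 f4pi2_cls.2.1 f4pi2_cls.2.2.1 f4pi2_cls.2.2.2 hy)
        hu1 hufix
      obtain ⟨t, s, rfl⟩ := R.fix_Y2 hy hfy
      have e5 : f4letE K e j (t, s) = f4uB e t s := if_neg hj
      refine ⟨(t, s), ?_, ?_⟩
      · rw [e5]
        exact hyu
      · rw [e5]
        exact f4_conj_Y2_neg hact'' (h1 27 (by simp)) (h1 25 (by simp)) (h1 28 (by simp))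
          (h1 30 (by simp)) hy
  obtain ⟨p, hp1, hp2⟩ := key
  have hxF := R.twisted_le_fix (f4letE_mem e j p)
  refine ⟨p, f4letN K e j * ((f4letE K e j p)⁻¹ * u) * (f4letN K e j)⁻¹, ⟨hp1, ?_, ?_⟩, by group⟩
  · exact mul_mem (mul_mem hmF (mul_mem (inv_mem hxF) hu2)) (inv_mem hmF)
  · have e0 : f4wordN K e (j :: r) = f4wordN K e r * f4letN K e j := rfl
    rw [e0] at hp2 hu3
    have e : f4wordN K e r * (f4letN K e j * ((f4letE K e j p)⁻¹ * u) * (f4letN K e j)⁻¹) *
        (f4wordN K e r)⁻¹ =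
        (f4wordN K e r * f4letN K e j * f4letE K e j p * (f4wordN K e r * f4letN K e j)⁻¹)⁻¹ *
          (f4wordN K e r * f4letN K e j * u * (f4wordN K e r * f4letN K e j)⁻¹) := by group
    rw [e]
    exact mul_mem (inv_mem hp2) hu3

/-- The elements of the cell of a reduced word are nested products. -/
theorem F4Data.cell_word_surj (R : F4Data K e) : ∀ w : List ℕ, f4RedB w = true →
    ∀ u ∈ cellA (chevF4.posUnipotent K) (chevF4.negUnipotent K) R.fix (f4wordN K e w),
      ∃ ps : List (K × K), ps.length = w.length ∧ u = f4nest K e w ps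
  | [], _ => by
    rintro u ⟨hu, -, hv⟩
    have e1 : f4wordN K e [] * u * (f4wordN K e [])⁻¹ = u := by
      show 1 * u * 1⁻¹ = u
      group
    rw [e1] at hv
    exact ⟨[], rfl, f4_pos_inf_neg hu hv⟩
  | j :: r, h => by
    intro u hu
    have h' : (f4RedB r && (f4letCls j).all (fun s => decide (f4wordPi (j :: r) s < 24)) &&
      (List.range 48).all (fun s => !(decide (24 ≤ s)) || !(decide (f4wordPi r s < 24)) ||
        decide (24 ≤ f4letPi j s))) = true := h
    rw [Bool.and_eq_true, Bool.and_eq_true, List.all_eq_true] at h'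
    obtain ⟨⟨hr, hA⟩, -⟩ := h'
    obtain ⟨p, v, hv, rfl⟩ := R.cell_letter_surj j r (fun s hs => of_decide_eq_true (hA s hs)) hu
    obtain ⟨ps, hlen, rfl⟩ := R.cell_word_surj r hr v hv
    exact ⟨p :: ps, by simp [hlen], rfl⟩

/-- The elements of `U ∩ ²F₄` are nested products along the word of the longest element. -/
theorem F4Data.pos_nest (R : F4Data K e) {u : GL chevF4.Idx K} (hu : u ∈ chevF4.posUnipotent K)
    (hΓ : u ∈ twistedF4 K e) : ∃ ps : List (K × K), ps.length = 8 ∧ u = f4nest K e f4w0 ps := by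
  have T := R.T
  have := T.char2
  have he := T.e_ne_zero
  obtain ⟨c, hact⟩ := f4wordN_rootAct (K := K) he f4w0
  exact R.cell_word_surj f4w0 f4w0_red u ⟨hu, R.twisted_le_fix hΓ, f4_conj_pos_neg hact f4w0_pi u hu⟩

/-- The nested product along the word of the longest element, written out. -/
theorem f4nest_w0 (p1 p2 p3 p4 p5 p6 p7 p8 : K × K) :
    f4nest K e f4w0 [p1, p2, p3, p4, p5, p6, p7, p8] =
      f4uB e p1.1 p1.2 * ((f4n2 K e)⁻¹ * (f4gP e p2.1 * ((f4n1 K e)⁻¹ *
      (f4uB e p3.1 p3.2 * ((f4n2 K e)⁻¹ * (f4gP e p4.1 * ((f4n1 K e)⁻¹ *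
      (f4uB e p5.1 p5.2 * ((f4n2 K e)⁻¹ * (f4gP e p6.1 * ((f4n1 K e)⁻¹ *
      (f4uB e p7.1 p7.2 * ((f4n2 K e)⁻¹ * (f4gP e p8.1 * ((f4n1 K e)⁻¹ * 1 * f4n1 K e)) * f4n2 K e)) *
      f4n1 K e)) * f4n2 K e)) * f4n1 K e)) * f4n2 K e)) * f4n1 K e)) * f4n2 K e) := rfl

omit [Field K] in
theorem f4nest_len8 {ps : List (K × K)} (h : ps.length = 8) :
    ∃ p1 p2 p3 p4 p5 p6 p7 p8 : K × K, ps = [p1, p2, p3, p4, p5, p6, p7, p8] := by
  match ps, h with
  | [p1, p2, p3, p4, p5, p6, p7, p8], _ => exact ⟨p1, p2, p3, p4, p5, p6, p7, p8, rfl⟩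

end NF

end Cfsg.Agent.Lib.helper23
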