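import Cfsg.Agent.Lib.helper23.F4BN
import Cfsg.Agent.S0319

set_option autoImplicit false
set_option maxRecDepth 100000

/-!
# Simplicity of `²F₄(q)`, `q > 2`

Tits' criterion applied to the (B, N)-pair.
-/

namespace Cfsg.Agent.Lib.helper23

open Cfsg Cfsg.Lie Cfsg.Agent.Lib.helper41 Cfsg.Agent.Lib.helper22

universe u

section Simple

variable {K : Type u} [Field K] {e : ℕ}

theorem f4pi_not_comm : f4pi1 (f4pi2 33) ≠ f4pi2 (f4pi1 33) := by decide +kernel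

/-- The commutator of `n₁` and `n₂` does not lie in `H`. -/
theorem f4_comm_not_mem [CharP K 2] {e : ℕ} (he : e ≠ 0) :
    f4n1 K e * f4n2 K e * (f4n1 K e)⁻¹ * (f4n2 K e)⁻¹ ∉ chevF4.diagonalSubgroup K := by
  intro hmem
  have C := chevFacts_F4 K
  obtain ⟨c, hc⟩ := f4n1_rootAct (K := K) e
  obtain ⟨c', hc'⟩ := f4n2_rootAct (K := K) he
  have hN := f4n1_mono (K := K) e
  have hN' := f4n2_mono (K := K) he
  have h1 := (rootHom_eq_one_iff C
    ⟨_, mul_mem (mul_mem (mul_mem hN hN') (inv_mem hN)) (inv_mem hN')⟩).mpr hmem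
  have e1 : (⟨f4n1 K e * f4n2 K e * (f4n1 K e)⁻¹ * (f4n2 K e)⁻¹,
      mul_mem (mul_mem (mul_mem hN hN') (inv_mem hN)) (inv_mem hN')⟩ : ↥(chevF4.monomialSubgroup K)) =
      ⟨f4n1 K e, hN⟩ * ⟨f4n2 K e, hN'⟩ * (⟨f4n1 K e, hN⟩ : ↥(chevF4.monomialSubgroup K))⁻¹ *
        (⟨f4n2 K e, hN'⟩ : ↥(chevF4.monomialSubgroup K))⁻¹ := rfl
  rw [e1, map_mul, map_mul, map_mul, map_inv, map_inv, mul_inv_eq_one, mul_inv_eq_iff_eq_mul] at h1
  have a1 : ∀ s, (rootHom C ⟨f4n1 K e, hN⟩ s).val = f4pi1 s.val := fun s => rootHom_spec C _ hc s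
  have a2 : ∀ s, (rootHom C ⟨f4n2 K e, hN'⟩ s).val = f4pi2 s.val := fun s => rootHom_spec C _ hc' s
  have h3 := congrArg (fun p : Equiv.Perm (Fin chevF4.nroots) => (p ⟨33, by decide⟩).val) h1
  simp only [Equiv.Perm.mul_apply] at h3
  rw [a1, a2, a2, a1] at h3
  exact f4pi_not_comm h3

/-- `²F₄(K)` is simple when `K` has more than two elements. -/
theorem F4Data.simple (R : F4Data K e) (hs : ∃ s : K, s ≠ 0 ∧ s ≠ 1) :
    IsSimpleGroup ↥(twistedF4 K e) ∧ ¬ IsMulCommutative ↥(twistedF4 K e) := by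
  have C := chevFacts_F4 K
  have T := R.T
  have := T.char2
  have he := T.e_ne_zero
  have hperf := f4_perfect T hs
  have hBN := borelSubgroup_inf_monomialSubgroup C.I.hSD C.I.posOK (F := K)
  obtain ⟨y, hy, hy1⟩ := f4letX_ne_one T 1
  have hnt : Nontrivial ↥(twistedF4 K e) :=
    ⟨⟨⟨y, f4letX_tw hy⟩, 1, fun h => hy1 (congrArg Subtype.val h)⟩⟩
  have hnc : ¬ IsMulCommutative ↥(twistedF4 K e) := by
    intro hc
    have hbot := (commutator_eq_bot_iff ↥(twistedF4 K e)).mpr hc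
    rw [hperf] at hbot
    exact top_ne_bot hbot
  refine ⟨?_, hnc⟩
  obtain ⟨P, hB, hN, hS⟩ := R.bnPair
  have hsolvB : Group.IsSolvable ↥P.B := by
    have hsolv : Group.IsSolvable ↥(chevF4.borelSubgroup K) :=
      borelSubgroup_isSolvable C.I.hSD (posUnipotent_le_uniK C.I.posOK)
    rw [hB]
    let f : ↥((chevF4.borelSubgroup K ⊓ twistedF4 K e).subgroupOf (twistedF4 K e)) →*
        ↥(chevF4.borelSubgroup K) :=
      { toFun := fun x => ⟨((x : ↥(twistedF4 K e)) : GL chevF4.Idx K),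
          (Subgroup.mem_subgroupOf.mp x.2).1⟩
        map_one' := rfl
        map_mul' := fun _ _ => rfl }
    refine Group.isSolvable_of_isSolvable_injective (f := f) ?_
    intro x y hxy
    have := congrArg (fun z : ↥(chevF4.borelSubgroup K) => (z : GL chevF4.Idx K)) hxy
    exact Subtype.ext (Subtype.ext this)
  have hirr : P.Irreducible := by
    intro J hJ hJne hJc
    obtain ⟨s, hs⟩ := hJne
    obtain ⟨s', hs'⟩ := hJc
    have hsS := hJ hs
    rw [hS] at hsS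
    have hs'S := hs'.1
    rw [hS] at hs'S
    refine ⟨s, hs, s', hs', ?_⟩
    rw [hB, Subgroup.mem_subgroupOf]
    intro hmem
    have hmemB : ((s * s' * s⁻¹ * s'⁻¹ : ↥(twistedF4 K e)) : GL chevF4.Idx K) ∈ chevF4.borelSubgroup K :=
      hmem.1
    have hne : s ≠ s' := fun h => hs'.2 (h ▸ hs)
    have hN1 := f4n1_mono (K := K) e
    have hN2 := f4n2_mono (K := K) he
    have hcoe : ((s * s' * s⁻¹ * s'⁻¹ : ↥(twistedF4 K e)) : GL chevF4.Idx K) =
        (s : GL chevF4.Idx K) * (s' : GL chevF4.Idx K) * (s : GL chevF4.Idx K)⁻¹ *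
          (s' : GL chevF4.Idx K)⁻¹ := rfl
    rw [hcoe] at hmemB
    rcases hsS with h1 | h1 <;> rcases hs'S with h2 | h2
    · exact hne (Subtype.ext (h1.trans h2.symm))
    · rw [h1, h2] at hmemB
      refine f4_comm_not_mem (K := K) he ?_
      have hmemN : f4n1 K e * f4n2 K e * (f4n1 K e)⁻¹ * (f4n2 K e)⁻¹ ∈ chevF4.monomialSubgroup K :=
        mul_mem (mul_mem (mul_mem hN1 hN2) (inv_mem hN1)) (inv_mem hN2)
      rw [← hBN]
      exact ⟨hmemB, hmemN⟩
    · rw [h1, h2] at hmemB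
      refine f4_comm_not_mem (K := K) he ?_
      have e1 : f4n1 K e * f4n2 K e * (f4n1 K e)⁻¹ * (f4n2 K e)⁻¹ =
          (f4n2 K e * f4n1 K e * (f4n2 K e)⁻¹ * (f4n1 K e)⁻¹)⁻¹ := by group
      have hmemN : f4n2 K e * f4n1 K e * (f4n2 K e)⁻¹ * (f4n1 K e)⁻¹ ∈ chevF4.monomialSubgroup K :=
        mul_mem (mul_mem (mul_mem hN2 hN1) (inv_mem hN2)) (inv_mem hN1)
      have hmemH : f4n2 K e * f4n1 K e * (f4n2 K e)⁻¹ * (f4n1 K e)⁻¹ ∈ chevF4.diagonalSubgroup K := by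
        rw [← hBN]
        exact ⟨hmemB, hmemN⟩
      rw [e1]
      exact inv_mem hmemH
    · exact hne (Subtype.ext (h1.trans h2.symm))
  exact Cfsg.Agent.S0319.result P hirr hsolvB hperf (by rw [hB]; exact f4_core he)

end Simple

end Cfsg.Agent.Lib.helper23
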