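import Cfsg.Agent.Lib.helper23.F4TitsTab
import Cfsg.Agent.Lib.helper23.F4NF
import Cfsg.Agent.Lib.helper23.F4Sigma
import Cfsg.Agent.Lib.helper23.F4Syl
import Mathlib.GroupTheory.Abelianization.Defs

set_option autoImplicit false
set_option maxRecDepth 100000

/-!
# The involutions of `²F₄(2)` lie in the Tits group

Every involution of `²F₄(2)` is conjugate into the Sylow `2`-subgroup `U ∩ ²F₄(2)`, whose `4096`
elements are nested products of twisted root elements.  Such a product with an odd number of root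
elements of order `4` is not an involution (a computation on bit vectors); the others are products of
commutators.
-/

namespace Cfsg.Agent.Lib.helper23

open Cfsg Cfsg.Lie Cfsg.Agent.Lib.helper41 Cfsg.Agent.Lib.helper22

/-- The action of a product of three blocks, a fourth block and the tail. -/
def f4uFn (c1 c2 c3 c4 : ℕ) (v : ℕ) : ℕ :=
  f4app (f4tabP.getD c1 []) (f4app (f4tabP.getD c2 []) (f4app (f4tabP.getD c3 [])
    (f4app (f4tabQ.getD c4 []) v)))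

/-- The check that the squares of the elements of `U ∩ ²F₄(2)` with an odd number of root elements of
order `4` move the basis vector `6`, for a given first block. -/
def f4chkI (c1 : ℕ) : Bool :=
  (List.range 8).all fun c2 => (List.range 8).all fun c3 => (List.range 8).all fun c4 =>
    ((c1 / 4 + c2 / 4 + c3 / 4 + c4 / 4) % 2 == 0) ||
      (f4uFn c1 c2 c3 c4 (f4uFn c1 c2 c3 c4 (1 <<< 6)) % 2 ^ 52 != 1 <<< 6)

theorem f4chkI_0 : f4chkI 0 = true := by decide +kernel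

theorem f4chkI_1 : f4chkI 1 = true := by decide +kernel

theorem f4chkI_2 : f4chkI 2 = true := by decide +kernel

theorem f4chkI_3 : f4chkI 3 = true := by decide +kernel

theorem f4chkI_4 : f4chkI 4 = true := by decide +kernel

theorem f4chkI_5 : f4chkI 5 = true := by decide +kernel

theorem f4chkI_6 : f4chkI 6 = true := by decide +kernel

theorem f4chkI_7 : f4chkI 7 = true := by decide +kernel

theorem f4chkI_ok : ∀ c1 : ℕ, c1 < 8 → f4chkI c1 = true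
  | 0, _ => f4chkI_0
  | 1, _ => f4chkI_1
  | 2, _ => f4chkI_2
  | 3, _ => f4chkI_3
  | 4, _ => f4chkI_4
  | 5, _ => f4chkI_5
  | 6, _ => f4chkI_6
  | 7, _ => f4chkI_7
  | n + 8, h => absurd h (by omega)

theorem f4nest_flat (p1 p2 p3 p4 p5 p6 p7 p8 : ZMod 2 × ZMod 2) :
    f4nest (ZMod 2) 1 f4w0 [p1, p2, p3, p4, p5, p6, p7, p8] =
      f4blk p1.1 p1.2 p2.1 * f4blk p3.1 p3.2 p4.1 * f4blk p5.1 p5.2 p6.1 *
        (f4blk p7.1 p7.2 p8.1 * f4tail) := by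
  rw [f4nest_w0, f4n1_inv, f4n2_inv]
  unfold f4blk f4tail
  simp only [mul_assoc, mul_one]

theorem f4nest_grep (p1 p2 p3 p4 p5 p6 p7 p8 : ZMod 2 × ZMod 2) :
    GRep (f4nest (ZMod 2) 1 f4w0 [p1, p2, p3, p4, p5, p6, p7, p8])
      (f4uFn (f4code p1.1 p1.2 p2.1) (f4code p3.1 p3.2 p4.1) (f4code p5.1 p5.2 p6.1)
        (f4code p7.1 p7.2 p8.1)) := by
  rw [f4nest_flat]
  exact (((grep_blk _ _ _).mul (grep_blk _ _ _)).mul (grep_blk _ _ _)).mul (grep_blkT _ _ _)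

theorem f4code_lt (t s t' : ZMod 2) : f4code t s t' < 8 := by
  have h1 := ZMod.val_lt t
  have h2 := ZMod.val_lt s
  have h3 := ZMod.val_lt t'
  unfold f4code
  omega

theorem f4code_div (t s t' : ZMod 2) : f4code t s t' / 4 = t.val := by
  have h1 := ZMod.val_lt t
  have h2 := ZMod.val_lt s
  have h3 := ZMod.val_lt t'
  unfold f4code
  omega

/-- A nested product with an odd number of root elements of order `4` is not an involution. -/
theorem f4nest_sq_ne (p1 p2 p3 p4 p5 p6 p7 p8 : ZMod 2 × ZMod 2)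
    (hodd : (p1.1.val + p3.1.val + p5.1.val + p7.1.val) % 2 = 1) :
    f4nest (ZMod 2) 1 f4w0 [p1, p2, p3, p4, p5, p6, p7, p8] *
      f4nest (ZMod 2) 1 f4w0 [p1, p2, p3, p4, p5, p6, p7, p8] ≠ 1 := by
  intro h
  have hrep := f4nest_grep p1 p2 p3 p4 p5 p6 p7 p8
  have h2 := (hrep.mul hrep) (1 <<< 6)
  rw [h, Units.val_one, Matrix.one_mulVec] at h2
  have h3 := f4bv_inj h2
  have hc1 := f4chkI_ok _ (f4code_lt p1.1 p1.2 p2.1)
  unfold f4chkI at hc1
  rw [List.all_eq_true] at hc1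
  have hc2 := hc1 _ (List.mem_range.mpr (f4code_lt p3.1 p3.2 p4.1))
  rw [List.all_eq_true] at hc2
  have hc3 := hc2 _ (List.mem_range.mpr (f4code_lt p5.1 p5.2 p6.1))
  rw [List.all_eq_true] at hc3
  have hc4 := hc3 _ (List.mem_range.mpr (f4code_lt p7.1 p7.2 p8.1))
  rw [Bool.or_eq_true] at hc4
  rcases hc4 with hc4 | hc4
  · rw [beq_iff_eq, f4code_div, f4code_div, f4code_div, f4code_div] at hc4
    omega
  · rw [bne_iff_ne] at hc4
    apply hc4
    rw [← h3]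
    decide

/-! ### The commutator subgroup -/

theorem f4uB_10_11 : f4uB 1 (1 : ZMod 2) 0 * f4uB 1 (1 : ZMod 2) 1 = 1 :=
  ((grep_uB 1 0).mul (grep_uB 1 1)).extB GRep.one (by decide +kernel)

theorem f4uB_10_10 : f4uB 1 (1 : ZMod 2) 0 * f4uB 1 (1 : ZMod 2) 0 = f4uB 1 (0 : ZMod 2) 1 :=
  ((grep_uB 1 0).mul (grep_uB 1 0)).extB (grep_uB 0 1) (by decide +kernel)

theorem f4uB_10_01 : f4uB 1 (1 : ZMod 2) 0 * f4uB 1 (0 : ZMod 2) 1 = f4uB 1 (1 : ZMod 2) 1 :=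
  ((grep_uB 1 0).mul (grep_uB 0 1)).extB (grep_uB 1 1) (by decide +kernel)

theorem f4uB_00 : f4uB 1 (0 : ZMod 2) 0 = 1 := (grep_uB 0 0).extB GRep.one (by decide +kernel)

theorem f4gP_0 : f4gP 1 (0 : ZMod 2) = 1 := (grep_gP 0).extB GRep.one (by decide +kernel)

/-- `[b, c b c⁻¹] = n₂ a n₂` for `c = n₂ n₁`. -/
theorem f4_rel1 :
    f4uB 1 (1 : ZMod 2) 0 *
        (f4n2 (ZMod 2) 1 * f4n1 (ZMod 2) 1 * f4uB 1 (1 : ZMod 2) 0 * f4n1 (ZMod 2) 1 * f4n2 (ZMod 2) 1) *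
        f4uB 1 (1 : ZMod 2) 1 *
        (f4n2 (ZMod 2) 1 * f4n1 (ZMod 2) 1 * f4uB 1 (1 : ZMod 2) 1 * f4n1 (ZMod 2) 1 * f4n2 (ZMod 2) 1) =
      f4n2 (ZMod 2) 1 * f4gP 1 (1 : ZMod 2) * f4n2 (ZMod 2) 1 :=
  ((((grep_uB 1 0).mul ((((grep_n2.mul grep_n1).mul (grep_uB 1 0)).mul grep_n1).mul grep_n2)).mul
    (grep_uB 1 1)).mul ((((grep_n2.mul grep_n1).mul (grep_uB 1 1)).mul grep_n1).mul grep_n2)).extB
    ((grep_n2.mul (grep_gP 1)).mul grep_n2) (by decide +kernel)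

/-- `n₁ b² n₁ = [d b d⁻¹, a]` for `d = n₁ n₂ n₁`. -/
theorem f4_rel2 :
    f4n1 (ZMod 2) 1 * f4uB 1 (0 : ZMod 2) 1 * f4n1 (ZMod 2) 1 =
      (f4n1 (ZMod 2) 1 * f4n2 (ZMod 2) 1 * f4n1 (ZMod 2) 1 * f4uB 1 (1 : ZMod 2) 0 * f4n1 (ZMod 2) 1 *
          f4n2 (ZMod 2) 1 * f4n1 (ZMod 2) 1) * f4gP 1 (1 : ZMod 2) *
        (f4n1 (ZMod 2) 1 * f4n2 (ZMod 2) 1 * f4n1 (ZMod 2) 1 * f4uB 1 (1 : ZMod 2) 1 * f4n1 (ZMod 2) 1 *
          f4n2 (ZMod 2) 1 * f4n1 (ZMod 2) 1) * f4gP 1 (1 : ZMod 2) :=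
  ((grep_n1.mul (grep_uB 0 1)).mul grep_n1).extB
    ((((((((grep_n1.mul grep_n2).mul grep_n1).mul (grep_uB 1 0)).mul grep_n1).mul grep_n2).mul grep_n1).mul
      (grep_gP 1)).mul
      ((((((grep_n1.mul grep_n2).mul grep_n1).mul (grep_uB 1 1)).mul grep_n1).mul grep_n2).mul grep_n1) |>.mul
      (grep_gP 1)) (by decide +kernel)

end Cfsg.Agent.Lib.helper23
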