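import Cfsg.Agent.Lib.helper23.F4Tits

set_option autoImplicit false
set_option maxRecDepth 100000

/-!
# The involutions of `²F₄(2)` lie in the Tits group: the commutator subgroup
-/

namespace Cfsg.Agent.Lib.helper23

open Cfsg Cfsg.Lie Cfsg.Agent.Lib.helper41 Cfsg.Agent.Lib.helper22

universe u

section Syl

variable {K : Type u} [Field K] [Fintype K] {e : ℕ}

/-- A `2`-element of `²F₄(q)` is conjugate to an element of `U ∩ ²F₄(q)`. -/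
theorem F4Data.conj_mem_U1 (R : F4Data K e) {k : ℕ} (hk : k ≠ 0) (hq : Fintype.card K = 2 ^ k)
    (x : ↥(twistedF4 K e)) (hx : ∃ j : ℕ, orderOf x = 2 ^ j) :
    ∃ g : ↥(twistedF4 K e), g * x * g⁻¹ ∈ f4U1 K e := by
  classical
  have : Fact (Nat.Prime 2) := ⟨Nat.prime_two⟩
  have hP : IsPGroup 2 ↥(f4U1 K e) :=
    IsPGroup.of_card (n := 12 * k) (by rw [R.card_U1, hq, ← pow_mul, mul_comm])
  let S₀ : Sylow 2 ↥(twistedF4 K e) := hP.toSylow (R.index_U1 hk hq)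
  obtain ⟨j, hj⟩ := hx
  have hz : IsPGroup 2 ↥(Subgroup.zpowers x) := IsPGroup.of_card (n := j) (by rw [Nat.card_zpowers, hj])
  obtain ⟨Q, hQ⟩ := hz.exists_le_sylow
  obtain ⟨g, hg⟩ := MulAction.exists_smul_eq ↥(twistedF4 K e) Q S₀
  have hxQ : x ∈ Q := hQ (Subgroup.mem_zpowers x)
  have hy : g * x * g⁻¹ ∈ S₀ := by
    rw [← hg]
    exact Subgroup.smul_mem_pointwise_smul x (MulAut.conj g) (Q : Subgroup ↥(twistedF4 K e)) hxQ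
  exact ⟨g, hy⟩

end Syl

section Comm

theorem comm_conj_aux {A : Type*} [CommGroup A] (m r : A) : m⁻¹ * r * m = r := by
  rw [mul_right_comm, inv_mul_cancel, one_mul]

theorem comm_aux1 {A : Type*} [CommGroup A] (β β' ν₁ ν₂ α : A) (h1 : ν₁ * ν₁ = 1) (h2 : ν₂ * ν₂ = 1)
    (h3 : β * β' = 1)
    (E : β * (ν₂ * ν₁ * β * ν₁ * ν₂) * β' * (ν₂ * ν₁ * β' * ν₁ * ν₂) = ν₂ * α * ν₂) : α = 1 := by
  have e1 : β * (ν₂ * ν₁ * β * ν₁ * ν₂) * β' * (ν₂ * ν₁ * β' * ν₁ * ν₂) =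
      (β * β') * (β * β') * (ν₁ * ν₁) * (ν₁ * ν₁) * (ν₂ * ν₂) * (ν₂ * ν₂) := by ac_rfl
  have e2 : ν₂ * α * ν₂ = α * (ν₂ * ν₂) := by ac_rfl
  rw [e1, e2, h1, h2, h3] at E
  simpa using E.symm

theorem comm_aux2 {A : Type*} [CommGroup A] (β β' ν₁ ν₂ ζ : A) (h1 : ν₁ * ν₁ = 1) (h2 : ν₂ * ν₂ = 1)
    (h3 : β * β' = 1)
    (E : ν₁ * ζ * ν₁ = (ν₁ * ν₂ * ν₁ * β * ν₁ * ν₂ * ν₁) * 1 * (ν₁ * ν₂ * ν₁ * β' * ν₁ * ν₂ * ν₁) * 1) :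
    ζ = 1 := by
  have e1 : (ν₁ * ν₂ * ν₁ * β * ν₁ * ν₂ * ν₁) * 1 * (ν₁ * ν₂ * ν₁ * β' * ν₁ * ν₂ * ν₁) * 1 =
      (β * β') * (ν₁ * ν₁) * (ν₁ * ν₁) * (ν₁ * ν₁) * (ν₁ * ν₁) * (ν₂ * ν₂) * (ν₂ * ν₂) := by
    rw [mul_one, mul_one]
    ac_rfl
  have e2 : ν₁ * ζ * ν₁ = ζ * (ν₁ * ν₁) := by ac_rfl
  rw [e1, e2, h1, h2, h3] at E
  simpa using E

/-- `U₂(t, s)` as an element of `²F₄(2)`. -/
def f4gU (t s : ZMod 2) : ↥(twistedF4 (ZMod 2) 1) := ⟨f4uB 1 t s, f4uB_mem 1 t s⟩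

/-- `g₊(t)` as an element of `²F₄(2)`. -/
def f4gA (t : ZMod 2) : ↥(twistedF4 (ZMod 2) 1) := ⟨f4gP 1 t, f4gP_mem 1 t⟩

/-- `n₁` as an element of `²F₄(2)`. -/
def f4gN1 : ↥(twistedF4 (ZMod 2) 1) := ⟨f4n1 (ZMod 2) 1, f4n1_mem 1⟩

/-- `n₂` as an element of `²F₄(2)`. -/
def f4gN2 : ↥(twistedF4 (ZMod 2) 1) := ⟨f4n2 (ZMod 2) 1, f4n2_mem 1⟩

theorem f4ab_N1 : Abelianization.of f4gN1 * Abelianization.of f4gN1 = 1 := by
  rw [← map_mul, (Subtype.ext f4n1_sq : f4gN1 * f4gN1 = 1), map_one]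

theorem f4ab_N2 : Abelianization.of f4gN2 * Abelianization.of f4gN2 = 1 := by
  rw [← map_mul, (Subtype.ext f4n2_sq : f4gN2 * f4gN2 = 1), map_one]

theorem f4ab_BB : Abelianization.of (f4gU 1 0) * Abelianization.of (f4gU 1 1) = 1 := by
  rw [← map_mul, (Subtype.ext f4uB_10_11 : f4gU 1 0 * f4gU 1 1 = 1), map_one]

theorem f4ab_A1 : Abelianization.of (f4gA 1) = 1 := by
  have E : f4gU 1 0 * (f4gN2 * f4gN1 * f4gU 1 0 * f4gN1 * f4gN2) * f4gU 1 1 *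
      (f4gN2 * f4gN1 * f4gU 1 1 * f4gN1 * f4gN2) = f4gN2 * f4gA 1 * f4gN2 := Subtype.ext f4_rel1
  have E' := congrArg Abelianization.of E
  simp only [map_mul] at E'
  exact comm_aux1 _ _ _ _ _ f4ab_N1 f4ab_N2 f4ab_BB E'

theorem f4ab_Z : Abelianization.of (f4gU 0 1) = 1 := by
  have E : f4gN1 * f4gU 0 1 * f4gN1 =
      (f4gN1 * f4gN2 * f4gN1 * f4gU 1 0 * f4gN1 * f4gN2 * f4gN1) * f4gA 1 *
        (f4gN1 * f4gN2 * f4gN1 * f4gU 1 1 * f4gN1 * f4gN2 * f4gN1) * f4gA 1 := Subtype.ext f4_rel2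
  have E' := congrArg Abelianization.of E
  simp only [map_mul, f4ab_A1] at E'
  exact comm_aux2 _ _ _ _ _ f4ab_N1 f4ab_N2 f4ab_BB E'

theorem f4ab_sq : Abelianization.of (f4gU 1 0) ^ 2 = 1 := by
  rw [pow_two, ← map_mul, (Subtype.ext f4uB_10_10 : f4gU 1 0 * f4gU 1 0 = f4gU 0 1), f4ab_Z]

theorem f4ab_A (t : ZMod 2) : Abelianization.of (f4gA t) = 1 := by
  rcases zmod2_cases t with rfl | rfl
  · rw [(Subtype.ext f4gP_0 : f4gA 0 = 1), map_one]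
  · exact f4ab_A1

theorem f4ab_U (t s : ZMod 2) :
    Abelianization.of (f4gU t s) = Abelianization.of (f4gU 1 0) ^ t.val := by
  rcases zmod2_cases t with rfl | rfl <;> rcases zmod2_cases s with rfl | rfl
  · rw [(Subtype.ext f4uB_00 : f4gU 0 0 = 1), map_one]
    rfl
  · rw [f4ab_Z]
    rfl
  · exact (pow_one _).symm
  · rw [← (Subtype.ext f4uB_10_01 : f4gU 1 0 * f4gU 0 1 = f4gU 1 1), map_mul, f4ab_Z, mul_one]
    exact (pow_one _).symm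

theorem f4ab_step (x m r : ↥(twistedF4 (ZMod 2) 1)) :
    Abelianization.of (x * (m⁻¹ * r * m)) = Abelianization.of x * Abelianization.of r := by
  rw [map_mul, map_mul, map_mul, map_inv, comm_conj_aux]

/-- The nested product as an element of `²F₄(2)`. -/
def f4nestG (p1 p2 p3 p4 p5 p6 p7 p8 : ZMod 2 × ZMod 2) : ↥(twistedF4 (ZMod 2) 1) :=
  f4gU p1.1 p1.2 * (f4gN2⁻¹ * (f4gA p2.1 * (f4gN1⁻¹ *
  (f4gU p3.1 p3.2 * (f4gN2⁻¹ * (f4gA p4.1 * (f4gN1⁻¹ *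
  (f4gU p5.1 p5.2 * (f4gN2⁻¹ * (f4gA p6.1 * (f4gN1⁻¹ *
  (f4gU p7.1 p7.2 * (f4gN2⁻¹ * (f4gA p8.1 * (f4gN1⁻¹ * 1 * f4gN1)) * f4gN2)) *
  f4gN1)) * f4gN2)) * f4gN1)) * f4gN2)) * f4gN1)) * f4gN2)

theorem f4nestG_coe (p1 p2 p3 p4 p5 p6 p7 p8 : ZMod 2 × ZMod 2) :
    ((f4nestG p1 p2 p3 p4 p5 p6 p7 p8 : ↥(twistedF4 (ZMod 2) 1)) : GL chevF4.Idx (ZMod 2)) =
      f4nest (ZMod 2) 1 f4w0 [p1, p2, p3, p4, p5, p6, p7, p8] := rfl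

theorem f4nestG_ab (p1 p2 p3 p4 p5 p6 p7 p8 : ZMod 2 × ZMod 2) :
    Abelianization.of (f4nestG p1 p2 p3 p4 p5 p6 p7 p8) =
      Abelianization.of (f4gU 1 0) ^ (p1.1.val + (p3.1.val + (p5.1.val + p7.1.val))) := by
  unfold f4nestG
  rw [f4ab_step, f4ab_step, f4ab_step, f4ab_step, f4ab_step, f4ab_step, f4ab_step, f4ab_step, map_one,
    f4ab_A p2.1, f4ab_A p4.1, f4ab_A p6.1, f4ab_A p8.1, f4ab_U p1.1 p1.2, f4ab_U p3.1 p3.2,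
    f4ab_U p5.1 p5.2, f4ab_U p7.1 p7.2]
  simp only [one_mul, mul_one]
  rw [← pow_add, ← pow_add, ← pow_add]

/-- Every involution of `²F₄(2)` lies in the commutator subgroup. -/
theorem f4_tits_invol (g : ↥(twistedF4 (ZMod 2) 1)) (hg : orderOf g = 2) :
    g ∈ commutator ↥(twistedF4 (ZMod 2) 1) := by
  have hcard : Fintype.card (ZMod 2) = 2 ^ (2 * 0 + 1) := by
    rw [ZMod.card]
    rfl
  obtain ⟨R0⟩ := exists_f4Data (K := ZMod 2) (m := 0) hcard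
  have R : F4Data (ZMod 2) 1 := R0
  obtain ⟨c, hc⟩ := R.conj_mem_U1 (k := 1) one_ne_zero hcard g ⟨1, by rw [hg]; rfl⟩
  have hU : ((c * g * c⁻¹ : ↥(twistedF4 (ZMod 2) 1)) : GL chevF4.Idx (ZMod 2)) ∈
      chevF4.posUnipotent (ZMod 2) := (Subgroup.mem_subgroupOf.mp hc).1
  obtain ⟨ps, hlen, hps⟩ := R.pos_nest hU (c * g * c⁻¹).2
  obtain ⟨p1, p2, p3, p4, p5, p6, p7, p8, rfl⟩ := f4nest_len8 hlen
  have hgg : g * g = 1 := by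
    have h2 := pow_orderOf_eq_one g
    rw [hg, pow_two] at h2
    exact h2
  have hsq' : (c * g * c⁻¹) * (c * g * c⁻¹) = 1 := by
    have e1 : (c * g * c⁻¹) * (c * g * c⁻¹) = c * (g * g) * c⁻¹ := by group
    rw [e1, hgg]
    group
  have hsq : ((c * g * c⁻¹ : ↥(twistedF4 (ZMod 2) 1)) : GL chevF4.Idx (ZMod 2)) *
      ((c * g * c⁻¹ : ↥(twistedF4 (ZMod 2) 1)) : GL chevF4.Idx (ZMod 2)) = 1 := by
    rw [← Subgroup.coe_mul, hsq', Subgroup.coe_one]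
  have hpar : (p1.1.val + p3.1.val + p5.1.val + p7.1.val) % 2 = 0 := by
    by_contra hne
    have hodd : (p1.1.val + p3.1.val + p5.1.val + p7.1.val) % 2 = 1 := by omega
    apply f4nest_sq_ne p1 p2 p3 p4 p5 p6 p7 p8 hodd
    rw [← hps]
    exact hsq
  have hmem : c * g * c⁻¹ ∈ commutator ↥(twistedF4 (ZMod 2) 1) := by
    rw [← Abelianization.ker_of, MonoidHom.mem_ker]
    have e : c * g * c⁻¹ = f4nestG p1 p2 p3 p4 p5 p6 p7 p8 :=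
      Subtype.ext (hps.trans (f4nestG_coe p1 p2 p3 p4 p5 p6 p7 p8).symm)
    rw [e, f4nestG_ab]
    obtain ⟨k, hk⟩ : ∃ k, p1.1.val + (p3.1.val + (p5.1.val + p7.1.val)) = 2 * k :=
      ⟨(p1.1.val + (p3.1.val + (p5.1.val + p7.1.val))) / 2, by omega⟩
    rw [hk, pow_mul, f4ab_sq, one_pow]
  have e2 : g = c⁻¹ * (c * g * c⁻¹) * c⁻¹⁻¹ := by group
  rw [e2]
  have hn : (commutator ↥(twistedF4 (ZMod 2) 1)).Normal := inferInstance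
  exact hn.conj_mem _ hmem c⁻¹

end Comm

end Cfsg.Agent.Lib.helper23
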