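import Cfsg.Agent.Lib.helper23.F4B2

set_option autoImplicit false
set_option maxRecDepth 100000

/-!
# The torus elements `h(s) = h_{p₁}(s^θ) h_{p₄}(s)` of `²F₄` and their action on the generators
-/

namespace Cfsg.Agent.Lib.helper23

open Cfsg Cfsg.Lie Cfsg.Agent.Lib.helper41 Cfsg.Agent.Lib.helper22

universe u

section SL2c

variable {K : Type u} [Field K]

theorem sl2n_char2 [CharP K 2] (t : K) (ht : t ≠ 0) : sl2n t ht = sl2u t * sl2l t⁻¹ * sl2u t := by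
  rw [sl2n_eq_uLu, CharTwo.neg_eq]

theorem sl2h_char2 [CharP K 2] (t : K) (ht : t ≠ 0) : sl2h t ht = sl2n t ht * sl2n 1 one_ne_zero := by
  rw [sl2h_eq_nn]
  congr 1
  apply Subtype.ext
  show !![0, -1; -(-1 : K)⁻¹, 0] = !![0, 1; -(1 : K)⁻¹, 0]
  rw [CharTwo.neg_eq (1 : K)]

end SL2c

section Phi

variable {K : Type u} [Field K]

/-- The homomorphism `SL₂ × SL₂ → F₄(K)` of the orthogonal roots `p₁`, `p₄`. -/
def f4Phi (A B : Matrix.SpecialLinearGroup (Fin 2) K) : GL chevF4.Idx K :=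
  sl2Hom (stringDataF4 ⟨chevF4.simple 0, by decide⟩) A * sl2Hom (stringDataF4 ⟨chevF4.simple 3, by decide⟩) B

theorem f4Phi_mul (A B A' B' : Matrix.SpecialLinearGroup (Fin 2) K) :
    f4Phi A B * f4Phi A' B' = f4Phi (A * A') (B * B') := by
  unfold f4Phi
  have h := rk_comm (chevFacts_F4 K).I (i := 0) (k := 3) (by decide) (by decide) (by decide)
    (sl2Hom_mem_rk (stringDataF4 ⟨chevF4.simple 0, by decide⟩) A')
    (sl2Hom_mem_rk (stringDataF4 ⟨chevF4.simple 3, by decide⟩) B)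
  rw [map_mul, map_mul]
  calc sl2Hom (stringDataF4 ⟨chevF4.simple 0, by decide⟩) A * sl2Hom (stringDataF4 ⟨chevF4.simple 3, by decide⟩) B *
        (sl2Hom (stringDataF4 ⟨chevF4.simple 0, by decide⟩) A' *
          sl2Hom (stringDataF4 ⟨chevF4.simple 3, by decide⟩) B')
      = sl2Hom (stringDataF4 ⟨chevF4.simple 0, by decide⟩) A *
          (sl2Hom (stringDataF4 ⟨chevF4.simple 3, by decide⟩) B *
            sl2Hom (stringDataF4 ⟨chevF4.simple 0, by decide⟩) A') *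
          sl2Hom (stringDataF4 ⟨chevF4.simple 3, by decide⟩) B' := by simp only [mul_assoc]
    _ = _ := by
      rw [← h]
      simp only [mul_assoc]

theorem f4gP_eq_phi (e : ℕ) (t : K) : f4gP e t = f4Phi (sl2u (t ^ e)) (sl2u t) := by
  unfold f4Phi
  rw [sl2Hom_sl2u_eq (chevFacts_F4 K).I.hSD', sl2Hom_sl2u_eq (chevFacts_F4 K).I.hSD']
  rfl

theorem f4gM_eq_phi (e : ℕ) (t : K) : f4gM e t = f4Phi (sl2l (t ^ e)) (sl2l t) := by
  unfold f4Phi
  rw [sl2Hom_sl2l_eq (chevFacts_F4 K).I.hSD', sl2Hom_sl2l_eq (chevFacts_F4 K).I.hSD']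
  rfl

/-- The element `n₁(s) = g₊(s) g₋(s⁻¹) g₊(s)`. -/
def f4nP (e : ℕ) (s : K) : GL chevF4.Idx K := f4gP e s * f4gM e s⁻¹ * f4gP e s

/-- The torus element `h(s) = n₁(s) n₁(1)`. -/
def f4hP (e : ℕ) (s : K) : GL chevF4.Idx K := f4nP e s * f4nP e 1

theorem f4nP_mem (e : ℕ) (s : K) : f4nP e s ∈ twistedF4 K e :=
  mul_mem (mul_mem (f4gP_mem e s) (f4gM_mem e s⁻¹)) (f4gP_mem e s)

theorem f4hP_mem (e : ℕ) (s : K) : f4hP e s ∈ twistedF4 K e := mul_mem (f4nP_mem e s) (f4nP_mem e 1)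

theorem f4nP_eq_phi [CharP K 2] (e : ℕ) {s : K} (hs : s ≠ 0) :
    f4nP e s = f4Phi (sl2n (s ^ e) (pow_ne_zero e hs)) (sl2n s hs) := by
  unfold f4nP
  rw [f4gP_eq_phi, f4gM_eq_phi, f4Phi_mul, f4Phi_mul, sl2n_char2, sl2n_char2, inv_pow]

theorem f4hP_eq_phi [CharP K 2] (e : ℕ) {s : K} (hs : s ≠ 0) :
    f4hP e s = f4Phi (sl2h (s ^ e) (pow_ne_zero e hs)) (sl2h s hs) := by
  unfold f4hP
  rw [f4nP_eq_phi e hs, f4nP_eq_phi e one_ne_zero, f4Phi_mul, sl2h_char2, sl2h_char2]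
  simp only [one_pow]

/-- The characters of `h(s)`. -/
noncomputable def f4chi (e : ℕ) (s : K) (r : ℕ) : K :=
  (s ^ e) ^ rootPairing chevF4 33 r * s ^ rootPairing chevF4 24 r

theorem f4hP_rootAct [CharP K 2] (e : ℕ) {s : K} (hs : s ≠ 0) :
    RootAct chevF4 K ((f4hP e s : GL chevF4.Idx K) : Matrix chevF4.Idx chevF4.Idx K) (fun r => r)
      (f4chi e s) := by
  have hv : ((f4hP e s : GL chevF4.Idx K) : Matrix chevF4.Idx chevF4.Idx K) =
      chevF4.hMat K 33 (s ^ e) * chevF4.hMat K 24 s := by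
    rw [f4hP_eq_phi e hs]
    unfold f4Phi
    rw [Units.val_mul, sl2Hom_sl2h, sl2Hom_sl2h]
    rfl
  intro r hr
  refine ⟨hr, rfl, fun t => ?_⟩
  rw [hv, mul_assoc, hMat_mul_x (chevFacts_F4 K).I.hSD (by decide) r s hs t, ← mul_assoc,
    hMat_mul_x (chevFacts_F4 K).I.hSD (by decide) r (s ^ e) (pow_ne_zero e hs), mul_assoc]
  unfold f4chi
  rw [mul_assoc]

/-- Conjugation of a root element by `h(s)`. -/
theorem f4hP_conj [CharP K 2] (e : ℕ) {s : K} (hs : s ≠ 0) {r : ℕ} (hr : r < 48) (t : K) :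
    f4hP e s * f4x r t * (f4hP e s)⁻¹ = f4x r (f4chi e s r * t) :=
  Units.ext (rootAct_conj (f4hP_rootAct e hs) hr rfl)

end Phi

section Conj

variable {K : Type u} [Field K] {e : ℕ} (T : TwoPow K e)

theorem f4chi_pos (e : ℕ) {s : K} (hs : s ≠ 0) :
    f4chi e s 33 = (s ^ 2) ^ e ∧ f4chi e s 24 = s ^ 2 ∧
    f4chi e s 27 = s⁻¹ ^ e ∧ f4chi e s 25 = s⁻¹ ∧ f4chi e s 28 = s⁻¹ ^ (e + 1) ∧
    f4chi e s 30 = s⁻¹ ^ (2 * e + 1) := by
  have p1 : rootPairing chevF4 33 33 = 2 := by decide +kernel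
  have p2 : rootPairing chevF4 24 33 = 0 := by decide +kernel
  have p3 : rootPairing chevF4 33 24 = 0 := by decide +kernel
  have p4 : rootPairing chevF4 24 24 = 2 := by decide +kernel
  have p5 : rootPairing chevF4 33 27 = -1 := by decide +kernel
  have p6 : rootPairing chevF4 24 27 = 0 := by decide +kernel
  have p7 : rootPairing chevF4 33 25 = 0 := by decide +kernel
  have p8 : rootPairing chevF4 24 25 = -1 := by decide +kernel
  have p9 : rootPairing chevF4 33 28 = -1 := by decide +kernel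
  have p10 : rootPairing chevF4 24 28 = -1 := by decide +kernel
  have p11 : rootPairing chevF4 33 30 = -2 := by decide +kernel
  have p12 : rootPairing chevF4 24 30 = -1 := by decide +kernel
  unfold f4chi
  rw [p1, p2, p3, p4, p5, p6, p7, p8, p9, p10, p11, p12]
  refine ⟨?_, ?_, ?_, ?_, ?_, ?_⟩ <;>
    simp only [zpow_neg, zpow_ofNat, zpow_one, zpow_zero, pow_zero, mul_one, one_mul, inv_pow] <;>
    try ring

theorem f4chi_neg (e : ℕ) {s : K} (hs : s ≠ 0) :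
    f4chi e s 14 = (s⁻¹ ^ 2) ^ e ∧ f4chi e s 23 = s⁻¹ ^ 2 ∧
    f4chi e s 20 = s ^ e ∧ f4chi e s 22 = s ∧ f4chi e s 19 = s ^ (e + 1) ∧
    f4chi e s 17 = s ^ (2 * e + 1) := by
  have p1 : rootPairing chevF4 33 14 = -2 := by decide +kernel
  have p2 : rootPairing chevF4 24 14 = 0 := by decide +kernel
  have p3 : rootPairing chevF4 33 23 = 0 := by decide +kernel
  have p4 : rootPairing chevF4 24 23 = -2 := by decide +kernel
  have p5 : rootPairing chevF4 33 20 = 1 := by decide +kernel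
  have p6 : rootPairing chevF4 24 20 = 0 := by decide +kernel
  have p7 : rootPairing chevF4 33 22 = 0 := by decide +kernel
  have p8 : rootPairing chevF4 24 22 = 1 := by decide +kernel
  have p9 : rootPairing chevF4 33 19 = 1 := by decide +kernel
  have p10 : rootPairing chevF4 24 19 = 1 := by decide +kernel
  have p11 : rootPairing chevF4 33 17 = 2 := by decide +kernel
  have p12 : rootPairing chevF4 24 17 = 1 := by decide +kernel
  unfold f4chi
  rw [p1, p2, p3, p4, p5, p6, p7, p8, p9, p10, p11, p12]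
  refine ⟨?_, ?_, ?_, ?_, ?_, ?_⟩ <;>
    simp only [zpow_neg, zpow_ofNat, zpow_one, zpow_zero, pow_zero, mul_one, one_mul, inv_pow] <;>
    try ring

theorem conj_mul_two {G : Type*} [Group G] (z a b : G) : z * (a * b) * z⁻¹ = (z * a * z⁻¹) * (z * b * z⁻¹) := by
  group

theorem conj_mul_four {G : Type*} [Group G] (z a b c d : G) :
    z * (a * b * c * d) * z⁻¹ = (z * a * z⁻¹) * (z * b * z⁻¹) * (z * c * z⁻¹) * (z * d * z⁻¹) := by
  group

include T

theorem f4hP_conj_gP {s : K} (hs : s ≠ 0) (t : K) :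
    f4hP e s * f4gP e t * (f4hP e s)⁻¹ = f4gP e (s ^ 2 * t) := by
  have := T.char2
  obtain ⟨c1, c2, -⟩ := f4chi_pos e hs
  unfold f4gP
  rw [conj_mul_two, f4hP_conj e hs (by decide), f4hP_conj e hs (by decide), c1, c2, mul_pow]

theorem f4hP_conj_gM {s : K} (hs : s ≠ 0) (t : K) :
    f4hP e s * f4gM e t * (f4hP e s)⁻¹ = f4gM e (s⁻¹ ^ 2 * t) := by
  have := T.char2
  obtain ⟨c1, c2, -⟩ := f4chi_neg e hs
  unfold f4gM
  rw [conj_mul_two, f4hP_conj e hs (by decide), f4hP_conj e hs (by decide), c1, c2, mul_pow]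

theorem f4hP_conj_uB {s : K} (hs : s ≠ 0) (t u : K) :
    f4hP e s * f4uB e t u * (f4hP e s)⁻¹ = f4uB e (s⁻¹ * t) (s⁻¹ ^ (e + 1) * u) := by
  have := T.char2
  obtain ⟨-, -, c1, c2, c3, c4⟩ := f4chi_pos e hs
  unfold f4uB
  rw [conj_mul_four, f4hP_conj e hs (by decide), f4hP_conj e hs (by decide), f4hP_conj e hs (by decide),
    f4hP_conj e hs (by decide), c1, c2, c3, c4]
  have e1 : s⁻¹ ^ e * t ^ e = (s⁻¹ * t) ^ e := (mul_pow _ _ _).symm
  have e2 : s⁻¹ ^ (e + 1) * (t ^ (e + 1) + u) = (s⁻¹ * t) ^ (e + 1) + s⁻¹ ^ (e + 1) * u := by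
    rw [mul_pow]
    ring
  have e3 : s⁻¹ ^ (2 * e + 1) * u ^ (2 * e) = (s⁻¹ ^ (e + 1) * u) ^ (2 * e) := by
    rw [mul_pow, pow_succ s⁻¹ e, mul_pow, T.pow_two_e]
    ring
  rw [e1, e2, e3]

theorem f4hP_conj_vB {s : K} (hs : s ≠ 0) (t u : K) :
    f4hP e s * f4vB e t u * (f4hP e s)⁻¹ = f4vB e (s * t) (s ^ (e + 1) * u) := by
  have := T.char2
  obtain ⟨-, -, c1, c2, c3, c4⟩ := f4chi_neg e hs
  unfold f4vB
  rw [conj_mul_four, f4hP_conj e hs (by decide), f4hP_conj e hs (by decide), f4hP_conj e hs (by decide),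
    f4hP_conj e hs (by decide), c1, c2, c3, c4]
  have e1 : s ^ e * t ^ e = (s * t) ^ e := (mul_pow _ _ _).symm
  have e2 : s ^ (e + 1) * (t ^ (e + 1) + u) = (s * t) ^ (e + 1) + s ^ (e + 1) * u := by
    rw [mul_pow]
    ring
  have e3 : s ^ (2 * e + 1) * u ^ (2 * e) = (s ^ (e + 1) * u) ^ (2 * e) := by
    rw [mul_pow, pow_succ s e, mul_pow, T.pow_two_e]
    ring
  rw [e1, e2, e3]

/-- `x ^ (θ + 1) = 1` only for `x = 1`. -/
theorem TwoPow.eq_one_of_pow_succ {x : K} (h : x ^ (e + 1) = 1) : x = 1 := by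
  have hx : x ≠ 0 := by
    rintro rfl
    simp at h
  have h1 : x ^ e = x⁻¹ := by
    rw [pow_succ] at h
    exact eq_inv_of_mul_eq_one_left h
  have h2 : (x ^ e) ^ e = x := by rw [h1, inv_pow, h1, inv_inv]
  have h3 := T.hφ x
  rw [h2] at h3
  have h4 : x * (x - 1) = 0 := by linear_combination h3
  rcases mul_eq_zero.mp h4 with h5 | h5
  · exact absurd h5 hx
  · exact sub_eq_zero.mp h5

end Conj

theorem mul_div_add_self {K : Type u} [Field K] (c t : K) (hc : c + 1 ≠ 0) :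
    c * (t / (c + 1)) + t / (c + 1) = t := by
  field_simp

section Perfect

variable {K : Type u} [Field K] {e : ℕ} (T : TwoPow K e)

include T

/-- `²F₄(K)` is perfect when `K` has more than two elements. -/
theorem f4_perfect (hs : ∃ s : K, s ≠ 0 ∧ s ≠ 1) : commutator ↥(twistedF4 K e) = ⊤ := by
  have := T.char2
  obtain ⟨s, hs0, hs1⟩ := hs
  have hσ0 : s⁻¹ ≠ 0 := inv_ne_zero hs0
  have hσ1 : s⁻¹ ≠ 1 := fun h => hs1 (inv_eq_one.mp h)
  have hz := f4hP_mem (K := K) e s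
  -- nonvanishing of the multipliers
  have sq_ne : ∀ x : K, x ≠ 1 → x ^ 2 + 1 ≠ 0 := by
    intro x hx h
    have h1 : (x + 1) ^ 2 = 0 := by
      rw [T.sq_add, one_pow]
      exact h
    have h2 : x + 1 = 0 := by simpa using h1
    have h3 : x = -1 := eq_neg_of_add_eq_zero_left h2
    rw [T.neg_eq] at h3
    exact hx h3
  have add_ne : ∀ x : K, x ≠ 1 → x + 1 ≠ 0 := by
    intro x hx h
    have h3 : x = -1 := eq_neg_of_add_eq_zero_left h
    rw [T.neg_eq] at h3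
    exact hx h3
  have succ_ne : ∀ x : K, x ≠ 1 → x ^ (e + 1) + 1 ≠ 0 := by
    intro x hx h
    have h3 : x ^ (e + 1) = -1 := eq_neg_of_add_eq_zero_left h
    rw [T.neg_eq] at h3
    exact hx (T.eq_one_of_pow_succ h3)
  -- the generators are commutators
  have hP : ∀ t : K, f4gP e t ∈ derIm (twistedF4 K e) := by
    intro t
    have h := comm_mem_derIm hz (f4gP_mem e (t / (s ^ 2 + 1)))
    rw [f4hP_conj_gP T hs0, f4gP_inv T, f4gP_mul T] at h
    have e1 : s ^ 2 * (t / (s ^ 2 + 1)) + t / (s ^ 2 + 1) = t := mul_div_add_self _ _ (sq_ne s hs1)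
    rwa [e1] at h
  have hM : ∀ t : K, f4gM e t ∈ derIm (twistedF4 K e) := by
    intro t
    have h := comm_mem_derIm hz (f4gM_mem e (t / (s⁻¹ ^ 2 + 1)))
    rw [f4hP_conj_gM T hs0, f4gM_inv T, f4gM_mul T] at h
    have e1 : s⁻¹ ^ 2 * (t / (s⁻¹ ^ 2 + 1)) + t / (s⁻¹ ^ 2 + 1) = t :=
      mul_div_add_self _ _ (sq_ne s⁻¹ hσ1)
    rwa [e1] at h
  have hU0 : ∀ u : K, f4uB e 0 u ∈ derIm (twistedF4 K e) := by
    intro u
    have h := comm_mem_derIm hz (f4uB_mem e 0 (u / (s⁻¹ ^ (e + 1) + 1)))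
    rw [f4hP_conj_uB T hs0, f4uB_inv T, f4uB_mul T] at h
    have e1 : s⁻¹ * (0 : K) + 0 = 0 := by ring
    have e2 : s⁻¹ ^ (e + 1) * (u / (s⁻¹ ^ (e + 1) + 1)) + (u / (s⁻¹ ^ (e + 1) + 1) + 0 ^ (e + 1)) +
        (s⁻¹ * 0) ^ e * 0 = u := by
      rw [zero_pow (Nat.succ_ne_zero e), mul_zero, add_zero, add_zero]
      exact mul_div_add_self _ _ (succ_ne s⁻¹ hσ1)
    rwa [e1, e2] at h
  have hU : ∀ t u : K, f4uB e t u ∈ derIm (twistedF4 K e) := by
    intro t u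
    have h := comm_mem_derIm hz (f4uB_mem e (t / (s⁻¹ + 1)) 0)
    rw [f4hP_conj_uB T hs0, f4uB_inv T, f4uB_mul T] at h
    have e1 : s⁻¹ * (t / (s⁻¹ + 1)) + t / (s⁻¹ + 1) = t := mul_div_add_self _ _ (add_ne s⁻¹ hσ1)
    rw [e1] at h
    have h2 := mul_mem h (hU0 (u + (s⁻¹ ^ (e + 1) * 0 + (0 + (t / (s⁻¹ + 1)) ^ (e + 1)) +
      (s⁻¹ * (t / (s⁻¹ + 1))) ^ e * (t / (s⁻¹ + 1)))))
    rw [f4uB_mul T] at h2
    have e2 : ∀ w : K, w + (u + w) + t ^ e * 0 = u := by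
      intro w
      linear_combination T.add_self w
    have e3 : t + 0 = t := add_zero t
    rwa [e2, e3] at h2
  have hV0 : ∀ u : K, f4vB e 0 u ∈ derIm (twistedF4 K e) := by
    intro u
    have h := comm_mem_derIm hz (f4vB_mem e 0 (u / (s ^ (e + 1) + 1)))
    rw [f4hP_conj_vB T hs0, f4vB_inv T, f4vB_mul T] at h
    have e1 : s * (0 : K) + 0 = 0 := by ring
    have e2 : s ^ (e + 1) * (u / (s ^ (e + 1) + 1)) + (u / (s ^ (e + 1) + 1) + 0 ^ (e + 1)) +
        (s * 0) ^ e * 0 = u := by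
      rw [zero_pow (Nat.succ_ne_zero e), mul_zero, add_zero, add_zero]
      exact mul_div_add_self _ _ (succ_ne s hs1)
    rwa [e1, e2] at h
  have hV : ∀ t u : K, f4vB e t u ∈ derIm (twistedF4 K e) := by
    intro t u
    have h := comm_mem_derIm hz (f4vB_mem e (t / (s + 1)) 0)
    rw [f4hP_conj_vB T hs0, f4vB_inv T, f4vB_mul T] at h
    have e1 : s * (t / (s + 1)) + t / (s + 1) = t := mul_div_add_self _ _ (add_ne s hs1)
    rw [e1] at h
    have h2 := mul_mem h (hV0 (u + (s ^ (e + 1) * 0 + (0 + (t / (s + 1)) ^ (e + 1)) +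
      (s * (t / (s + 1))) ^ e * (t / (s + 1)))))
    rw [f4vB_mul T] at h2
    have e2 : ∀ w : K, w + (u + w) + t ^ e * 0 = u := by
      intro w
      linear_combination T.add_self w
    have e3 : t + 0 = t := add_zero t
    rwa [e2, e3] at h2
  have hcl := twistedF4_eq_closure (K := K) e
  have key : ∀ g ∈ ({g : GL chevF4.Idx K | ∃ t : K, g = f4gP e t ∨ g = f4gM e t} ∪
      {g : GL chevF4.Idx K | ∃ t u : K, g = f4uB e t u ∨ g = f4vB e t u}),
      g ∈ derIm (Subgroup.closure ({g : GL chevF4.Idx K | ∃ t : K, g = f4gP e t ∨ g = f4gM e t} ∪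
      {g : GL chevF4.Idx K | ∃ t u : K, g = f4uB e t u ∨ g = f4vB e t u})) := by
    rw [← hcl]
    rintro g (⟨t, rfl | rfl⟩ | ⟨t, u, rfl | rfl⟩)
    · exact hP t
    · exact hM t
    · exact hU t u
    · exact hV t u
  have h := commutator_eq_top_of_closure _ key
  rw [← hcl] at h
  exact h

end Perfect

end Cfsg.Agent.Lib.helper23
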