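import Cfsg.Agent.Lib.helper23.F4WData
import Cfsg.Agent.Lib.helper23.F4SigmaDef
import Cfsg.Agent.Lib.helper23.ChevNFB
import Cfsg.Agent.Lib.helper22.TwWeyl

set_option autoImplicit false
set_option maxRecDepth 100000

/-!
# The elements of `W(F₄)` commuting with the twist, and `N ∩ ²F₄`
-/

namespace Cfsg.Agent.Lib.helper23

open Cfsg Cfsg.Lie Cfsg.Agent.Lib.helper41 Cfsg.Agent.Lib.helper22

universe u

/-- The list of the values of a function on the roots. -/
def f4lst (π : ℕ → ℕ) : List ℕ := (List.range 48).map π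

theorem f4lst_getD (π : ℕ → ℕ) {s : ℕ} (hs : s < 48) : (f4lst π).getD s 0 = π s := by
  unfold f4lst
  rw [List.getD_eq_getElem _ _ (by simpa using hs), List.getElem_map, List.getElem_range]

theorem f4WK_length : f4WK.length = 48 := by decide +kernel

/-- Membership in the list: the key and its bucket. -/
theorem f4memW_spec {l : List ℕ} (h : f4memW l = true) :
    ∃ j k, j < 48 ∧ k ∈ f4WK.getD j [] ∧ f4dec k = l := by
  unfold f4memW at h
  rw [Bool.and_eq_true] at h
  obtain ⟨h3, h4⟩ := h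
  obtain ⟨k, hk, hk'⟩ := List.any_eq_true.mp h3
  have hk'' : f4enc l = k := Nat.eq_of_beq_eq_true hk'
  refine ⟨l.headD 0, k, ?_, hk, ?_⟩
  · by_contra hj
    rw [List.getD_eq_default _ _ (by rw [f4WK_length]; omega)] at hk
    simp at hk
  · rw [← hk'']
    exact f4lbeq_eq _ _ h4

/-- The lists of the elements of the Weyl group belong to the list. -/
theorem f4W_mem : ∀ w : List ℕ, (∀ i ∈ w, i < 4) →
    f4memW (f4lst (actW chevF4 w)) = true ∧ ∀ s, s < 48 → actW chevF4 w s < 48
  | [] => fun _ => ⟨f4memW_id, fun _ hs => hs⟩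
  | i :: w => fun hw => by
    obtain ⟨h1, h2⟩ := f4W_mem w (fun j hj => hw j (List.mem_cons_of_mem _ hj))
    have hi := hw i List.mem_cons_self
    have e0 : ∀ s, actW chevF4 (i :: w) s = chevF4.reflectRoot i (actW chevF4 w s) := fun s => rfl
    have e : f4lst (actW chevF4 (i :: w)) = f4stepL i (f4lst (actW chevF4 w)) := by
      unfold f4lst f4stepL
      rw [List.map_map]
      apply List.map_congr_left
      intro s hs
      rw [e0]
      exact f4refl_spec i hi _ (h2 s (List.mem_range.mp hs))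
    obtain ⟨j, k, hj, hk, hkl⟩ := f4memW_spec h1
    have h6 := List.all_eq_true.mp f4stepChk_all j (List.mem_range.mpr hj)
    unfold f4stepChk at h6
    have h7 := List.all_eq_true.mp (List.all_eq_true.mp h6 k hk) i (List.mem_range.mpr hi)
    rw [hkl] at h7
    refine ⟨e ▸ h7, fun s hs => ?_⟩
    rw [e0, f4refl_spec i hi _ (h2 s hs)]
    exact f4refl_lt i hi _ (h2 s hs)

theorem f4rhoL_eq : f4rhoL = f4rho := rfl

/-- An element of the Weyl group commuting with `ρ` is one of the sixteen. -/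
theorem f4W_comm (w : List ℕ) (hw : ∀ i ∈ w, i < 4)
    (hc : ∀ s, s < 48 → f4rho.getD (actW chevF4 w s) 0 = actW chevF4 w (f4rho.getD s 0)) :
    ∃ j, j < 16 ∧ ∀ s, s < 48 → actW chevF4 w s = (f4D16.getD j []).getD s 0 := by
  obtain ⟨h1, h2⟩ := f4W_mem w hw
  obtain ⟨j, k, hj, hk, hkl⟩ := f4memW_spec h1
  have h3 := List.all_eq_true.mp (List.all_eq_true.mp f4commChk_all j (List.mem_range.mpr hj)) k hk
  rw [hkl] at h3
  have h4 : f4commL (f4lst (actW chevF4 w)) = true := by
    unfold f4commL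
    rw [List.all_eq_true]
    intro s hs
    have hs' := List.mem_range.mp hs
    rw [f4rhoL_eq, f4lst_getD _ hs', f4lst_getD _ (f4rho_lt s hs'), hc s hs']
    exact Nat.beq_refl _
  rw [h4] at h3
  have h5 : f4D16.any (f4lbeq (f4lst (actW chevF4 w))) = true := by simpa using h3
  obtain ⟨d, hd, hd'⟩ := List.any_eq_true.mp h5
  have hd'' := f4lbeq_eq _ _ hd'
  obtain ⟨j', hj', rfl⟩ := List.mem_iff_getElem.mp hd
  refine ⟨j', hj', fun s hs => ?_⟩
  rw [List.getD_eq_getElem _ _ hj', ← hd'', f4lst_getD _ hs]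

end Cfsg.Agent.Lib.helper23
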