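import Mathlib
import Cfsg.Prelude.Def_ChevD4
import Cfsg.Prelude.Def_Classical

/-!
# S1082 (D₄(F) ≅ PΩ₈⁺(F)): shared definitions

Coordinates of `F⁸`: `e_i = i`, `f_i = i + 4` (`i < 4`); `bar x = x + 4` exchanges `e_i` and `f_i`.
* `qf v = v₀v₄ + v₁v₅ + v₂v₆ + v₃v₇`, `bf` its polar form;
* `T a b t = 1 + t (E_{a,b} - E_{bar b, bar a})` (for `a ≠ b`, `a ≠ bar b`): the root elements (Siegel
  transformations) of the orthogonal group;
* `OG F` : the isometry group of `qf`; `EL F k` : the subgroup generated by the root elements `T a b t` with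
  `a, b` of level `≥ k` (the level of `x` is `x % 4`); `EG F = EL F 0`;
* `dl c = diag(1,1,1,c,1,1,1,c⁻¹)`, `sw` : the permutation matrix exchanging `e_3` and `f_3`.
-/

set_option autoImplicit false

namespace Cfsg.Agent.Lib.helper23.D4O

open Matrix Cfsg Cfsg.Lie

variable {F : Type*} [Field F]

/-- the index of the dual basis vector: `e_i ↔ f_i`. -/
def bar (x : Fin 8) : Fin 8 := x + 4

/-- The quadratic form `x₀y₀ + x₁y₁ + x₂y₂ + x₃y₃` (`x_i = v i`, `y_i = v (i + 4)`). -/
def qf (v : Fin 8 → F) : F := v 0 * v 4 + v 1 * v 5 + v 2 * v 6 + v 3 * v 7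

/-- The polar form of `qf`. -/
def bf (u v : Fin 8 → F) : F := ∑ x : Fin 8, u x * v (bar x)

/-- The root elements `1 + t (E_{a,b} - E_{bar b, bar a})`. -/
def T (a b : Fin 8) (t : F) : Matrix (Fin 8) (Fin 8) F :=
  1 + t • (Matrix.single a b (1 : F) - Matrix.single (bar b) (bar a) (1 : F))

/-- The isometry group of `qf`. -/
abbrev OG (F : Type*) [Field F] : Subgroup (GL (Fin 8) F) := Cfsg.isometryGroup F (qf (F := F))

/-- The subgroup generated by the root elements of level `≥ k`. -/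
def EL (F : Type*) [Field F] (k : ℕ) : Subgroup (GL (Fin 8) F) :=
  Subgroup.closure {g | ∃ (a b : Fin 8) (t : F), a ≠ b ∧ a ≠ bar b ∧ k ≤ a.val % 4 ∧ k ≤ b.val % 4 ∧
    (g : Matrix (Fin 8) (Fin 8) F) = T a b t}

/-- The subgroup generated by all root elements. -/
abbrev EG (F : Type*) [Field F] : Subgroup (GL (Fin 8) F) := EL F 0

/-- `diag(1,1,1,c,1,1,1,c⁻¹)`. -/
def dl (c : F) : Matrix (Fin 8) (Fin 8) F := Matrix.diagonal ![1, 1, 1, c, 1, 1, 1, c⁻¹]

/-- the transposition of the indices `3` and `7`. -/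
def sp : Equiv.Perm (Fin 8) := Equiv.swap 3 7

/-- The permutation matrix exchanging `e_3` and `f_3`. -/
def sw : Matrix (Fin 8) (Fin 8) F := Matrix.of fun i j => if i = sp j then (1 : F) else 0

theorem mem_OG (g : GL (Fin 8) F) :
    g ∈ OG F ↔ ∀ v : Fin 8 → F, qf ((g : Matrix (Fin 8) (Fin 8) F) *ᵥ v) = qf v := by
  constructor
  · intro h v
    exact h v v
  · intro h u v
    exact h u

end Cfsg.Agent.Lib.helper23.D4O
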