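/-
helper23: a map of root indices compatible with the negation and the commutator tables of two
Chevalley data induces a homomorphism of the Steinberg groups.
-/
import Mathlib
import Cfsg.Prelude.Def_Steinberg

set_option autoImplicit false

namespace Cfsg.Agent.Lib.helper23.StEmb

open Cfsg.Lie

universe u

/-- compatibility of the tables of `D` and `D'` under the index map `ι` -/
structure Compat (D D' : ChevalleyDatum) (ι : ℕ → ℕ) : Prop where
  lt : ∀ r, r < D.nroots → ι r < D'.nroots
  inj : ∀ r s, r < D.nroots → s < D.nroots → ι r = ι s → r = s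
  neg_lt : ∀ r, r < D.nroots → D.neg r < D.nroots
  neg : ∀ r, r < D.nroots → D'.neg (ι r) = ι (D.neg r)
  comm_lt : ∀ r s, r < D.nroots → s < D.nroots → ∀ c ∈ D.commTerms r s, c.1 < D.nroots
  comm : ∀ r s, r < D.nroots → s < D.nroots →
    D'.commTerms (ι r) (ι s) = (D.commTerms r s).map (fun c => (ι c.1, c.2))

/-- the images of the generators -/
def gen (D D' : ChevalleyDatum) (ι : ℕ → ℕ) (K : Type u) [Field K] (p : Fin D.nroots × K) :
    D'.SteinbergGroup K :=
  D'.stGen K (ι p.1.val) p.2

section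

variable {D D' : ChevalleyDatum} {ι : ℕ → ℕ} (K : Type u) [Field K]

theorem lift_stX (r : ℕ) (hr : r < D.nroots) (t : K) :
    FreeGroup.lift (gen D D' ι K) (D.stX r t) = D'.stGen K (ι r) t := by
  unfold ChevalleyDatum.stX
  rw [dif_pos hr, FreeGroup.lift_apply_of]
  rfl

theorem lift_stWord (w : List (ℕ × K)) (hw : ∀ p ∈ w, p.1 < D.nroots) :
    FreeGroup.lift (gen D D' ι K) (D.stWord w) =
      PresentedGroup.mk (D'.steinbergRels K) (D'.stWord (w.map fun p => (ι p.1, p.2))) := by
  induction w with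
  | nil => simp [ChevalleyDatum.stWord]
  | cons p w ih =>
    have h1 := ih (fun q hq => hw q (List.mem_cons_of_mem _ hq))
    unfold ChevalleyDatum.stWord at h1 ⊢
    rw [List.map_cons, List.prod_cons, map_mul, h1, lift_stX K p.1 (hw p List.mem_cons_self) p.2]
    simp only [List.map_cons, List.prod_cons, map_mul]
    rfl

theorem map_nWord (hc : Compat D D' ι) (r : ℕ) (hr : r < D.nroots) (t : K) :
    (D.nWord r t).map (fun p => (ι p.1, p.2)) = D'.nWord (ι r) t := by
  unfold ChevalleyDatum.nWord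
  simp only [List.map_cons, List.map_nil]
  rw [hc.neg r hr]

theorem nWord_lt (hc : Compat D D' ι) (r : ℕ) (hr : r < D.nroots) (t : K) :
    ∀ p ∈ D.nWord r t, p.1 < D.nroots := by
  intro p hp
  unfold ChevalleyDatum.nWord at hp
  simp only [List.mem_cons, List.not_mem_nil, or_false] at hp
  rcases hp with rfl | rfl | rfl
  · exact hr
  · exact hc.neg_lt r hr
  · exact hr

theorem map_hWord (hc : Compat D D' ι) (r : ℕ) (hr : r < D.nroots) (t : K) :
    (D.hWord r t).map (fun p => (ι p.1, p.2)) = D'.hWord (ι r) t := by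
  unfold ChevalleyDatum.hWord
  rw [List.map_append, map_nWord K hc r hr, map_nWord K hc r hr]

theorem hWord_lt (hc : Compat D D' ι) (r : ℕ) (hr : r < D.nroots) (t : K) :
    ∀ p ∈ D.hWord r t, p.1 < D.nroots := by
  intro p hp
  unfold ChevalleyDatum.hWord at hp
  rcases List.mem_append.mp hp with h | h
  · exact nWord_lt K hc r hr t p h
  · exact nWord_lt K hc r hr (-1) p h

theorem lift_stH (hc : Compat D D' ι) (r : ℕ) (hr : r < D.nroots) (t : K) :
    FreeGroup.lift (gen D D' ι K) (D.stH r t) =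
      PresentedGroup.mk (D'.steinbergRels K) (D'.stH (ι r) t) := by
  unfold ChevalleyDatum.stH
  rw [lift_stWord K _ (hWord_lt K hc r hr t), map_hWord K hc r hr]

theorem map_commWord (hc : Compat D D' ι) (r s : ℕ) (hr : r < D.nroots) (hs : s < D.nroots)
    (t u : K) :
    (D.commWord K r s t u).map (fun p => (ι p.1, p.2)) = D'.commWord K (ι r) (ι s) t u := by
  unfold ChevalleyDatum.commWord
  rw [hc.comm r s hr hs, List.map_map, List.map_map]
  rfl

theorem commWord_lt (hc : Compat D D' ι) (r s : ℕ) (hr : r < D.nroots) (hs : s < D.nroots)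
    (t u : K) : ∀ p ∈ D.commWord K r s t u, p.1 < D.nroots := by
  intro p hp
  unfold ChevalleyDatum.commWord at hp
  obtain ⟨c, hc1, rfl⟩ := List.mem_map.mp hp
  exact hc.comm_lt r s hr hs c hc1

theorem lift_rel (hc : Compat D D' ι) :
    ∀ g ∈ D.steinbergRels K, FreeGroup.lift (gen D D' ι K) g = 1 := by
  intro g hg
  rcases hg with (⟨r, t₁, t₂, hr, rfl⟩ | ⟨r, s, t, u, hr, hs, h1, h2, rfl⟩) | ⟨r, t₁, t₂, hr, h1, h2, rfl⟩
  · rw [map_mul, map_mul, map_inv, lift_stX K r hr, lift_stX K r hr, lift_stX K r hr]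
    unfold ChevalleyDatum.stGen
    rw [← map_mul, ← map_inv, ← map_mul]
    apply PresentedGroup.one_of_mem
    exact Or.inl (Or.inl ⟨ι r, t₁, t₂, hc.lt r hr, rfl⟩)
  · rw [map_mul, map_mul, map_mul, map_mul, map_inv, map_inv, map_inv, lift_stX K r hr,
      lift_stX K s hs, lift_stWord K _ (commWord_lt K hc r s hr hs t u),
      map_commWord K hc r s hr hs]
    unfold ChevalleyDatum.stGen
    rw [← map_inv, ← map_inv, ← map_inv, ← map_mul, ← map_mul, ← map_mul, ← map_mul]
    apply PresentedGroup.one_of_mem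
    refine Or.inl (Or.inr ⟨ι r, ι s, t, u, hc.lt r hr, hc.lt s hs, ?_, ?_, rfl⟩)
    · intro h
      exact h1 (hc.inj s r hs hr h)
    · intro h
      rw [hc.neg r hr] at h
      exact h2 (hc.inj s (D.neg r) hs (hc.neg_lt r hr) h)
  · rw [map_mul, map_mul, map_inv, lift_stH K hc r hr, lift_stH K hc r hr, lift_stH K hc r hr,
      ← map_mul, ← map_inv, ← map_mul]
    apply PresentedGroup.one_of_mem
    exact Or.inr ⟨ι r, t₁, t₂, hc.lt r hr, h1, h2, rfl⟩

/-- the induced homomorphism of Steinberg groups -/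
noncomputable def hom (hc : Compat D D' ι) : D.SteinbergGroup K →* D'.SteinbergGroup K :=
  PresentedGroup.toGroup (lift_rel K hc)

theorem hom_mk (hc : Compat D D' ι) (g : FreeGroup (Fin D.nroots × K)) :
    hom K hc (PresentedGroup.mk (D.steinbergRels K) g) = FreeGroup.lift (gen D D' ι K) g :=
  rfl

theorem hom_stGen (hc : Compat D D' ι) (r : ℕ) (hr : r < D.nroots) (t : K) :
    hom K hc (D.stGen K r t) = D'.stGen K (ι r) t := by
  unfold ChevalleyDatum.stGen
  rw [hom_mk, lift_stX K r hr]
  rfl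

theorem hom_stH (hc : Compat D D' ι) (r : ℕ) (hr : r < D.nroots) (t : K) :
    hom K hc (PresentedGroup.mk (D.steinbergRels K) (D.stH r t)) =
      PresentedGroup.mk (D'.steinbergRels K) (D'.stH (ι r) t) := by
  rw [hom_mk, lift_stH K hc r hr]

end

end Cfsg.Agent.Lib.helper23.StEmb
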