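/-
helper23: the index maps of the root systems of type E6 and E7 into the root system of type E8
(coordinates padded with zeros) and their inverses on the image.
-/
import Cfsg.Agent.Lib.helper23.StEmb
import Cfsg.Prelude.Def_ChevE6
import Cfsg.Prelude.Def_ChevE7
import Cfsg.Prelude.Def_ChevE8

set_option autoImplicit false

namespace Cfsg.Agent.Lib.helper23.StEmb

open Cfsg.Lie

/-- the root of type E8 with the coordinates of the root `r` of type E6, padded -/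
def iota6Arr : Array ℕ := #[35, 45, 51, 54, 55, 61, 64, 65, 68, 69, 70, 73, 74, 75, 76, 77, 83, 86, 87, 90, 91, 92, 95, 96, 97, 98, 101, 102, 103, 104, 107, 108, 109, 112, 113, 116, 123, 126, 127, 130, 131, 132, 135, 136, 137, 138, 141, 142, 143, 144, 147, 148, 149, 152, 153, 156, 162, 163, 164, 165, 166, 169, 170, 171, 174, 175, 178, 184, 185, 188, 194, 204]

def iota6 (r : ℕ) : ℕ := iota6Arr.getD r 0

def kappa6Arr : Array ℕ := #[0, 0, 0, 0, 0, 0, 0, 0, 0, 0, 0, 0, 0, 0, 0, 0, 0, 0, 0, 0, 0, 0, 0, 0, 0, 0, 0, 0, 0, 0, 0, 0, 0, 0, 0, 0, 0, 0, 0, 0, 0, 0, 0, 0, 0, 1, 0, 0, 0, 0, 0, 2, 0, 0, 3, 4, 0, 0, 0, 0, 0, 5, 0, 0, 6, 7, 0, 0, 8, 9, 10, 0, 0, 11, 12, 13, 14, 15, 0, 0, 0, 0, 0, 16, 0, 0, 17, 18, 0, 0, 19, 20, 21, 0, 0, 22, 23, 24, 25, 0, 0, 26, 27, 28, 29, 0, 0, 30, 31, 32, 0, 0, 33, 34, 0, 0, 35, 0, 0, 0, 0, 0, 0, 36, 0, 0, 37, 38, 0, 0, 39, 40, 41, 0,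 0, 42, 43, 44, 45, 0, 0, 46, 47, 48, 49, 0, 0, 50, 51, 52, 0, 0, 53, 54, 0, 0, 55, 0, 0, 0, 0, 0, 56, 57, 58, 59, 60, 0, 0, 61, 62, 63, 0, 0, 64, 65, 0, 0, 66, 0, 0, 0, 0, 0, 67, 68, 0, 0, 69, 0, 0, 0, 0, 0, 70, 0, 0, 0, 0, 0, 0, 0, 0, 0, 71, 0, 0, 0, 0, 0, 0, 0, 0, 0, 0, 0, 0, 0, 0, 0, 0, 0, 0, 0, 0, 0, 0, 0, 0, 0, 0, 0, 0, 0, 0, 0, 0, 0, 0, 0]

def kappa6 (r : ℕ) : ℕ := kappa6Arr.getD r 0

/-- the root of type E8 with the coordinates of the root `r` of type E7, padded -/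
def iota7Arr : Array ℕ := #[13, 20, 25, 29, 32, 34, 35, 39, 42, 44, 45, 48, 50, 51, 53, 54, 55, 58, 60, 61, 63, 64, 65, 67, 68, 69, 70, 72, 73, 74, 75, 76, 77, 80, 82, 83, 85, 86, 87, 89, 90, 91, 92, 94, 95, 96, 97, 98, 100, 101, 102, 103, 104, 106, 107, 108, 109, 111, 112, 113, 115, 116, 118, 121, 123, 124, 126, 127, 128, 130, 131, 132, 133, 135, 136, 137, 138, 139, 141, 142, 143, 144, 145, 147, 148, 149, 150, 152, 153, 154, 156, 157, 159, 162, 163, 164, 165, 166, 167, 169, 170, 171, 172, 174, 175, 176, 178, 179, 181, 184, 185, 186, 188, 189, 191, 194, 195, 197, 200, 204, 205, 207, 210, 214, 219, 226]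

def iota7 (r : ℕ) : ℕ := iota7Arr.getD r 0

def kappa7Arr : Array ℕ := #[0, 0, 0, 0, 0, 0, 0, 0, 0, 0, 0, 0, 0, 0, 0, 0, 0, 0, 0, 0, 1, 0, 0, 0, 0, 2, 0, 0, 0, 3, 0, 0, 4, 0, 5, 6, 0, 0, 0, 7, 0, 0, 8, 0, 9, 10, 0, 0, 11, 0, 12, 13, 0, 14, 15, 16, 0, 0, 17, 0, 18, 19, 0, 20, 21, 22, 0, 23, 24, 25, 26, 0, 27, 28, 29, 30, 31, 32, 0, 0, 33, 0, 34, 35, 0, 36, 37, 38, 0, 39, 40, 41, 42, 0, 43, 44, 45, 46, 47, 0, 48, 49, 50, 51, 52, 0, 53, 54, 55, 56, 0, 57, 58, 59, 0, 60, 61, 0, 62, 0, 0, 63, 0, 64, 65, 0, 66, 67, 68, 0, 69, 70, 71, 72, 0, 73, 74, 75, 76, 77, 0, 78, 79, 80, 81, 82, 0, 83, 84, 85, 86, 0, 87, 88, 89, 0, 90, 91, 0, 92, 0, 0, 93, 94, 95, 96, 97, 98, 0, 99, 100, 101, 102, 0, 103, 104, 105, 0, 106, 107, 0, 108, 0, 0, 109, 110, 111, 0, 112, 113, 0, 114, 0, 0, 115, 116, 0, 117, 0, 0, 118, 0, 0, 0, 119, 120, 0, 121, 0, 0, 122, 0, 0, 0, 123, 0, 0, 0, 0,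 124, 0, 0, 0, 0, 0, 0, 125, 0, 0, 0, 0, 0, 0, 0, 0, 0, 0, 0, 0, 0]

def kappa7 (r : ℕ) : ℕ := kappa7Arr.getD r 0

/-- the check of the compatibility conditions for the root `r` -/
def embCheck (D D' : ChevalleyDatum) (ι κ : ℕ → ℕ) (r : ℕ) : Bool :=
  decide (ι r < D'.nroots) && decide (κ (ι r) = r) && decide (D.neg r < D.nroots) &&
  decide (D'.neg (ι r) = ι (D.neg r)) &&
  (List.range D.nroots).all (fun s =>
    decide (D'.commTerms (ι r) (ι s) = (D.commTerms r s).map (fun c => (ι c.1, c.2))) &&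
    (D.commTerms r s).all (fun c => decide (c.1 < D.nroots)))

theorem compat_of_check (D D' : ChevalleyDatum) (ι κ : ℕ → ℕ)
    (h : ∀ r, r < D.nroots → embCheck D D' ι κ r = true) : Compat D D' ι := by
  have h' : ∀ r, r < D.nroots → (ι r < D'.nroots ∧ κ (ι r) = r ∧ D.neg r < D.nroots ∧
      D'.neg (ι r) = ι (D.neg r)) ∧ ∀ s, s < D.nroots →
        D'.commTerms (ι r) (ι s) = (D.commTerms r s).map (fun c => (ι c.1, c.2)) ∧
        ∀ c ∈ D.commTerms r s, c.1 < D.nroots := by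
    intro r hr
    have h1 := h r hr
    unfold embCheck at h1
    simp only [Bool.and_eq_true, decide_eq_true_eq, List.all_eq_true, List.mem_range] at h1
    exact ⟨⟨h1.1.1.1.1, h1.1.1.1.2, h1.1.1.2, h1.1.2⟩, fun s hs => h1.2 s hs⟩
  refine ⟨fun r hr => (h' r hr).1.1, ?_, fun r hr => (h' r hr).1.2.2.1,
    fun r hr => (h' r hr).1.2.2.2, fun r s hr hs => ((h' r hr).2 s hs).2,
    fun r s hr hs => ((h' r hr).2 s hs).1⟩
  intro r s hr hs hrs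
  rw [← (h' r hr).1.2.1, ← (h' s hs).1.2.1, hrs]

/-- a check of all indices below `step * n` from the checks of the chunks -/
theorem check_of_chunks (P : ℕ → Prop) (step n : ℕ) (hstep : 0 < step)
    (h : ∀ k, k < n → ∀ j, j < step → P (j + step * k)) : ∀ r, r < step * n → P r := by
  intro r hr
  have h1 := h (r / step) (Nat.div_lt_of_lt_mul hr) (r % step) (Nat.mod_lt r hstep)
  rwa [Nat.mod_add_div] at h1

end Cfsg.Agent.Lib.helper23.StEmb
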