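/-
helper23: the root system of type E6 inside the root system of type E8: compatibility of the tables.
-/
import Cfsg.Agent.Lib.helper23.StEmbData

set_option autoImplicit false
set_option maxRecDepth 100000

namespace Cfsg.Agent.Lib.helper23.StEmb

open Cfsg.Lie

theorem checkE6_0 : ∀ j, j < 12 → embCheck chevE6 chevE8 iota6 kappa6 (j + 12 * 0) = true := by
  decide +kernel

theorem checkE6_1 : ∀ j, j < 12 → embCheck chevE6 chevE8 iota6 kappa6 (j + 12 * 1) = true := by
  decide +kernel

theorem checkE6_2 : ∀ j, j < 12 → embCheck chevE6 chevE8 iota6 kappa6 (j + 12 * 2) = true := by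
  decide +kernel

theorem checkE6_3 : ∀ j, j < 12 → embCheck chevE6 chevE8 iota6 kappa6 (j + 12 * 3) = true := by
  decide +kernel

theorem checkE6_4 : ∀ j, j < 12 → embCheck chevE6 chevE8 iota6 kappa6 (j + 12 * 4) = true := by
  decide +kernel

theorem checkE6_5 : ∀ j, j < 12 → embCheck chevE6 chevE8 iota6 kappa6 (j + 12 * 5) = true := by
  decide +kernel

theorem checkE6 : ∀ r, r < 72 → embCheck chevE6 chevE8 iota6 kappa6 r = true := by
  intro r hr
  have hr' : r < 12 * 6 := hr
  refine check_of_chunks (fun r => embCheck chevE6 chevE8 iota6 kappa6 r = true) 12 6 (by norm_num)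
    ?_ r hr'
  intro k hk
  interval_cases k
  · exact checkE6_0
  · exact checkE6_1
  · exact checkE6_2
  · exact checkE6_3
  · exact checkE6_4
  · exact checkE6_5

theorem compatE6 : Compat chevE6 chevE8 iota6 :=
  compat_of_check chevE6 chevE8 iota6 kappa6 checkE6

theorem iota6_simple : ∀ i, i < 6 → iota6 (chevE6.simple i) = chevE8.simple i := by
  decide +kernel

end Cfsg.Agent.Lib.helper23.StEmb
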