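/-
helper23: the root system of type E7 inside the root system of type E8: compatibility of the tables, part 1.
-/
import Cfsg.Agent.Lib.helper23.StEmbData

set_option autoImplicit false
set_option maxRecDepth 100000

namespace Cfsg.Agent.Lib.helper23.StEmb

open Cfsg.Lie

theorem checkE7_3 : ∀ j, j < 14 → embCheck chevE7 chevE8 iota7 kappa7 (j + 14 * 3) = true := by
  decide +kernel

theorem checkE7_4 : ∀ j, j < 14 → embCheck chevE7 chevE8 iota7 kappa7 (j + 14 * 4) = true := by
  decide +kernel

theorem checkE7_5 : ∀ j, j < 14 → embCheck chevE7 chevE8 iota7 kappa7 (j + 14 * 5) = true := by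
  decide +kernel

end Cfsg.Agent.Lib.helper23.StEmb
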