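/-
helper23: the root system of type E7 inside the root system of type E8: compatibility of the tables.
-/
import Cfsg.Agent.Lib.helper23.StEmbE7P0
import Cfsg.Agent.Lib.helper23.StEmbE7P1
import Cfsg.Agent.Lib.helper23.StEmbE7P2

set_option autoImplicit false
set_option maxRecDepth 100000

namespace Cfsg.Agent.Lib.helper23.StEmb

open Cfsg.Lie

theorem checkE7 : ∀ r, r < 126 → embCheck chevE7 chevE8 iota7 kappa7 r = true := by
  intro r hr
  have hr' : r < 14 * 9 := hr
  refine check_of_chunks (fun r => embCheck chevE7 chevE8 iota7 kappa7 r = true) 14 9 (by norm_num)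
    ?_ r hr'
  intro k hk
  interval_cases k
  · exact checkE7_0
  · exact checkE7_1
  · exact checkE7_2
  · exact checkE7_3
  · exact checkE7_4
  · exact checkE7_5
  · exact checkE7_6
  · exact checkE7_7
  · exact checkE7_8

theorem compatE7 : Compat chevE7 chevE8 iota7 :=
  compat_of_check chevE7 chevE8 iota7 kappa7 checkE7

theorem iota7_simple : ∀ i, i < 7 → iota7 (chevE7.simple i) = chevE8.simple i := by
  decide +kernel

end Cfsg.Agent.Lib.helper23.StEmb
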