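/-
helper23: the centre of the group presented by Steinberg's relations for the types E6 and E7 is in
bijection with the cube (square) roots of unity of the field: the upper bound from the torus
equations, the lower bound from the homomorphism to the group of type E8.
-/
import Cfsg.Agent.Lib.helper41.StUniInst
import Cfsg.Agent.Lib.helper23.StEmbE6
import Cfsg.Agent.Lib.helper23.StEmbE7

set_option autoImplicit false
set_option maxRecDepth 100000

namespace Cfsg.Agent.Lib.helper23.StCen

open Cfsg.Lie Cfsg.Agent.Lib.helper22 Cfsg.Agent.Lib.helper41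

universe u

/-- the exponent vectors `δ_k - e_k δ_{i₀}` (`k ≠ i₀`) and `m δ_{i₀}` (`k = i₀`) -/
def tgt (m : ℕ) (e : ℕ → ℕ) (i₀ i k : ℕ) : ℤ :=
  if k = i₀ then (if i = i₀ then (m : ℤ) else 0)
  else (if i = k then 1 else 0) - (e k : ℤ) * (if i = i₀ then 1 else 0)

/-- the Cartan matrix times `B` is the matrix of the vectors `tgt` -/
def solOK (D : ChevalleyDatum) (m : ℕ) (e : ℕ → ℕ) (i₀ : ℕ) (B : List (List ℤ)) : Bool :=
  (List.range D.rank).all fun i => (List.range D.rank).all fun k =>
    decide (((List.range D.rank).map fun j =>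
      cartanZ D i (D.simple j) * ((B.getD j []).getD k 0)).sum = tgt m e i₀ i k)

theorem solOK_spec {D : ChevalleyDatum} {m : ℕ} {e : ℕ → ℕ} {i₀ : ℕ} {B : List (List ℤ)}
    (h : solOK D m e i₀ B = true) (i k : Fin D.rank) :
    ∑ j : Fin D.rank, cartanZ D i.val (D.simple j.val) * ((B.getD j.val []).getD k.val 0) =
      tgt m e i₀ i.val k.val := by
  unfold solOK at h
  rw [List.all_eq_true] at h
  have h1 := h i.val (List.mem_range.mpr i.isLt)
  rw [List.all_eq_true] at h1
  have h2 := of_decide_eq_true (h1 k.val (List.mem_range.mpr k.isLt))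
  rw [list_range_map_sum] at h2
  rw [Fin.sum_univ_eq_sum_range
    (fun j => cartanZ D i.val (D.simple j) * ((B.getD j []).getD k.val 0)) D.rank, h2]

/-- the solutions of the torus equations -/
theorem solve_of_cert {D : ChevalleyDatum} {K : Type u} [Field K] {m : ℕ} {e : ℕ → ℕ} {i₀ : ℕ}
    (hi₀ : i₀ < D.rank) {B : List (List ℤ)} (hB : solOK D m e i₀ B = true)
    (c : Fin D.rank → K) (hc : ∀ i, c i ≠ 0)
    (h : ∀ j : Fin D.rank, torusChar D K c (D.simple j.val) = 1) :
    c ⟨i₀, hi₀⟩ ^ m = 1 ∧ ∀ k : Fin D.rank, k.val ≠ i₀ → c k = c ⟨i₀, hi₀⟩ ^ (e k.val) := by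
  have key : ∀ k : Fin D.rank, ∏ i : Fin D.rank, c i ^ tgt m e i₀ i.val k.val = 1 := by
    intro k
    calc ∏ i : Fin D.rank, c i ^ tgt m e i₀ i.val k.val
        = ∏ i : Fin D.rank, c i ^ (∑ j : Fin D.rank,
            cartanZ D i.val (D.simple j.val) * ((B.getD j.val []).getD k.val 0)) := by
          refine Finset.prod_congr rfl fun i _ => ?_
          rw [solOK_spec hB i k]
      _ = ∏ i : Fin D.rank, ∏ j : Fin D.rank,
            (c i ^ cartanZ D i.val (D.simple j.val)) ^ ((B.getD j.val []).getD k.val 0) := by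
          refine Finset.prod_congr rfl fun i _ => ?_
          rw [zpow_finset_sum₀ (hc i)]
          exact Finset.prod_congr rfl fun j _ => zpow_mul _ _ _
      _ = ∏ j : Fin D.rank, ∏ i : Fin D.rank,
            (c i ^ cartanZ D i.val (D.simple j.val)) ^ ((B.getD j.val []).getD k.val 0) :=
          Finset.prod_comm
      _ = ∏ j : Fin D.rank,
            (∏ i : Fin D.rank, c i ^ cartanZ D i.val (D.simple j.val)) ^
              ((B.getD j.val []).getD k.val 0) := by
          refine Finset.prod_congr rfl fun j _ => ?_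
          rw [Finset.prod_zpow]
      _ = 1 := by
          apply Finset.prod_eq_one
          intro j _
          have h6 := h j
          unfold torusChar at h6
          rw [h6, one_zpow]
  constructor
  · have h1 := key ⟨i₀, hi₀⟩
    rw [Finset.prod_eq_single (⟨i₀, hi₀⟩ : Fin D.rank)] at h1
    · have h2 : tgt m e i₀ i₀ i₀ = (m : ℤ) := by simp [tgt]
      rw [h2, zpow_natCast] at h1
      exact h1
    · intro b _ hb
      have hb' : b.val ≠ i₀ := fun h => hb (Fin.ext h)
      have h2 : tgt m e i₀ b.val i₀ = 0 := by simp [tgt, hb']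
      rw [h2, zpow_zero]
    · intro h
      exact absurd (Finset.mem_univ _) h
  · intro k hk
    have h1 := key k
    have hne : k ≠ (⟨i₀, hi₀⟩ : Fin D.rank) := fun h => hk (congrArg Fin.val h)
    rw [Finset.prod_eq_mul k (⟨i₀, hi₀⟩ : Fin D.rank) hne] at h1
    · have h2 : tgt m e i₀ k.val k.val = 1 := by simp [tgt, hk]
      have h3 : tgt m e i₀ i₀ k.val = -(e k.val : ℤ) := by
        have : i₀ ≠ k.val := fun h => hk h.symm
        simp [tgt, hk, this]
      rw [h2, h3, zpow_one, zpow_neg, zpow_natCast] at h1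
      exact (mul_inv_eq_one₀ (pow_ne_zero _ (hc _))).mp h1
    · intro b _ hb
      have hb1 : b.val ≠ k.val := fun h => hb.1 (Fin.ext h)
      have hb2 : b.val ≠ i₀ := fun h => hb.2 (Fin.ext h)
      have h2 : tgt m e i₀ b.val k.val = 0 := by simp [tgt, hk, hb1, hb2]
      rw [h2, zpow_zero]
    · intro h
      exact absurd (Finset.mem_univ _) h
    · intro h
      exact absurd (Finset.mem_univ _) h

/-- `m` divides `∑ e_i A_{p_i, r}` for every root `r` -/
def convOK (D : ChevalleyDatum) (m : ℕ) (e : ℕ → ℕ) : Bool :=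
  (List.range D.nroots).all fun r =>
    decide ((m : ℤ) ∣ ((List.range D.rank).map fun i => (e i : ℤ) * cartanZ D i r).sum)

theorem conv_of_cert {D : ChevalleyDatum} {K : Type u} [Field K] {m : ℕ} {e : ℕ → ℕ}
    (h : convOK D m e = true) (s : K) (hs : s ^ m = 1) (hs0 : s ≠ 0) (r : ℕ) (hr : r < D.nroots) :
    torusChar D K (fun i : Fin D.rank => s ^ e i.val) r = 1 := by
  unfold convOK at h
  rw [List.all_eq_true] at h
  have h1 := of_decide_eq_true (h r (List.mem_range.mpr hr))
  rw [list_range_map_sum] at h1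
  obtain ⟨q, hq⟩ := h1
  unfold torusChar
  have h2 : ∀ i : Fin D.rank, (s ^ e i.val) ^ cartanZ D i.val r =
      s ^ ((e i.val : ℤ) * cartanZ D i.val r) := by
    intro i
    rw [zpow_mul, zpow_natCast]
  rw [Finset.prod_congr rfl (fun i _ => h2 i), ← zpow_finset_sum₀ hs0,
    Fin.sum_univ_eq_sum_range (fun i => (e i : ℤ) * cartanZ D i r) D.rank, hq, zpow_mul,
    zpow_natCast, hs, one_zpow]

/-- the Cartan integers of the first `D.rank` fundamental roots of `D'` with the `j₀`-th one -/
def detOK (D D' : ChevalleyDatum) (i₀ j₀ : ℕ) : Bool :=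
  (List.range D.rank).all fun i =>
    decide (cartanZ D' i (D'.simple j₀) = if i = i₀ then -1 else 0)

theorem det_of_cert {D D' : ChevalleyDatum} {K : Type u} [Field K] {i₀ j₀ : ℕ}
    (h : detOK D D' i₀ j₀ = true) (hi₀ : i₀ < D.rank) (hrk : D.rank ≤ D'.rank) (τ : ℕ → K) :
    torusChar D' K (fun j : Fin D'.rank => if j.val < D.rank then τ j.val else 1)
      (D'.simple j₀) = (τ i₀)⁻¹ := by
  unfold detOK at h
  rw [List.all_eq_true] at h
  have hA : ∀ i, i < D.rank → cartanZ D' i (D'.simple j₀) = if i = i₀ then -1 else 0 :=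
    fun i hi => of_decide_eq_true (h i (List.mem_range.mpr hi))
  unfold torusChar
  rw [Finset.prod_eq_single (⟨i₀, lt_of_lt_of_le hi₀ hrk⟩ : Fin D'.rank)]
  · show (if i₀ < D.rank then τ i₀ else 1) ^ cartanZ D' i₀ (D'.simple j₀) = (τ i₀)⁻¹
    rw [if_pos hi₀, hA i₀ hi₀, if_pos rfl, zpow_neg_one]
  · intro b _ hb
    have hb' : b.val ≠ i₀ := fun h => hb (Fin.ext h)
    show (if b.val < D.rank then τ b.val else 1) ^ cartanZ D' b.val (D'.simple j₀) = 1
    by_cases hb1 : b.val < D.rank
    · rw [hA b.val hb1, if_neg hb', zpow_zero]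
    · rw [if_neg hb1, one_zpow]
  · intro h
    exact absurd (Finset.mem_univ _) h

/-- the centre of the presented group of `D` is in bijection with the `m`-th roots of unity -/
theorem card_center_eq {D D' : ChevalleyDatum}
    (hD : D ∈ [chevG2, chevB2, chevD4, chevF4, chevE6, chevE7, chevE8])
    (hD' : D' ∈ [chevG2, chevB2, chevD4, chevF4, chevE6, chevE7, chevE8])
    (K : Type u) [Field K] {ι : ℕ → ℕ} (hc : StEmb.Compat D D' ι)
    (hιs : ∀ i, i < D.rank → ι (D.simple i) = D'.simple i) (hrk : D.rank ≤ D'.rank)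
    {m : ℕ} (hm : 0 < m) {e : ℕ → ℕ} {i₀ j₀ : ℕ} (hi₀ : i₀ < D.rank) (hj₀ : j₀ < D'.rank)
    (he : e i₀ = 1) {B : List (List ℤ)} (hB : solOK D m e i₀ B = true)
    (hconv : convOK D m e = true) (hdet : detOK D D' i₀ j₀ = true) :
    Nat.card (Subgroup.center (D.SteinbergGroup K)) = Nat.card {s : K // s ^ m = 1} := by
  obtain ⟨η, I⟩ := bnInput_all D hD K
  obtain ⟨η', I'⟩ := bnInput_all D' hD' K
  obtain ⟨C⟩ := chevPkg_all D hD K
  obtain ⟨C'⟩ := chevPkg_all D' hD' K
  have T := stTab_all D hD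
  have hAB : D.steinbergRelsAB K ⊆ D.steinbergRels K := Set.subset_union_left
  have hAB' : D'.steinbergRelsAB K ⊆ D'.steinbergRels K := Set.subset_union_left
  have hrel := lift_rel (K := K) I.hSD' I.hcomm
  have hrel' := lift_rel (K := K) I'.hSD' I'.hcomm
  obtain ⟨θ, h1, h2, h3⟩ := pres_central D hD K I.hSD' (D.steinbergRels K) hAB hrel
  obtain ⟨S, hSX, hShb⟩ : ∃ S : StData D K (PresentedGroup (D.steinbergRels K)),
      (∀ (r : ℕ) (t : K), S.X r t = PresentedGroup.mk (D.steinbergRels K) (D.stX r t)) ∧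
      (∀ (r : ℕ) (t : K), S.hb r t = PresentedGroup.mk (D.steinbergRels K) (D.stH r t)) :=
    ⟨stDataOf I.hSD' (D.steinbergRels K) hAB hrel, fun _ _ => rfl,
      hb_stDataOf I.hSD' (D.steinbergRels K) hAB hrel⟩
  obtain ⟨S', hSX', hShb'⟩ : ∃ S' : StData D' K (PresentedGroup (D'.steinbergRels K)),
      (∀ (r : ℕ) (t : K), S'.X r t = PresentedGroup.mk (D'.steinbergRels K) (D'.stX r t)) ∧
      (∀ (r : ℕ) (t : K), S'.hb r t = PresentedGroup.mk (D'.steinbergRels K) (D'.stH r t)) :=
    ⟨stDataOf I'.hSD' (D'.steinbergRels K) hAB' hrel', fun _ _ => rfl,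
      hb_stDataOf I'.hSD' (D'.steinbergRels K) hAB' hrel'⟩
  have hagree : ∀ g, ((θ g : ↥(D.group K)) : GL D.Idx K) = S.θ g := by
    intro g
    have h4 : (⊤ : Subgroup (PresentedGroup (D.steinbergRels K))) ≤
        ((D.group K).subtype.comp θ).eqLocus S.θ := by
      rw [← S.gen, Subgroup.closure_le]
      rintro y ⟨r, t, hr, rfl⟩
      show ((θ (S.X r t) : ↥(D.group K)) : GL D.Idx K) = S.θ (S.X r t)
      apply Units.ext
      rw [S.θX r t hr, hSX, h3 r t hr]
    exact h4 (Subgroup.mem_top g)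
  have hR3 : S.R3 := by
    intro k hk t₁ t₂ ht₁ ht₂
    obtain ⟨-, hp2⟩ := simple_posR C.I hk
    rw [hShb, hShb, hShb]
    have hmem : D.stH (D.simple k) t₁ * D.stH (D.simple k) t₂ *
        (D.stH (D.simple k) (t₁ * t₂))⁻¹ ∈ D.steinbergRels K :=
      Or.inr ⟨D.simple k, t₁, t₂, hp2, ht₁, ht₂, rfl⟩
    have h5 := PresentedGroup.one_of_mem hmem
    rw [map_mul, map_mul, map_inv, mul_inv_eq_one] at h5
    exact h5
  -- the centre is the kernel
  have hcen : ∀ z : PresentedGroup (D.steinbergRels K),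
      z ∈ Subgroup.center (PresentedGroup (D.steinbergRels K)) ↔ S.θ z = 1 := by
    intro z
    constructor
    · intro hz
      have hzc : θ z ∈ Subgroup.center ↥(D.group K) := by
        rw [Subgroup.mem_center_iff] at hz ⊢
        intro y
        obtain ⟨x, rfl⟩ := h1 y
        rw [← map_mul, ← map_mul, hz x]
      rw [center_group_eq_bot D hD K] at hzc
      have hz1 : θ z = 1 := Subgroup.mem_bot.mp hzc
      rw [← hagree, hz1]
      rfl
    · intro hz
      exact S.ker_le_center C T (MonoidHom.mem_ker.mpr hz)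
  have hs0 : ∀ s : K, s ^ m = 1 → s ≠ 0 := by
    rintro s hs rfl
    rw [zero_pow hm.ne'] at hs
    exact zero_ne_one hs
  have hτne : ∀ s : K, s ^ m = 1 → ∀ i : ℕ, s ^ e i ≠ 0 := fun s hs i =>
    pow_ne_zero _ (hs0 s hs)
  -- the elements of the kernel
  have hker : ∀ s : K, s ^ m = 1 → S.θ (S.hbP D.rank (fun i => s ^ e i)) = 1 := by
    intro s hs
    apply Units.ext
    rw [S.θ_hbP C (fun i => s ^ e i) (hτne s hs) D.rank le_rfl, Units.val_one]
    have e1 : (fun j : Fin D.rank => if j.val < D.rank then s ^ e j.val else 1) =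
        fun j : Fin D.rank => s ^ e j.val := by
      funext j
      rw [if_pos j.isLt]
    rw [e1]
    unfold torusMat
    rw [← Matrix.diagonal_one]
    congr 1
    funext x
    rcases x with i | r
    · rfl
    · exact conv_of_cert hconv s hs (hs0 s hs) r.val r.isLt
  -- the homomorphism to the presented group of `D'`
  have hφ : ∀ (τ : ℕ → K) (n : ℕ), n ≤ D.rank → StEmb.hom K hc (S.hbP n τ) = S'.hbP n τ := by
    intro τ n
    induction n with
    | zero =>
      intro _
      rw [StData.hbP_zero, StData.hbP_zero, map_one]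
    | succ n ih =>
      intro hn
      have hn' : n < D.rank := hn
      obtain ⟨-, hp2⟩ := simple_posR C.I hn'
      rw [StData.hbP_succ, StData.hbP_succ, map_mul, ih (by omega), hShb, hShb',
        StEmb.hom_stH K hc _ hp2, hιs n hn']
  have hinj : ∀ s s' : K, s ^ m = 1 → s' ^ m = 1 →
      S.hbP D.rank (fun i => s ^ e i) = S.hbP D.rank (fun i => s' ^ e i) → s = s' := by
    intro s s' hs hs' heq
    have h4 : ((S'.θ (StEmb.hom K hc (S.hbP D.rank (fun i => s ^ e i))) : GL D'.Idx K) :
        Matrix D'.Idx D'.Idx K) =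
        ((S'.θ (StEmb.hom K hc (S.hbP D.rank (fun i => s' ^ e i))) : GL D'.Idx K) :
        Matrix D'.Idx D'.Idx K) := by
      rw [heq]
    rw [hφ _ _ le_rfl, hφ _ _ le_rfl, S'.θ_hbP C' (fun i => s ^ e i) (hτne s hs) D.rank hrk,
      S'.θ_hbP C' (fun i => s' ^ e i) (hτne s' hs') D.rank hrk] at h4
    have hlt : D'.simple j₀ < D'.nroots := (C'.I.hS ⟨j₀, hj₀⟩).1
    have h5 := congrFun (congrFun h4 (Sum.inr ⟨D'.simple j₀, hlt⟩)) (Sum.inr ⟨D'.simple j₀, hlt⟩)
    unfold torusMat at h5
    rw [Matrix.diagonal_apply_eq, Matrix.diagonal_apply_eq] at h5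
    have h6 : torusChar D' K (fun j : Fin D'.rank => if j.val < D.rank then s ^ e j.val else 1)
        (D'.simple j₀) =
        torusChar D' K (fun j : Fin D'.rank => if j.val < D.rank then s' ^ e j.val else 1)
        (D'.simple j₀) := h5
    rw [det_of_cert hdet hi₀ hrk (fun i => s ^ e i), det_of_cert hdet hi₀ hrk (fun i => s' ^ e i),
      he, pow_one, pow_one] at h6
    exact inv_injective h6
  have hsurj : ∀ z : PresentedGroup (D.steinbergRels K), S.θ z = 1 →
      ∃ s : K, s ^ m = 1 ∧ z = S.hbP D.rank (fun i => s ^ e i) := by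
    intro z hz
    obtain ⟨τ, hτ, rfl⟩ := S.Hb_eq_hbP C T hR3 z (S.ker_mem_Hb C T z hz)
    have h4 := S.θ_hbP C τ hτ D.rank le_rfl
    rw [hz, Units.val_one] at h4
    have hcc : (fun j : Fin D.rank => if j.val < D.rank then τ j.val else 1) =
        fun j : Fin D.rank => τ j.val := by
      funext j
      rw [if_pos j.isLt]
    rw [hcc] at h4
    have h5 : ∀ j : Fin D.rank,
        torusChar D K (fun i : Fin D.rank => τ i.val) (D.simple j.val) = 1 := by
      intro j
      have h6 := congrFun (congrFun h4 (Sum.inr ⟨D.simple j.val, (C.I.hS j).1⟩))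
        (Sum.inr ⟨D.simple j.val, (C.I.hS j).1⟩)
      unfold torusMat at h6
      rw [Matrix.diagonal_apply_eq, Matrix.one_apply_eq] at h6
      exact h6.symm
    obtain ⟨h7, h8⟩ := solve_of_cert hi₀ hB (fun i : Fin D.rank => τ i.val) (fun i => hτ i.val) h5
    refine ⟨τ i₀, h7, S.hbP_congr D.rank fun i hi => ?_⟩
    by_cases hi' : i = i₀
    · rw [hi', he, pow_one]
    · exact h8 ⟨i, hi⟩ hi'
  let f : {s : K // s ^ m = 1} → Subgroup.center (PresentedGroup (D.steinbergRels K)) :=
    fun s => ⟨S.hbP D.rank (fun i => s.val ^ e i), (hcen _).mpr (hker s.val s.property)⟩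
  have hf : Function.Bijective f := by
    constructor
    · intro a b hab
      have h9 := congrArg Subtype.val hab
      exact Subtype.ext (hinj a.val b.val a.property b.property h9)
    · rintro ⟨z, hz⟩
      obtain ⟨s, hs, rfl⟩ := hsurj z ((hcen z).mp hz)
      exact ⟨⟨s, hs⟩, rfl⟩
  exact (Nat.card_congr (Equiv.ofBijective f hf)).symm

end Cfsg.Agent.Lib.helper23.StCen
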