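/-
helper23: the centre of the group presented by Steinberg's relations for the types E6 and E7:
the certificates.
-/
import Cfsg.Agent.Lib.helper23.StCenE

set_option autoImplicit false
set_option maxRecDepth 100000

namespace Cfsg.Agent.Lib.helper23.StCen

open Cfsg.Lie Cfsg.Agent.Lib.helper22 Cfsg.Agent.Lib.helper41

universe u

/-- the exponents of the central elements of type E6 -/
def expE6 (i : ℕ) : ℕ := [2, 0, 1, 0, 2, 1].getD i 0

/-- the exponents of the central elements of type E7 -/
def expE7 (i : ℕ) : ℕ := [0, 1, 0, 0, 1, 0, 1].getD i 0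

theorem solOK_E6 : solOK chevE6 3 expE6 5 [[0, 1, 1, 2, 0, 2], [-1, 2, 1, 3, 0, 3],
    [-1, 2, 2, 4, 0, 4], [-2, 3, 2, 6, 0, 6], [-2, 2, 1, 4, 0, 5], [-2, 1, 0, 2, -1, 4]] = true := by
  decide +kernel

theorem convOK_E6 : convOK chevE6 3 expE6 = true := by decide +kernel

theorem detOK_E6 : detOK chevE6 chevE8 5 6 = true := by decide +kernel

theorem solOK_E7 : solOK chevE7 2 expE7 6 [[2, 1, 3, 4, 2, 2, 2], [2, 2, 4, 6, 3, 3, 3],
    [3, 2, 6, 8, 4, 4, 4], [4, 3, 8, 12, 6, 6, 6], [3, 2, 6, 9, 5, 5, 5], [2, 1, 4, 6, 3, 4, 4],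
    [1, 0, 2, 3, 1, 2, 3]] = true := by
  decide +kernel

theorem convOK_E7 : convOK chevE7 2 expE7 = true := by decide +kernel

theorem detOK_E7 : detOK chevE7 chevE8 6 7 = true := by decide +kernel

/-- the centre of the presented group of type E6 is in bijection with the cube roots of unity -/
theorem card_center_E6 (K : Type u) [Field K] :
    Nat.card (Subgroup.center (chevE6.SteinbergGroup K)) = Nat.card {s : K // s ^ 3 = 1} :=
  card_center_eq (D := chevE6) (D' := chevE8) (by simp) (by simp) K StEmb.compatE6
    StEmb.iota6_simple (by decide) (by norm_num) (by decide) (by decide) rfl solOK_E6 convOK_E6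
    detOK_E6

/-- the centre of the presented group of type E7 is in bijection with the square roots of unity -/
theorem card_center_E7 (K : Type u) [Field K] :
    Nat.card (Subgroup.center (chevE7.SteinbergGroup K)) = Nat.card {s : K // s ^ 2 = 1} :=
  card_center_eq (D := chevE7) (D' := chevE8) (by simp) (by simp) K StEmb.compatE7
    StEmb.iota7_simple (by decide) (by norm_num) (by decide) (by decide) rfl solOK_E7 convOK_E7
    detOK_E7

end Cfsg.Agent.Lib.helper23.StCen
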